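import Groth.Agent.Helper5.MaxPt2
import Groth.Agent.Helper5.LocDim3

set_option autoImplicit false
universe u
open AlgebraicGeometry CategoryTheory TopologicalSpace

namespace Groth.Agent.Helper5.MaxPt

open Groth.Agent.Helper5.LocDE Groth.Agent.Helper5.VarDim

/-- The closure of a point of a fibre lying under a maximal point of the total space is an
irreducible component of the fibre. -/
theorem closure_mem_irreducibleComponents_fibre {X Y : Scheme.{u}} (f : X ⟶ Y) (y : Y)
    (ξ' : ↥(f.fiber y)) (h0 : Order.coheight (f.fiberι y ξ') = 0) :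
    closure ({ξ'} : Set ↥(f.fiber y)) ∈ irreducibleComponents ↥(f.fiber y) := by
  refine ⟨isIrreducible_singleton.closure, ?_⟩
  intro S hS hle
  obtain ⟨w', hw'⟩ := QuasiSober.sober hS.closure isClosed_closure
  have hw'def : closure ({w'} : Set ↥(f.fiber y)) = closure S := hw'.def
  have h1 : ξ' ∈ closure S := subset_closure (hle (subset_closure rfl))
  have h2 : w' ⤳ ξ' := by
    rw [specializes_iff_mem_closure, hw'def]; exact h1
  have h3 : f.fiberι y w' ⤳ f.fiberι y ξ' := h2.map (f.fiberι y).continuous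
  have hmax : IsMax (f.fiberι y ξ') := Order.coheight_eq_zero.1 h0
  have h4 : f.fiberι y w' ≤ f.fiberι y ξ' := hmax (Scheme.le_iff_specializes.2 h3)
  have h5 : f.fiberι y w' = f.fiberι y ξ' := (h3.antisymm (Scheme.le_iff_specializes.1 h4)).eq
  have h6 : w' = ξ' := (f.fiberι y).isEmbedding.injective h5
  rw [h6] at hw'def
  show S ⊆ closure {ξ'}
  rw [hw'def]
  exact subset_closure

/-- EGA IV 13.3.?: the dimensions of the components of the fibre over `y` occur among those of
the generic fibre. -/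
theorem exists_component_generic_fibre {X Y : Scheme.{u}} [IrreducibleSpace Y]
    [IsLocallyNoetherian Y] (f : X ⟶ Y) [LocallyOfFiniteType f] (y : Y)
    (hcat : CAlg.IsUniversallyCatenary (Y.presheaf.stalk y))
    (hb : ∀ z : X, f z = y → (∀ z' : X, f z' = y → z ∈ closure {z'} → z' = z) →
      ringKrullDim (X.presheaf.stalk z) = ringKrullDim (Y.presheaf.stalk y))
    (Z : Set ↥(f.fiber y)) (hZ : Z ∈ irreducibleComponents ↥(f.fiber y)) :
    ∃ Z' ∈ irreducibleComponents ↥(f.fiber (genericPoint Y)),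
      topologicalKrullDim ↥Z' = topologicalKrullDim ↥Z := by
  have hZcl : IsClosed Z := isClosed_of_mem_irreducibleComponents Z hZ
  obtain ⟨z', hz'⟩ := QuasiSober.sober hZ.1 hZcl
  have hz'def : closure ({z'} : Set ↥(f.fiber y)) = Z := hz'.def
  let z : X := f.fiberι y z'
  have hfz : f z = y := by
    have : z ∈ Set.range (f.fiberι y) := ⟨z', rfl⟩
    rw [Scheme.Hom.range_fiberι] at this
    exact this
  have hmax' : ∀ w : X, f w = y → z ∈ closure {w} → w = z := by
    intro w hw hzw
    have hwr : w ∈ Set.range (f.fiberι y) := by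
      rw [Scheme.Hom.range_fiberι]; exact hw
    obtain ⟨w', rfl⟩ := hwr
    have h1 : f.fiberι y w' ⤳ f.fiberι y z' := specializes_iff_mem_closure.2 hzw
    have h2 : w' ⤳ z' := (f.fiberι y).isEmbedding.toIsInducing.specializes_iff.1 h1
    have h3 : Z ⊆ closure ({w'} : Set ↥(f.fiber y)) := by
      rw [← hz'def]
      exact closure_minimal (by
        rintro _ rfl
        exact specializes_iff_mem_closure.1 h2) isClosed_closure
    have h4 : closure ({w'} : Set ↥(f.fiber y)) ⊆ Z := hZ.2 isIrreducible_singleton.closure h3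
    have h5 : IsGenericPoint w' Z := le_antisymm h4 h3
    have : w' = z' := h5.eq hz'
    rw [this]
  have hdim : ringKrullDim (X.presheaf.stalk z) = ringKrullDim (Y.presheaf.stalk (f z)) := by
    rw [hfz]; exact hb z hfz hmax'
  have hcat' : CAlg.IsUniversallyCatenary (Y.presheaf.stalk (f z)) := by
    rw [hfz]; exact hcat
  have hmax : ∀ w : X, f w = f z → w ⤳ z → w = z := by
    intro w hw hwz
    exact hmax' w (hw.trans hfz) (specializes_iff_mem_closure.1 hwz)
  obtain ⟨ξ, -, hξ0, hfξ, n, hnξ, hnz⟩ := exists_generic_maximal f z hcat' hmax hdim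
  have hξr : ξ ∈ Set.range (f.fiberι (genericPoint Y)) := by
    rw [Scheme.Hom.range_fiberι]; exact hfξ
  obtain ⟨ξ', hξ'⟩ := hξr
  refine ⟨closure {ξ'}, closure_mem_irreducibleComponents_fibre f _ ξ' (by rw [hξ']; exact hξ0), ?_⟩
  obtain ⟨n1, hn1a, hn1b⟩ := dim_closure_fibre_point f (genericPoint Y) ξ' ξ hξ' hfξ
  obtain ⟨n2, hn2a, hn2b⟩ := dim_closure_fibre_point f y z' z rfl hfz
  have e1 : n1 = n := by
    have : (n1 : Cardinal.{u}) = (n : Cardinal.{u}) := hn1b.symm.trans hnξ
    exact_mod_cast this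
  have e2 : n2 = n := by
    have : (n2 : Cardinal.{u}) = (n : Cardinal.{u}) := hn2b.symm.trans hnz
    exact_mod_cast this
  rw [hn1a, ← hz'def, hn2a, e1, e2]

/-- The full statement: `E(y) ⊆ E(η)` and `dim X_y ≤ dim X_η`. -/
theorem fibre_dims_subset {X Y : Scheme.{u}} [IrreducibleSpace Y]
    [IsLocallyNoetherian Y] (f : X ⟶ Y) [LocallyOfFiniteType f] (y : Y)
    (hcat : CAlg.IsUniversallyCatenary (Y.presheaf.stalk y))
    (hb : ∀ z : X, f z = y → (∀ z' : X, f z' = y → z ∈ closure {z'} → z' = z) →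
      ringKrullDim (X.presheaf.stalk z) = ringKrullDim (Y.presheaf.stalk y)) :
    ((fun Z : Set ↥(f.fiber y) => topologicalKrullDim ↥Z) '' irreducibleComponents ↥(f.fiber y) ⊆
      (fun Z : Set ↥(f.fiber (genericPoint Y)) => topologicalKrullDim ↥Z) ''
        irreducibleComponents ↥(f.fiber (genericPoint Y))) ∧
      topologicalKrullDim ↥(f.fiber y) ≤ topologicalKrullDim ↥(f.fiber (genericPoint Y)) := by
  refine ⟨?_, ?_⟩
  · rintro _ ⟨Z, hZ, rfl⟩
    obtain ⟨Z', hZ', hdim⟩ := exists_component_generic_fibre f y hcat hb Z hZ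
    exact ⟨Z', hZ', hdim⟩
  · rw [Groth.Agent.Helper5.DimFormula.topologicalKrullDim_eq_krullDim]
    unfold Order.krullDim
    refine iSup_le fun l => ?_
    obtain ⟨Z, hZ, hlZ⟩ := LocDim.exists_component_mem (l.last)
    have hZcl : IsClosed Z := isClosed_of_mem_irreducibleComponents Z hZ
    have hmem : ∀ i, l i ∈ Z := by
      intro i
      have h1 : l i ≤ l.last := l.monotone (Fin.le_last i)
      have h2 : l.last ⤳ l i := Scheme.le_iff_specializes.1 h1
      exact hZcl.closure_subset_iff.2 (Set.singleton_subset_iff.2 hlZ)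
        (specializes_iff_mem_closure.1 h2)
    have h3 := EquiDim.length_le_dim_of_forall_mem Z l hmem
    obtain ⟨Z', hZ', hdim⟩ := exists_component_generic_fibre f y hcat hb Z hZ
    rw [← hdim] at h3
    exact h3.trans (topologicalKrullDim_subspace_le _ Z')

end Groth.Agent.Helper5.MaxPt
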