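import Groth.Agent.Helper5.MaxPt4

set_option autoImplicit false
universe u
open AlgebraicGeometry CategoryTheory TopologicalSpace

namespace Groth.Agent.Helper5.MaxPt

open Groth.Agent.Helper5.LocDE Groth.Agent.Helper5.VarDim

/-- Core (without catenarity): above a maximal point `z` of a fibre with
`dim O_{X,z} = dim O_{Y,f z}` (`Y` irreducible) there is a maximal point of `X` over the generic point
of `Y` with the same residual transcendence degree. -/
theorem exists_generic_maximal' {X Y : Scheme.{u}} [IrreducibleSpace Y] [IsLocallyNoetherian Y]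
    (f : X ⟶ Y) [LocallyOfFiniteType f] (z : X)
    (hmax : ∀ w : X, f w = f z → w ⤳ z → w = z)
    (hdim : ringKrullDim (X.presheaf.stalk z) = ringKrullDim (Y.presheaf.stalk (f z))) :
    ∃ ξ : X, ξ ⤳ z ∧ Order.coheight ξ = 0 ∧ f ξ = genericPoint Y ∧ ∃ n : ℕ,
      @Algebra.trdeg (Y.residueField (f ξ)) (X.residueField ξ) _ _
        (f.residueFieldMap ξ).hom.toAlgebra = n ∧
      @Algebra.trdeg (Y.residueField (f z)) (X.residueField z) _ _
        (f.residueFieldMap z).hom.toAlgebra = n := by
  have hX : IsLocallyNoetherian X := LocallyOfFiniteType.isLocallyNoetherian f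
  have hfin : Order.coheight z ≠ ⊤ := by
    intro htop
    have h1 : ringKrullDim (X.presheaf.stalk z) = ((⊤ : ℕ∞) : WithBot ℕ∞) := by
      rw [ringKrullDim_stalk_eq_coheight, htop]
    exact ringKrullDim_ne_top h1
  obtain ⟨D, hD⟩ := ENat.ne_top_iff_exists.1 hfin
  have hDy : Order.coheight (f z) = (D : ℕ∞) := by
    rw [ringKrullDim_stalk_eq_coheight, ringKrullDim_stalk_eq_coheight] at hdim
    rw [← WithBot.coe_injective hdim, ← hD]
  obtain ⟨p, hphead, hplen⟩ := Order.exists_series_of_coheight_eq_coe z hD.symm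
  let ξ : X := p.last
  have hξ0 : Order.coheight ξ = 0 := by
    have h1 : (p.length : ℕ∞) = Order.coheight p.head := by rw [hphead, ← hD, hplen]
    have := Order.coheight_eq_index_of_length_eq_head_coheight h1 (Fin.last _)
    simp only [Fin.rev_last, Fin.val_zero, Nat.cast_zero] at this
    exact this
  have hzξ : z ≤ ξ := by
    rw [← hphead]; exact LTSeries.head_le_last p
  have hξz : ξ ⤳ z := Scheme.le_iff_specializes.1 hzξ
  obtain ⟨a, c, n, e, ha, hc, hn, he, hsum⟩ := scheme_dimension_inequality_Icc f z ξ hξz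
  have haD : a = D := by
    apply le_antisymm
    · have h1 := krullDim_Icc_le_coheight z ξ
      rw [ha, ← hD] at h1
      exact_mod_cast h1
    · have hmem : ∀ i, p i ∈ Set.Icc z ξ := by
        intro i
        refine ⟨?_, ?_⟩
        · rw [← hphead]; exact p.monotone (Fin.zero_le i)
        · exact p.monotone (Fin.le_last i)
      let p' : LTSeries ↥(Set.Icc z ξ) := LTSeries.mk p.length (fun i => ⟨p i, hmem i⟩)
        (fun i j hij => p.strictMono hij)
      have h1 : ((p'.length : ℕ) : WithBot ℕ∞) ≤ Order.krullDim ↥(Set.Icc z ξ) :=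
        Order.LTSeries.length_le_krullDim p'
      rw [ha] at h1
      have h2 : p'.length = D := hplen
      rw [h2] at h1
      exact_mod_cast h1
  have hcD : c ≤ D := by
    have h1 := krullDim_Icc_le_coheight (f z) (f ξ)
    rw [hc, hDy] at h1
    exact_mod_cast h1
  obtain ⟨tz, htz1, htz2⟩ := fibreDimAt_of_maximal f z (coheight_asFiber_eq_zero f z hmax)
  have hmaxξ : ∀ w : X, f w = f ξ → w ⤳ ξ → w = ξ := by
    intro w _ hw
    have h1 : IsMax ξ := Order.coheight_eq_zero.1 hξ0
    have h2 : ξ ≤ w := Scheme.le_iff_specializes.2 hw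
    have h3 : w ≤ ξ := h1 h2
    exact (hw.antisymm (Scheme.le_iff_specializes.1 h3)).eq
  obtain ⟨tξ, htξ1, htξ2⟩ := fibreDimAt_of_maximal f ξ (coheight_asFiber_eq_zero f ξ hmaxξ)
  have hntz : n = tz := by
    have : (n : Cardinal.{u}) = (tz : Cardinal.{u}) := hn.symm.trans htz1
    exact_mod_cast this
  have hetξ : e = tξ := by
    have : (e : Cardinal.{u}) = (tξ : Cardinal.{u}) := he.symm.trans htξ1
    exact_mod_cast this
  have hchev := fibreDimAt_le_of_specializes f ξ z hξz
  rw [htz2, htξ2] at hchev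
  have hen : e ≤ n := by
    rw [hntz, hetξ]
    exact_mod_cast hchev
  have hcD' : c = D := by omega
  have hen' : e = n := by omega
  refine ⟨ξ, hξz, hξ0, ?_, n, ?_, hn⟩
  · by_contra hne
    let η : Y := genericPoint Y
    have h1 : η ⤳ f ξ := genericPoint_specializes (f ξ)
    have hlt : f ξ < η := by
      refine lt_of_le_not_ge (Scheme.le_iff_specializes.2 h1) ?_
      intro h2
      exact hne ((h1.antisymm (Scheme.le_iff_specializes.1 h2)).eq).symm
    have h3 : ((D : ℕ) : WithBot ℕ∞) ≤ Order.krullDim ↥(Set.Icc (f z) (f ξ)) := by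
      rw [hc, hcD']
    obtain ⟨l, hl⟩ := Order.le_krullDim_iff.1 h3
    let l' : LTSeries Y := l.map Subtype.val (fun a b hab => hab)
    have hlast : l'.last < η := lt_of_le_of_lt (l.last.2.2) hlt
    let l'' : LTSeries Y := l'.snoc η hlast
    have hhead : f z ≤ l''.head := by
      have : l''.head = l'.head := RelSeries.head_snoc _ _ _
      rw [this]
      exact l.head.2.1
    have h4 := Order.length_le_coheight hhead
    have h5 : l''.length = D + 1 := by
      show l'.length + 1 = D + 1
      rw [show l'.length = l.length from rfl, hl]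
    rw [h5, hDy] at h4
    have : D + 1 ≤ D := by exact_mod_cast h4
    omega
  · rw [he, hen']


/-- The part of the closure of a point `ξ` over `f ξ`, as a subspace of `X`, has the dimension
of the closure of the corresponding point of the fibre. -/
theorem dim_closure_inter_fibre {X Y : Scheme.{u}} (f : X ⟶ Y) (y : Y) (ξ' : ↥(f.fiber y)) :
    topologicalKrullDim ↥(closure ({f.fiberι y ξ'} : Set X) ∩ f ⁻¹' {y}) =
      topologicalKrullDim ↥(closure ({ξ'} : Set ↥(f.fiber y))) := by
  have hemb : Topology.IsEmbedding (f.fiberι y) := (f.fiberι y).isEmbedding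
  have himg : (f.fiberι y) '' closure ({ξ'} : Set ↥(f.fiber y)) =
      closure ({f.fiberι y ξ'} : Set X) ∩ f ⁻¹' {y} := by
    rw [hemb.toIsInducing.closure_eq_preimage_closure_image, Set.image_singleton,
      Set.image_preimage_eq_inter_range, Scheme.Hom.range_fiberι]
  rw [← himg]
  let e := hemb.homeomorphImage (closure ({ξ'} : Set ↥(f.fiber y)))
  exact (IsHomeomorph.topologicalKrullDim_eq e e.isHomeomorph).symm

/-- L1: (b) ⇒ (c) at a point. -/
theorem exists_component_of_dim_eq {X Y : Scheme.{u}} [IrreducibleSpace Y] [IsLocallyNoetherian Y]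
    (f : X ⟶ Y) [LocallyOfFiniteType f] (z : X)
    (h0 : ringKrullDim ((f.fiber (f z)).presheaf.stalk (f.asFiber z)) = 0)
    (hdim : ringKrullDim (X.presheaf.stalk z) = ringKrullDim (Y.presheaf.stalk (f z))) :
    ∃ X' ∈ irreducibleComponents (X : Type u), z ∈ X' ∧
      topologicalKrullDim ↥(X' ∩ f ⁻¹' {genericPoint Y}) = FlatMor.fibreDimAt f z := by
  have hc0 : Order.coheight (f.asFiber z) = 0 := by
    rw [ringKrullDim_stalk_eq_coheight] at h0
    exact_mod_cast h0
  have hmax : ∀ w : X, f w = f z → w ⤳ z → w = z := by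
    intro w hw hwz
    have hwr : w ∈ Set.range (f.fiberι (f z)) := by
      rw [Scheme.Hom.range_fiberι]; exact hw
    obtain ⟨w', rfl⟩ := hwr
    have h1 : f.fiberι (f z) w' ⤳ f.fiberι (f z) (f.asFiber z) := by
      rw [f.fiberι_asFiber]; exact hwz
    have h2 : w' ⤳ f.asFiber z := (f.fiberι (f z)).isEmbedding.toIsInducing.specializes_iff.1 h1
    have h3 : IsMax (f.asFiber z) := Order.coheight_eq_zero.1 hc0
    have h4 : w' ≤ f.asFiber z := h3 (Scheme.le_iff_specializes.2 h2)
    have h5 : w' = f.asFiber z := (h2.antisymm (Scheme.le_iff_specializes.1 h4)).eq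
    rw [h5, f.fiberι_asFiber]
  obtain ⟨ξ, hξz, hξ0, hfξ, n, hnξ, hnz⟩ := exists_generic_maximal' f z hmax hdim
  have hξmax : ∀ η : X, η ⤳ ξ → η = ξ := by
    intro η hη
    have h1 : IsMax ξ := Order.coheight_eq_zero.1 hξ0
    have h3 : η ≤ ξ := h1 (Scheme.le_iff_specializes.2 hη)
    exact (hη.antisymm (Scheme.le_iff_specializes.1 h3)).eq
  refine ⟨closure {ξ}, Groth.Agent.Helper5.DimFormula.closure_mem_irreducibleComponents ξ hξmax,
    specializes_iff_mem_closure.1 hξz, ?_⟩
  have hξr : ξ ∈ Set.range (f.fiberι (genericPoint Y)) := by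
    rw [Scheme.Hom.range_fiberι]; exact hfξ
  obtain ⟨ξ', hξ'⟩ := hξr
  obtain ⟨n1, hn1a, hn1b⟩ := dim_closure_fibre_point f (genericPoint Y) ξ' ξ hξ' hfξ
  obtain ⟨tz, htz1, htz2⟩ := fibreDimAt_of_maximal f z hc0
  have e1 : n1 = n := by
    have : (n1 : Cardinal.{u}) = (n : Cardinal.{u}) := hn1b.symm.trans hnξ
    exact_mod_cast this
  have e2 : tz = n := by
    have : (tz : Cardinal.{u}) = (n : Cardinal.{u}) := htz1.symm.trans hnz
    exact_mod_cast this
  rw [htz2, ← hξ', dim_closure_inter_fibre, hn1a, e1, e2]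

end Groth.Agent.Helper5.MaxPt
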