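import Groth.Agent.Helper5.MaxPt5

set_option autoImplicit false
universe u
open AlgebraicGeometry CategoryTheory TopologicalSpace

namespace Groth.Agent.Helper5.MaxPt

open Groth.Agent.Helper5.LocDE Groth.Agent.Helper5.VarDim

theorem dim_empty_eq_bot {T : Type*} [TopologicalSpace T] :
    topologicalKrullDim ↥(∅ : Set T) = ⊥ := by
  have : IsEmpty (IrreducibleCloseds ↥(∅ : Set T)) := by
    refine ⟨fun Z => ?_⟩
    obtain ⟨z, -⟩ := Z.isIrreducible.nonempty
    exact z.2
  exact Order.krullDim_eq_bot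

/-- L2: (c) ⇒ (b) at a point, when `O_{Y,f z}` is universally catenary. -/
theorem dim_eq_of_exists_component {X Y : Scheme.{u}} [IrreducibleSpace Y] [IsLocallyNoetherian Y]
    (f : X ⟶ Y) [LocallyOfFiniteType f] (z : X)
    (hcat : CAlg.IsUniversallyCatenary (Y.presheaf.stalk (f z)))
    (h0 : ringKrullDim ((f.fiber (f z)).presheaf.stalk (f.asFiber z)) = 0)
    (hc : ∃ X' ∈ irreducibleComponents (X : Type u), z ∈ X' ∧
      topologicalKrullDim ↥(X' ∩ f ⁻¹' {genericPoint Y}) = FlatMor.fibreDimAt f z) :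
    ringKrullDim (X.presheaf.stalk z) = ringKrullDim (Y.presheaf.stalk (f z)) := by
  have hX : IsLocallyNoetherian X := LocallyOfFiniteType.isLocallyNoetherian f
  have hc0 : Order.coheight (f.asFiber z) = 0 := by
    rw [ringKrullDim_stalk_eq_coheight] at h0
    exact_mod_cast h0
  obtain ⟨tz, htz1, htz2⟩ := fibreDimAt_of_maximal f z hc0
  obtain ⟨X', hX', hzX', hdimX'⟩ := hc
  have hX'cl : IsClosed X' := isClosed_of_mem_irreducibleComponents X' hX'
  obtain ⟨ξ, hξ⟩ := QuasiSober.sober hX'.1 hX'cl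
  have hξdef : closure ({ξ} : Set X) = X' := hξ.def
  have hξz : ξ ⤳ z := by
    rw [specializes_iff_mem_closure, hξdef]; exact hzX'
  let η : Y := genericPoint Y
  have hne : (X' ∩ f ⁻¹' {η}).Nonempty := by
    by_contra hempty
    rw [Set.not_nonempty_iff_eq_empty] at hempty
    rw [hempty, dim_empty_eq_bot, htz2] at hdimX'
    exact WithBot.bot_ne_coe hdimX'
  obtain ⟨w, hwX', hwη⟩ := hne
  have hfξ : f ξ = η := by
    have h1 : ξ ⤳ w := by
      rw [specializes_iff_mem_closure, hξdef]; exact hwX'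
    have h2 : f ξ ⤳ η := by
      have := h1.map f.continuous
      rwa [show f w = η from hwη] at this
    have h3 : η ⤳ f ξ := genericPoint_specializes (f ξ)
    exact (h2.antisymm h3).eq
  have hξr : ξ ∈ Set.range (f.fiberι η) := by
    rw [Scheme.Hom.range_fiberι]; exact hfξ
  obtain ⟨ξ', hξ'⟩ := hξr
  obtain ⟨n1, hn1a, hn1b⟩ := dim_closure_fibre_point f η ξ' ξ hξ' hfξ
  have hn1tz : n1 = tz := by
    rw [← hξdef, ← hξ', dim_closure_inter_fibre, hn1a, htz2] at hdimX'
    exact_mod_cast hdimX'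
  obtain ⟨a, c, n, e, ha, hc, hn, he, hsum⟩ := scheme_dimension_equality_local f z ξ hcat hξz
  have hntz : n = tz := by
    have : (n : Cardinal.{u}) = (tz : Cardinal.{u}) := hn.symm.trans htz1
    exact_mod_cast this
  have hen1 : e = n1 := by
    have : (e : Cardinal.{u}) = (n1 : Cardinal.{u}) := he.symm.trans hn1b
    exact_mod_cast this
  have hac : a = c := by omega
  have hY : ringKrullDim (Y.presheaf.stalk (f z)) = (c : WithBot ℕ∞) := by
    rw [ringKrullDim_stalk_eq_coheight, Order.coheight_eq_krullDim_Ici, ← hc]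
    have : Set.Ici (f z) = Set.Icc (f z) (f ξ) := by
      ext t
      simp only [Set.mem_Icc, Set.mem_Ici, iff_self_and]
      intro _
      rw [hfξ]
      exact Scheme.le_iff_specializes.2 (genericPoint_specializes t)
    rw [this]
  apply le_antisymm
  · have := Groth.Agent.Helper5.DimIneq.stalk_dim_le f z
    rwa [h0, add_zero] at this
  · rw [hY, ← hac, ← ha, ringKrullDim_stalk_eq_coheight]
    exact krullDim_Icc_le_coheight z ξ

end Groth.Agent.Helper5.MaxPt
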