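import Mathlib
import Groth.Prelude.Def_MeroDiv

set_option autoImplicit false
universe u
open CategoryTheory CategoryTheory.Limits AlgebraicGeometry TopologicalSpace Opposite

namespace Groth.Agent.Helper5.MeroDim
open Mero

/-- if every germ of a regular section at `x` is a unit, then every divisor germ at `x` is trivial -/
theorem germ_eq_one_of_units {X : Scheme.{u}} (x : X)
    (h : regStalk X x ≤ IsUnit.submonoid (X.presheaf.stalk x)) (g : Germ X x) : g = 1 := by
  obtain ⟨k, rfl⟩ := QuotientGroup.mk_surjective g
  rw [QuotientGroup.eq_one_iff]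
  let e : X.presheaf.stalk x ≃ₐ[X.presheaf.stalk x] KStalk X x :=
    IsLocalization.atUnits (X.presheaf.stalk x) (regStalk X x) h
  have hu : IsUnit (e.symm (k : KStalk X x)) := k.isUnit.map e.symm
  refine ⟨hu.unit, ?_⟩
  ext
  show algebraMap (X.presheaf.stalk x) (KStalk X x) (e.symm (k : KStalk X x)) = k
  rw [← e.commutes, Algebra.algebraMap_self, RingHom.id_apply, e.apply_symm_apply]

theorem s10851 {X : Scheme.{u}} [IsLocallyNoetherian X]
    (D : Mero.Divisor X) (z : X) (hz : z ∈ Mero.supp D) :
    (1 : WithBot ℕ∞) ≤ ringKrullDim (X.presheaf.stalk z) := by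
  by_contra hdim
  apply hz
  apply germ_eq_one_of_units
  have h0 : ringKrullDim (X.presheaf.stalk z) ≤ 0 := by
    rw [not_le] at hdim
    generalize ringKrullDim (X.presheaf.stalk z) = d at hdim
    induction d using WithBot.recBotCoe with
    | bot => exact bot_le
    | coe n =>
      have h1 : n < 1 := by exact_mod_cast hdim
      have h2 : n = 0 := ENat.lt_one_iff_eq_zero.mp h1
      subst h2
      exact le_rfl
  haveI : Ring.KrullDimLE 0 (X.presheaf.stalk z) := (Ring.krullDimLE_iff (n := 0)).mpr h0
  haveI : IsArtinianRing (X.presheaf.stalk z) :=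
    isArtinianRing_iff_isNoetherianRing_krullDimLE_zero.mpr ⟨inferInstance, inferInstance⟩
  intro a ha
  exact IsArtinianRing.isUnit_of_mem_nonZeroDivisors (regStalk_le_nonZeroDivisors z ha)

end Groth.Agent.Helper5.MeroDim
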