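import Mathlib

set_option autoImplicit false
universe u

namespace Groth.Agent.Helper5.MinorTransv

open Matrix

theorem transv_mul {R : Type*} [CommRing R] {n m : ℕ} (i j : Fin n) (c : R) (G : Matrix (Fin n) (Fin m) R) :
    Matrix.transvection i j c * G = G + Matrix.single i j c * G := by
  unfold Matrix.transvection
  rw [Matrix.add_mul, Matrix.one_mul]

/-- The generic matrix restricted to injective row/column selections has nonzero determinant. -/
theorem det_generic_submatrix_ne_zero (k : Type u) [Field k] (n m p : ℕ)
    (I' : Fin p → Fin n) (J : Fin p → Fin m) (hI : Function.Injective I') (hJ : Function.Injective J) :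
    ((Matrix.of fun a c => (MvPolynomial.X (a, c) : MvPolynomial (Fin n × Fin m) k)).submatrix I' J).det ≠ 0 := by
  classical
  intro h0
  obtain ⟨pt, hpt⟩ : ∃ pt : Fin n × Fin m → k, pt = fun ac => if ∃ u, ac.1 = I' u ∧ ac.2 = J u then 1 else 0 :=
    ⟨_, rfl⟩
  have h1 := congrArg (MvPolynomial.eval pt) h0
  rw [RingHom.map_det, map_zero] at h1
  have h2 : (MvPolynomial.eval pt).mapMatrix
      ((Matrix.of fun a c => (MvPolynomial.X (a, c) : MvPolynomial (Fin n × Fin m) k)).submatrix I' J) = 1 := by
    refine Matrix.ext fun s t => ?_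
    simp only [RingHom.mapMatrix_apply, Matrix.map_apply, Matrix.submatrix_apply, Matrix.of_apply,
      MvPolynomial.eval_X]
    rw [hpt]
    simp only
    by_cases hst : s = t
    · subst hst
      rw [Matrix.one_apply_eq, if_pos ⟨s, rfl, rfl⟩]
    · rw [Matrix.one_apply_ne hst, if_neg]
      rintro ⟨u, hu1, hu2⟩
      exact hst ((hI hu1).trans (hJ hu2).symm)
  rw [h2, Matrix.det_one] at h1
  exact one_ne_zero h1

theorem transv_submatrix {R : Type*} [CommRing R] (n m p : ℕ)
    (G : Matrix (Fin n) (Fin m) R)
    (i j : Fin n) (I : Fin p → Fin n) (J : Fin p → Fin m) (hI : Function.Injective I) (c : R)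
    (s₀ : Fin p) (hs₀ : I s₀ = i) :
    ((Matrix.transvection i j c * G).submatrix I J).det =
      (G.submatrix I J).det + c * (G.submatrix (Function.update I s₀ j) J).det := by
  have h1 : (Matrix.transvection i j c * G).submatrix I J =
      Matrix.updateRow (G.submatrix I J) s₀ ((G.submatrix I J) s₀ + c • (fun t => G j (J t) : Fin p → R)) := by
    refine Matrix.ext fun s t => ?_
    rw [Matrix.submatrix_apply, transv_mul, Matrix.add_apply]
    by_cases hs : s = s₀
    · subst hs
      rw [Matrix.updateRow_self, hs₀, Matrix.single_mul_apply_same]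
      simp [hs₀]
    · rw [Matrix.updateRow_ne hs, Matrix.single_mul_apply_of_ne _ _ _ _ _ (fun h => hs (hI (h.trans hs₀.symm))),
        add_zero, Matrix.submatrix_apply]
  have h2 : G.submatrix (Function.update I s₀ j) J =
      Matrix.updateRow (G.submatrix I J) s₀ (fun t => G j (J t)) := by
    refine Matrix.ext fun s t => ?_
    by_cases hs : s = s₀
    · subst hs
      simp
    · rw [Matrix.updateRow_ne hs, Matrix.submatrix_apply, Function.update_of_ne hs, Matrix.submatrix_apply]
  rw [h1, h2, Matrix.det_updateRow_add, Matrix.det_updateRow_smul, Matrix.updateRow_eq_self]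

theorem transv_submatrix_of_notMem {R : Type*} [CommRing R] (n m p : ℕ)
    (G : Matrix (Fin n) (Fin m) R)
    (i j : Fin n) (I : Fin p → Fin n) (J : Fin p → Fin m) (c : R)
    (hi : i ∉ Set.range I) :
    ((Matrix.transvection i j c * G).submatrix I J) = (G.submatrix I J) := by
  refine Matrix.ext fun s t => ?_
  rw [Matrix.submatrix_apply, Matrix.submatrix_apply, transv_mul,
    Matrix.add_apply, Matrix.single_mul_apply_of_ne _ _ _ _ _ (fun h' => hi ⟨s, h'⟩), add_zero]

end Groth.Agent.Helper5.MinorTransv
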