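import Mathlib
import Groth.Agent.Helper3.UnramBC

set_option autoImplicit false
universe u
open CategoryTheory CategoryTheory.Limits AlgebraicGeometry

namespace Groth.Agent.Helper5.MonoFib

/-- If all fibres of a morphism locally of finite type are monomorphisms, it is formally
unramified. -/
theorem formallyUnramified_of_mono_fibres {X Y : Scheme.{u}} (f : X ⟶ Y) [LocallyOfFiniteType f]
    (H : ∀ y : Y, Mono (f.fiberToSpecResidueField y)) : FormallyUnramified f := by
  apply HasRingHomProperty.of_stalkMap (P := @FormallyUnramified)
    RingHom.FormallyUnramified.ofLocalizationPrime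
  intro x
  have hm := H (f x)
  have hiso : IsIso (pullback.diagonal (f.fiberToSpecResidueField (f x))) :=
    (pullback.isIso_diagonal_iff _).2 hm
  have hu : FormallyUnramified (f.fiberToSpecResidueField (f x)) := inferInstance
  have h1 := FormallyUnramified.stalkMap (f.fiberToSpecResidueField (f x)) (f.asFiber x)
  have h2 := (Groth.Agent.Helper3.UnramBC.stalkMap_snd_formallyUnramified_iff f
    (Y.fromSpecResidueField (f x)) (f.asFiber x)).1 h1
  have h3 : pullback.fst f (Y.fromSpecResidueField (f x)) (f.asFiber x) = x := f.fiberι_asFiber x
  exact (RingHom.FormallyUnramified.respectsIso.arrow_mk_iso_iff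
    (f.arrowStalkMapIsoOfEq h3)).1 h2

/-- If all fibres of a morphism are monomorphisms, it is universally injective. -/
theorem universallyInjective_of_mono_fibres {X Y : Scheme.{u}} (f : X ⟶ Y)
    (H : ∀ y : Y, Mono (f.fiberToSpecResidueField y)) : UniversallyInjective f := by
  apply ((tfae_universallyInjective f).out 0 1).2
  intro K _ a b hab
  simp only at hab
  set c := a ≫ f with hc
  set y := c (IsLocalRing.closedPoint K) with hy
  set c' := Spec.map (Scheme.descResidueField (Scheme.stalkClosedPointTo c)) with hc'
  have hcc : c' ≫ Y.fromSpecResidueField y = c :=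
    Scheme.descResidueField_stalkClosedPointTo_fromSpecResidueField K Y c
  let a' : Spec (.of K) ⟶ f.fiber y := pullback.lift a c' (by rw [hcc])
  let b' : Spec (.of K) ⟶ f.fiber y := pullback.lift b c' (by rw [hcc]; exact hab.symm)
  have hm := H y
  have hab' : a' = b' := by
    rw [← cancel_mono (f.fiberToSpecResidueField y)]
    have ha2 : a' ≫ pullback.snd _ _ = c' := pullback.lift_snd _ _ _
    have hb2 : b' ≫ pullback.snd _ _ = c' := pullback.lift_snd _ _ _
    exact ha2.trans hb2.symm
  have ha : a' ≫ pullback.fst _ _ = a := pullback.lift_fst _ _ _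
  have hb : b' ≫ pullback.fst _ _ = b := pullback.lift_fst _ _ _
  rw [← ha, ← hb, hab']

theorem mono_iff_forall_mono_fiber {X Y : Scheme.{u}} (f : X ⟶ Y) [LocallyOfFiniteType f] :
    Mono f ↔ ∀ y : Y, Mono (f.fiberToSpecResidueField y) := by
  constructor
  · intro h y
    exact (inferInstance : Mono (pullback.snd f (Y.fromSpecResidueField y)))
  · intro H
    have hu := formallyUnramified_of_mono_fibres f H
    have hi := universallyInjective_of_mono_fibres f H
    have h1 : IsOpenImmersion (pullback.diagonal f) := inferInstance
    have h2 : Surjective (pullback.diagonal f) := (UniversallyInjective.iff_diagonal f).1 hi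
    have h3 : IsIso (pullback.diagonal f) :=
      (isIso_iff_isOpenImmersion_and_surjective _).2 ⟨h1, h2⟩
    exact (pullback.isIso_diagonal_iff f).1 h3

end Groth.Agent.Helper5.MonoFib
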