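import Mathlib
import Groth.Agent.Helper5.MonoQuot9
import Groth.Agent.Helper5.AlgSpMonoPt

/-!
# S10349: a decent space with an etale surjective field point is the spectrum of a field
-/

set_option autoImplicit false
universe u

namespace Groth.Agent.Helper5.MonoQuot

open CategoryTheory CategoryTheory.Limits AlgebraicGeometry Opposite AlgSp

variable {S : Scheme.{u}}

theorem s10349 (X : Space S) (hX : IsDecent X.obj) (k : Type u) [Field k]
    (str : Spec (CommRingCat.of k) ⟶ S) (p : (yon S).obj (Over.mk str) ⟶ X.obj)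
    (hp : RepWith @Etale p) (hs : RepWith @Surjective p) :
    ∃ (k' : Type u) (_ : Field k') (str' : Spec (CommRingCat.of k') ⟶ S)
      (e : (yon S).obj (Over.mk str') ≅ X.obj) (c : Over.mk str ⟶ Over.mk str'),
      (yon S).map c ≫ e.hom = p ∧ IsFinite c.left ∧ Etale c.left := by
  have hq : (Groth.Agent.Helper4.AlgSpInj.ofHom p).toHom = p :=
    Groth.Agent.Helper4.AlgSpInj.toHom_ofHom p
  obtain ⟨p', hp', hm, hqc⟩ := hX (Points.mk (Groth.Agent.Helper4.AlgSpInj.ofHom p))
  haveI := hm
  obtain ⟨c₀, hc₀, -⟩ := Groth.Agent.Helper5.AlgSpMonoPt.existsUnique_factor X.property p'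
    (Groth.Agent.Helper4.AlgSpInj.ofHom p) hp'
  obtain ⟨c, rfl⟩ : ∃ c : Over.mk str ⟶ p'.pt, c = c₀ := ⟨c₀, rfl⟩
  have hc' : (yon S).map c ≫ p'.toHom = p := hc₀.trans hq
  haveI hep : Epi p := Groth.Agent.Helper5.SchImg.epi_of_etale_surjective p hp hs
  haveI : Epi ((yon S).map c ≫ p'.toHom) := by rw [hc']; exact hep
  haveI : Epi p'.toHom := epi_of_epi ((yon S).map c) p'.toHom
  haveI : IsIso p'.toHom := isIso_of_mono_of_epi _
  have h1 : RepWith @Etale ((yon S).map c) := by
    have h2 : (yon S).map c = p ≫ inv p'.toHom := by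
      rw [← hc', Category.assoc, IsIso.hom_inv_id, Category.comp_id]
    rw [h2]
    exact (MorphismProperty.cancel_right_of_respectsIso (RepWith (S := S) @Etale) _ _).2 hp
  have het : Etale c.left := (AlgSp.repWith_yon_map_iff _ _).1 h1
  refine ⟨p'.K, inferInstance, p'.str, asIso p'.toHom, c, hc', ?_, het⟩
  haveI : LocallyQuasiFinite c.left :=
    Groth.Agent.Helper5.UnramLqf.locallyQuasiFinite_of_unramified c.left
  haveI : Finite ↥(Over.mk str).left := (inferInstance : Finite (PrimeSpectrum k))
  haveI : QuasiCompact c.left := quasiCompact_of_finite _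
  haveI : IsLocallyArtinian p'.pt.left :=
    (inferInstance : IsLocallyArtinian (Spec (CommRingCat.of p'.K)))
  exact IsFinite.of_locallyQuasiFinite _

end Groth.Agent.Helper5.MonoQuot
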