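import Mathlib
import Groth.Agent.Helper5.MonoQuot10
import Groth.Prelude.Def_W4decUnivBdd

/-!
# S10430: universally bounded fibres of affine etale charts imply decent
-/

set_option autoImplicit false
universe u

namespace Groth.Agent.Helper5.MonoQuot

open CategoryTheory CategoryTheory.Limits AlgebraicGeometry Opposite AlgSp

variable {S : Scheme.{u}}

/-- a scheme finite over the spectrum of a field has finitely many points -/
theorem finite_of_isFinite_field {T : Scheme.{u}} {K : Type u} [Field K]
    (c : T ⟶ Spec (CommRingCat.of K)) [IsFinite c] : Finite ↥T := by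
  let s₀ : ↥(Spec (CommRingCat.of K)) := (IsLocalRing.closedPoint K : PrimeSpectrum K)
  have h1 := Scheme.Hom.finite_preimage_singleton c s₀
  have h2 : c ⁻¹' {s₀} = Set.univ := by
    ext w
    simp only [Set.mem_preimage, Set.mem_singleton_iff, Set.mem_univ, iff_true]
    exact (inferInstance : Subsingleton (PrimeSpectrum K)).elim _ _
  rw [h2] at h1
  exact Set.finite_univ_iff.1 h1

/-- the fibre of the source map of the relation over a point of the chart is finite when the
chart has finite fibres over field points -/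
theorem finite_source_fibre {X : Sp S} {U : Over S} (φ : (yon S).obj U ⟶ X)
    {n : ℕ} (hn : W4dec.DegFibresLE n φ) (R : Over S) (s t : R ⟶ U)
    (hR : IsPullback ((yon S).map t) ((yon S).map s) φ φ) (u : ↥U.left) :
    {r : ↥R.left | s.left r = u}.Finite := by
  let ι : (FieldPt.ofPt φ u).pt ⟶ U := Over.homMk (U.left.fromSpecResidueField u) rfl
  have hq : (yon S).map ι ≫ φ = (FieldPt.ofPt φ u).toHom := (FieldPt.toHom_ofPt _ _).symm
  have hι : ∀ z : ↥(FieldPt.ofPt φ u).pt.left, ι.left z = u := fun z =>
    Scheme.fromSpecResidueField_apply _ _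
  have sq₁ := IsPullback.of_hasPullback ι s
  have big := (sq₁.map (yon S)).flip.paste_horiz hR
  rw [← Functor.map_comp, hq] at big
  obtain ⟨hfin, -⟩ := hn (FieldPt.ofPt φ u) _ (pullback.fst ι s) _ big.flip
  haveI := hfin
  haveI : Finite ↥(pullback ι s).left :=
    finite_of_isFinite_field (K := (FieldPt.ofPt φ u).K) (pullback.fst ι s).left
  have sq₁' := sq₁.map (Over.forget S)
  simp only [Over.forget_obj, Over.forget_map] at sq₁'
  refine (Set.finite_univ.image (pullback.snd ι s).left).subset ?_
  intro r hr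
  have hr' : s.left r = u := hr
  let s₀ : ↥(FieldPt.ofPt φ u).pt.left :=
    (IsLocalRing.closedPoint (FieldPt.ofPt φ u).K : PrimeSpectrum (FieldPt.ofPt φ u).K)
  obtain ⟨w, -, hw2⟩ := Scheme.Pullback.exists_preimage_pullback (f := ι.left) (g := s.left)
    s₀ r ((hι s₀).trans hr'.symm)
  refine ⟨sq₁'.isoPullback.inv w, Set.mem_univ _, ?_⟩
  rw [← Scheme.Hom.comp_apply, sq₁'.isoPullback_inv_snd]
  exact hw2

theorem s10430 (X : Space S)
    (h : ∀ (U : Over S) (φ : (yon S).obj U ⟶ X.obj), IsAffine U.left → RepWith @Etale φ →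
      W4dec.HasUnivBddFibres φ) :
    IsDecent X.obj := by
  intro x
  refine (s10360 X x).1 ?_
  intro U φ hU hφ R s t hR
  obtain ⟨n, hn⟩ := h U φ hU hφ
  have hA : (Points.ofPt φ ⁻¹' {x}).Finite := by
    obtain ⟨q, hqx⟩ := Points.mk_surjective x
    have sqW := hφ.rep.isPullback q.toHom
    obtain ⟨e, he⟩ := (yon S).map_surjective (hφ.rep.fst q.toHom)
    rw [← he] at sqW
    clear he
    generalize hφ.rep.snd q.toHom = c at sqW
    generalize hφ.rep.pullback q.toHom = T at e c sqW
    obtain ⟨hfin, -⟩ := hn q T c ((yon S).map e) sqW.flip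
    haveI := hfin
    haveI : Finite ↥T.left := finite_of_isFinite_field (K := q.K) c.left
    let s₀ : ↥q.pt.left := (IsLocalRing.closedPoint q.K : ↥(Spec (CommRingCat.of q.K)))
    refine (Set.finite_univ.image e.left).subset ?_
    intro u hu
    have hu' : Points.ofPt φ u = x := hu
    obtain ⟨z, hz, -⟩ := Groth.Agent.Helper5.Decent2.exists_scheme_point_of_isPullback sqW u s₀
      (by rw [Points.ofPt_toHom, hqx, hu'])
    exact ⟨z, Set.mem_univ _, hz⟩
  refine ⟨hA, ?_⟩
  refine (hA.biUnion (fun u _ => finite_source_fibre φ hn R s t hR u)).subset ?_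
  intro r hr
  have hr' : Points.ofPt ((yon S).map t ≫ φ) r = x := hr
  simp only [Set.mem_iUnion, Set.mem_setOf_eq, Set.mem_preimage, Set.mem_singleton_iff]
  refine ⟨s.left r, ?_, rfl⟩
  rw [← Groth.Agent.Helper4.AlgSpPtsDesc.ofPt_yon_map_comp, ← hR.w]
  exact hr'

end Groth.Agent.Helper5.MonoQuot
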