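import Mathlib
import Groth.Agent.Helper5.MonoQuot16

/-!
# S10387: decency of a morphism is etale local on the base
-/

set_option autoImplicit false
universe u

namespace Groth.Agent.Helper5.MonoQuot

open CategoryTheory CategoryTheory.Limits AlgebraicGeometry Opposite AlgSp

variable {S : Scheme.{u}}

/-- the image of a point of a decent space under a representable quasi-compact map to an
algebraic space is represented by a quasi-compact monomorphism -/
theorem exists_qc_mono_of_qc_map {F₁ F' : Sp S} (hF' : IsAlgSpace F') (m : F₁ ⟶ F')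
    (hm : RepWith @QuasiCompact m) (hF₁ : IsDecent F₁) (x₁ : Points F₁) :
    ∃ p : FieldPt F', Points.mk p = Points.map m x₁ ∧ Mono p.toHom ∧
      RepWith @QuasiCompact p.toHom := by
  obtain ⟨p₁, hp₁, -, hq₁⟩ := hF₁ x₁
  have i2 := (repWith_isMultiplicative (S := S) @QuasiCompact).toIsStableUnderComposition
  have hq : RepWith @QuasiCompact (p₁.map m).toHom := by
    rw [FieldPt.toHom_map]
    exact MorphismProperty.comp_mem _ _ _ hq₁ hm
  obtain ⟨p, hp, hmono, hqc⟩ := s10361 ⟨F', hF'⟩ (p₁.map m) hq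
  refine ⟨p, ?_, hmono, hqc⟩
  rw [hp, ← Points.map_mk, hp₁]

theorem s10387 {X Y : Space S} (f : X ⟶ Y) {V : Over S}
    (p : (yon S).obj V ⟶ Y.obj) (hp : RepWith @Etale p) (hps : RepWith @Surjective p)
    (X' : Sp S) (fst : X' ⟶ X.obj) (snd : X' ⟶ (yon S).obj V) (hsq : IsPullback fst snd f.hom p)
    (h : IsDecentMor snd) : IsDecentMor f.hom := by
  intro T F' g fstT sndT sq x
  have hF' : IsAlgSpace F' :=
    Groth.Agent.Helper4.AlgSpPB.isAlgSpace_of_isPullback Y.property.diag X.property
      (IsAlgSpace.yon_obj T) _ _ _ _ sq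
  let t : ↥T.left := (Points.schemeHomeo T).symm (Points.map sndT x)
  let W₀ : Over S := Over.mk (T.left.fromSpecResidueField t ≫ T.hom)
  let ι : W₀ ⟶ T := Over.homMk (T.left.fromSpecResidueField t) rfl
  have hιt : ∀ z : ↥W₀.left, ι.left z = t := fun z => Scheme.fromSpecResidueField_apply _ _
  have sqV := hps.rep.isPullback ((yon S).map ι ≫ g)
  obtain ⟨b₀, hb₀⟩ := (yon S).map_surjective (hps.rep.fst ((yon S).map ι ≫ g))
  rw [← hb₀] at sqV
  clear hb₀
  have hsurj : Surjective (hps.rep.snd ((yon S).map ι ≫ g)).left := hps.property _ _ _ sqV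
  generalize hps.rep.snd ((yon S).map ι ≫ g) = e at sqV hsurj
  generalize hps.rep.pullback ((yon S).map ι ≫ g) = W'' at b₀ e sqV hsurj
  let z₀ : ↥W₀.left := (IsLocalRing.closedPoint (T.left.residueField t) :
    PrimeSpectrum (T.left.residueField t))
  obtain ⟨w'', -⟩ := hsurj.surj z₀
  let W' : Over S := Over.mk (W''.left.fromSpecResidueField w'' ≫ W''.hom)
  let i : W' ⟶ W'' := Over.homMk (W''.left.fromSpecResidueField w'') rfl
  let a : W' ⟶ T := i ≫ e ≫ ι
  let b : W' ⟶ V := i ≫ b₀
  have comm : (yon S).map a ≫ g = (yon S).map b ≫ p := by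
    show (yon S).map (i ≫ e ≫ ι) ≫ g = (yon S).map (i ≫ b₀) ≫ p
    rw [Functor.map_comp, Functor.map_comp, Functor.map_comp, Category.assoc, Category.assoc,
      Category.assoc, sqV.w]
  have sq₁ := IsPullback.of_hasPullback snd ((yon S).map b)
  have hF₁ : IsDecent (pullback snd ((yon S).map b)) := h ((yon S).map b) _ _ sq₁
  have big := sq₁.paste_horiz hsq
  rw [← comm] at big
  let m : pullback snd ((yon S).map b) ⟶ F' :=
    sq.lift (pullback.fst snd ((yon S).map b) ≫ fst)
      (pullback.snd snd ((yon S).map b) ≫ (yon S).map a) (by rw [Category.assoc]; exact big.w)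
  have hm1 : m ≫ fstT = pullback.fst snd ((yon S).map b) ≫ fst := sq.lift_fst _ _ _
  have hm2 : m ≫ sndT = pullback.snd snd ((yon S).map b) ≫ (yon S).map a := sq.lift_snd _ _ _
  rw [← hm1] at big
  have sqm : IsPullback m (pullback.snd snd ((yon S).map b)) sndT ((yon S).map a) :=
    IsPullback.of_right big hm2 sq
  let w₀ : ↥W'.left := (IsLocalRing.closedPoint (W''.left.residueField w'') :
    PrimeSpectrum (W''.left.residueField w''))
  have hpt : Points.map sndT x = Points.map ((yon S).map a) (Points.schemeHomeo W' w₀) := by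
    rw [Points.map_yon_map_apply]
    have h3 : a.left w₀ = t := by
      show (i ≫ e ≫ ι).left w₀ = t
      rw [Over.comp_left, Over.comp_left, Scheme.Hom.comp_apply, Scheme.Hom.comp_apply]
      exact hιt _
    rw [h3]
    exact ((Points.schemeHomeo T).apply_symm_apply _).symm
  obtain ⟨x₁, hx₁, -⟩ :=
    Groth.Agent.Helper4.AlgSpPtsDesc.exists_point_of_isPullback sqm x _ hpt
  have i1 := repWith_isStableUnderBaseChange (S := S) @QuasiCompact
  have hqa : QuasiCompact a.left :=
    Groth.Agent.Helper5.Decent1.quasiCompact_of_field (K := W''.left.residueField w'') a.left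
  have hj : RepWith @QuasiCompact ((yon S).map a) := (repWith_yon_map_iff _ _).2 hqa
  have hm : RepWith @QuasiCompact m := MorphismProperty.of_isPullback sqm.flip hj
  obtain ⟨pp, hpp, hmono, hqc⟩ := exists_qc_mono_of_qc_map hF' m hm hF₁ x₁
  exact ⟨pp, hpp.trans hx₁, hmono, hqc⟩

end Groth.Agent.Helper5.MonoQuot
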