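import Mathlib
import Groth.Agent.Helper5.MonoQuot17

/-!
# S10386: decency of a morphism can be checked on affine base changes
-/

set_option autoImplicit false
universe u

namespace Groth.Agent.Helper5.MonoQuot

open CategoryTheory CategoryTheory.Limits AlgebraicGeometry Opposite AlgSp

variable {S : Scheme.{u}}

/-- an algebraic space over a scheme `T` all of whose fibres over residue fields of `T` are decent
is decent -/
theorem isDecent_of_decent_fibres {F' : Sp S} (hF' : IsAlgSpace F') {T : Over S}
    (sndT : F' ⟶ (yon S).obj T)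
    (hfib : ∀ t : ↥T.left, IsDecent (pullback sndT ((yon S).map
      (Over.homMk (T.left.fromSpecResidueField t) rfl :
        Over.mk (T.left.fromSpecResidueField t ≫ T.hom) ⟶ T)))) : IsDecent F' := by
  intro x
  let t : ↥T.left := (Points.schemeHomeo T).symm (Points.map sndT x)
  let W : Over S := Over.mk (T.left.fromSpecResidueField t ≫ T.hom)
  let j : W ⟶ T := Over.homMk (T.left.fromSpecResidueField t) rfl
  have sqt := IsPullback.of_hasPullback sndT ((yon S).map j)
  let w₀ : ↥W.left := (IsLocalRing.closedPoint (T.left.residueField t) :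
    PrimeSpectrum (T.left.residueField t))
  have hpt : Points.map sndT x = Points.map ((yon S).map j) (Points.schemeHomeo W w₀) := by
    rw [Points.map_yon_map_apply]
    have h3 : j.left w₀ = t := Scheme.fromSpecResidueField_apply _ _
    rw [h3]
    exact ((Points.schemeHomeo T).apply_symm_apply _).symm
  obtain ⟨z, hz1, -⟩ := Groth.Agent.Helper4.AlgSpPtsDesc.exists_point_of_isPullback sqt x _ hpt
  have i1 := repWith_isStableUnderBaseChange (S := S) @QuasiCompact
  have hj : RepWith @QuasiCompact ((yon S).map j) :=
    (repWith_yon_map_iff _ _).2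
      (Groth.Agent.Helper5.Decent1.quasiCompact_of_field
        (K := T.left.residueField t) (T.left.fromSpecResidueField t))
  have hfst : RepWith @QuasiCompact (pullback.fst sndT ((yon S).map j)) :=
    MorphismProperty.of_isPullback sqt.flip hj
  obtain ⟨pp, hpp, hmono, hqc⟩ := exists_qc_mono_of_qc_map hF' _ hfst (hfib t) z
  exact ⟨pp, hpp.trans hz1, hmono, hqc⟩

theorem s10386 {X Y : Space S} (f : X ⟶ Y)
    (h : ∀ (Z : Over S) (g : (yon S).obj Z ⟶ Y.obj) (P : Sp S) (fst : P ⟶ X.obj)
      (snd : P ⟶ (yon S).obj Z), IsAffine Z.left → IsPullback fst snd f.hom g → IsDecent P) :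
    IsDecentMor f.hom := by
  intro T F' g fstT sndT sq
  have hF' : IsAlgSpace F' :=
    Groth.Agent.Helper4.AlgSpPB.isAlgSpace_of_isPullback Y.property.diag X.property
      (IsAlgSpace.yon_obj T) _ _ _ _ sq
  refine isDecent_of_decent_fibres hF' sndT ?_
  intro t
  have sqt := IsPullback.of_hasPullback sndT ((yon S).map
      (Over.homMk (T.left.fromSpecResidueField t) rfl :
        Over.mk (T.left.fromSpecResidueField t ≫ T.hom) ⟶ T))
  have big := sqt.paste_horiz sq
  exact h _ _ _ _ _ (inferInstance : IsAffine (Spec (T.left.residueField t))) big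

end Groth.Agent.Helper5.MonoQuot
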