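import Mathlib
import Groth.Agent.Helper5.MonoQuot17
import Groth.Agent.Helper4.AlgSpQC

/-!
# S10384: decency descends along quasi-compact surjective morphisms
-/

set_option autoImplicit false
universe u

namespace Groth.Agent.Helper5.MonoQuot

open CategoryTheory CategoryTheory.Limits AlgebraicGeometry Opposite AlgSp

variable {S : Scheme.{u}}

theorem s10384 {X Y : Space S} (f : X ⟶ Y) (hq : IsQuasiCompactMor f.hom)
    (hs : IsSurjectiveMor f.hom) (hX : IsDecent X.obj) : IsDecent Y.obj := by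
  intro y
  obtain ⟨x, rfl⟩ := hs y
  obtain ⟨p₁, hp₁, -, hq₁⟩ := hX x
  have h1 : IsQuasiCompactMor (p₁.toHom ≫ f.hom) :=
    Groth.Agent.Helper4.AlgSpQC.isQuasiCompactMor_comp X.property Y.property.diag _ _
      (Groth.Agent.Helper4.AlgSpQC.isQuasiCompactMor_of_repWith _ hq₁) hq
  have h2 : RepWith @QuasiCompact (p₁.map f.hom).toHom := by
    rw [FieldPt.toHom_map]
    exact Groth.Agent.Helper4.AlgSpQC.repWith_of_isQuasiCompactMor _
      (Y.property.representable_from_yon _) h1
  obtain ⟨p, hp, hmono, hqc⟩ := s10361 Y (p₁.map f.hom) h2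
  refine ⟨p, ?_, hmono, hqc⟩
  rw [hp, ← Points.map_mk, hp₁]

end Groth.Agent.Helper5.MonoQuot
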