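import Mathlib
import Groth.Agent.Helper5.MonoQuot20
import Groth.Agent.Helper5.AlgSpEt
import Groth.Agent.Helper4.AlgSpQC2
import Groth.Agent.Helper4.AlgSpPB

/-!
# S10385: monomorphic field points descend along quasi-compact etale surjective morphisms
-/

set_option autoImplicit false
universe u

namespace Groth.Agent.Helper5.MonoQuot

open CategoryTheory CategoryTheory.Limits AlgebraicGeometry Opposite AlgSp

variable {S : Scheme.{u}}

theorem s10385 {X Y : Space S} (f : X ⟶ Y) (hq : IsQuasiCompactMor f.hom)
    (he : IsEtaleMor f.hom) (hs : IsSurjectiveMor f.hom)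
    (hX : ∀ x : Points X.obj, ∃ p : FieldPt X.obj, Points.mk p = x ∧ Mono p.toHom)
    (y : Points Y.obj) : ∃ q : FieldPt Y.obj, Points.mk q = y ∧ Mono q.toHom := by
  obtain ⟨x, rfl⟩ := hs y
  obtain ⟨p, rfl, hm⟩ := hX x
  haveI := hm
  have hqp : (p.map f.hom).toHom = p.toHom ≫ f.hom := FieldPt.toHom_map _ _
  -- the fibre G of f over the point
  have sqG := IsPullback.of_hasPullback (p.map f.hom).toHom f.hom
  have hGalg : IsAlgSpace (pullback (p.map f.hom).toHom f.hom) :=
    Groth.Agent.Helper4.AlgSpPB.isAlgSpace_of_isPullback Y.property.diag (IsAlgSpace.yon_obj _)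
      X.property _ _ _ _ sqG
  have hGet : IsEtaleMor (pullback.fst (p.map f.hom).toHom f.hom) :=
    Groth.Agent.Helper5.AlgSpEt.isEtaleMor_of_isPullback X.property (IsAlgSpace.yon_obj _) sqG he
  haveI : CompactSpace ↥(p.map f.hom).pt.left :=
    (inferInstance : CompactSpace ↥(Spec (CommRingCat.of p.K)))
  have hGqc : IsQuasiCompactSp (pullback (p.map f.hom).toHom f.hom) :=
    hq (IsAlgSpace.yon_obj _) (Groth.Agent.Helper4.AlgSpQC2.isQuasiCompactSp_yon _)
      (p.map f.hom).toHom _ _ sqG.flip
  have hrep := s10206 ⟨_, hGalg⟩ p.K p.str (pullback.fst (p.map f.hom).toHom f.hom) hGet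
  obtain ⟨W, ⟨eW⟩⟩ := hrep.has_representation
  let e : (yon S).obj W ≅ pullback (p.map f.hom).toHom f.hom := isoOfRepresentableBy eW
  obtain ⟨gW, hgW⟩ := (yon S).map_surjective (e.hom ≫ pullback.fst (p.map f.hom).toHom f.hom)
  -- W is finite etale over the field
  have heis : RepWith @Etale e.hom := by
    have h0 : RepWith @Etale (𝟙 ((yon S).obj W)) := repWith_id _ W
    have h1 := (MorphismProperty.cancel_right_of_respectsIso (RepWith (S := S) @Etale)
      (𝟙 ((yon S).obj W)) e.hom).2 h0
    rwa [Category.id_comp] at h1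
  have hgWe : RepWith @Etale ((yon S).map gW) := by rw [hgW]; exact hGet e.hom heis
  haveI hgWet : Etale gW.left := (AlgSp.repWith_yon_map_iff _ _).1 hgWe
  haveI : DiscreteTopology ↥W.left := @discreteTopology_of_etale_field W.left p.K _ gW.left hgWet
  haveI : IsReduced W.left := @isReduced_of_etale_field W.left p.K _ gW.left hgWet
  have hWqc : IsQuasiCompactSp ((yon S).obj W) :=
    Groth.Agent.Helper4.AlgSpQC2.isQuasiCompactSp_of_surjective (IsAlgSpace.yon_obj W) e.inv
      (fun z => ⟨Points.map e.hom z, by rw [← Points.map_comp, e.hom_inv_id, Points.map_id]⟩)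
      hGqc
  haveI : CompactSpace ↥W.left := by
    haveI := Groth.Agent.Helper4.AlgSpQC2.compactSpace_points_of_isQuasiCompactSp hWqc
    exact (Points.schemeHomeo W).symm.compactSpace
  haveI : Finite ↥W.left := finite_of_compact_of_discrete
  -- the kernel pair
  have hrepp : Representable p.toHom := X.property.representable_from_yon p.toHom
  have sqE := hrepp.isPullback (e.hom ≫ pullback.snd (p.map f.hom).toHom f.hom)
  obtain ⟨s, hs'⟩ := (yon S).map_surjective
    (hrepp.fst (e.hom ≫ pullback.snd (p.map f.hom).toHom f.hom))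
  rw [← hs'] at sqE
  clear hs'
  generalize hrepp.snd (e.hom ≫ pullback.snd (p.map f.hom).toHom f.hom) = a at sqE
  generalize hrepp.pullback (e.hom ≫ pullback.snd (p.map f.hom).toHom f.hom) = E at a s sqE
  -- sqE : IsPullback (yon s) (yon a) p.toHom (e.hom ≫ snd)
  have hma : Mono ((yon S).map a) := sqE.mono_snd_of_mono
  have hma' : Mono a := (yon S).mono_of_mono_map hma
  haveI hma'' : Mono a.left := inferInstance
  haveI hoi : IsOpenImmersion a.left := isOpenImmersion_of_mono_discrete a.left
  haveI : Finite ↥E.left := Finite.of_injective _ a.left.injective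
  have sqG' : IsPullback (e.hom ≫ pullback.snd (p.map f.hom).toHom f.hom) ((yon S).map gW)
      f.hom (p.map f.hom).toHom := by
    rw [hgW]
    exact IsPullback.of_iso sqG.flip e.symm (Iso.refl _) (Iso.refl _) (Iso.refl _)
      (by simp) (by simp) (by simp) (by simp)
  have hR := sqE.paste_vert sqG'
  rw [← Functor.map_comp, ← hqp] at hR
  haveI : IsFinite (a ≫ gW).left := by
    rw [Over.comp_left]
    haveI : Etale (a.left ≫ gW.left) := inferInstance
    haveI : LocallyQuasiFinite (a.left ≫ gW.left) :=
      Groth.Agent.Helper5.UnramLqf.locallyQuasiFinite_of_unramified _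
    haveI : QuasiCompact (a.left ≫ gW.left) := quasiCompact_of_finite _
    haveI : IsLocallyArtinian (p.map f.hom).pt.left :=
      (inferInstance : IsLocallyArtinian (Spec (CommRingCat.of p.K)))
    exact IsFinite.of_locallyQuasiFinite _
  obtain ⟨p', c, hmono, hc, -⟩ := exists_mono_of_finite_kernelPair (p.map f.hom) E (a ≫ gW) s hR
  exact ⟨p', (mk_eq_of_factor p' (p.map f.hom) c hc).trans (Points.map_mk _ _).symm, hmono⟩

end Groth.Agent.Helper5.MonoQuot
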