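import Mathlib
import Groth.Agent.Helper5.MonoQuot4
import Groth.Agent.Helper5.SchImg2

/-!
# S10409: mono point iff a point with etale quasi-compact self fibre product
-/

set_option autoImplicit false
universe u

namespace Groth.Agent.Helper5.MonoQuot

open CategoryTheory CategoryTheory.Limits AlgebraicGeometry Opposite AlgSp

variable {S : Scheme.{u}}

/-- A field point whose kernel pair has a representable, etale and quasi-compact first
projection is finitely dominated by a mono field point. -/
theorem exists_mono_of_etale_qc_kernelPair {X : Sp S} (q : FieldPt X) {P : Sp S}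
    (fst snd : P ⟶ (yon S).obj q.pt) (sq : IsPullback fst snd q.toHom q.toHom)
    (h1 : RepWith @Etale fst) (h2 : RepWith @QuasiCompact fst) :
    ∃ (p : FieldPt X) (c : q.pt ⟶ p.pt), Mono p.toHom ∧ (yon S).map c ≫ p.toHom = q.toHom ∧
      IsFinite c.left := by
  have sqV := h1.rep.isPullback (𝟙 ((yon S).obj q.pt))
  have het : Etale (h1.rep.snd (𝟙 ((yon S).obj q.pt))).left := h1.property _ _ _ sqV
  have hqc : QuasiCompact (h1.rep.snd (𝟙 ((yon S).obj q.pt))).left := h2.property _ _ _ sqV
  haveI hiso : IsIso (h1.rep.fst (𝟙 ((yon S).obj q.pt))) := sqV.isIso_fst_of_isIso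
  generalize h1.rep.snd (𝟙 ((yon S).obj q.pt)) = t' at sqV het hqc
  generalize h1.rep.fst (𝟙 ((yon S).obj q.pt)) = fstV at sqV hiso
  generalize h1.rep.pullback (𝟙 ((yon S).obj q.pt)) = V at t' fstV sqV het hqc hiso
  obtain ⟨s', hs'⟩ := (yon S).map_surjective (fstV ≫ snd)
  have ht' : (yon S).map t' = fstV ≫ fst := by
    have := sqV.w
    rw [Category.comp_id] at this
    exact this.symm
  have sq0 : IsPullback fstV (fstV ≫ snd) snd (𝟙 _) :=
    IsPullback.of_horiz_isIso ⟨by rw [Category.comp_id]⟩
  have big := sq0.paste_horiz sq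
  rw [Category.id_comp, ← hs', ← ht'] at big
  haveI : LocallyQuasiFinite t'.left :=
    Groth.Agent.Helper5.UnramLqf.locallyQuasiFinite_of_unramified t'.left
  haveI : IsLocallyArtinian q.pt.left :=
    (inferInstance : IsLocallyArtinian (Spec (CommRingCat.of q.K)))
  haveI : IsFinite t'.left := IsFinite.of_locallyQuasiFinite _
  exact exists_mono_of_finite_kernelPair q V t' s' big.flip

theorem s10409 (X : Sp S) (x : Points X) :
    (∃ p : FieldPt X, Points.mk p = x ∧ Mono p.toHom) ↔
      ∃ q : FieldPt X, Points.mk q = x ∧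
        ∀ (P : Sp S) (fst snd : P ⟶ (yon S).obj q.pt), IsPullback fst snd q.toHom q.toHom →
          RepWith @Etale fst ∧ RepWith @QuasiCompact fst := by
  constructor
  · rintro ⟨p, hp, hm⟩
    refine ⟨p, hp, fun P fst snd sq => ?_⟩
    haveI : IsIso fst := sq.isIso_fst_of_mono
    exact ⟨Groth.Agent.Helper5.SchImg.repWith_of_isIso' @Etale
        (fun Y => (inferInstance : Etale (𝟙 Y))) fst,
      Groth.Agent.Helper5.SchImg.repWith_of_isIso' @QuasiCompact
        (fun Y => (inferInstance : QuasiCompact (𝟙 Y))) fst⟩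
  · rintro ⟨q, hq, h⟩
    obtain ⟨h1, h2⟩ := h _ _ _ (IsPullback.of_hasPullback q.toHom q.toHom)
    obtain ⟨p, c, hm, hc, -⟩ := exists_mono_of_etale_qc_kernelPair q _ _
      (IsPullback.of_hasPullback q.toHom q.toHom) h1 h2
    exact ⟨p, (mk_eq_of_factor p q c hc).trans hq, hm⟩

end Groth.Agent.Helper5.MonoQuot
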