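import Mathlib
import Groth.Prelude.Def_Flatn
import Groth.Prelude.Def_AlgSp

/-!
# Helper5: the functor of relative morphisms `Mor_S(Z, X)` as an fppf sheaf
-/

set_option autoImplicit false
set_option linter.style.haveILetI false
universe u
open CategoryTheory CategoryTheory.Limits AlgebraicGeometry Opposite

namespace Groth.Agent.Helper5.MorGlue

open AlgSp

variable {Z X S : Scheme.{u}}

/-- the endofunctor `T ↦ T ×_S Z` of schemes over `S` -/
noncomputable abbrev bcF (g : Z ⟶ S) : Over S ⥤ Over S := Over.pullback g ⋙ Over.map g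

instance (g : Z ⟶ S) : (bcF g).IsContinuous (J S) (J S) := by
  rw [J_eq]
  exact Functor.isContinuous_comp (Over.pullback g) (Over.map g)
    (Scheme.fppfTopology.over S) (Scheme.fppfTopology.over Z) (Scheme.fppfTopology.over S)

/-- `Mor_S(Z, X)` as an fppf sheaf over `S` -/
noncomputable def morSh (g : Z ⟶ S) (f : X ⟶ S) : Sp S :=
  ⟨Flatn.morS g f ⋙ uliftFunctor.{u + 1}, 
    (bcF g).op_comp_isSheaf (J S) (J S) ((yon S).obj (Over.mk f))⟩

theorem morSh_obj (g : Z ⟶ S) (f : X ⟶ S) :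
    (morSh g f).obj = Flatn.morS g f ⋙ uliftFunctor.{u + 1} := rfl

/-- sections of the sheaf `Mor_S(Z, X)` over `T` -/
noncomputable def sec (g : Z ⟶ S) (f : X ⟶ S) (T : Over S) :
    ((yon S).obj T ⟶ morSh g f) ≃ (Flatn.morS g f).obj (op T) :=
  ((J S).uliftYonedaEquiv.{u + 1}).trans Equiv.ulift

theorem sec_map (g : Z ⟶ S) (f : X ⟶ S) {T T' : Over S} (c : T' ⟶ T)
    (a : (yon S).obj T ⟶ morSh g f) :
    sec g f T' ((yon S).map c ≫ a) = (Flatn.morS g f).map c.op (sec g f T a) := by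
  have h := GrothendieckTopology.uliftYonedaEquiv_naturality (J := J S) a c
  show ((J S).uliftYonedaEquiv ((yon S).map c ≫ a)).down = _
  rw [← h]
  rfl

theorem sec_symm_map (g : Z ⟶ S) (f : X ⟶ S) {T T' : Over S} (c : T' ⟶ T)
    (b : (Flatn.morS g f).obj (op T)) :
    (yon S).map c ≫ (sec g f T).symm b = (sec g f T').symm ((Flatn.morS g f).map c.op b) := by
  apply (sec g f T').injective
  rw [sec_map, Equiv.apply_symm_apply, Equiv.apply_symm_apply]

/-- postcomposition with an `S`-morphism `X' ⟶ X` -/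
noncomputable def post (g : Z ⟶ S) {X' : Scheme.{u}} {f' : X' ⟶ S} {f : X ⟶ S}
    (i : Over.mk f' ⟶ Over.mk f) : morSh g f' ⟶ morSh g f :=
  ObjectProperty.homMk (Functor.whiskerRight (Functor.whiskerLeft (bcF g).op (yoneda.map i)) _)

theorem sec_post (g : Z ⟶ S) {X' : Scheme.{u}} {f' : X' ⟶ S} {f : X ⟶ S}
    (i : Over.mk f' ⟶ Over.mk f) {T : Over S} (a : (yon S).obj T ⟶ morSh g f') :
    sec g f T (a ≫ post g i) = (sec g f' T a : (bcF g).obj T ⟶ Over.mk f') ≫ i := rfl

end Groth.Agent.Helper5.MorGlue
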