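import Mathlib
import Groth.Agent.Helper5.MorGlue1
import Groth.Agent.Helper4.AlgSpOpenImage
import Groth.Agent.Helper4.AlgSpPB

/-!
# Helper5: open subfunctors of `Mor_S(Z, X)` attached to opens of `X` and of `S`
-/

set_option autoImplicit false
set_option linter.style.haveILetI false
set_option linter.unusedSectionVars false
set_option linter.unusedVariables false
universe u
open CategoryTheory CategoryTheory.Limits AlgebraicGeometry Opposite

namespace Groth.Agent.Helper5.MorGlue

open AlgSp Groth.Agent.Helper4.AlgSpOpenImage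

variable {Z X S : Scheme.{u}} (g : Z ⟶ S) (f : X ⟶ S)

/-- base change of an `S`-morphism along `g`, on underlying schemes -/
noncomputable abbrev bcL {T' T : Over S} (τ : T' ⟶ T) : pullback T'.hom g ⟶ pullback T.hom g :=
  ((Over.pullback g).map τ).left

theorem bcL_fst {T' T : Over S} (τ : T' ⟶ T) :
    bcL g τ ≫ pullback.fst T.hom g = pullback.fst T'.hom g ≫ τ.left := by
  simp only [bcL, Over.pullback_map_left]
  exact pullback.lift_fst _ _ _

theorem bcL_snd {T' T : Over S} (τ : T' ⟶ T) :
    bcL g τ ≫ pullback.snd T.hom g = pullback.snd T'.hom g := by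
  simp only [bcL, Over.pullback_map_left]
  exact pullback.lift_snd _ _ _

theorem isPullback_bcL {T' T : Over S} (τ : T' ⟶ T) :
    IsPullback (bcL g τ) (pullback.fst T'.hom g) (pullback.fst T.hom g) τ.left := by
  have big : IsPullback (bcL g τ ≫ pullback.snd T.hom g) (pullback.fst T'.hom g) g
      (τ.left ≫ T.hom) := by
    rw [bcL_snd, Over.w τ]
    exact (IsPullback.of_hasPullback T'.hom g).flip
  exact IsPullback.of_right big (bcL_fst g τ) (IsPullback.of_hasPullback T.hom g).flip

/-- underlying morphism of a pulled back section -/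
theorem map_left {T' T : Over S} (τ : T' ⟶ T) (b : (Flatn.morS g f).obj (op T)) :
    ((Flatn.morS g f).map τ.op b : (bcF g).obj T' ⟶ Over.mk f).left =
      bcL g τ ≫ (b : (bcF g).obj T ⟶ Over.mk f).left := rfl

section Good

variable [IsFinite g] (U : X.Opens)

/-- the open of `T` over which the section `b` has values in `U` -/
noncomputable def goodOpen {T : Over S} (b : (Flatn.morS g f).obj (op T)) : T.left.Opens :=
  ⟨(pullback.fst T.hom g '' ((b : (bcF g).obj T ⟶ Over.mk f).left ⁻¹' (U : Set X))ᶜ)ᶜ, by
    rw [isOpen_compl_iff]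
    exact (pullback.fst T.hom g).isClosedMap _
      ((U.isOpen.preimage (Scheme.Hom.continuous _)).isClosed_compl)⟩

theorem mem_goodOpen {T : Over S} (b : (Flatn.morS g f).obj (op T)) (t : T.left) :
    t ∈ goodOpen g f U b ↔ ∀ z : ↥(pullback T.hom g), pullback.fst T.hom g z = t →
      (b : (bcF g).obj T ⟶ Over.mk f).left z ∈ U := by
  change t ∈ (pullback.fst T.hom g '' _)ᶜ ↔ _
  rw [Set.mem_compl_iff, Set.mem_image]
  constructor
  · intro h z hz
    by_contra hU
    exact h ⟨z, hU, hz⟩
  · rintro h ⟨z, hzU, hz⟩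
    exact hzU (h z hz)

theorem range_subset_iff {T' T : Over S} (τ : T' ⟶ T) (b : (Flatn.morS g f).obj (op T)) :
    (∀ z : ↥(pullback T'.hom g),
      ((Flatn.morS g f).map τ.op b : (bcF g).obj T' ⟶ Over.mk f).left z ∈ U) ↔
      ∀ t' : T'.left, τ.left t' ∈ goodOpen g f U b := by
  constructor
  · intro h t'
    rw [mem_goodOpen]
    intro c hc
    obtain ⟨z, hz1, hz2⟩ := Scheme.exists_preimage_of_isPullback
      (isPullback_bcL g τ) c t' hc
    have := h z
    rw [map_left, Scheme.Hom.comp_apply] at this
    rw [← hz1]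
    exact this
  · intro h z
    rw [map_left, Scheme.Hom.comp_apply]
    have h1 := h (pullback.fst T'.hom g z)
    rw [mem_goodOpen] at h1
    apply h1
    rw [← Scheme.Hom.comp_apply, bcL_fst, Scheme.Hom.comp_apply]

end Good

end Groth.Agent.Helper5.MorGlue
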