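import Mathlib
import Groth.Agent.Helper5.MorGlue2

/-!
# Helper5: local representing objects give representable open subfunctors of `Mor_S(Z, X)`
-/

set_option autoImplicit false
set_option linter.style.haveILetI false
set_option linter.unusedSectionVars false
set_option linter.unusedVariables false
universe u
open CategoryTheory CategoryTheory.Limits AlgebraicGeometry Opposite

namespace Groth.Agent.Helper5.MorGlue

open AlgSp Groth.Agent.Helper4.AlgSpOpenImage

variable {Z X S : Scheme.{u}} (g : Z ⟶ S) (f : X ⟶ S)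

/-- the inclusion of an open of `X`, over `S` -/
noncomputable abbrev inc (U : X.Opens) : Over.mk (U.ι ≫ f) ⟶ Over.mk f := Over.homMk U.ι rfl

instance (U : X.Opens) : Mono (inc f U) := by
  have : Mono ((Over.forget S).map (inc f U)) := by
    show Mono U.ι
    infer_instance
  exact (Over.forget S).mono_of_mono_map this

/-- a section with values in `U` lifts -/
theorem exists_lift_sec (U : X.Opens) {T : Over S} (b : (Flatn.morS g f).obj (op T))
    (h : ∀ z : ↥(pullback T.hom g), (b : (bcF g).obj T ⟶ Over.mk f).left z ∈ U) :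
    ∃ b' : (Flatn.morS g (U.ι ≫ f)).obj (op T),
      (b' : (bcF g).obj T ⟶ Over.mk (U.ι ≫ f)) ≫ inc f U = b := by
  have hr : Set.range (b : (bcF g).obj T ⟶ Over.mk f).left ⊆ Set.range U.ι := by
    rw [Scheme.Opens.range_ι]
    rintro _ ⟨z, rfl⟩
    exact h z
  refine ⟨Over.homMk (IsOpenImmersion.lift U.ι (b : (bcF g).obj T ⟶ Over.mk f).left hr) ?_, ?_⟩
  · show IsOpenImmersion.lift U.ι _ hr ≫ U.ι ≫ f = _
    rw [← Category.assoc, IsOpenImmersion.lift_fac]
    exact Over.w (b : (bcF g).obj T ⟶ Over.mk f)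
  · apply Over.OverMorphism.ext
    show IsOpenImmersion.lift U.ι _ hr ≫ U.ι = _
    exact IsOpenImmersion.lift_fac _ _ _

section Key

variable [IsFinite g] (U : X.Opens) (V : S.Opens) (W : Over S) (w : W.left ⟶ V.toScheme)
  (hw : w ≫ V.ι = W.hom) (ev : (Flatn.morS g (U.ι ≫ f)).obj (op W))
  (bij : ∀ (T : Over S) (t : T.left ⟶ V.toScheme), t ≫ V.ι = T.hom →
    Function.Bijective (fun v : T ⟶ W => (Flatn.morS g (U.ι ≫ f)).map v.op ev))

/-- the morphism from the local representing object to `Mor_S(Z, X)` -/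
noncomputable def phi : (yon S).obj W ⟶ morSh g f :=
  (sec g (U.ι ≫ f) W).symm ev ≫ post g (inc f U)

theorem sec_phi {T : Over S} (v : T ⟶ W) :
    sec g f T ((yon S).map v ≫ phi g f U W ev) =
      ((Flatn.morS g (U.ι ≫ f)).map v.op ev : (bcF g).obj T ⟶ Over.mk (U.ι ≫ f)) ≫ inc f U := by
  unfold phi
  rw [← Category.assoc, sec_post, sec_map, Equiv.apply_symm_apply]

include hw bij in
theorem mono_phi : Mono (phi g f U W ev) := by
  apply Groth.Agent.Helper4.AlgSpBasic.mono_of_yon
  intro T a b h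
  obtain ⟨α, rfl⟩ := (yon S).map_surjective a
  obtain ⟨β, rfl⟩ := (yon S).map_surjective b
  have h1 := congrArg (sec g f T) h
  rw [sec_phi, sec_phi] at h1
  have h2 : ((Flatn.morS g (U.ι ≫ f)).map α.op ev : (bcF g).obj T ⟶ Over.mk (U.ι ≫ f)) =
      (Flatn.morS g (U.ι ≫ f)).map β.op ev := (cancel_mono (inc f U)).1 h1
  have ht : (α.left ≫ w) ≫ V.ι = T.hom := by
    rw [Category.assoc, hw]
    exact Over.w α
  rw [(bij T (α.left ≫ w) ht).injective h2]

include hw bij in
theorem exists_pullback {T : Over S} (ξ : (yon S).obj T ⟶ morSh g f) :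
    ∃ (O : T.left.Opens) (a : (yon S).obj (Over.mk (O.ι ≫ T.hom)) ⟶ (yon S).obj W),
      IsPullback a ((yon S).map (Over.homMk O.ι rfl : Over.mk (O.ι ≫ T.hom) ⟶ T))
        (phi g f U W ev) ξ := by
  let b := sec g f T ξ
  let O : T.left.Opens := (T.hom ⁻¹ᵁ V) ⊓ goodOpen g f U b
  let T₀ : Over S := Over.mk (O.ι ≫ T.hom)
  let t₀ : T₀ ⟶ T := Over.homMk O.ι rfl
  have hb₀ : ∀ z : ↥(pullback T₀.hom g),
      ((Flatn.morS g f).map t₀.op b : (bcF g).obj T₀ ⟶ Over.mk f).left z ∈ U := by
    rw [range_subset_iff]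
    intro t'
    exact (t'.2).2
  obtain ⟨b', hb'⟩ := exists_lift_sec g f U _ hb₀
  have hrV : Set.range (O.ι ≫ T.hom) ⊆ Set.range V.ι := by
    rw [Scheme.Opens.range_ι]
    rintro _ ⟨t', rfl⟩
    exact (t'.2).1
  let tV : T₀.left ⟶ V.toScheme := IsOpenImmersion.lift V.ι (O.ι ≫ T.hom) hrV
  have htV : tV ≫ V.ι = T₀.hom := IsOpenImmersion.lift_fac _ _ _
  obtain ⟨v₀, hv₀⟩ := (bij T₀ tV htV).surjective b'
  have comm : (yon S).map v₀ ≫ phi g f U W ev = (yon S).map t₀ ≫ ξ := by
    apply (sec g f T₀).injective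
    rw [sec_phi, sec_map]
    have hv₀' : (Flatn.morS g (U.ι ≫ f)).map v₀.op ev = b' := hv₀
    rw [hv₀']
    exact hb'
  refine ⟨O, (yon S).map v₀, ⟨⟨comm⟩, ⟨?_⟩⟩⟩
  haveI := mono_phi g f U V W w hw ev bij
  haveI : Mono t₀ := by
    have : Mono ((Over.forget S).map t₀) := by
      show Mono O.ι
      infer_instance
    exact (Over.forget S).mono_of_mono_map this
  haveI := mono_yon_map t₀
  have hlift : ∀ c : PullbackCone (phi g f U W ev) ξ,
      ∃ l : c.pt ⟶ (yon S).obj T₀, l ≫ (yon S).map t₀ = c.snd := by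
    intro c
    refine exists_lift_of_mono ((yon S).map t₀) c.snd fun T' s => ?_
    obtain ⟨τ, hτ⟩ := (yon S).map_surjective (s ≫ c.snd)
    obtain ⟨ω, hω⟩ := (yon S).map_surjective (s ≫ c.fst)
    have hcond : (yon S).map ω ≫ phi g f U W ev = (yon S).map τ ≫ ξ := by
      rw [hω, hτ, Category.assoc, Category.assoc, c.condition]
    have h1 := congrArg (sec g f T') hcond
    rw [sec_phi, sec_map] at h1
    have hrange : ∀ t' : T'.left, τ.left t' ∈ O := by
      intro t'
      refine ⟨?_, ?_⟩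
      · show T.hom (τ.left t') ∈ V
        have e : τ.left ≫ T.hom = (ω.left ≫ w) ≫ V.ι := by
          rw [Category.assoc, hw, Over.w τ, Over.w ω]
        rw [← Scheme.Hom.comp_apply, e, Scheme.Hom.comp_apply]
        exact ((ω.left ≫ w) t').2
      · refine (range_subset_iff g f U τ b).1 ?_ t'
        intro z
        have h1' := congrArg (fun m : (bcF g).obj T' ⟶ Over.mk f => m.left z) h1
        simp only at h1'
        rw [← h1']
        show (_ ≫ U.ι) z ∈ U
        rw [Scheme.Hom.comp_apply]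
        exact (_ : U).2
    obtain ⟨τ₀, hτ₀⟩ := exists_factor_opens O τ hrange
    exact ⟨(yon S).map τ₀, by rw [← Functor.map_comp, hτ₀, hτ]⟩
  choose l hl using hlift
  refine PullbackCone.IsLimit.mk _ l ?_ hl ?_
  · intro c
    rw [← cancel_mono (phi g f U W ev), Category.assoc, comm, ← Category.assoc, hl, c.condition]
  · intro c m _ h2
    rw [← cancel_mono ((yon S).map t₀), h2, hl]

include hw bij in
theorem repWith_phi : RepWith @IsOpenImmersion (phi g f U W ev) := by
  refine MorphismProperty.relative.of_exists fun T ξ => ?_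
  obtain ⟨O, a, sq⟩ := exists_pullback g f U V W w hw ev bij ξ
  exact ⟨_, a, _, sq, (inferInstance : IsOpenImmersion O.ι)⟩

include hw bij in
theorem mem_range_points (p : FieldPt (morSh g f))
    (hV : p.str (IsLocalRing.closedPoint p.K) ∈ V)
    (hU : ∀ z : ↥(pullback p.str g),
      (ULift.down p.val : (bcF g).obj p.pt ⟶ Over.mk f).left z ∈ U) :
    Points.mk p ∈ Set.range (Points.map (phi g f U W ev)) := by
  obtain ⟨K, str, val⟩ := p
  let T : Over S := Over.mk str
  have hrV : Set.range str ⊆ Set.range V.ι := by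
    rw [Scheme.Opens.range_ι]
    rintro _ ⟨y, rfl⟩
    rw [show y = IsLocalRing.closedPoint K from Subsingleton.elim _ _]
    exact hV
  let tV : T.left ⟶ V.toScheme := IsOpenImmersion.lift V.ι str hrV
  have htV : tV ≫ V.ι = T.hom := IsOpenImmersion.lift_fac _ _ _
  obtain ⟨b', hb'⟩ := exists_lift_sec g f U (T := T) (ULift.down val) hU
  obtain ⟨v, hv⟩ := (bij T tV htV).surjective b'
  have hv' : (Flatn.morS g (U.ι ≫ f)).map v.op ev = b' := hv
  refine ⟨Points.mk ⟨K, str, ⟨v⟩⟩, ?_⟩
  rw [Points.map_mk]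
  have e1 : sec g f T ((yon S).map v ≫ phi g f U W ev) = ULift.down val := by
    rw [sec_phi, hv']
    exact hb'
  have e2 : (phi g f U W ev).hom.app (op T) ⟨v⟩ = val := by
    apply ULift.ext
    rw [← e1]
    show _ = ((J S).uliftYonedaEquiv ((yon S).map v ≫ phi g f U W ev)).down
    rw [GrothendieckTopology.uliftYonedaEquiv_comp,
      GrothendieckTopology.uliftYonedaEquiv_uliftYoneda_map]
  show Points.mk (⟨K, str, (phi g f U W ev).hom.app (op T) ⟨v⟩⟩ : FieldPt (morSh g f)) = _
  rw [e2]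

end Key

end Groth.Agent.Helper5.MorGlue
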