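import Mathlib
import Groth.Agent.Helper5.MorGlue3
import Groth.Agent.Helper5.QfSch6
import Groth.Agent.Helper8.WeilGlue5
import Groth.Prelude.Def_Mor2

/-!
# Helper5: local representing objects for `Mor_S(Z, U)`, `U` affine over an affine open of `S`
-/

set_option autoImplicit false
set_option linter.style.haveILetI false
set_option linter.unusedSectionVars false
set_option linter.unusedVariables false
universe u
open CategoryTheory CategoryTheory.Limits AlgebraicGeometry Opposite TopologicalSpace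

namespace Groth.Agent.Helper5.MorGlue

open AlgSp

/-- a finite set of points of an affine open `A` lying in an open `O` lies in an affine open
contained in `O` -/
theorem exists_affineOpen_le_of_finite {X : Scheme.{u}} (A : X.Opens) (hA : IsAffineOpen A)
    (O : X.Opens) (F : Set X) (hF : F.Finite) (hFA : F ⊆ A) (hFO : F ⊆ O) :
    ∃ U : X.Opens, IsAffineOpen U ∧ U ≤ O ∧ F ⊆ U := by
  classical
  have hch : ∀ x : X, ∃ W : X.Opens, IsAffineOpen W ∧ (x ∈ F → x ∈ W ∧ W ≤ A ⊓ O) := fun x => by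
    by_cases hx : x ∈ F
    · obtain ⟨_, ⟨W, hW, rfl⟩, hxW, hWO⟩ :=
        X.isBasis_affineOpens.exists_subset_of_mem_open
          (show x ∈ ((A ⊓ O : X.Opens) : Set X) from ⟨hFA hx, hFO hx⟩) (A ⊓ O).isOpen
      exact ⟨W, hW, fun _ => ⟨hxW, hWO⟩⟩
    · exact ⟨⊥, isAffineOpen_bot X, fun h => (hx h).elim⟩
  choose W hW hxW using hch
  let N₁ : X.Opens := ⨆ x ∈ hF.toFinset, W x
  have hcpt : IsCompact (N₁ : Set X) := by
    have : (N₁ : Set X) = ⋃ x ∈ hF.toFinset, (W x : Set X) := by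
      simp [N₁]
    rw [this]
    exact hF.toFinset.isCompact_biUnion fun x _ => (hW x).isCompact
  have hFN : F ⊆ N₁ := by
    intro x hx
    have : x ∈ ⨆ x ∈ hF.toFinset, W x := by
      simp only [Opens.mem_iSup]
      exact ⟨x, hF.mem_toFinset.2 hx, (hxW x hx).1⟩
    exact this
  have hN₁ : N₁ ≤ A ⊓ O := by
    refine iSup₂_le fun x hx => ?_
    exact (hxW x (hF.mem_toFinset.1 hx)).2
  haveI : CompactSpace N₁ := isCompact_iff_compactSpace.mp hcpt
  haveI : IsAffine A.toScheme := hA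
  haveI : N₁.toScheme.IsQuasiAffine :=
    Scheme.IsQuasiAffine.of_isImmersion (X.homOfLE (hN₁.trans inf_le_left))
  obtain ⟨r, hr, hFr⟩ := QfSch.exists_affine_basicOpen_of_finite N₁.toScheme (N₁.ι ⁻¹' F)
    (hF.preimage (N₁.ι.isOpenEmbedding.injective.injOn))
  refine ⟨N₁.ι ''ᵁ (N₁.toScheme.basicOpen r), hr.image_of_isOpenImmersion N₁.ι, ?_, ?_⟩
  · rintro _ ⟨y, -, rfl⟩
    exact (hN₁ y.2).2
  · intro x hx
    exact ⟨⟨x, hFN hx⟩, hFr (show N₁.ι ⟨x, hFN hx⟩ ∈ F from hx), rfl⟩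

variable {Z X S : Scheme.{u}}

open Groth.Agent.Helper8.WeilRes in
/-- local representing objects -/
theorem exists_local (g : Z ⟶ S) (f : X ⟶ S) (hg : Mor2.IsFinLocFree g) (V : S.Opens)
    (hV : IsAffineOpen V) (U : X.Opens) (hU : IsAffineOpen U) (hUV : U ≤ f ⁻¹ᵁ V) :
    ∃ (W : Over S) (w : W.left ⟶ V.toScheme) (_ : w ≫ V.ι = W.hom)
      (ev : (Flatn.morS g (U.ι ≫ f)).obj (op W)),
      ∀ (T : Over S) (t : T.left ⟶ V.toScheme), t ≫ V.ι = T.hom →
        Function.Bijective (fun v : T ⟶ W => (Flatn.morS g (U.ι ≫ f)).map v.op ev) := by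
  have hrange : Set.range (U.ι ≫ f) ⊆ Set.range V.ι := by
    rw [Scheme.Opens.range_ι]
    rintro _ ⟨y, rfl⟩
    exact hUV y.2
  let f' : U.toScheme ⟶ V.toScheme := IsOpenImmersion.lift V.ι (U.ι ≫ f) hrange
  have hf' : f' ≫ V.ι = U.ι ≫ f := IsOpenImmersion.lift_fac _ _ _
  haveI : IsAffine U.toScheme := hU
  haveI : IsAffine V.toScheme := hV
  haveI : IsAffineHom f' := inferInstance
  have hZ := isPullback_morphismRestrict g V
  obtain ⟨h1, h2, h3⟩ := hg
  have hg' : Mor2.IsFinLocFree (g ∣_ V) :=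
    ⟨MorphismProperty.of_isPullback hZ.flip h1, MorphismProperty.of_isPullback hZ.flip h2,
      MorphismProperty.of_isPullback hZ.flip h3⟩
  obtain ⟨W', -, ⟨R'⟩⟩ := main_global (g ∣_ V) f' hg'
  have hX : IsPullback f' (𝟙 U.toScheme) V.ι (U.ι ≫ f) := by
    have h := (Groth.Agent.Helper4.AlgSpPB.isPullback_of_mono f' V.ι).flip
    rwa [hf'] at h
  obtain ⟨ev, hbij⟩ := repOn_of_representableBy hZ hX W' R'
  exact ⟨Over.mk (W'.hom ≫ V.ι), W'.hom, rfl, ev, hbij⟩

end Groth.Agent.Helper5.MorGlue
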