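import Mathlib
import Groth.Agent.Helper5.MorGlue4
import Groth.Agent.Helper5.ZarGlue8

/-!
# Helper5: `Mor_S(Z, X)` is representable for `Z` finite locally free and `X` with the AF property
-/

set_option autoImplicit false
set_option linter.style.haveILetI false
set_option linter.unusedSectionVars false
set_option linter.unusedVariables false
universe u
open CategoryTheory CategoryTheory.Limits AlgebraicGeometry Opposite TopologicalSpace

namespace Groth.Agent.Helper5.MorGlue

open AlgSp

variable {Z X S : Scheme.{u}} (g : Z ⟶ S) (f : X ⟶ S)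

/-- an isomorphism `h_W ≅ Mor_S(Z, X)` of sheaves gives a representing object -/
noncomputable def repBy (W₀ : Over S) (e : (yon S).obj W₀ ≅ morSh g f) :
    (Flatn.morS g f).RepresentableBy W₀ where
  homEquiv {T} := ((Functor.FullyFaithful.ofFullyFaithful (yon S)).homEquiv.trans
    e.homToEquiv).trans (sec g f T)
  homEquiv_comp {T T'} c v := by
    show sec g f T ((yon S).map (c ≫ v) ≫ e.hom) = _
    rw [Functor.map_comp, Category.assoc, sec_map]
    rfl

theorem s7195 (hg : Mor2.IsFinLocFree g)
    (hAF : ∀ (s : S) (d : ℕ) (x : Fin d → ↥X), (∀ k, f (x k) = s) →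
      ∃ U : X.Opens, IsAffineOpen U ∧ ∀ k, x k ∈ U) :
    (Flatn.morS g f).IsRepresentable := by
  haveI : IsFinite g := hg.1
  let ι : Type u := Σ V : S.affineOpens,
    {U : X.affineOpens // (U : X.Opens) ≤ f ⁻¹ᵁ (V : S.Opens)}
  choose W w hw ev bij using fun i : ι =>
    exists_local g f hg i.1.1 i.1.2 i.2.1.1 i.2.1.2 i.2.2
  have hcov : ∀ x : Points (morSh g f), ∃ i : ι, x ∈ Set.range
      (Points.map (phi g f (i.2.1 : X.Opens) (W i) (ev i))) := by
    intro x
    induction x using Points.ind with
    | h p =>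
      let b : (bcF g).obj p.pt ⟶ Over.mk f := ULift.down p.val
      let bl : pullback p.str g ⟶ X := b.left
      let s : S := p.str (IsLocalRing.closedPoint p.K)
      have hfb : ∀ z : ↥(pullback p.str g), f (bl z) = s := by
        intro z
        have e1 : bl ≫ f = pullback.fst p.str g ≫ p.str := by
          rw [pullback.condition]
          exact Over.w b
        rw [← Scheme.Hom.comp_apply, e1, Scheme.Hom.comp_apply]
        congr 1
        exact Subsingleton.elim _ _
      haveI : Finite ↥(pullback p.str g) := by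
        have h := (pullback.fst p.str g).finite_preimage_singleton (IsLocalRing.closedPoint p.K)
        exact Set.finite_univ_iff.1 (h.subset fun z _ => Subsingleton.elim _ _)
      let e := Finite.equivFin ↥(pullback p.str g)
      obtain ⟨A, hA, hxA⟩ := hAF s _ (fun k => bl (e.symm k)) (fun k => hfb _)
      obtain ⟨_, ⟨V₀, hV₀, rfl⟩, hsV, -⟩ :=
        S.isBasis_affineOpens.exists_subset_of_mem_open (Set.mem_univ s) isOpen_univ
      have hFA : Set.range bl ⊆ (A : Set X) := by
        rintro _ ⟨z, rfl⟩
        have := hxA (e z)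
        rwa [Equiv.symm_apply_apply] at this
      have hFO : Set.range bl ⊆ ((f ⁻¹ᵁ V₀ : X.Opens) : Set X) := by
        rintro _ ⟨z, rfl⟩
        show f (bl z) ∈ V₀
        rw [hfb]
        exact hsV
      obtain ⟨U, hU, hUO, hFU⟩ := exists_affineOpen_le_of_finite A hA (f ⁻¹ᵁ V₀)
        (Set.range bl) (Set.finite_range _) hFA hFO
      let i : ι := ⟨⟨V₀, hV₀⟩, ⟨⟨U, hU⟩, hUO⟩⟩
      exact ⟨i, mem_range_points g f U V₀ (W i) (w i) (hw i) (ev i) (bij i) p hsV
        (fun z => hFU ⟨z, rfl⟩)⟩
  obtain ⟨W₀, e, -⟩ := ZarGlue.exists_glue_of_points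
    (fun i : ι => phi g f (i.2.1 : X.Opens) (W i) (ev i))
    (fun i => repWith_phi g f _ _ (W i) (w i) (hw i) (ev i) (bij i)) hcov
  exact (repBy g f W₀ e).isRepresentable

end Groth.Agent.Helper5.MorGlue
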