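import Mathlib
import Groth.Agent.Helper5.MorGlue5

/-!
# Helper5: `Mor_S(Z, X)` is representable for `Z` finite locally free and `X ⟶ S` separated,
locally quasi-finite and locally of finite type
-/

set_option autoImplicit false
set_option linter.style.haveILetI false
set_option linter.unusedSectionVars false
set_option linter.unusedVariables false
universe u
open CategoryTheory CategoryTheory.Limits AlgebraicGeometry Opposite TopologicalSpace

namespace Groth.Agent.Helper5.MorGlue

variable {Z X S : Scheme.{u}} (g : Z ⟶ S) (f : X ⟶ S)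

theorem s7196 (hg : Mor2.IsFinLocFree g) [IsSeparated f] [LocallyQuasiFinite f]
    [LocallyOfFiniteType f] : (Flatn.morS g f).IsRepresentable := by
  refine s7195 g f hg fun s d x hx => ?_
  obtain ⟨_, ⟨V₁, hV₁, rfl⟩, hsV, -⟩ :=
    S.isBasis_affineOpens.exists_subset_of_mem_open (Set.mem_univ s) isOpen_univ
  obtain ⟨V₀, hV₀⟩ : ∃ V₀ : S.Opens, V₀ = V₁ := ⟨V₁, rfl⟩
  subst hV₀
  have hV₀ : IsAffineOpen V₀ := hV₁
  let N : X.Opens := f ⁻¹ᵁ V₀
  let n₀ : N.toScheme ⟶ V₀.toScheme := f ∣_ V₀
  haveI : IsAffine V₀.toScheme := hV₀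
  have sq := (isPullback_morphismRestrict f V₀).flip
  haveI : IsSeparated n₀ := MorphismProperty.of_isPullback sq (inferInstance : IsSeparated f)
  haveI : LocallyQuasiFinite n₀ :=
    MorphismProperty.of_isPullback sq (inferInstance : LocallyQuasiFinite f)
  haveI : LocallyOfFiniteType n₀ :=
    MorphismProperty.of_isPullback sq (inferInstance : LocallyOfFiniteType f)
  have hxN : ∀ k, x k ∈ N := fun k => by
    show f (x k) ∈ V₀
    rw [hx]
    exact hsV
  obtain ⟨O, hO, hFO⟩ := QfSch.exists_affineOpen_of_finite n₀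
    (Set.range fun k => (⟨x k, hxN k⟩ : N)) (Set.finite_range _)
  exact ⟨N.ι ''ᵁ O, hO.image_of_isOpenImmersion N.ι, fun k => ⟨⟨x k, hxN k⟩, hFO ⟨k, rfl⟩, rfl⟩⟩

end Groth.Agent.Helper5.MorGlue
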