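import Mathlib

set_option autoImplicit false
set_option linter.style.haveILetI false

namespace Groth.Agent.Helper5.NNorm

open MvPolynomial TensorProduct

universe u

/-- Clearing denominators top and bottom. -/
theorem exists_smul_isIntegral {P P' S S' : Type*} [CommRing P] [CommRing P'] [CommRing S] [CommRing S']
    [Algebra P P'] [Algebra P S] [Algebra S S'] [Algebra P' S'] [Algebra P S']
    [IsScalarTower P P' S'] [IsScalarTower P S S'] (N : Submonoid P) [IsLocalization N P']
    [IsLocalization (Algebra.algebraMapSubmonoid S N) S'] (x : S)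
    (hx : IsIntegral P' (algebraMap S S' x)) : ∃ m ∈ N, IsIntegral P (m • x) := by
  obtain ⟨m₁, hm₁⟩ := IsIntegral.exists_multiple_integral_of_isLocalization N _ hx
  have e : m₁ • algebraMap S S' x = algebraMap S S' ((m₁ : P) • x) := by
    rw [Submonoid.smul_def, Algebra.smul_def, Algebra.smul_def, map_mul,
      ← IsScalarTower.algebraMap_apply P S S']
  rw [e] at hm₁
  obtain ⟨m₂, hm₂, h2⟩ := IsLocalization.exists_isIntegral_smul_of_isIntegral_map N hm₁
  refine ⟨m₂ * m₁, N.mul_mem hm₂ m₁.2, ?_⟩
  rwa [mul_smul]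

/-- scaling automorphism is injective and surjective -/
theorem scale_bij {K : Type*} [Field K] (d : ℕ) (r : K) (hr : r ≠ 0) :
    Function.Bijective (aeval (fun i : Fin d => C r * X i) : MvPolynomial (Fin d) K →ₐ[K] MvPolynomial (Fin d) K) := by
  have h1 : ((aeval (fun i : Fin d => C r⁻¹ * X i) : MvPolynomial (Fin d) K →ₐ[K] MvPolynomial (Fin d) K).comp
      (aeval (fun i : Fin d => C r * X i))) = AlgHom.id K _ := by
    apply MvPolynomial.algHom_ext
    intro i
    simp only [AlgHom.comp_apply, aeval_X, map_mul, aeval_C, algebraMap_eq, AlgHom.id_apply]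
    rw [← mul_assoc, ← C_mul, mul_inv_cancel₀ hr, C_1, one_mul]
  have h2 : ((aeval (fun i : Fin d => C r * X i) : MvPolynomial (Fin d) K →ₐ[K] MvPolynomial (Fin d) K).comp
      (aeval (fun i : Fin d => C r⁻¹ * X i))) = AlgHom.id K _ := by
    apply MvPolynomial.algHom_ext
    intro i
    simp only [AlgHom.comp_apply, aeval_X, map_mul, aeval_C, algebraMap_eq, AlgHom.id_apply]
    rw [← mul_assoc, ← C_mul, inv_mul_cancel₀ hr, C_1, one_mul]
  refine ⟨?_, ?_⟩
  · intro a b hab
    have := congrArg (aeval (fun i : Fin d => C r⁻¹ * X i) : MvPolynomial (Fin d) K →ₐ[K] MvPolynomial (Fin d) K) hab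
    rw [← AlgHom.comp_apply, ← AlgHom.comp_apply, h1] at this
    simpa using this
  · intro a
    refine ⟨aeval (fun i : Fin d => C r⁻¹ * X i) a, ?_⟩
    rw [← AlgHom.comp_apply, h2]; rfl

attribute [local instance] Algebra.TensorProduct.rightAlgebra in
/-- Step 1: a normalized Noether normalization of the generic fibre. -/
theorem step1 {R S : Type u} [CommRing R] [IsDomain R] [CommRing S] [Algebra R S]
    [Algebra.FiniteType R S] (hinj : Function.Injective (algebraMap R S)) :
    ∃ (d : ℕ) (y : Fin d → S) (g : MvPolynomial (Fin d) (FractionRing R) →ₐ[FractionRing R] (FractionRing R ⊗[R] S)),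
      Function.Injective g ∧ g.toRingHom.IsIntegral ∧
      ∀ i, g (X i) = algebraMap S (FractionRing R ⊗[R] S) (y i) := by
  classical
  haveI : IsLocalization (Algebra.algebraMapSubmonoid S (nonZeroDivisors R)) (FractionRing R ⊗[R] S) :=
    IsLocalization.tensorRight (FractionRing R) (nonZeroDivisors R)
  haveI : Nontrivial (FractionRing R ⊗[R] S) := by
    refine ⟨⟨1, 0, fun h => ?_⟩⟩
    have h' : algebraMap S (FractionRing R ⊗[R] S) 1 = 0 := by rw [map_one]; exact h
    rw [IsLocalization.map_eq_zero_iff (Algebra.algebraMapSubmonoid S (nonZeroDivisors R))] at h'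
    obtain ⟨⟨_, r, hr, rfl⟩, hm⟩ := h'
    simp only [mul_one] at hm
    rw [← map_zero (algebraMap R S)] at hm
    exact nonZeroDivisors.ne_zero hr (hinj hm)
  obtain ⟨d, g, hg, hgi⟩ := exists_integral_inj_algHom_of_fg (FractionRing R) (FractionRing R ⊗[R] S)
  obtain ⟨⟨_, r, hr, rfl⟩, hb⟩ := IsLocalization.exist_integer_multiples_of_finite
    (Algebra.algebraMapSubmonoid S (nonZeroDivisors R)) (fun i : Fin d => g (X i))
  choose y hy using hb
  have hr0 : algebraMap R (FractionRing R) r ≠ 0 := by
    intro h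
    exact nonZeroDivisors.ne_zero hr ((IsFractionRing.injective R (FractionRing R)) (by rw [h, map_zero]))
  obtain ⟨hφi, hφs⟩ := scale_bij d (algebraMap R (FractionRing R) r) hr0
  refine ⟨d, y, g.comp (aeval (fun i : Fin d => C (algebraMap R (FractionRing R) r) * X i)), ?_, ?_, ?_⟩
  · rw [AlgHom.coe_comp]; exact hg.comp hφi
  · have : (g.comp (aeval (fun i : Fin d => C (algebraMap R (FractionRing R) r) * X i))).toRingHom =
        g.toRingHom.comp (aeval (fun i : Fin d => C (algebraMap R (FractionRing R) r) * X i)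
          : MvPolynomial (Fin d) (FractionRing R) →ₐ[FractionRing R] _).toRingHom := rfl
    rw [this]
    exact RingHom.IsIntegral.trans _ _ (RingHom.isIntegral_of_surjective _ hφs) hgi
  · intro i
    rw [AlgHom.comp_apply, aeval_X, map_mul, ← algebraMap_eq, AlgHom.commutes, hy i]
    simp only [Algebra.smul_def]
    congr 1
    rw [← IsScalarTower.algebraMap_apply, ← IsScalarTower.algebraMap_apply]

attribute [local instance] Algebra.TensorProduct.rightAlgebra in
/-- Step 2: every element of `S` has a multiple by a nonzero element of `R` that is integral over `R[y]`. -/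
theorem step2 {R S : Type u} [CommRing R] [IsDomain R] [CommRing S] [Algebra R S]
    (d : ℕ) (y : Fin d → S) (g : MvPolynomial (Fin d) (FractionRing R) →ₐ[FractionRing R] (FractionRing R ⊗[R] S))
    (hgi : g.toRingHom.IsIntegral)
    (hgy : ∀ i, g (X i) = algebraMap S (FractionRing R ⊗[R] S) (y i)) (s : S) :
    ∃ c ∈ nonZeroDivisors R, IsIntegral (Algebra.adjoin R (Set.range y)) (c • s) := by
  classical
  haveI : IsLocalization (Algebra.algebraMapSubmonoid S (nonZeroDivisors R)) (FractionRing R ⊗[R] S) :=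
    IsLocalization.tensorRight (FractionRing R) (nonZeroDivisors R)
  have key : (g.toRingHom.comp (MvPolynomial.map (algebraMap R (FractionRing R)))) =
      (algebraMap S (FractionRing R ⊗[R] S)).comp (aeval y : MvPolynomial (Fin d) R →ₐ[R] S).toRingHom := by
    apply MvPolynomial.ringHom_ext
    · intro r
      simp only [RingHom.comp_apply, map_C, AlgHom.toRingHom_eq_coe, RingHom.coe_coe, algHom_C]
      rw [← IsScalarTower.algebraMap_apply, ← IsScalarTower.algebraMap_apply]
    · intro i
      simp only [RingHom.comp_apply, map_X, AlgHom.toRingHom_eq_coe, RingHom.coe_coe, aeval_X]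
      exact hgy i
  letI : Algebra (MvPolynomial (Fin d) R) (MvPolynomial (Fin d) (FractionRing R)) :=
    MvPolynomial.algebraMvPolynomial
  haveI : IsLocalization ((nonZeroDivisors R).map (C (σ := Fin d))) (MvPolynomial (Fin d) (FractionRing R)) :=
    MvPolynomial.isLocalization (nonZeroDivisors R) (FractionRing R)
  letI a1 : Algebra (MvPolynomial (Fin d) R) S := (aeval y : MvPolynomial (Fin d) R →ₐ[R] S).toRingHom.toAlgebra
  letI a2 : Algebra (MvPolynomial (Fin d) (FractionRing R)) (FractionRing R ⊗[R] S) := g.toRingHom.toAlgebra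
  letI a3 : Algebra (MvPolynomial (Fin d) R) (FractionRing R ⊗[R] S) :=
    (g.toRingHom.comp (MvPolynomial.map (algebraMap R (FractionRing R)))).toAlgebra
  haveI : IsScalarTower (MvPolynomial (Fin d) R) (MvPolynomial (Fin d) (FractionRing R)) (FractionRing R ⊗[R] S) :=
    IsScalarTower.of_algebraMap_eq (fun _ => rfl)
  haveI : IsScalarTower (MvPolynomial (Fin d) R) S (FractionRing R ⊗[R] S) :=
    IsScalarTower.of_algebraMap_eq (fun p => RingHom.congr_fun key p)
  haveI : IsLocalization (Algebra.algebraMapSubmonoid S ((nonZeroDivisors R).map (C (σ := Fin d))))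
      (FractionRing R ⊗[R] S) := by
    have : Algebra.algebraMapSubmonoid S ((nonZeroDivisors R).map (C (σ := Fin d))) =
        Algebra.algebraMapSubmonoid S (nonZeroDivisors R) := by
      ext x
      simp only [Algebra.algebraMapSubmonoid, Submonoid.mem_map]
      constructor
      · rintro ⟨_, ⟨r, hr, rfl⟩, rfl⟩
        exact ⟨r, hr, (aeval_C y r).symm⟩
      · rintro ⟨r, hr, rfl⟩
        exact ⟨C r, ⟨r, hr, rfl⟩, aeval_C y r⟩
    rw [this]; infer_instance
  have hx : IsIntegral (MvPolynomial (Fin d) (FractionRing R)) (algebraMap S (FractionRing R ⊗[R] S) s) :=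
    hgi _
  obtain ⟨m, ⟨c, hc, rfl⟩, hm⟩ := exists_smul_isIntegral ((nonZeroDivisors R).map (C (σ := Fin d))) s hx
  refine ⟨c, hc, ?_⟩
  have e : (C c : MvPolynomial (Fin d) R) • s = c • s := by
    rw [Algebra.smul_def, Algebra.smul_def]
    change aeval y (C c) * s = _
    rw [aeval_C]
  have hm' : IsIntegral (MvPolynomial (Fin d) R) (c • s) := by rw [← e]; exact hm
  obtain ⟨q, hq, hq0⟩ := hm'
  let φ : MvPolynomial (Fin d) R →ₐ[R] Algebra.adjoin R (Set.range y) :=
    (aeval y : MvPolynomial (Fin d) R →ₐ[R] S).codRestrict _ (fun p => by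
      rw [Algebra.adjoin_range_eq_range_aeval]; exact ⟨p, rfl⟩)
  refine ⟨q.map φ.toRingHom, hq.map _, ?_⟩
  rw [Polynomial.eval₂_map]
  exact hq0

attribute [local instance] Algebra.TensorProduct.rightAlgebra in
theorem main {R S : Type u} [CommRing R] [IsDomain R] [CommRing S] [Algebra R S]
    [Algebra.FiniteType R S] (hinj : Function.Injective (algebraMap R S)) :
    ∃ (d : ℕ) (y : Fin d → S) (S' : Subalgebra R S), AlgebraicIndependent R y ∧ (∀ i, y i ∈ S') ∧ S'.FG ∧
      (∀ s ∈ S', IsIntegral (Algebra.adjoin R (Set.range y)) s) ∧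
      ∃ f : R, f ≠ 0 ∧ ∀ s : S, ∃ n : ℕ, (f ^ n) • s ∈ S' := by
  classical
  obtain ⟨d, y, g, hg, hgi, hgy⟩ := step1 hinj
  obtain ⟨t, ht⟩ := (Algebra.FiniteType.out : (⊤ : Subalgebra R S).FG)
  choose c hc hci using fun s => step2 d y g hgi hgy s
  set h : R := ∏ s ∈ t, c s with hh
  have hhM : h ∈ nonZeroDivisors R := Submonoid.prod_mem _ (fun s _ => hc s)
  have hint : ∀ s ∈ t, IsIntegral (Algebra.adjoin R (Set.range y)) (h • s) := by
    intro s hs
    have e : h • s = (algebraMap R (Algebra.adjoin R (Set.range y)) (∏ s' ∈ t.erase s, c s')) • (c s • s) := by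
      rw [hh, ← Finset.mul_prod_erase t c hs, mul_comm, mul_smul, algebraMap_smul]
    rw [e]
    exact (hci s).smul _
  have hyA : ∀ i, IsIntegral (Algebra.adjoin R (Set.range y)) (y i) := by
    intro i
    exact isIntegral_algebraMap (x := (⟨y i, Algebra.subset_adjoin ⟨i, rfl⟩⟩ : Algebra.adjoin R (Set.range y)))
  refine ⟨d, y, Algebra.adjoin R (Set.range y ∪ (fun s => h • s) '' (t : Set S)), ?_, ?_, ?_, ?_, h,
    nonZeroDivisors.ne_zero hhM, ?_⟩
  · -- algebraic independence
    have h1 : AlgebraicIndependent (FractionRing R) (g ∘ (X : Fin d → MvPolynomial (Fin d) (FractionRing R))) :=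
      (MvPolynomial.algebraicIndependent_X (Fin d) (FractionRing R)).map' hg
    have h2 : AlgebraicIndependent R (g ∘ (X : Fin d → MvPolynomial (Fin d) (FractionRing R))) :=
      h1.restrictScalars (IsFractionRing.injective R (FractionRing R))
    have h3 : (g ∘ (X : Fin d → MvPolynomial (Fin d) (FractionRing R))) =
        (IsScalarTower.toAlgHom R S (FractionRing R ⊗[R] S)) ∘ y := by
      funext i
      exact hgy i
    rw [h3] at h2
    exact h2.of_comp _
  · intro i
    exact Algebra.subset_adjoin (Or.inl ⟨i, rfl⟩)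
  · refine ⟨(Set.finite_range y).toFinset ∪ t.image (fun s => h • s), ?_⟩
    congr 1
    ext x
    simp
  · intro s hs
    have hle : Algebra.adjoin R (Set.range y ∪ (fun s => h • s) '' (t : Set S)) ≤
        (integralClosure (Algebra.adjoin R (Set.range y)) S).restrictScalars R := by
      apply Algebra.adjoin_le
      rintro x (⟨i, rfl⟩ | ⟨s, hs, rfl⟩)
      · exact hyA i
      · exact hint s hs
    exact hle hs
  · intro s
    have hs : s ∈ Algebra.adjoin R (t : Set S) := by rw [ht]; trivial
    induction hs using Algebra.adjoin_induction with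
    | mem x hx =>
      exact ⟨1, by rw [pow_one]; exact Algebra.subset_adjoin (Or.inr ⟨x, hx, rfl⟩)⟩
    | algebraMap r =>
      exact ⟨0, by rw [pow_zero, one_smul]; exact Subalgebra.algebraMap_mem _ r⟩
    | add a b _ _ iha ihb =>
      obtain ⟨n₁, h₁⟩ := iha
      obtain ⟨n₂, h₂⟩ := ihb
      refine ⟨n₁ + n₂, ?_⟩
      have : h ^ (n₁ + n₂) • (a + b) = h ^ n₂ • (h ^ n₁ • a) + h ^ n₁ • (h ^ n₂ • b) := by
        rw [smul_add, pow_add, mul_smul, mul_smul, smul_comm (h ^ n₁) (h ^ n₂) a]
      rw [this]
      exact Subalgebra.add_mem _ (Subalgebra.smul_mem _ h₁ _) (Subalgebra.smul_mem _ h₂ _)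
    | mul a b _ _ iha ihb =>
      obtain ⟨n₁, h₁⟩ := iha
      obtain ⟨n₂, h₂⟩ := ihb
      refine ⟨n₁ + n₂, ?_⟩
      have : h ^ (n₁ + n₂) • (a * b) = (h ^ n₁ • a) * (h ^ n₂ • b) := by
        rw [smul_mul_smul_comm, pow_add]
      rw [this]
      exact Subalgebra.mul_mem _ h₁ h₂

end Groth.Agent.Helper5.NNorm
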