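import Mathlib
import Groth.Agent.Helper5.FibDim

set_option autoImplicit false
set_option linter.style.haveILetI false
set_option linter.unusedSectionVars false
set_option linter.deprecated false
universe u
open CategoryTheory CategoryTheory.Limits AlgebraicGeometry TopologicalSpace Topology

namespace Groth.Agent.Helper5.NNorm

variable (k : Type u) [Field k]

/-- the coordinate projection/inclusion `k[x_i : i < n] → k[x_j : j < m]` -/
noncomputable def proj (n m : ℕ) :
    MvPolynomial (ULift.{u} (Fin n)) k →ₐ[k] MvPolynomial (Fin m) k :=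
  MvPolynomial.aeval (fun i => if h : i.down.1 < m then MvPolynomial.X ⟨i.down.1, h⟩ else 0)

/-- the map in the other direction -/
noncomputable def incl (n m : ℕ) :
    MvPolynomial (Fin m) k →ₐ[k] MvPolynomial (ULift.{u} (Fin n)) k :=
  MvPolynomial.aeval (fun j => if h : j.1 < n then MvPolynomial.X ⟨⟨j.1, h⟩⟩ else 0)

theorem proj_surjective (n m : ℕ) (h : m ≤ n) : Function.Surjective (proj k n m) := by
  have hrange : (proj k n m).range = ⊤ := by
    rw [eq_top_iff, ← MvPolynomial.adjoin_range_X]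
    apply Algebra.adjoin_le
    rintro _ ⟨j, rfl⟩
    refine ⟨MvPolynomial.X ⟨⟨j.1, by omega⟩⟩, ?_⟩
    simp only [AlgHom.toRingHom_eq_coe, RingHom.coe_coe, proj, MvPolynomial.aeval_X]
    rw [dif_pos j.2]
  intro y
  have : y ∈ (proj k n m).range := hrange ▸ Algebra.mem_top
  exact this

theorem incl_comp_proj (n m : ℕ) (h : n ≤ m) :
    (incl k n m).comp (proj k n m) = AlgHom.id k _ := by
  apply MvPolynomial.algHom_ext
  intro i
  simp only [AlgHom.comp_apply, proj, MvPolynomial.aeval_X, AlgHom.id_apply]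
  have hi : i.down.1 < m := lt_of_lt_of_le i.down.2 h
  rw [dif_pos hi]
  simp only [incl, MvPolynomial.aeval_X]
  rw [dif_pos i.down.2]

theorem comap_proj_surjective (n m : ℕ) (h : n ≤ m) :
    Function.Surjective (PrimeSpectrum.comap (proj k n m).toRingHom) := by
  intro p
  refine ⟨PrimeSpectrum.comap (incl k n m).toRingHom p, ?_⟩
  rw [← PrimeSpectrum.comap_comp_apply]
  have : (incl k n m).toRingHom.comp (proj k n m).toRingHom = RingHom.id _ := by
    have := congrArg AlgHom.toRingHom (incl_comp_proj k n m h)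
    exact this
  rw [this, PrimeSpectrum.comap_id]

variable (A : Type u) [CommRing A] [Algebra k A] [Algebra.FiniteType k A]

theorem exists_normalization [Nontrivial A] :
    ∃ (s : ℕ) (ψ : MvPolynomial (Fin s) k →ₐ[k] A), Function.Injective ψ ∧ ψ.Finite ∧
      ringKrullDim A = s ∧ Function.Surjective (PrimeSpectrum.comap ψ.toRingHom) := by
  obtain ⟨s, ψ, hinj, hfin⟩ := exists_finite_inj_algHom_of_fg k A
  have hint : ψ.toRingHom.IsIntegral := RingHom.IsIntegral.of_finite hfin
  refine ⟨s, ψ, hinj, hfin, ?_, hint.comap_surjective hinj⟩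
  rw [Groth.Agent.Helper2.Dim.dim_eq_of_integral_injective ψ.toRingHom hint hinj,
    Groth.Agent.Helper5.DimBC.dim_mvPolynomial]

/-- (a) -/
theorem exists_surjective_of_le (n : ℕ) (h : (n : WithBot ℕ∞) ≤ ringKrullDim A) :
    ∃ φ : MvPolynomial (ULift.{u} (Fin n)) k →ₐ[k] A,
      Function.Surjective (PrimeSpectrum.comap φ.toRingHom) := by
  haveI : Nontrivial A := by
    by_contra hA
    rw [not_nontrivial_iff_subsingleton] at hA
    rw [ringKrullDim_eq_bot_of_subsingleton] at h
    simp at h
  obtain ⟨s, ψ, hinj, hfin, hdim, hsurj⟩ := exists_normalization k A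
  rw [hdim] at h
  have hns : n ≤ s := by exact_mod_cast h
  refine ⟨ψ.comp (proj k n s), ?_⟩
  have : (ψ.comp (proj k n s)).toRingHom = ψ.toRingHom.comp (proj k n s).toRingHom := rfl
  rw [this]
  intro p
  obtain ⟨p1, hp1⟩ := comap_proj_surjective k n s hns p
  obtain ⟨p2, hp2⟩ := hsurj p1
  exact ⟨p2, by rw [PrimeSpectrum.comap_comp_apply, hp2, hp1]⟩

/-- (b) -/
theorem exists_finite_of_le (n : ℕ) (h : ringKrullDim A ≤ (n : WithBot ℕ∞)) :
    ∃ φ : MvPolynomial (ULift.{u} (Fin n)) k →ₐ[k] A, φ.Finite := by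
  rcases subsingleton_or_nontrivial A with hA | hA
  · refine ⟨MvPolynomial.aeval (fun _ => 0), ?_⟩
    letI := (MvPolynomial.aeval (R := k) (fun _ : ULift.{u} (Fin n) => (0 : A))).toRingHom.toAlgebra
    show Module.Finite (MvPolynomial (ULift.{u} (Fin n)) k) A
    exact Module.Finite.of_finite
  · obtain ⟨s, ψ, hinj, hfin, hdim, hsurj⟩ := exists_normalization k A
    rw [hdim] at h
    have hsn : s ≤ n := by exact_mod_cast h
    refine ⟨ψ.comp (proj k n s), ?_⟩
    exact RingHom.Finite.comp hfin (RingHom.Finite.of_surjective _ (proj_surjective k n s hsn))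

/-- (c) -/
theorem exists_finite_surjective_of_eq (n : ℕ) (h : ringKrullDim A = (n : WithBot ℕ∞)) :
    ∃ φ : MvPolynomial (ULift.{u} (Fin n)) k →ₐ[k] A, φ.Finite ∧
      Function.Surjective (PrimeSpectrum.comap φ.toRingHom) := by
  haveI : Nontrivial A := by
    by_contra hA
    rw [not_nontrivial_iff_subsingleton] at hA
    rw [ringKrullDim_eq_bot_of_subsingleton] at h
    simp at h
  obtain ⟨s, ψ, hinj, hfin, hdim, hsurj⟩ := exists_normalization k A
  rw [hdim] at h
  have hsn : s = n := by exact_mod_cast h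
  subst hsn
  refine ⟨ψ.comp (proj k s s), ?_, ?_⟩
  · exact RingHom.Finite.comp hfin (RingHom.Finite.of_surjective _ (proj_surjective k s s le_rfl))
  · have : (ψ.comp (proj k s s)).toRingHom = ψ.toRingHom.comp (proj k s s).toRingHom := rfl
    rw [this]
    intro p
    obtain ⟨p1, hp1⟩ := comap_proj_surjective k s s le_rfl p
    obtain ⟨p2, hp2⟩ := hsurj p1
    exact ⟨p2, by rw [PrimeSpectrum.comap_comp_apply, hp2, hp1]⟩

end Groth.Agent.Helper5.NNorm
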