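import Mathlib
import Groth.Agent.Helper5.NNorm1

set_option autoImplicit false
set_option linter.style.haveILetI false
set_option linter.unusedSectionVars false
set_option linter.deprecated false
universe u
open CategoryTheory CategoryTheory.Limits AlgebraicGeometry TopologicalSpace Topology

namespace Groth.Agent.Helper5.NNorm

variable (k : Type u) [Field k]

/-- the structure ring map `k → Γ(U, ⊤)` of a `k`-scheme -/
noncomputable def structHom {U : Scheme.{u}} (s : U ⟶ Spec (CommRingCat.of k)) : k →+* Γ(U, ⊤) :=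
  ((Scheme.ΓSpecIso (CommRingCat.of k)).inv ≫ s.appTop).hom

theorem eq_toSpecΓ_comp {U : Scheme.{u}} (s : U ⟶ Spec (CommRingCat.of k)) :
    s = U.toSpecΓ ≫ Spec.map (CommRingCat.ofHom (structHom k s)) := by
  have h1 := Scheme.toSpecΓ_naturality s
  have h2 : s = (s ≫ (Spec (CommRingCat.of k)).toSpecΓ) ≫
      Spec.map (Scheme.ΓSpecIso (CommRingCat.of k)).inv := by
    rw [Category.assoc, toSpecΓ_SpecMap_ΓSpecIso_inv, Category.comp_id]
  rw [h1, Category.assoc, ← Spec.map_comp] at h2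
  exact h2

/-- E2 -/
theorem exists_hom_affineSpace {U : Scheme.{u}} [IsAffine U] (s : U ⟶ Spec (CommRingCat.of k))
    (n : ℕ) :
    letI : Algebra k Γ(U, ⊤) := (structHom k s).toAlgebra
    ∀ φ : MvPolynomial (ULift.{u} (Fin n)) k →ₐ[k] Γ(U, ⊤),
      ∃ g : U ⟶ 𝔸(ULift.{u} (Fin n); Spec (CommRingCat.of k)),
        g ≫ (𝔸(ULift.{u} (Fin n); Spec (CommRingCat.of k)) ↘ Spec (CommRingCat.of k)) = s ∧
        (φ.Finite → IsFinite g) ∧
        (Function.Surjective (PrimeSpectrum.comap φ.toRingHom) → Function.Surjective g) := by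
  letI : Algebra k Γ(U, ⊤) := (structHom k s).toAlgebra
  intro φ
  let e := AffineSpace.SpecIso (ULift.{u} (Fin n)) (CommRingCat.of k)
  let g : U ⟶ 𝔸(ULift.{u} (Fin n); Spec (CommRingCat.of k)) :=
    U.toSpecΓ ≫ Spec.map (CommRingCat.ofHom φ.toRingHom) ≫ e.inv
  refine ⟨g, ?_, ?_, ?_⟩
  · have h1 : e.inv ≫ (𝔸(ULift.{u} (Fin n); Spec (CommRingCat.of k)) ↘ Spec (CommRingCat.of k)) =
        Spec.map (CommRingCat.ofHom MvPolynomial.C) := AffineSpace.SpecIso_inv_over _
    show (U.toSpecΓ ≫ Spec.map (CommRingCat.ofHom φ.toRingHom) ≫ e.inv) ≫ _ = s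
    rw [Category.assoc, Category.assoc, h1, ← Spec.map_comp]
    conv_rhs => rw [eq_toSpecΓ_comp k s]
    congr 2
    ext a
    exact φ.commutes a
  · intro hfin
    haveI : IsFinite (Spec.map (CommRingCat.ofHom φ.toRingHom)) := by
      rw [IsFinite.SpecMap_iff]; exact hfin
    show IsFinite (U.toSpecΓ ≫ Spec.map (CommRingCat.ofHom φ.toRingHom) ≫ e.inv)
    infer_instance
  · intro hsurj
    have h1 : Function.Surjective U.toSpecΓ := U.toSpecΓ.homeomorph.surjective
    have h2 : Function.Surjective e.inv := e.inv.homeomorph.surjective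
    have h3 : Function.Surjective (Spec.map (CommRingCat.ofHom φ.toRingHom)) := hsurj
    intro z
    obtain ⟨z1, hz1⟩ := h2 z
    obtain ⟨z2, hz2⟩ := h3 z1
    obtain ⟨z3, hz3⟩ := h1 z2
    refine ⟨z3, ?_⟩
    show (U.toSpecΓ ≫ Spec.map (CommRingCat.ofHom φ.toRingHom) ≫ e.inv) z3 = z
    rw [Scheme.Hom.comp_apply, Scheme.Hom.comp_apply, hz3, hz2, hz1]

end Groth.Agent.Helper5.NNorm
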