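import Mathlib
import Groth.Agent.Helper5.DimStrat9

set_option autoImplicit false
set_option linter.style.haveILetI false
set_option linter.unusedSectionVars false
set_option linter.deprecated false
universe u
open CategoryTheory CategoryTheory.Limits AlgebraicGeometry TopologicalSpace Topology

namespace Groth.Agent.Helper5.WellInt

open Groth.Agent.Helper5.LocDim Groth.Agent.Helper5.DimStrat Groth.Agent.Helper5.VarDim

theorem add_le_cancel (y z : ℕ) (σ : WithBot ℕ∞)
    (h : (y : WithBot ℕ∞) + σ ≤ (y : WithBot ℕ∞) + (z : WithBot ℕ∞)) : σ ≤ z := by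
  induction σ using WithBot.recBotCoe with
  | bot => exact bot_le
  | coe s =>
    induction s using ENat.recTopCoe with
    | top =>
      exfalso
      have h1 : ((y : ℕ) : WithBot ℕ∞) + ((⊤ : ℕ∞) : WithBot ℕ∞) = ((⊤ : ℕ∞) : WithBot ℕ∞) := by
        rw [show ((y : ℕ) : WithBot ℕ∞) = ((y : ℕ∞) : WithBot ℕ∞) from rfl, ← WithBot.coe_add]
        simp
      rw [h1] at h
      have h2 : ((y : ℕ) : WithBot ℕ∞) + (z : WithBot ℕ∞) = (((y + z : ℕ) : ℕ∞) : WithBot ℕ∞) := by
        push_cast; rfl
      rw [h2, WithBot.coe_le_coe] at h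
      exact absurd h (by simp)
    | coe s =>
      have : y + s ≤ y + z := by exact_mod_cast h
      have : s ≤ z := by omega
      exact_mod_cast this

variable (k : Type u) [Field k]

/-- the dimension of an irreducible closed subset is `δ` of its generic point -/
theorem dim_eq_δ_of_isGenericPoint {C : Scheme.{u}} (g : C ⟶ Spec (CommRingCat.of k))
    [LocallyOfFiniteType g] (Y : Set C) (η : C) (hη : IsGenericPoint η Y) :
    topologicalKrullDim ↥Y = (δ k g η : WithBot ℕ∞) := by
  rw [← (δ_spec k g η).1, hη.def]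

/-- `δ` does not drop under a morphism from the source -/
theorem δ_le_of_map {P C : Scheme.{u}} (g : C ⟶ Spec (CommRingCat.of k)) [LocallyOfFiniteType g]
    (h : P ⟶ C) [LocallyOfFiniteType h] (p : P) : δ k g (h p) ≤ δ k (h ≫ g) p := by
  have h1 := trdeg_tower k h g p
  rw [(δ_spec k (h ≫ g) p).2, (δ_spec k g (h p)).2] at h1
  have h2 : (δ k g (h p) : Cardinal.{u}) ≤ (δ k (h ≫ g) p : Cardinal.{u}) := by
    rw [h1]; exact le_self_add
  exact_mod_cast h2

end Groth.Agent.Helper5.WellInt
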