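import Mathlib
import Groth.Agent.Helper5.WellInt1

set_option autoImplicit false
set_option linter.style.haveILetI false
set_option linter.unusedSectionVars false
set_option linter.deprecated false
universe u
open CategoryTheory CategoryTheory.Limits AlgebraicGeometry TopologicalSpace Topology

namespace Groth.Agent.Helper5.WellInt

open Groth.Agent.Helper5.LocDim Groth.Agent.Helper5.DimStrat Groth.Agent.Helper5.VarDim

/-- the off-diagonal part of `Y ×_S Z` -/
def offDiag {X S : Scheme.{u}} (f : X ⟶ S) (Y Z : Set X) : Set ↥(pullback f f) :=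
  {p : ↥(pullback f f) | pullback.fst f f p ∈ Y ∧ pullback.snd f f p ∈ Z ∧
    p ∉ Set.range (pullback.diagonal f)}

theorem isLocallyClosed_offDiag {X S : Scheme.{u}} (f : X ⟶ S) [IsSeparated f] (Y Z : Set X)
    (hY : IsClosed Y) (hZ : IsClosed Z) : IsLocallyClosed (offDiag f Y Z) := by
  have hΔ : IsClosed (Set.range (pullback.diagonal f)) :=
    (pullback.diagonal f).isClosedEmbedding.isClosed_range
  refine ⟨(Set.range (pullback.diagonal f))ᶜ,
    (pullback.fst f f) ⁻¹' Y ∩ (pullback.snd f f) ⁻¹' Z, hΔ.isOpen_compl,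
    (hY.preimage (pullback.fst f f).continuous).inter (hZ.preimage (pullback.snd f f).continuous),
    ?_⟩
  ext p
  simp only [offDiag, Set.mem_setOf_eq, Set.mem_inter_iff, Set.mem_compl_iff, Set.mem_preimage]
  tauto

set_option maxHeartbeats 1000000 in
/-- S14484, first part -/
theorem not_subset_closure (k : Type u) [Field k] (X S : Scheme.{u})
    (q : S ⟶ Spec (CommRingCat.of k)) (f : X ⟶ S)
    [LocallyOfFiniteType q] [CompactSpace S] [LocallyOfFiniteType f] [CompactSpace X]
    [IsSeparated f]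
    (Y Z : Set X) (hYc : IsClosed Y) (hYi : IsIrreducible Y) (hZc : IsClosed Z)
    (hZi : IsIrreducible Z)
    (hWI : topologicalKrullDim ↥(offDiag f Y Z) + topologicalKrullDim S ≤
      topologicalKrullDim Y + topologicalKrullDim Z)
    (hZS : topologicalKrullDim Z < topologicalKrullDim S)
    (hYZ : ¬ Y ⊆ Z) :
    ¬ (f '' Y ⊆ closure (f '' Y ∩ f '' Z)) := by
  haveI hSN : IsLocallyNoetherian S := LocallyOfFiniteType.isLocallyNoetherian q
  haveI hXN : IsLocallyNoetherian X := LocallyOfFiniteType.isLocallyNoetherian f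
  haveI : IsNoetherian X := { }
  intro hsub
  obtain ⟨η, hη⟩ := QuasiSober.sober hYi hYc
  obtain ⟨θ, hθ⟩ := QuasiSober.sober hZi hZc
  have hηY : η ∈ Y := hη.mem
  let T : Set X := Z ∩ f ⁻¹' closure (f '' Y)
  have hTcl : IsClosed T := hZc.inter (isClosed_closure.preimage f.continuous)
  have hcl1 : closure (f '' Y) ⊆ closure ({f η} : Set S) := by
    apply closure_minimal _ isClosed_closure
    rw [← hη.def, ← Set.image_singleton]
    exact image_closure_subset_closure_image f.continuous
  have hfη : f η ∈ closure (f '' T) := by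
    have h1 : f η ∈ closure (f '' Y ∩ f '' Z) := hsub ⟨η, hηY, rfl⟩
    refine closure_mono ?_ h1
    rintro s ⟨hsY, z, hz, rfl⟩
    exact ⟨z, ⟨hz, subset_closure hsY⟩, rfl⟩
  obtain ⟨t, ht, htη⟩ := exists_specializes_of_mem_closure_image f f.continuous T hTcl (f η) hfη
  have hηt : f η ⤳ f t := specializes_iff_mem_closure.2 (hcl1 ht.2)
  have heq : f η = f t := (hηt.antisymm htη).eq
  obtain ⟨p, hp1, hp2⟩ := Scheme.Pullback.exists_preimage_pullback (f := f) (g := f) η t heq
  by_cases hpΔ : p ∈ Set.range (pullback.diagonal f)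
  · obtain ⟨x, rfl⟩ := hpΔ
    have h1 : pullback.fst f f (pullback.diagonal f x) = x := by
      rw [← Scheme.Hom.comp_apply, pullback.diagonal_fst]; rfl
    have h2 : pullback.snd f f (pullback.diagonal f x) = x := by
      rw [← Scheme.Hom.comp_apply, pullback.diagonal_snd]; rfl
    rw [h1] at hp1
    rw [h2] at hp2
    have hηZ : η ∈ Z := by rw [← hp1, hp2]; exact ht.1
    apply hYZ
    rw [← hη.def]
    exact hZc.closure_subset_iff.2 (Set.singleton_subset_iff.2 hηZ)
  · have hpD : p ∈ offDiag f Y Z := ⟨by rw [hp1]; exact hηY, by rw [hp2]; exact ht.1, hpΔ⟩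
    haveI : LocallyOfFiniteType (f ≫ q) := inferInstance
    haveI : LocallyOfFiniteType (pullback.fst f f) :=
      MorphismProperty.pullback_fst (P := @LocallyOfFiniteType) _ _ inferInstance
    haveI : LocallyOfFiniteType (pullback.fst f f ≫ f ≫ q) := inferInstance
    have hlc := isLocallyClosed_offDiag f Y Z hYc hZc
    have h1 := (dim_locallyClosed_le_iff' k (pullback.fst f f ≫ f ≫ q) (offDiag f Y Z) hlc
      (topologicalKrullDim ↥(offDiag f Y Z))).1 le_rfl p hpD
    have h2 := δ_le_of_map k (f ≫ q) (pullback.fst f f) p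
    rw [hp1] at h2
    have hdY := dim_eq_δ_of_isGenericPoint k (f ≫ q) Y η hη
    have hdZ := dim_eq_δ_of_isGenericPoint k (f ≫ q) Z θ hθ
    rw [hdY, hdZ] at hWI
    rw [hdZ] at hZS
    have h3 : (δ k (f ≫ q) η : WithBot ℕ∞) ≤ topologicalKrullDim ↥(offDiag f Y Z) :=
      le_trans (by exact_mod_cast h2) h1
    have h4 : (δ k (f ≫ q) η : WithBot ℕ∞) + topologicalKrullDim S ≤
        (δ k (f ≫ q) η : WithBot ℕ∞) + (δ k (f ≫ q) θ : WithBot ℕ∞) :=
      (add_le_add_left h3 _).trans hWI
    have h5 := add_le_cancel _ _ _ h4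
    exact absurd hZS (not_lt.2 h5)

end Groth.Agent.Helper5.WellInt
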