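import Mathlib
import Groth.Agent.Helper5.WellInt2

set_option autoImplicit false
set_option linter.style.haveILetI false
set_option linter.unusedSectionVars false
set_option linter.deprecated false
universe u
open CategoryTheory CategoryTheory.Limits AlgebraicGeometry TopologicalSpace Topology

namespace Groth.Agent.Helper5.WellInt

open Groth.Agent.Helper5.LocDim Groth.Agent.Helper5.DimStrat Groth.Agent.Helper5.VarDim

/-- Lemma H: every point of the closure of a locally closed subset of a Noetherian quasi-sober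
space is a specialization of a point of the subset -/
theorem exists_specializes_of_mem_closure {C : Type*} [TopologicalSpace C] [NoetherianSpace C]
    [QuasiSober C] (T : Set C) (hT : IsLocallyClosed T) (t' : C) (ht' : t' ∈ closure T) :
    ∃ w ∈ T, w ⤳ t' := by
  obtain ⟨O, F, hO, hF, rfl⟩ := hT
  obtain ⟨S, hSf, hSc, hSi, hSU⟩ :=
    NoetherianSpace.exists_finite_set_isClosed_irreducible (isClosed_closure (s := O ∩ F))
  let S' : Set (Set C) := {W ∈ S | (W ∩ O).Nonempty}
  have hS'f : S'.Finite := hSf.subset (fun W hW => hW.1)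
  have hsub : O ∩ F ⊆ ⋃₀ S' := by
    intro s hs
    have h1 : s ∈ closure (O ∩ F) := subset_closure hs
    rw [hSU] at h1
    obtain ⟨W, hW, hsW⟩ := h1
    exact ⟨W, ⟨hW, ⟨s, hsW, hs.1⟩⟩, hsW⟩
  have hcl : IsClosed (⋃₀ S') := by
    rw [Set.sUnion_eq_biUnion]
    exact hS'f.isClosed_biUnion (fun W hW => hSc W hW.1)
  have h2 := closure_minimal hsub hcl ht'
  obtain ⟨W, ⟨hW, ⟨s, hsW, hsO⟩⟩, ht'W⟩ := h2
  obtain ⟨w, hw⟩ := QuasiSober.sober (hSi W hW) (hSc W hW)
  have hws : w ⤳ s := by rw [specializes_iff_mem_closure, hw.def]; exact hsW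
  have hwO : w ∈ O := hws.mem_open hO hsO
  have hwF : w ∈ F := by
    have h3 : W ⊆ closure (O ∩ F) := by rw [hSU]; exact Set.subset_sUnion_of_mem hW
    have h4 : closure (O ∩ F) ⊆ F := closure_minimal Set.inter_subset_right hF
    exact h4 (h3 hw.mem)
  refine ⟨w, ⟨hwO, hwF⟩, ?_⟩
  rw [specializes_iff_mem_closure, hw.def]; exact ht'W

/-- Lemma G': the same for the closure of the image of a locally closed subset -/
theorem exists_specializes_of_mem_closure_image' {C X : Type*} [TopologicalSpace C]
    [TopologicalSpace X] [NoetherianSpace C] [QuasiSober C] (π : C → X) (hπ : Continuous π)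
    (T : Set C) (hT : IsLocallyClosed T) (z : X) (hz : z ∈ closure (π '' T)) :
    ∃ t ∈ T, π t ⤳ z := by
  have h1 : z ∈ closure (π '' closure T) := closure_mono (Set.image_mono subset_closure) hz
  obtain ⟨t', ht', ht'z⟩ :=
    exists_specializes_of_mem_closure_image π hπ (closure T) isClosed_closure z h1
  obtain ⟨w, hw, hwt'⟩ := exists_specializes_of_mem_closure T hT t' ht'
  exact ⟨w, hw, (hwt'.map hπ).trans ht'z⟩

end Groth.Agent.Helper5.WellInt
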