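import Mathlib
import Groth.Agent.Helper5.WellInt3

set_option autoImplicit false
set_option linter.style.haveILetI false
set_option linter.unusedSectionVars false
set_option linter.deprecated false
universe u
open CategoryTheory CategoryTheory.Limits AlgebraicGeometry TopologicalSpace Topology

namespace Groth.Agent.Helper5.WellInt

open Groth.Agent.Helper5.LocDim Groth.Agent.Helper5.DimStrat Groth.Agent.Helper5.VarDim

/-- a point all of whose "double points" lie on the diagonal has purely inseparable residue field
extension -/
theorem isPurelyInseparable_of_diag {X S : Scheme.{u}} (f : X ⟶ S) (y : X)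
    (hdiag : ∀ p : ↥(pullback f f), pullback.fst f f p = y → pullback.snd f f p = y →
      p ∈ Set.range (pullback.diagonal f)) :
    (f.residueFieldMap y).hom.IsPurelyInseparable := by
  let ι : Spec (X.residueField y) ⟶ X := X.fromSpecResidueField y
  let Φ : pullback (ι ≫ f) (ι ≫ f) ⟶ pullback f f :=
    pullback.map (ι ≫ f) (ι ≫ f) f f ι ι (𝟙 S) (by simp) (by simp)
  haveI hΦ : Mono Φ := by
    refine ⟨fun a b hab => ?_⟩
    apply pullback.hom_ext
    · have := congrArg (· ≫ pullback.fst f f) hab
      simp only [Φ, Category.assoc, pullback.lift_fst] at this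
      exact (cancel_mono ι).1 (by simpa [Category.assoc] using this)
    · have := congrArg (· ≫ pullback.snd f f) hab
      simp only [Φ, Category.assoc, pullback.lift_snd] at this
      exact (cancel_mono ι).1 (by simpa [Category.assoc] using this)
  have hΦ1 : Φ ≫ pullback.fst f f = pullback.fst (ι ≫ f) (ι ≫ f) ≫ ι := pullback.lift_fst _ _ _
  have hΦ2 : Φ ≫ pullback.snd f f = pullback.snd (ι ≫ f) (ι ≫ f) ≫ ι := pullback.lift_snd _ _ _
  have hnat : pullback.diagonal (ι ≫ f) ≫ Φ = ι ≫ pullback.diagonal f := by
    apply pullback.hom_ext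
    · rw [Category.assoc, hΦ1, ← Category.assoc, pullback.diagonal_fst, Category.id_comp,
        Category.assoc, pullback.diagonal_fst, Category.comp_id]
    · rw [Category.assoc, hΦ2, ← Category.assoc, pullback.diagonal_snd, Category.id_comp,
        Category.assoc, pullback.diagonal_snd, Category.comp_id]
  have hsurj : Surjective (pullback.diagonal (ι ≫ f)) := by
    rw [surjective_iff]
    intro p'
    let x₀' := pullback.fst (ι ≫ f) (ι ≫ f) p'
    have h1 : pullback.fst f f (Φ p') = y := by
      rw [← Scheme.Hom.comp_apply]
      rw [hΦ1, Scheme.Hom.comp_apply]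
      exact Scheme.fromSpecResidueField_apply y _
    have h2 : pullback.snd f f (Φ p') = y := by
      rw [← Scheme.Hom.comp_apply]
      rw [hΦ2, Scheme.Hom.comp_apply]
      exact Scheme.fromSpecResidueField_apply y _
    obtain ⟨x, hx⟩ := hdiag (Φ p') h1 h2
    have hxy : x = y := by
      have : pullback.fst f f (pullback.diagonal f x) = x := by
        rw [← Scheme.Hom.comp_apply, pullback.diagonal_fst]; rfl
      rw [hx, h1] at this
      exact this.symm
    refine ⟨x₀', ?_⟩
    apply Φ.injective
    rw [← Scheme.Hom.comp_apply, hnat, Scheme.Hom.comp_apply, ← hx, hxy]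
    congr 1
    exact Scheme.fromSpecResidueField_apply y _
  have h3 := ((tfae_universallyInjective (ι ≫ f)).out 3 2).1 hsurj
  let x₀ : ↥(Spec (X.residueField y)) := IsLocalRing.closedPoint (X.residueField y)
  have hpi := h3.2 x₀
  have e : ((ι ≫ f).residueFieldMap x₀) = f.residueFieldMap (ι x₀) ≫ ι.residueFieldMap x₀ :=
    Scheme.residueFieldMap_comp ι f x₀
  have e2 : ((ι ≫ f).residueFieldMap x₀).hom =
      (ι.residueFieldMap x₀).hom.comp (f.residueFieldMap (ι x₀)).hom := by rw [e]; rfl
  have hy : ι x₀ = y := Scheme.fromSpecResidueField_apply y _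
  have key : (f.residueFieldMap (ι x₀)).hom.IsPurelyInseparable := by
    have hpi' : ((ι.residueFieldMap x₀).hom.comp
        (f.residueFieldMap (ι x₀)).hom).IsPurelyInseparable := by
      rw [← e2]; exact hpi
    set φ := (f.residueFieldMap (ι x₀)).hom with hφ
    set ψ := (ι.residueFieldMap x₀).hom with hψ
    algebraize [φ, ψ, ψ.comp φ]
    exact IsPurelyInseparable.tower_bot (S.residueField (f (ι x₀))) (X.residueField (ι x₀))
      ((Spec (X.residueField y)).residueField x₀)
  exact hy ▸ key

end Groth.Agent.Helper5.WellInt
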