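import Mathlib
import Groth.Agent.Helper5.WellInt4

set_option autoImplicit false
set_option linter.style.haveILetI false
set_option linter.unusedSectionVars false
set_option linter.deprecated false
universe u
open CategoryTheory CategoryTheory.Limits AlgebraicGeometry TopologicalSpace Topology

namespace Groth.Agent.Helper5.WellInt

open Groth.Agent.Helper5.LocDim Groth.Agent.Helper5.DimStrat Groth.Agent.Helper5.VarDim

set_option maxHeartbeats 1000000 in
/-- S14483 -/
theorem s14483 (k : Type u) [Field k] (X S : Scheme.{u})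
    (q : S ⟶ Spec (CommRingCat.of k)) (f : X ⟶ S)
    [LocallyOfFiniteType q] [CompactSpace S] [LocallyOfFiniteType f] [CompactSpace X]
    [IsSeparated f]
    (Y : Set X) (hYc : IsClosed Y) (hYi : IsIrreducible Y)
    (hWI : topologicalKrullDim ↥(offDiag f Y Y) + topologicalKrullDim S ≤
      topologicalKrullDim Y + topologicalKrullDim Y)
    (hYS : topologicalKrullDim Y < topologicalKrullDim S) :
    ∃ V : Set X, IsOpen V ∧ (V ∩ Y).Nonempty ∧ Set.InjOn f (V ∩ Y) ∧
      ∀ x ∈ V ∩ Y, (f.residueFieldMap x).hom.IsPurelyInseparable := by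
  haveI hSN : IsLocallyNoetherian S := LocallyOfFiniteType.isLocallyNoetherian q
  haveI hXN : IsLocallyNoetherian X := LocallyOfFiniteType.isLocallyNoetherian f
  haveI : IsNoetherian X := { }
  haveI : QuasiCompact f := inferInstance
  haveI : LocallyOfFiniteType (pullback.fst f f) :=
    MorphismProperty.pullback_fst (P := @LocallyOfFiniteType) _ _ inferInstance
  haveI hPN : IsLocallyNoetherian (pullback f f) :=
    LocallyOfFiniteType.isLocallyNoetherian (pullback.fst f f)
  haveI : CompactSpace ↥(pullback f f) := inferInstance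
  haveI : IsNoetherian (pullback f f) := { }
  haveI : LocallyOfFiniteType (f ≫ q) := inferInstance
  haveI : LocallyOfFiniteType (pullback.fst f f ≫ f ≫ q) := inferInstance
  set D := offDiag f Y Y with hD
  have hlc : IsLocallyClosed D := isLocallyClosed_offDiag f Y Y hYc hYc
  obtain ⟨η, hη⟩ := QuasiSober.sober hYi hYc
  have hηY : η ∈ Y := hη.mem
  let B : Set X := closure ((pullback.fst f f) '' D)
  refine ⟨Bᶜ, isClosed_closure.isOpen_compl, ⟨η, ?_, hηY⟩, ?_, ?_⟩
  · -- the generic point is not in `B`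
    intro hηB
    obtain ⟨d, hd, hdη⟩ := exists_specializes_of_mem_closure_image' (pullback.fst f f)
      (pullback.fst f f).continuous D hlc η hηB
    have h0 : η ⤳ pullback.fst f f d := by
      rw [specializes_iff_mem_closure, hη.def]; exact hd.1
    have heq : pullback.fst f f d = η := (hdη.antisymm h0).eq
    have h1 := (dim_locallyClosed_le_iff' k (pullback.fst f f ≫ f ≫ q) D hlc
      (topologicalKrullDim ↥D)).1 le_rfl d hd
    have h2 := δ_le_of_map k (f ≫ q) (pullback.fst f f) d
    rw [heq] at h2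
    have hdY := dim_eq_δ_of_isGenericPoint k (f ≫ q) Y η hη
    rw [hdY] at hWI hYS
    have h3 : (δ k (f ≫ q) η : WithBot ℕ∞) ≤ topologicalKrullDim ↥D :=
      le_trans (by exact_mod_cast h2) h1
    have h4 : (δ k (f ≫ q) η : WithBot ℕ∞) + topologicalKrullDim S ≤
        (δ k (f ≫ q) η : WithBot ℕ∞) + (δ k (f ≫ q) η : WithBot ℕ∞) :=
      (add_le_add_left h3 _).trans hWI
    have h5 := add_le_cancel _ _ _ h4
    exact absurd hYS (not_lt.2 h5)
  · -- injectivity
    rintro y₁ ⟨hy₁B, hy₁Y⟩ y₂ ⟨hy₂B, hy₂Y⟩ heq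
    obtain ⟨p, hp1, hp2⟩ := Scheme.Pullback.exists_preimage_pullback (f := f) (g := f) y₁ y₂ heq
    by_cases hpΔ : p ∈ Set.range (pullback.diagonal f)
    · obtain ⟨x, rfl⟩ := hpΔ
      have h1 : pullback.fst f f (pullback.diagonal f x) = x := by
        rw [← Scheme.Hom.comp_apply, pullback.diagonal_fst]; rfl
      have h2 : pullback.snd f f (pullback.diagonal f x) = x := by
        rw [← Scheme.Hom.comp_apply, pullback.diagonal_snd]; rfl
      rw [← hp1, ← hp2, h1, h2]
    · exfalso
      apply hy₁B
      apply subset_closure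
      exact ⟨p, ⟨by rw [hp1]; exact hy₁Y, by rw [hp2]; exact hy₂Y, hpΔ⟩, hp1⟩
  · -- purely inseparable residue fields
    rintro y ⟨hyB, hyY⟩
    apply isPurelyInseparable_of_diag f y
    intro p hp1 hp2
    by_contra hpΔ
    apply hyB
    apply subset_closure
    exact ⟨p, ⟨by rw [hp1]; exact hyY, by rw [hp2]; exact hyY, hpΔ⟩, hp1⟩

end Groth.Agent.Helper5.WellInt
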