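import Mathlib
import Groth.Agent.Helper5.WellInt5

set_option autoImplicit false
set_option linter.style.haveILetI false
set_option linter.unusedSectionVars false
set_option linter.deprecated false
universe u
open CategoryTheory CategoryTheory.Limits AlgebraicGeometry TopologicalSpace Topology

namespace Groth.Agent.Helper5.WellInt

open Groth.Agent.Helper5.LocDim Groth.Agent.Helper5.DimStrat Groth.Agent.Helper5.VarDim
  Groth.Agent.Helper5.MaxPt Groth.Agent.Helper5.SubDim

/-- FD1: the dimension of a fibre is bounded iff the local fibre dimensions at its points are -/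
theorem dim_fiber_le_iff {A B : Scheme.{u}} (φ : A ⟶ B) [LocallyOfFiniteType φ] (b : B)
    (e : WithBot ℕ∞) :
    topologicalKrullDim ↥(φ.fiber b) ≤ e ↔ ∀ a : A, φ a = b → FlatMor.fibreDimAt φ a ≤ e := by
  constructor
  · rintro h a rfl
    exact (fibreDimAt_le_dim_fiber φ a).trans h
  · intro h
    rw [dim_le_iff]
    intro ζ
    obtain ⟨n, hn1, hn2⟩ := dim_closure_fibre_point φ b ζ (φ.fiberι b ζ) rfl (apply_fiberι φ b ζ)
    rw [hn1]
    obtain ⟨k', n', -, -, hn', hfd⟩ := fibreDimAt_eq φ (φ.fiberι b ζ)
    have h1 := h (φ.fiberι b ζ) (apply_fiberι φ b ζ)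
    rw [hfd] at h1
    have h2 : n' = n := by
      have := hn'.symm.trans hn2
      exact_mod_cast this
    refine le_trans ?_ h1
    have : n ≤ k' + n' := by omega
    exact_mod_cast this

/-- range of the second projection of a cartesian square of schemes -/
theorem range_snd_of_isPullback {P A B C : Scheme.{u}} {a : P ⟶ A} {b : P ⟶ B} {c : A ⟶ C}
    {d : B ⟶ C} (hsq : IsPullback a b c d) : Set.range b = d ⁻¹' Set.range c := by
  have hs : Function.Surjective hsq.isoPullback.hom := fun z =>
    ⟨hsq.isoPullback.inv z, by rw [← Scheme.Hom.comp_apply, Iso.inv_hom_id]; rfl⟩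
  ext y
  constructor
  · rintro ⟨p, rfl⟩
    exact ⟨a p, by rw [← Scheme.Hom.comp_apply, ← Scheme.Hom.comp_apply, hsq.w]⟩
  · rintro ⟨x, hx⟩
    obtain ⟨z, hz1, hz2⟩ := Scheme.Pullback.exists_preimage_pullback (f := c) (g := d) x y hx
    refine ⟨hsq.isoPullback.inv z, ?_⟩
    rw [← Scheme.Hom.comp_apply, hsq.isoPullback_inv_snd]; exact hz2

theorem exists_preimage_of_isPullback {P A B C : Scheme.{u}} {a : P ⟶ A} {b : P ⟶ B}
    {c : A ⟶ C} {d : B ⟶ C} (hsq : IsPullback a b c d) (x : A) (y : B) (h : c x = d y) :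
    ∃ p : P, a p = x ∧ b p = y := by
  obtain ⟨z, hz1, hz2⟩ := Scheme.Pullback.exists_preimage_pullback (f := c) (g := d) x y h
  refine ⟨hsq.isoPullback.inv z, ?_, ?_⟩
  · rw [← Scheme.Hom.comp_apply, hsq.isoPullback_inv_fst]; exact hz1
  · rw [← Scheme.Hom.comp_apply, hsq.isoPullback_inv_snd]; exact hz2

/-- FD3: fibres of a base change of a morphism with all fibres of dimension `d` have dimension
`d` -/
theorem dim_fiber_of_isPullback {T' T S' S : Scheme.{u}} (g : S' ⟶ S) [LocallyOfFiniteType g]
    (u : T ⟶ S) (v : T' ⟶ S') (h : T' ⟶ T) (hsq : IsPullback v h g u) (d : ℕ)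
    (hd : ∀ s : S, topologicalKrullDim ↥(g.fiber s) = d) (t : T) :
    topologicalKrullDim ↥(h.fiber t) = d := by
  haveI : LocallyOfFiniteType h := MorphismProperty.of_isPullback hsq inferInstance
  have hfd : ∀ t' : T', FlatMor.fibreDimAt h t' = FlatMor.fibreDimAt g (v t') :=
    fun t' => Groth.Agent.Helper5.BCMin.fibreDimAt_of_isPullback g u v h hsq t'
  apply le_antisymm
  · rw [dim_fiber_le_iff]
    intro t' _
    rw [hfd t', ← hd (g (v t'))]
    exact fibreDimAt_le_dim_fiber g (v t')
  · obtain ⟨s', m, hs', hm, hdm⟩ := exists_trdeg_ge_of_le_dim_fiber g (u t) d (hd (u t)).ge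
    obtain ⟨t', ht'1, ht'2⟩ := exists_preimage_of_isPullback hsq s' t hs'
    have h1 := fibreDimAt_le_dim_fiber h t'
    rw [ht'2] at h1
    refine le_trans ?_ h1
    rw [hfd t', ht'1]
    obtain ⟨k', n', -, -, hn', hfd'⟩ := fibreDimAt_eq g s'
    rw [hfd']
    have h2 : n' = m := by
      have := hn'.symm.trans hm
      exact_mod_cast this
    have : d ≤ k' + n' := by omega
    exact_mod_cast this

/-- BC-dim: the preimage of a locally closed subset under a morphism all of whose fibres over it
have dimension `d` has dimension `dim A + d` -/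
theorem dim_preimage_eq_add (k : Type u) [Field k] {T' T : Scheme.{u}}
    (gT : T ⟶ Spec (CommRingCat.of k)) [LocallyOfFiniteType gT] (h : T' ⟶ T)
    [LocallyOfFiniteType h] (A : Set T) (hA : IsLocallyClosed A) (d : ℕ)
    (hd : ∀ t ∈ A, topologicalKrullDim ↥(h.fiber t) = d) :
    topologicalKrullDim ↥(h ⁻¹' A) = topologicalKrullDim ↥A + (d : WithBot ℕ∞) := by
  haveI : LocallyOfFiniteType (h ≫ gT) := inferInstance
  have hA' : IsLocallyClosed (h ⁻¹' A) := hA.preimage h.continuous
  have hδ : ∀ t' : T', ∃ m : ℕ, δ k (h ≫ gT) t' = δ k gT (h t') + m ∧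
      @Algebra.trdeg (T.residueField (h t')) (T'.residueField t') _ _
        (h.residueFieldMap t').hom.toAlgebra = m := by
    intro t'
    obtain ⟨m, hm1, hm2⟩ := trdeg_le_dim_fiber h t'
    have h1 := trdeg_tower k h gT t'
    rw [(δ_spec k (h ≫ gT) t').2, (δ_spec k gT (h t')).2, hm1] at h1
    exact ⟨m, by exact_mod_cast h1, hm1⟩
  apply le_antisymm
  · rw [dim_locallyClosed_le_iff' k (h ≫ gT) _ hA']
    intro t' ht'
    obtain ⟨m, hm1, hm2⟩ := trdeg_le_dim_fiber h t'
    obtain ⟨m', hm'1, hm'2⟩ := hδ t'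
    have hmm : m' = m := by exact_mod_cast hm'2.symm.trans hm1
    subst hmm
    rw [hd _ ht'] at hm2
    have h2 := (dim_locallyClosed_le_iff' k gT A hA (topologicalKrullDim ↥A)).1 le_rfl (h t') ht'
    rw [hm'1]; push_cast
    exact add_le_add h2 hm2
  · rcases A.eq_empty_or_nonempty with rfl | ⟨t₀, ht₀⟩
    · rw [dim_empty_eq_bot, WithBot.bot_add]; exact bot_le
    · have key : ∀ t ∈ A, ((δ k gT t + d : ℕ) : WithBot ℕ∞) ≤ topologicalKrullDim ↥(h ⁻¹' A) := by
        intro t ht
        obtain ⟨t', m, ht', hm, hdm⟩ := exists_trdeg_ge_of_le_dim_fiber h t d (hd t ht).ge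
        obtain ⟨m', hm'1, hm'2⟩ := hδ t'
        have hmm : m' = m := by exact_mod_cast hm'2.symm.trans hm
        subst hmm
        have h1 := (dim_locallyClosed_le_iff' k (h ≫ gT) _ hA' _).1 le_rfl t'
          (by show h t' ∈ A; rw [ht']; exact ht)
        refine le_trans ?_ h1
        rw [hm'1, ht']
        have : δ k gT t + d ≤ δ k gT t + m' := by omega
        exact_mod_cast this
      generalize topologicalKrullDim ↥(h ⁻¹' A) = b at key ⊢
      induction b using WithBot.recBotCoe with
      | bot => exact absurd (key t₀ ht₀) (by simp)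
      | coe b =>
        induction b using ENat.recTopCoe with
        | top => exact le_top
        | coe n =>
          have hdn : d ≤ n := by
            have h1 := key t₀ ht₀
            have h2 : δ k gT t₀ + d ≤ n := by exact_mod_cast h1
            omega
          have h3 : topologicalKrullDim ↥A ≤ ((n - d : ℕ) : WithBot ℕ∞) := by
            rw [dim_locallyClosed_le_iff' k gT A hA]
            intro t ht
            have h1 := key t ht
            have h2 : δ k gT t + d ≤ n := by exact_mod_cast h1
            have : δ k gT t ≤ n - d := by omega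
            exact_mod_cast this
          calc topologicalKrullDim ↥A + (d : WithBot ℕ∞)
              ≤ ((n - d : ℕ) : WithBot ℕ∞) + (d : WithBot ℕ∞) := add_le_add h3 le_rfl
            _ = ((n : ℕ∞) : WithBot ℕ∞) := by
              have h4 : n - d + d = n := by omega
              have h5 : ((n - d : ℕ) : WithBot ℕ∞) + (d : WithBot ℕ∞) =
                  ((n - d + d : ℕ) : WithBot ℕ∞) := by push_cast; rfl
              rw [h5, h4]; rfl

end Groth.Agent.Helper5.WellInt
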