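import Mathlib
import Groth.Agent.Helper5.WellInt6

set_option autoImplicit false
set_option linter.style.haveILetI false
set_option linter.unusedSectionVars false
set_option linter.deprecated false
universe u
open CategoryTheory CategoryTheory.Limits AlgebraicGeometry TopologicalSpace Topology

namespace Groth.Agent.Helper5.WellInt

open Groth.Agent.Helper5.LocDim Groth.Agent.Helper5.DimStrat Groth.Agent.Helper5.VarDim
  Groth.Agent.Helper5.MaxPt Groth.Agent.Helper5.SubDim

section Cat
variable {C : Type*} [Category C] [HasPullbacks C] {X S S' : C} (f : X ⟶ S) (g : S' ⟶ S)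

/-- the comparison map `X' ×_{S'} X' ⟶ X ×_S X` -/
noncomputable abbrev Φ : pullback (pullback.snd f g) (pullback.snd f g) ⟶ pullback f f :=
  pullback.map (pullback.snd f g) (pullback.snd f g) f f (pullback.fst f g) (pullback.fst f g) g
    pullback.condition.symm pullback.condition.symm

theorem Φ_fst : Φ f g ≫ pullback.fst f f = pullback.fst _ _ ≫ pullback.fst f g :=
  pullback.lift_fst _ _ _

theorem Φ_snd : Φ f g ≫ pullback.snd f f = pullback.snd _ _ ≫ pullback.fst f g :=
  pullback.lift_snd _ _ _

theorem isPullback_Φ_fst :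
    IsPullback (Φ f g) (pullback.fst _ _) (pullback.fst f f) (pullback.fst f g) := by
  have sqX' := IsPullback.of_hasPullback f g
  have sqP := IsPullback.of_hasPullback f f
  have sqP' := IsPullback.of_hasPullback (pullback.snd f g) (pullback.snd f g)
  have outer := sqP'.flip.paste_horiz sqX'
  rw [← Φ_snd, ← pullback.condition] at outer
  exact IsPullback.of_right outer (Φ_fst f g) sqP.flip

theorem isPullback_Φ_base :
    IsPullback (Φ f g) (pullback.fst _ _ ≫ pullback.snd f g) (pullback.fst f f ≫ f) g :=
  (isPullback_Φ_fst f g).paste_vert (IsPullback.of_hasPullback f g)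

theorem diagonal_Φ :
    pullback.diagonal (pullback.snd f g) ≫ Φ f g = pullback.fst f g ≫ pullback.diagonal f := by
  apply pullback.hom_ext
  · rw [Category.assoc, Φ_fst, Category.assoc, pullback.diagonal_fst, Category.comp_id,
      pullback.diagonal_fst_assoc]
  · rw [Category.assoc, Φ_snd, Category.assoc, pullback.diagonal_snd, Category.comp_id,
      pullback.diagonal_snd_assoc]

theorem isPullback_diagonal_Φ :
    IsPullback (pullback.diagonal (pullback.snd f g)) (pullback.fst f g) (Φ f g)
      (pullback.diagonal f) := by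
  have outer : IsPullback (pullback.diagonal (pullback.snd f g) ≫ pullback.fst _ _)
      (pullback.fst f g) (pullback.fst f g) (pullback.diagonal f ≫ pullback.fst f f) := by
    rw [pullback.diagonal_fst, pullback.diagonal_fst]
    exact IsPullback.of_horiz_isIso ⟨by simp⟩
  exact IsPullback.of_right outer (diagonal_Φ f g) (isPullback_Φ_fst f g).flip

end Cat

theorem offDiag_preimage {X S S' : Scheme.{u}} (f : X ⟶ S) (g : S' ⟶ S) (Y Z : Set X) :
    offDiag (pullback.snd f g) ((pullback.fst f g) ⁻¹' Y) ((pullback.fst f g) ⁻¹' Z) =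
      (Φ f g) ⁻¹' (offDiag f Y Z) := by
  have hr := range_snd_of_isPullback (isPullback_diagonal_Φ f g).flip
  ext p
  simp only [offDiag, Set.mem_setOf_eq, Set.mem_preimage]
  have h1 : pullback.fst f f (Φ f g p) = pullback.fst f g (pullback.fst (pullback.snd f g) (pullback.snd f g) p) := by
    rw [← Scheme.Hom.comp_apply, Φ_fst]; rfl
  have h2 : pullback.snd f f (Φ f g p) = pullback.fst f g (pullback.snd (pullback.snd f g) (pullback.snd f g) p) := by
    rw [← Scheme.Hom.comp_apply, Φ_snd]; rfl
  rw [h1, h2, hr]; rfl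

theorem dim_univ_eq {T : Type*} [TopologicalSpace T] :
    topologicalKrullDim ↥(Set.univ : Set T) = topologicalKrullDim T :=
  IsHomeomorph.topologicalKrullDim_eq _ (Homeomorph.Set.univ T).isHomeomorph

theorem wb_regroup (a b : WithBot ℕ∞) (d : ℕ) :
    (a + (d : WithBot ℕ∞)) + (b + (d : WithBot ℕ∞)) = (a + b) + ((d + d : ℕ) : WithBot ℕ∞) := by
  push_cast
  abel

set_option maxHeartbeats 1000000 in
/-- S14485 -/
theorem s14485 (k : Type u) [Field k] (X S S' : Scheme.{u})
    (q : S ⟶ Spec (CommRingCat.of k)) (f : X ⟶ S) (g : S' ⟶ S)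
    [LocallyOfFiniteType q] [LocallyOfFiniteType f] [IsSeparated f] [LocallyOfFiniteType g]
    (d : ℕ) (hd : ∀ s : S, topologicalKrullDim (g.fiber s) = d)
    (Y Z : Set X) (hYc : IsClosed Y) (hZc : IsClosed Z) :
    (topologicalKrullDim ↥(offDiag f Y Z) + topologicalKrullDim S ≤
        topologicalKrullDim Y + topologicalKrullDim Z) ↔
      (topologicalKrullDim ↥(offDiag (pullback.snd f g) ((pullback.fst f g) ⁻¹' Y)
          ((pullback.fst f g) ⁻¹' Z)) + topologicalKrullDim S' ≤
        topologicalKrullDim ↥((pullback.fst f g) ⁻¹' Y) +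
          topologicalKrullDim ↥((pullback.fst f g) ⁻¹' Z)) := by
  haveI : LocallyOfFiniteType (f ≫ q) := inferInstance
  haveI : LocallyOfFiniteType (pullback.fst f f) :=
    MorphismProperty.pullback_fst (P := @LocallyOfFiniteType) _ _ inferInstance
  haveI : LocallyOfFiniteType (pullback.fst f g) :=
    MorphismProperty.pullback_fst (P := @LocallyOfFiniteType) _ _ inferInstance
  haveI : LocallyOfFiniteType (pullback.fst f f ≫ f ≫ q) := inferInstance
  haveI : LocallyOfFiniteType (Φ f g) :=
    MorphismProperty.of_isPullback (isPullback_Φ_base f g).flip inferInstance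
  -- fibres
  have hpr : ∀ x : X, topologicalKrullDim ↥((pullback.fst f g).fiber x) = d :=
    dim_fiber_of_isPullback g f (pullback.snd f g) (pullback.fst f g)
      (IsPullback.of_hasPullback f g).flip d hd
  have hΦ : ∀ p : ↥(pullback f f), topologicalKrullDim ↥((Φ f g).fiber p) = d :=
    dim_fiber_of_isPullback g (pullback.fst f f ≫ f) _ (Φ f g) (isPullback_Φ_base f g).flip d hd
  -- dimensions
  have hS : topologicalKrullDim S' = topologicalKrullDim S + (d : WithBot ℕ∞) := by
    have := dim_preimage_eq_add k q g Set.univ isOpen_univ.isLocallyClosed d (fun t _ => hd t)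
    rw [Set.preimage_univ, dim_univ_eq, dim_univ_eq] at this
    exact this
  have hY := dim_preimage_eq_add k (f ≫ q) (pullback.fst f g) Y hYc.isLocallyClosed d
    (fun t _ => hpr t)
  have hZ := dim_preimage_eq_add k (f ≫ q) (pullback.fst f g) Z hZc.isLocallyClosed d
    (fun t _ => hpr t)
  have hD := dim_preimage_eq_add k (pullback.fst f f ≫ f ≫ q) (Φ f g) (offDiag f Y Z)
    (isLocallyClosed_offDiag f Y Z hYc hZc) d (fun t _ => hΦ t)
  rw [offDiag_preimage, hD, hS, hY, hZ, wb_regroup, wb_regroup,
    ENat.WithBot.add_le_add_natCast_right_iff]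

end Groth.Agent.Helper5.WellInt
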