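import Mathlib
import Groth.Agent.Helper5.NNorm2
import Groth.Agent.Helper5.WellInt7
import Groth.Agent.Helper5.EtFib
import Groth.Agent.Helper3.PIGeo1

set_option autoImplicit false
set_option linter.style.haveILetI false
set_option linter.unusedSectionVars false
set_option linter.deprecated false
universe u
open CategoryTheory CategoryTheory.Limits AlgebraicGeometry TopologicalSpace Topology

namespace Groth.Agent.Helper5.NNorm

open Groth.Agent.Helper5.LocDim Groth.Agent.Helper5.DimStrat Groth.Agent.Helper5.VarDim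
  Groth.Agent.Helper5.WellInt

variable (k : Type u) [Field k]

theorem dim_le_iff_δ {X : Scheme.{u}} (g : X ⟶ Spec (CommRingCat.of k)) [LocallyOfFiniteType g]
    (b : WithBot ℕ∞) :
    topologicalKrullDim X ≤ b ↔ ∀ z : X, (δ k g z : WithBot ℕ∞) ≤ b := by
  rw [← dim_univ_eq, dim_locallyClosed_le_iff' k g Set.univ isOpen_univ.isLocallyClosed b]
  simp

/-- Piece A -/
theorem dim_of_dense {X : Scheme.{u}} (g : X ⟶ Spec (CommRingCat.of k)) [LocallyOfFiniteType g]
    [NoetherianSpace X] (U : Set X) (hU : IsOpen U) (hd : Dense U) :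
    topologicalKrullDim ↥U = topologicalKrullDim X := by
  apply le_antisymm (topologicalKrullDim_subspace_le _ _)
  rw [dim_le_iff_δ k g]
  intro z
  obtain ⟨t, htU, htz⟩ := exists_specializes_of_mem_closure U hU.isLocallyClosed z (hd z)
  have h1 : (δ k g t : WithBot ℕ∞) ≤ topologicalKrullDim ↥U :=
    (dim_locallyClosed_le_iff' k g U hU.isLocallyClosed _).1 le_rfl t htU
  refine le_trans ?_ h1
  rw [← (δ_spec k g z).1, ← (δ_spec k g t).1]
  apply dim_subset_le
  exact isClosed_closure.closure_subset_iff.2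
    (Set.singleton_subset_iff.2 (specializes_iff_mem_closure.1 htz))

/-- Piece B -/
theorem dim_le_of_surjective {U W : Scheme.{u}} (gW : W ⟶ Spec (CommRingCat.of k))
    [LocallyOfFiniteType gW] (h : U ⟶ W) [LocallyOfFiniteType h] (hs : Function.Surjective h) :
    topologicalKrullDim W ≤ topologicalKrullDim U := by
  haveI : LocallyOfFiniteType (h ≫ gW) := inferInstance
  rw [dim_le_iff_δ k gW]
  intro z
  obtain ⟨u, rfl⟩ := hs z
  have h1 := δ_le_of_map k gW h u
  have h2 := (dim_le_iff_δ k (h ≫ gW) (topologicalKrullDim U)).1 le_rfl u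
  refine le_trans ?_ h2
  exact_mod_cast h1

/-- Piece C -/
theorem dim_le_of_lqf {U W : Scheme.{u}} (gW : W ⟶ Spec (CommRingCat.of k))
    [LocallyOfFiniteType gW] (h : U ⟶ W) [LocallyOfFiniteType h] [LocallyQuasiFinite h] :
    topologicalKrullDim U ≤ topologicalKrullDim W := by
  haveI : LocallyOfFiniteType (h ≫ gW) := inferInstance
  rw [dim_le_iff_δ k (h ≫ gW)]
  intro u
  have h1 := trdeg_tower k h gW u
  rw [(δ_spec k (h ≫ gW) u).2, (δ_spec k gW (h u)).2,
    Groth.Agent.Helper5.EtFib.trdeg_eq_zero_of_lqf h u, add_zero] at h1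
  have h2 : δ k (h ≫ gW) u = δ k gW (h u) := by exact_mod_cast h1
  rw [h2]
  exact (dim_le_iff_δ k gW (topologicalKrullDim W)).1 le_rfl (h u)

/-- Piece D -/
theorem dim_affineSpace (n : ℕ) :
    topologicalKrullDim ↥(𝔸(ULift.{u} (Fin n); Spec (CommRingCat.of k))) = (n : WithBot ℕ∞) := by
  let e := AffineSpace.SpecIso (ULift.{u} (Fin n)) (CommRingCat.of k)
  rw [IsHomeomorph.topologicalKrullDim_eq _ e.hom.homeomorph.isHomeomorph]
  show topologicalKrullDim (PrimeSpectrum (MvPolynomial (ULift.{u} (Fin n)) k)) = _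
  rw [PrimeSpectrum.topologicalKrullDim_eq_ringKrullDim,
    MvPolynomial.ringKrullDim_of_isNoetherianRing, ringKrullDim_eq_zero_of_field, zero_add]
  simp

theorem dim_of_isAffine (U : Scheme.{u}) [IsAffine U] :
    topologicalKrullDim U = ringKrullDim Γ(U, ⊤) := by
  rw [IsHomeomorph.topologicalKrullDim_eq _ U.isoSpec.hom.homeomorph.isHomeomorph]
  exact PrimeSpectrum.topologicalKrullDim_eq_ringKrullDim _

theorem finiteType_structHom {U : Scheme.{u}} [IsAffine U] (s : U ⟶ Spec (CommRingCat.of k))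
    [LocallyOfFiniteType s] : (structHom k s).FiniteType := by
  have h1 : s.appTop.hom.FiniteType :=
    (HasRingHomProperty.iff_of_isAffine (P := @LocallyOfFiniteType)).1 inferInstance
  have h2 : (Scheme.ΓSpecIso (CommRingCat.of k)).inv.hom.FiniteType :=
    RingHom.FiniteType.of_surjective _
      (ConcreteCategory.bijective_of_isIso (Scheme.ΓSpecIso (CommRingCat.of k)).inv).2
  exact h1.comp h2

end Groth.Agent.Helper5.NNorm
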