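import Mathlib
import Groth.Agent.Helper5.NNorm3

set_option autoImplicit false
set_option linter.style.haveILetI false
set_option linter.unusedSectionVars false
set_option linter.deprecated false
universe u
open CategoryTheory CategoryTheory.Limits AlgebraicGeometry TopologicalSpace Topology

namespace Groth.Agent.Helper5.NNorm

open Groth.Agent.Helper5.LocDim Groth.Agent.Helper5.DimStrat Groth.Agent.Helper5.VarDim
  Groth.Agent.Helper5.WellInt

variable (k : Type u) [Field k]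

set_option maxHeartbeats 1000000 in
theorem forward_aux {X : Scheme.{u}} (f : X ⟶ Spec (CommRingCat.of k)) [LocallyOfFiniteType f]
    [NoetherianSpace X] (n : ℕ) :
    ∃ U : X.Opens, Dense (U : Set X) ∧
      ((n : WithBot ℕ∞) ≤ topologicalKrullDim X →
        ∃ g : (U : Scheme.{u}) ⟶ 𝔸(ULift.{u} (Fin n); Spec (CommRingCat.of k)),
          g ≫ (𝔸(ULift.{u} (Fin n); Spec (CommRingCat.of k)) ↘ Spec (CommRingCat.of k)) = U.ι ≫ f ∧
            Function.Surjective g) ∧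
      (topologicalKrullDim X ≤ (n : WithBot ℕ∞) →
        ∃ g : (U : Scheme.{u}) ⟶ 𝔸(ULift.{u} (Fin n); Spec (CommRingCat.of k)),
          g ≫ (𝔸(ULift.{u} (Fin n); Spec (CommRingCat.of k)) ↘ Spec (CommRingCat.of k)) = U.ι ≫ f ∧
            IsFinite g) ∧
      (topologicalKrullDim X = (n : WithBot ℕ∞) →
        ∃ g : (U : Scheme.{u}) ⟶ 𝔸(ULift.{u} (Fin n); Spec (CommRingCat.of k)),
          g ≫ (𝔸(ULift.{u} (Fin n); Spec (CommRingCat.of k)) ↘ Spec (CommRingCat.of k)) = U.ι ≫ f ∧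
            IsFinite g ∧ Function.Surjective g) := by
  obtain ⟨U, hUaff, hUd⟩ := Groth.Agent.Helper3.PIGeo1.exists_dense_affine X
  let V : Scheme.{u} := (U : Scheme.{u})
  haveI : IsAffine V := hUaff
  let s : V ⟶ Spec (CommRingCat.of k) := U.ι ≫ f
  haveI : LocallyOfFiniteType s := inferInstance
  letI : Algebra k Γ(V, ⊤) := (structHom k s).toAlgebra
  haveI : Algebra.FiniteType k Γ(V, ⊤) := finiteType_structHom k s
  have hdim : ringKrullDim Γ(V, ⊤) = topologicalKrullDim X := by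
    rw [← dim_of_isAffine, ← dim_of_dense k f U U.2 hUd]
    rfl
  refine ⟨U, hUd, ?_, ?_, ?_⟩
  · intro h
    rw [← hdim] at h
    obtain ⟨φ, hφ⟩ := exists_surjective_of_le k Γ(V, ⊤) n h
    obtain ⟨g, hg1, -, hg3⟩ := exists_hom_affineSpace k s n φ
    exact ⟨g, hg1, hg3 hφ⟩
  · intro h
    rw [← hdim] at h
    obtain ⟨φ, hφ⟩ := exists_finite_of_le k Γ(V, ⊤) n h
    obtain ⟨g, hg1, hg2, -⟩ := exists_hom_affineSpace k s n φ
    exact ⟨g, hg1, hg2 hφ⟩
  · intro h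
    rw [← hdim] at h
    obtain ⟨φ, hφ1, hφ2⟩ := exists_finite_surjective_of_eq k Γ(V, ⊤) n h
    obtain ⟨g, hg1, hg2, hg3⟩ := exists_hom_affineSpace k s n φ
    exact ⟨g, hg1, hg2 hφ1, hg3 hφ2⟩

theorem backward_surj {X : Scheme.{u}} (f : X ⟶ Spec (CommRingCat.of k)) [LocallyOfFiniteType f]
    (n : ℕ) (U : X.Opens)
    (g : (U : Scheme.{u}) ⟶ 𝔸(ULift.{u} (Fin n); Spec (CommRingCat.of k)))
    (hg : g ≫ (𝔸(ULift.{u} (Fin n); Spec (CommRingCat.of k)) ↘ Spec (CommRingCat.of k)) = U.ι ≫ f)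
    (hs : Function.Surjective g) : (n : WithBot ℕ∞) ≤ topologicalKrullDim X := by
  haveI : LocallyOfFiniteType
      (g ≫ (𝔸(ULift.{u} (Fin n); Spec (CommRingCat.of k)) ↘ Spec (CommRingCat.of k))) := by
    rw [hg]; infer_instance
  haveI : LocallyOfFiniteType g := locallyOfFiniteType_of_comp g
    (𝔸(ULift.{u} (Fin n); Spec (CommRingCat.of k)) ↘ Spec (CommRingCat.of k))
  have h1 := dim_le_of_surjective k
    (𝔸(ULift.{u} (Fin n); Spec (CommRingCat.of k)) ↘ Spec (CommRingCat.of k)) g hs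
  rw [dim_affineSpace] at h1
  exact h1.trans (topologicalKrullDim_subspace_le X (U : Set X))

theorem backward_fin {X : Scheme.{u}} (f : X ⟶ Spec (CommRingCat.of k)) [LocallyOfFiniteType f]
    [NoetherianSpace X] (n : ℕ) (U : X.Opens) (hUd : Dense (U : Set X))
    (g : (U : Scheme.{u}) ⟶ 𝔸(ULift.{u} (Fin n); Spec (CommRingCat.of k))) [IsFinite g] :
    topologicalKrullDim X ≤ (n : WithBot ℕ∞) := by
  have h1 := dim_le_of_lqf k
    (𝔸(ULift.{u} (Fin n); Spec (CommRingCat.of k)) ↘ Spec (CommRingCat.of k)) g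
  rw [dim_affineSpace] at h1
  rw [← dim_of_dense k f U U.2 hUd]
  exact h1

set_option maxHeartbeats 1000000 in
/-- S3430 -/
theorem s3430 {X : Scheme.{u}} (f : X ⟶ Spec (CommRingCat.of k)) [LocallyOfFiniteType f]
    [QuasiCompact f] (n : ℕ) :
    ((n : WithBot ℕ∞) ≤ topologicalKrullDim (X : Type u) ↔
      ∃ (U : X.Opens) (g : (U : Scheme.{u}) ⟶ 𝔸(ULift.{u} (Fin n); Spec (CommRingCat.of k))),
        Dense (U : Set X) ∧ g ≫ (𝔸(ULift.{u} (Fin n); Spec (CommRingCat.of k)) ↘ Spec (CommRingCat.of k)) = U.ι ≫ f ∧ Function.Surjective g.base) ∧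
    (topologicalKrullDim (X : Type u) ≤ n ↔
      ∃ (U : X.Opens) (g : (U : Scheme.{u}) ⟶ 𝔸(ULift.{u} (Fin n); Spec (CommRingCat.of k))),
        Dense (U : Set X) ∧ g ≫ (𝔸(ULift.{u} (Fin n); Spec (CommRingCat.of k)) ↘ Spec (CommRingCat.of k)) = U.ι ≫ f ∧ IsFinite g) ∧
    (topologicalKrullDim (X : Type u) = n ↔
      ∃ (U : X.Opens) (g : (U : Scheme.{u}) ⟶ 𝔸(ULift.{u} (Fin n); Spec (CommRingCat.of k))),
        Dense (U : Set X) ∧ g ≫ (𝔸(ULift.{u} (Fin n); Spec (CommRingCat.of k)) ↘ Spec (CommRingCat.of k)) = U.ι ≫ f ∧ IsFinite g ∧ Function.Surjective g.base) := by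
  haveI : IsLocallyNoetherian X := LocallyOfFiniteType.isLocallyNoetherian f
  haveI : CompactSpace X := QuasiCompact.compactSpace_of_compactSpace f
  haveI : IsNoetherian X := { }
  haveI : NoetherianSpace X := inferInstance
  obtain ⟨U₀, hU₀d, hF1, hF2, hF3⟩ := forward_aux k f n
  refine ⟨⟨?_, ?_⟩, ⟨?_, ?_⟩, ⟨?_, ?_⟩⟩
  · intro h
    obtain ⟨g, hg1, hg2⟩ := hF1 h
    exact ⟨U₀, g, hU₀d, hg1, hg2⟩
  · rintro ⟨U, g, -, hg1, hg2⟩
    exact backward_surj k f n U g hg1 hg2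
  · intro h
    obtain ⟨g, hg1, hg2⟩ := hF2 h
    exact ⟨U₀, g, hU₀d, hg1, hg2⟩
  · rintro ⟨U, g, hUd, -, hg2⟩
    exact backward_fin k f n U hUd g
  · intro h
    obtain ⟨g, hg1, hg2, hg3⟩ := hF3 h
    exact ⟨U₀, g, hU₀d, hg1, hg2, hg3⟩
  · rintro ⟨U, g, hUd, hg1, hg2, hg3⟩
    exact le_antisymm (backward_fin k f n U hUd g) (backward_surj k f n U g hg1 hg3)

end Groth.Agent.Helper5.NNorm
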