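import Groth.Agent.S0566
import Groth.Agent.S9400
import Groth.Agent.Helper5.GorSp3
import Groth.Agent.Helper4.AlgSpSrc
import Mathlib

set_option autoImplicit false
set_option linter.style.haveILetI false
set_option linter.unusedSectionVars false
set_option linter.unusedVariables false
universe u
open CategoryTheory CategoryTheory.Limits AlgebraicGeometry Opposite

namespace Groth.Agent.Helper5.NagataSp

open AlgSp CAlg

theorem isNagata_of_ringEquiv {R T : Type u} [CommRing R] [CommRing T] (e : R ≃+* T)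
    (hR : IsNagata R) : IsNagata T := by
  letI : Algebra R T := e.toRingHom.toAlgebra
  haveI : Algebra.FiniteType R T :=
    Algebra.FiniteType.of_surjective (Algebra.ofId R T) e.surjective
  exact Groth.Agent.S0566.result R hR T

theorem isNagata_of_finiteType {R T : Type u} [CommRing R] [CommRing T] (φ : R →+* T)
    (hφ : φ.FiniteType) (hR : IsNagata R) : IsNagata T := by
  letI : Algebra R T := φ.toAlgebra
  haveI : Algebra.FiniteType R T := hφ
  exact Groth.Agent.S0566.result R hR T

set_option backward.isDefEq.respectTransparency.types false in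
/-- Nagata can be checked on basic opens covering an affine open -/
theorem isNagata_of_local {U : Scheme.{u}} {V : U.Opens} (hV : IsAffineOpen V)
    (H : ∀ v ∈ V, ∃ r : Γ(U, V), v ∈ U.basicOpen r ∧ IsNagata Γ(U, U.basicOpen r)) :
    IsNagata Γ(U, V) := by
  have hspan : Ideal.span {r : Γ(U, V) | IsNagata Γ(U, U.basicOpen r)} = ⊤ := by
    by_contra hne
    obtain ⟨m, hm, hle⟩ := Ideal.exists_le_maximal _ hne
    haveI := hm.isPrime
    let pt : PrimeSpectrum Γ(U, V) := ⟨m, inferInstance⟩
    have hvV : hV.fromSpec pt ∈ V := by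
      have : hV.fromSpec pt ∈ Set.range hV.fromSpec := ⟨pt, rfl⟩
      rw [hV.range_fromSpec] at this
      exact this
    obtain ⟨r, hr, hN⟩ := H _ hvV
    have h1 : pt ∈ hV.fromSpec ⁻¹ᵁ U.basicOpen r := hr
    rw [hV.fromSpec_preimage_basicOpen] at h1
    exact h1 (hle (Ideal.subset_span hN))
  obtain ⟨s', hs', hs'top⟩ := (Ideal.span_eq_top_iff_finite _).1 hspan
  refine Groth.Agent.S9400.result Γ(U, V) (ι := {x // x ∈ s'}) (fun i => i.1) ?_ ?_
  · have : Set.range (fun i : {x // x ∈ s'} => i.1) = (s' : Set Γ(U, V)) := by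
      ext x
      simp
    rw [this]; exact hs'top
  · rintro ⟨r, hr⟩
    have hN : IsNagata Γ(U, U.basicOpen r) := hs' hr
    haveI := hV.isLocalization_basicOpen r
    exact isNagata_of_ringEquiv
      (IsLocalization.algEquiv (Submonoid.powers r) Γ(U, U.basicOpen r)
        (Localization.Away r)).toRingEquiv hN

/-- the property of schemes -/
def P (U : Scheme.{u}) : Prop := ∀ V : U.Opens, IsAffineOpen V → IsNagata ↑Γ(U, V)

set_option backward.isDefEq.respectTransparency.types false in
theorem P_of_lft {U W : Scheme.{u}} (c : U ⟶ W) [LocallyOfFiniteType c] (hW : P W) : P U := by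
  intro V hV
  refine isNagata_of_local hV fun v hv => ?_
  obtain ⟨_, ⟨W', hW' : IsAffineOpen W', rfl⟩, hcW', -⟩ :=
    W.isBasis_affineOpens.exists_subset_of_mem_open (Set.mem_univ (c v)) isOpen_univ
  have hvmem : v ∈ (V ⊓ c ⁻¹ᵁ W' : U.Opens) := ⟨hv, hcW'⟩
  obtain ⟨r, hr1, hr2⟩ := hV.exists_basicOpen_le (V := V ⊓ c ⁻¹ᵁ W') ⟨v, hvmem⟩ hv
  refine ⟨r, hr2, ?_⟩
  have hD : IsAffineOpen (U.basicOpen r) := hV.basicOpen r
  have e : U.basicOpen r ≤ c ⁻¹ᵁ W' := hr1.trans inf_le_right
  exact isNagata_of_finiteType (c.appLE W' (U.basicOpen r) e).hom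
    (LocallyOfFiniteType.finiteType_appLE c hW' hD e) (hW W' hW')

variable {S : Scheme.{u}}

set_option backward.isDefEq.respectTransparency.types false in
theorem s9978 {X Y : AlgSp.Space S} (f : X ⟶ Y)
    (hf : AlgSp.LocP @LocallyOfFiniteType f.hom)
    (hY : AlgSp.EtaleLocally (fun U => ∀ V : U.Opens, IsAffineOpen V → CAlg.IsNagata ↑Γ(U, V)) Y.obj) :
    AlgSp.EtaleLocally (fun U => ∀ V : U.Opens, IsAffineOpen V → CAlg.IsNagata ↑Γ(U, V)) X.obj := by
  obtain ⟨W, q, hqe, hqs, hW⟩ := hY
  obtain ⟨U₀, a, hae, has⟩ := X.property.atlas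
  have hr := hqe.rep
  have hpb : IsPullback (hr.fst (a ≫ f.hom)) ((yon S).map (hr.snd (a ≫ f.hom))) q (a ≫ f.hom) :=
    hr.isPullback _
  obtain ⟨c, hc⟩ := (yon S).map_surjective (hr.fst (a ≫ f.hom))
  rw [← hc] at hpb
  have hee : Etale (hr.snd (a ≫ f.hom)).left := hqe.property _ _ _ hpb
  have hes : Surjective (hr.snd (a ≫ f.hom)).left := hqs.property _ _ _ hpb
  generalize hr.snd (a ≫ f.hom) = e at hpb hee hes
  have hae' : RepWith @Etale ((yon S).map e ≫ a) :=
    Groth.Agent.Helper5.GorSp.repWith_etale_yon_comp e hee a hae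
  have has' : RepWith @Surjective ((yon S).map e ≫ a) :=
    Groth.Agent.Helper4.AlgSpSrc.repWith_comp _ ((repWith_yon_map_iff _ _).2 hes) has
  haveI : LocallyOfFiniteType c.left :=
    hf ((yon S).map e ≫ a) q c hae' hqe (by rw [Category.assoc]; exact hpb.w.symm)
  exact ⟨_, (yon S).map e ≫ a, hae', has', P_of_lft c.left hW⟩

end Groth.Agent.Helper5.NagataSp
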