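import Mathlib
import Groth.Agent.Helper5.FibStalk
import Groth.Agent.Helper5.RedDesc
import Groth.Prelude

set_option autoImplicit false
set_option linter.unusedSectionVars false
set_option linter.style.haveILetI false
universe u

open AlgebraicGeometry CategoryTheory Limits

namespace Groth.Agent.Helper5.NeronEt

open Groth.Agent.Helper5.FibStalk

/-- local rings of a reduced locally Artinian scheme are fields -/
theorem isField_stalk_of_isLocallyArtinian (F : Scheme.{u}) [IsReduced F] [IsLocallyArtinian F]
    (y : F) : IsField (F.presheaf.stalk y) := by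
  obtain ⟨U, hU, hyU, -⟩ := exists_isAffineOpen_mem_and_subset (X := F) (x := y) (U := ⊤) trivial
  haveI : IsArtinianRing Γ(F, U) := IsLocallyArtinian.isArtinianRing_presheaf_obj ⟨U, hU⟩
  letI := F.presheaf.algebra_section_stalk ⟨y, hyU⟩
  haveI := hU.isLocalization_stalk ⟨y, hyU⟩
  haveI : IsArtinianRing (F.presheaf.stalk y) :=
    IsArtinianRing.localization_artinian (hU.primeIdealOf ⟨y, hyU⟩).asIdeal.primeCompl _
  exact IsArtinianRing.isField_of_isReduced_of_isLocalRing _

/-- **unramifiedness from the fibre**: in characteristic zero, if the fibre through `x` is smooth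
and `f` is locally quasi-finite, then the local homomorphism at `x` is formally unramified -/
theorem formallyUnramified_stalkMap_of_fiber {X S : Scheme.{u}} (f : X ⟶ S)
    [LocallyOfFiniteType f] [LocallyQuasiFinite f]
    (hchar : ∀ z : S, CharZero (S.residueField z)) (s : S)
    (hsm : Smooth (f.fiberToSpecResidueField s)) (y : ↥(f.fiber s)) :
    (f.stalkMap (f.fiberι s y)).hom.FormallyUnramified := by
  haveI := hsm
  haveI : IsReduced (f.fiber s) :=
    Groth.Agent.Helper5.RedDesc.isReduced_of_smooth (f.fiberToSpecResidueField s)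
  haveI : IsLocallyArtinian (f.fiber s) := inferInstance
  have hL : IsField ((f.fiber s).presheaf.stalk y) := isField_stalk_of_isLocallyArtinian _ y
  obtain ⟨hsurj, hker⟩ := s9501 f s y
  set x : X := f.fiberι s y with hx
  have hmax : (RingHom.ker ((f.fiberι s).stalkMap y).hom).IsMaximal := by
    apply Ideal.Quotient.maximal_of_isField
    exact (RingHom.quotientKerEquivOfSurjective hsurj).toMulEquiv.isField hL
  have hmap : Ideal.map (f.stalkMap x).hom (IsLocalRing.maximalIdeal (S.presheaf.stalk (f x))) =
      IsLocalRing.maximalIdeal (X.presheaf.stalk x) := by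
    rw [← hker]
    exact IsLocalRing.eq_maximalIdeal hmax
  algebraize [(f.stalkMap x).hom]
  haveI : IsLocalHom (algebraMap (S.presheaf.stalk (f x)) (X.presheaf.stalk x)) :=
    inferInstanceAs <| IsLocalHom (f.stalkMap x).hom
  haveI : Algebra.EssFiniteType (S.presheaf.stalk (f x)) (X.presheaf.stalk x) := by
    rw [← RingHom.essFiniteType_algebraMap, RingHom.algebraMap_toAlgebra]
    exact LocallyOfFiniteType.stalkMap f x
  haveI : Algebra.QuasiFinite (S.presheaf.stalk (f x)) (X.presheaf.stalk x) := by
    rw [← RingHom.quasiFinite_algebraMap, RingHom.algebraMap_toAlgebra]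
    exact f.quasiFiniteAt x
  haveI : Algebra.QuasiFinite (S.presheaf.stalk (f x))
      (IsLocalRing.ResidueField (X.presheaf.stalk x)) :=
    inferInstanceAs (Algebra.QuasiFinite (S.presheaf.stalk (f x))
      (X.presheaf.stalk x ⧸ IsLocalRing.maximalIdeal (X.presheaf.stalk x)))
  haveI : Algebra.QuasiFinite (IsLocalRing.ResidueField (S.presheaf.stalk (f x)))
      (IsLocalRing.ResidueField (X.presheaf.stalk x)) :=
    .of_restrictScalars (S.presheaf.stalk (f x)) _ _
  haveI : Module.Finite (IsLocalRing.ResidueField (S.presheaf.stalk (f x)))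
      (IsLocalRing.ResidueField (X.presheaf.stalk x)) := Module.Finite.of_quasiFinite
  haveI : CharZero (IsLocalRing.ResidueField (S.presheaf.stalk (f x))) := hchar (f x)
  haveI : Algebra.IsSeparable (IsLocalRing.ResidueField (S.presheaf.stalk (f x)))
      (IsLocalRing.ResidueField (X.presheaf.stalk x)) :=
    Algebra.IsAlgebraic.isSeparable_of_perfectField
  have : Algebra.FormallyUnramified (S.presheaf.stalk (f x)) (X.presheaf.stalk x) :=
    Algebra.FormallyUnramified.of_map_maximalIdeal hmap
  rw [← RingHom.formallyUnramified_algebraMap, RingHom.algebraMap_toAlgebra] at this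
  exact this

theorem formallyUnramified_of_fibers {X S : Scheme.{u}} (f : X ⟶ S)
    [LocallyOfFiniteType f] [LocallyQuasiFinite f]
    (hchar : ∀ z : S, CharZero (S.residueField z))
    (hfib : ∀ s : S, Smooth (f.fiberToSpecResidueField s)) : FormallyUnramified f := by
  refine HasRingHomProperty.of_stalkMap (P := @FormallyUnramified)
    RingHom.FormallyUnramified.ofLocalizationPrime ?_
  intro x
  obtain ⟨s, y, rfl⟩ : ∃ (s : S) (y : ↥(f.fiber s)), f.fiberι s y = x :=
    ⟨f x, f.asFiber x, f.fiberι_asFiber x⟩
  exact formallyUnramified_stalkMap_of_fiber f hchar s (hfib s) y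

end Groth.Agent.Helper5.NeronEt
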