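import Mathlib
import Groth.Agent.Helper5.UnrGu4
import Groth.Prelude

set_option autoImplicit false
set_option linter.unusedSectionVars false
set_option linter.style.haveILetI false
universe u

open AlgebraicGeometry CategoryTheory Limits TensorProduct

namespace Groth.Agent.Helper5.UnrGu

open Groth.Agent.Helper5.GuBir

/-- local step: if `f` is étale on an open neighbourhood `U` of `x`, `ξ ⤳ x` lies over the generic
point and `Y` is geometrically unibranch at `f x`, then `closure {ξ}` is a neighbourhood of `x` -/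
theorem exists_nhd_subset_closure {X Y : Scheme.{u}} (f : X ⟶ Y) [IsIntegral Y] (x ξ : X)
    (hY : CAlg2.IsGeomUnibranch (Y.presheaf.stalk (f x))) (hξx : ξ ⤳ x)
    (hξ : f ξ = genericPoint ↑Y) (U : X.Opens) (hxU : x ∈ U) (hU : Etale (U.ι ≫ f)) :
    ∃ N : X.Opens, x ∈ N ∧ N ≤ U ∧ (N : Set X) ⊆ closure {ξ} := by
  obtain ⟨V, hV, hyV, -⟩ := exists_isAffineOpen_mem_and_subset (X := Y) (x := f x) (U := ⊤) trivial
  obtain ⟨W, hW, hxW, hWle⟩ := exists_isAffineOpen_mem_and_subset (X := X) (x := x)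
    (U := U ⊓ f ⁻¹ᵁ V) ⟨hxU, hyV⟩
  have e : W ≤ f ⁻¹ᵁ V := hWle.trans inf_le_right
  have hWU : W ≤ U := hWle.trans inf_le_left
  haveI : Nonempty V := ⟨⟨f x, hyV⟩⟩
  haveI : IsDomain Γ(Y, V) := inferInstance
  have het : (f.appLE V W e).hom.Etale := by
    rw [← resLE_iff_appLE (P := @Etale) f V hV W hW e]
    have h1 : Etale (W.ι ≫ f) := by
      rw [← X.homOfLE_ι hWU, Category.assoc]
      infer_instance
    rw [← Scheme.Hom.resLE_comp_ι f e] at h1
    exact Etale.of_comp (f.resLE V W e) V.ι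
  algebraize [(f.appLE V W e).hom]
  let w := hW.primeIdealOf ⟨x, hxW⟩
  have hξW : ξ ∈ W := hξx.mem_open W.isOpen hxW
  let w' := hW.primeIdealOf ⟨ξ, hξW⟩
  have hw : hW.fromSpec w = x := hW.fromSpec_primeIdealOf ⟨x, hxW⟩
  have hw' : hW.fromSpec w' = ξ := hW.fromSpec_primeIdealOf ⟨ξ, hξW⟩
  have hsq : ∀ t : Spec Γ(X, W), hV.fromSpec (Spec.map (f.appLE V W e) t) = f (hW.fromSpec t) := by
    intro t
    rw [← Scheme.Hom.comp_apply, IsAffineOpen.SpecMap_appLE_fromSpec f hV hW e,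
      Scheme.Hom.comp_apply]
  have hle : w'.asIdeal ≤ w.asIdeal := by
    have h1 : (w' : Spec Γ(X, W)) ⤳ (w : Spec Γ(X, W)) :=
      (hW.fromSpec.isOpenEmbedding.isInducing.specializes_iff).1 (by rw [hw, hw']; exact hξx)
    exact (PrimeSpectrum.le_iff_specializes w' w).2 h1
  have hinjV : Function.Injective hV.fromSpec := hV.fromSpec.isOpenEmbedding.injective
  have hzero : w'.asIdeal.under Γ(Y, V) = ⊥ := by
    let z' := Spec.map (f.appLE V W e) w'
    have hz' : hV.fromSpec z' = genericPoint Y := by rw [hsq, hw', hξ]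
    let z₀ : Spec Γ(Y, V) := ⟨⊥, Ideal.isPrime_bot⟩
    have h1 : z₀ ⤳ z' := (PrimeSpectrum.le_iff_specializes z₀ z').1 bot_le
    have h2 : hV.fromSpec z₀ ⤳ hV.fromSpec z' := h1.map hV.fromSpec.continuous
    rw [hz'] at h2
    have h3 : hV.fromSpec z₀ = genericPoint Y :=
      (h2.antisymm (genericPoint_specializes _)).eq
    have h4 : z₀ = z' := hinjV (h3.trans hz'.symm)
    exact (congrArg PrimeSpectrum.asIdeal h4).symm
  have hgu : CAlg2.IsGeomUnibranch ((Spec (CommRingCat.of Γ(Y, V))).presheaf.stalk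
      (Spec.map (CommRingCat.ofHom (algebraMap Γ(Y, V) Γ(X, W))) ⟨w.asIdeal, w.isPrime⟩)) := by
    have h1 : hV.fromSpec (Spec.map (f.appLE V W e) w) = f x := by rw [hsq, hw]
    have h2 := (gu_stalk_congr h1.symm).1 hY
    exact (gu_stalk_chart V hV _).1 h2
  haveI := w.isPrime
  haveI := w'.isPrime
  obtain ⟨c, hcq, hc⟩ := exists_kill Γ(Y, V) Γ(X, W) w.asIdeal w'.asIdeal hle hzero
    (core Γ(Y, V) Γ(X, W) w.asIdeal hgu)
  have hDW : X.basicOpen c ≤ W := X.basicOpen_le c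
  refine ⟨X.basicOpen c, ?_, hDW.trans hWU, ?_⟩
  · have h5 : w ∈ hW.fromSpec ⁻¹ᵁ X.basicOpen c := by
      rw [hW.fromSpec_preimage_basicOpen]
      exact hcq
    rw [← hw]
    exact h5
  · intro t ht
    have htW : t ∈ W := hDW ht
    let τ := hW.primeIdealOf ⟨t, htW⟩
    have hτ : hW.fromSpec τ = t := hW.fromSpec_primeIdealOf ⟨t, htW⟩
    have hcτ : c ∉ τ.asIdeal := by
      have h5 : τ ∈ hW.fromSpec ⁻¹ᵁ X.basicOpen c := by
        show hW.fromSpec τ ∈ X.basicOpen c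
        rw [hτ]; exact ht
      rw [hW.fromSpec_preimage_basicOpen] at h5
      exact h5
    have hle' : w'.asIdeal ≤ τ.asIdeal := by
      intro j hj
      have h6 : c * j ∈ τ.asIdeal := by rw [hc j hj]; exact τ.asIdeal.zero_mem
      rcases τ.isPrime.mem_or_mem h6 with h7 | h7
      · exact absurd h7 hcτ
      · exact h7
    have h8 : (w' : Spec Γ(X, W)) ⤳ (τ : Spec Γ(X, W)) :=
      (PrimeSpectrum.le_iff_specializes w' τ).1 hle'
    have h9 : hW.fromSpec w' ⤳ hW.fromSpec τ := h8.map hW.fromSpec.continuous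
    rw [hw', hτ] at h9
    exact specializes_iff_mem_closure.1 h9

theorem s1450 {X Y : Scheme.{u}} (f : X ⟶ Y) [IsIntegral Y]
    (hY : ∀ y : Y, CAlg2.IsGeomUnibranch (Y.presheaf.stalk y))
    [ConnectedSpace ↑X] [FormallyUnramified f] [LocallyOfFiniteType f]
    (hdom : genericPoint ↑Y ∈ Set.range ⇑f) :
    Etale f ∧ IrreducibleSpace ↑X := by
  obtain ⟨ξ, hξ⟩ := hdom
  have hloc : ∀ x : X, ξ ⤳ x → ∃ N : X.Opens, x ∈ N ∧ Etale (N.ι ≫ f) ∧
      (N : Set X) ⊆ closure {ξ} := by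
    intro x hξx
    obtain ⟨U, hxU, hU⟩ := s1451 f x (hY _) ⟨ξ, hξx, hξ⟩
      ⟨⊤, trivial, MorphismProperty.comp_mem _ _ _
        (inferInstance : FormallyUnramified (⊤ : X.Opens).ι) inferInstance⟩
    obtain ⟨N, hxN, hNU, hN⟩ := exists_nhd_subset_closure f x ξ (hY _) hξx hξ U hxU hU
    refine ⟨N, hxN, ?_, hN⟩
    rw [← X.homOfLE_ι hNU, Category.assoc]
    infer_instance
  have hopen : IsOpen (closure ({ξ} : Set X)) := by
    rw [isOpen_iff_forall_mem_open]
    intro x hx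
    obtain ⟨N, hxN, -, hN⟩ := hloc x (specializes_iff_mem_closure.2 hx)
    exact ⟨N, hN, N.isOpen, hxN⟩
  have huniv : closure ({ξ} : Set X) = Set.univ :=
    IsClopen.eq_univ ⟨isClosed_closure, hopen⟩ ⟨ξ, subset_closure rfl⟩
  have hall : ∀ x : X, ξ ⤳ x := fun x =>
    specializes_iff_mem_closure.2 (by rw [huniv]; trivial)
  refine ⟨?_, ?_⟩
  · choose N hxN hN _ using fun x => hloc x (hall x)
    rw [IsZariskiLocalAtSource.iff_of_iSup_eq_top (P := @Etale) N]
    · exact hN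
    · rw [eq_top_iff]
      rintro x -
      exact TopologicalSpace.Opens.mem_iSup.2 ⟨x, hxN x⟩
  · rw [irreducibleSpace_def]
    show IsIrreducible (Set.univ : Set X)
    rw [← huniv]
    exact isIrreducible_singleton.closure

end Groth.Agent.Helper5.UnrGu
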