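import Mathlib
import Groth.Agent.Helper5.NeronEt1
import Groth.Agent.Helper5.NeronEt2
import Groth.Agent.Helper5.NeronEt3
import Groth.Agent.Helper5.UnrGu5
import Groth.Agent.Helper5.UnrGu7
import Groth.Agent.Helper5.UnrGu12
import Groth.Prelude

set_option autoImplicit false
set_option linter.unusedSectionVars false
set_option linter.style.haveILetI false
universe u

open AlgebraicGeometry CategoryTheory Limits TopologicalSpace

namespace Groth.Agent.Helper5.NeronEt

open Groth.Agent.Helper5.UnrGu

theorem charZero_residueField {k : Type u} [Field k] [CharZero k] {S : Scheme.{u}}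
    (σ : S ⟶ Spec (CommRingCat.of k)) (z : S) : CharZero (S.residueField z) := by
  let ρ : CommRingCat.of k ⟶ S.residueField z :=
    (Scheme.ΓSpecIso (CommRingCat.of k)).inv ≫ σ.appTop ≫ S.presheaf.germ ⊤ z trivial ≫ S.residue z
  exact charZero_of_injective_ringHom (f := ρ.hom) (RingHom.injective _)

theorem s13423 {k : Type u} [Field k] [CharZero k] {S : Scheme.{u}}
    (σ : S ⟶ Spec (CommRingCat.of k)) [IsLocallyNoetherian S] [IsReduced S]
    (hS : ∀ s : S, CAlg2.IsGeomUnibranch (S.presheaf.stalk s))
    {X : Scheme.{u}} (f : X ⟶ S) [LocallyOfFiniteType f] [QuasiCompact f] [LocallyQuasiFinite f]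
    [IsDominant f] [ConnectedSpace X]
    (hfib : ∀ s : S, Smooth (Limits.pullback.snd f (S.fromSpecResidueField s))) :
    Etale f := by
  have hchar : ∀ z : S, CharZero (S.residueField z) := charZero_residueField σ
  haveI : FormallyUnramified f := formallyUnramified_of_fibers f hchar hfib
  have hdom : ∀ z : S, IsDomain (S.presheaf.stalk z) := fun z =>
    isDomain_of_gu_of_isReduced _ (hS z)
  obtain ⟨x₀⟩ := (inferInstance : Nonempty X)
  obtain ⟨η, hη, -⟩ := exists_generic_specializes (f x₀)
  obtain ⟨ξ, hξ⟩ := mem_range_of_mem_genericPoints f η hη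
  let Z : Set S := closure {η}
  have hgen : ∀ a b : S, a ⤳ b → b ∈ Z → a ∈ Z := by
    intro a b hab hb
    obtain ⟨η', hη', hη'a⟩ := exists_generic_specializes a
    have h1 : η' = η := unique_generic_of_isDomain b (hdom b) η' η hη' hη (hη'a.trans hab)
      (specializes_iff_mem_closure.2 hb)
    subst h1
    exact specializes_iff_mem_closure.1 hη'a
  have hZo : IsOpen Z := by
    have h1 := isClosed_of_isOpen_of_stableUnderSpecialization S Zᶜ isClosed_closure.isOpen_compl
      (fun a b hab ha hb => ha (hgen a b hab hb))
    have h2 := h1.isOpen_compl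
    rwa [compl_compl] at h2
  have hpre : f ⁻¹' Z = Set.univ :=
    IsClopen.eq_univ ⟨isClosed_closure.preimage f.continuous, hZo.preimage f.continuous⟩
      ⟨ξ, by show f ξ ∈ Z; rw [hξ]; exact subset_closure rfl⟩
  have hZuniv : Z = Set.univ := by
    have h1 : Set.range f ⊆ Z := by
      rintro _ ⟨x, rfl⟩
      have : x ∈ f ⁻¹' Z := by rw [hpre]; trivial
      exact this
    have h2 : closure (Set.range f) ⊆ Z := closure_minimal h1 isClosed_closure
    rw [f.denseRange.closure_range] at h2
    exact Set.eq_univ_of_univ_subset h2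
  haveI : IrreducibleSpace S := by
    rw [irreducibleSpace_def]
    show IsIrreducible (Set.univ : Set S)
    rw [← hZuniv]
    exact isIrreducible_singleton.closure
  haveI : IsIntegral S := isIntegral_of_irreducibleSpace_of_isReduced S
  have hηg : η = genericPoint S := eq_genericPoint_of_mem_genericPoints η hη
  exact (s1450 f hS ⟨ξ, hξ.trans hηg⟩).1

end Groth.Agent.Helper5.NeronEt
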