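import Groth.Agent.Helper5.QuotEff2

set_option autoImplicit false
universe u
open CategoryTheory CategoryTheory.Limits AlgebraicGeometry Opposite

namespace Groth.Agent.Helper5.QuotEff

open AlgSp Groth.Agent.Helper4

variable {S : Scheme.{u}}

set_option backward.isDefEq.respectTransparency false

theorem epi_of_loc_lift {F G : Sp S} (q : F ⟶ G)
    (h : ∀ (T : Over S) (z : (yon S).obj T ⟶ G), ∃ R' : Sieve T, R' ∈ J S T ∧
      ∀ ⦃T' : Over S⦄ (f : T' ⟶ T), R' f → ∃ z' : (yon S).obj T' ⟶ F, z' ≫ q = (yon S).map f ≫ z) :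
    Epi q := by
  rw [← Sheaf.isLocallySurjective_iff_epi' (Type (u + 1)) q]
  constructor
  intro T x
  obtain ⟨R', hR', hl⟩ := h T ((J S).uliftYonedaEquiv.symm x)
  refine (J S).superset_covering ?_ hR'
  intro T' f hf
  obtain ⟨z', hz'⟩ := hl f hf
  refine ⟨(J S).uliftYonedaEquiv z', ?_⟩
  have := congrArg (J S).uliftYonedaEquiv hz'
  rw [GrothendieckTopology.uliftYonedaEquiv_comp,
    ← GrothendieckTopology.uliftYonedaEquiv_naturality, Equiv.apply_symm_apply] at this
  exact this

/-- Effectivity of equivalence relations of fppf sheaves: `R = U ×_{U/R} U`. -/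
theorem isPullback_quot {R U : Sp S} (s t : R ⟶ U) (h : IsEqvRelSp s t) :
    IsPullback t s (quotSpπ s t) (quotSpπ s t) := by
  let k : R ⟶ pullback (quotSpπ s t) (quotSpπ s t) :=
    pullback.lift t s (quotSp_condition s t).symm
  have hk1 : k ≫ pullback.fst _ _ = t := pullback.lift_fst _ _ _
  have hk2 : k ≫ pullback.snd _ _ = s := pullback.lift_snd _ _ _
  have hmono : Mono k := by
    apply AlgSpBasic.mono_of_yon
    intro T a b hab
    apply h.injective T
    · rw [← hk1, ← Category.assoc, hab, Category.assoc]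
    · rw [← hk2, ← Category.assoc, hab, Category.assoc]
  have hepi : Epi k := by
    apply epi_of_loc_lift
    intro T z
    obtain ⟨R', hR', hrel⟩ := exists_cover_relM s t h.equivalence T
      (z ≫ pullback.fst _ _) (z ≫ pullback.snd _ _)
      (by rw [Category.assoc, Category.assoc, pullback.condition])
    refine ⟨R', hR', ?_⟩
    intro T' f hf
    obtain ⟨ρ, hρ1, hρ2⟩ := hrel f hf
    refine ⟨ρ, ?_⟩
    apply pullback.hom_ext
    · rw [Category.assoc, hk1, hρ1, Category.assoc]
    · rw [Category.assoc, hk2, hρ2, Category.assoc]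
  have hiso : IsIso k := isIso_of_mono_of_epi k
  exact IsPullback.of_iso_pullback ⟨(quotSp_condition s t).symm⟩ (asIso k) hk1 hk2

end Groth.Agent.Helper5.QuotEff
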