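import Groth.Agent.Helper5.QuotOpenG1
import Groth.Agent.Helper5.QuotEff4
import Groth.Agent.Helper5.SpCoprod1
import Groth.Agent.Helper5.PbEpi
import Groth.Agent.Helper4.AlgSpSrc
import Mathlib

set_option autoImplicit false
set_option linter.style.haveILetI false
set_option linter.unusedSectionVars false
set_option linter.unusedVariables false
universe u
open CategoryTheory CategoryTheory.Limits AlgebraicGeometry Opposite

namespace Groth.Agent.Helper5.NeronSp

open AlgSp Groth.Agent.Helper4 Groth.Agent.Helper5.QuotOpenG Groth.Agent.Helper5.QuotEff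
  Groth.Agent.Helper5.SpCoprod

variable {S : Scheme.{u}} (U : S.Opens)

/-- `Y ×_S U` over `S` -/
noncomputable abbrev bc (Y : Over S) : Over S := (Over.map U.ι).obj ((Over.pullback U.ι).obj Y)

/-- the projection `Y ×_S U ⟶ Y` -/
noncomputable abbrev ε (Y : Over S) : bc U Y ⟶ Y := (Over.mapPullbackAdj U.ι).counit.app Y

/-- the projection `Y ×_S U ⟶ U` -/
noncomputable def π (Y : Over S) : bc U Y ⟶ Over.mk U.ι :=
  Over.homMk (pullback.snd Y.hom U.ι) rfl

/-- functoriality of the base change -/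
noncomputable abbrev bcMap {R V : Over S} (r : R ⟶ V) : bc U R ⟶ bc U V :=
  (Over.map U.ι).map ((Over.pullback U.ι).map r)

theorem bcMap_ε {R V : Over S} (r : R ⟶ V) : bcMap U r ≫ ε U V = ε U R ≫ r :=
  (Over.mapPullbackAdj U.ι).counit.naturality r

theorem bcMap_π {R V : Over S} (r : R ⟶ V) : bcMap U r ≫ π U V = π U R := by
  apply Over.OverMorphism.ext
  simp only [π, Over.comp_left, Over.homMk_left, Over.map_map_left, Over.pullback_map_left]
  exact pullback.lift_snd _ _ _

theorem ε_left (Y : Over S) : (ε U Y).left = pullback.fst Y.hom U.ι := by simp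

/-- the pairing into `Y ×_S U` -/
noncomputable def pair {T Y : Over S} (α : T ⟶ Y) (β : T ⟶ Over.mk U.ι) : T ⟶ bc U Y :=
  Over.homMk (pullback.lift α.left β.left (by rw [Over.w α]; exact (Over.w β).symm)) (by
    show pullback.lift α.left β.left _ ≫ pullback.snd Y.hom U.ι ≫ U.ι = T.hom
    rw [pullback.lift_snd_assoc]
    exact Over.w β)

theorem pair_ε {T Y : Over S} (α : T ⟶ Y) (β : T ⟶ Over.mk U.ι) : pair U α β ≫ ε U Y = α := by
  apply Over.OverMorphism.ext
  rw [Over.comp_left, ε_left]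
  exact pullback.lift_fst _ _ _

theorem pair_π {T Y : Over S} (α : T ⟶ Y) (β : T ⟶ Over.mk U.ι) : pair U α β ≫ π U Y = β := by
  apply Over.OverMorphism.ext
  exact pullback.lift_snd _ _ _

/-- the canonical map `h_{Y ×_S U} ⟶ F × h_U` attached to `a : h_Y ⟶ F` -/
noncomputable def m {F : Sp S} {Y : Over S} (a : (yon S).obj Y ⟶ F) :
    (yon S).obj (bc U Y) ⟶ F ⨯ (yon S).obj (Over.mk U.ι) :=
  prod.lift ((yon S).map (ε U Y) ≫ a) ((yon S).map (π U Y))

theorem m_fst {F : Sp S} {Y : Over S} (a : (yon S).obj Y ⟶ F) :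
    m U a ≫ prod.fst = (yon S).map (ε U Y) ≫ a := prod.lift_fst _ _

theorem m_snd {F : Sp S} {Y : Over S} (a : (yon S).obj Y ⟶ F) :
    m U a ≫ prod.snd = (yon S).map (π U Y) := prod.lift_snd _ _

theorem m_comp {F : Sp S} {R V : Over S} (r : R ⟶ V) (a : (yon S).obj V ⟶ F) :
    (yon S).map (bcMap U r) ≫ m U a = m U ((yon S).map r ≫ a) := by
  apply Limits.prod.hom_ext
  · rw [Category.assoc, m_fst, m_fst, ← Category.assoc, ← Functor.map_comp, bcMap_ε,
      Functor.map_comp, Category.assoc]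
  · rw [Category.assoc, m_snd, m_snd, ← Functor.map_comp, bcMap_π]

/-- `m` is an epimorphism when `a` is -/
theorem epi_m {F : Sp S} {Y : Over S} (a : (yon S).obj Y ⟶ F) [Epi a] : Epi (m U a) := by
  refine epi_of_loc_lift _ (fun T z => ?_)
  obtain ⟨R', hR', hl⟩ := loc_lift a (z ≫ prod.fst)
  refine ⟨R', hR', fun T' f hf => ?_⟩
  obtain ⟨a', ha'⟩ := hl f hf
  obtain ⟨α, rfl⟩ := (yon S).map_surjective a'
  obtain ⟨β, hβ⟩ := (yon S).map_surjective ((yon S).map f ≫ z ≫ prod.snd)
  refine ⟨(yon S).map (pair U α β), ?_⟩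
  apply Limits.prod.hom_ext
  · rw [Category.assoc, m_fst, ← Category.assoc, ← Functor.map_comp, pair_ε, ha', Category.assoc]
  · rw [Category.assoc, m_snd, ← Functor.map_comp, pair_π, hβ, Category.assoc]

end Groth.Agent.Helper5.NeronSp
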