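import Groth.Agent.Helper5.NeronSp1
import Groth.Agent.Helper5.EtGlue
import Mathlib

set_option autoImplicit false
set_option linter.style.haveILetI false
set_option linter.unusedSectionVars false
set_option linter.unusedVariables false
universe u
open CategoryTheory CategoryTheory.Limits AlgebraicGeometry Opposite

namespace Groth.Agent.Helper5.NeronSp

open AlgSp Groth.Agent.Helper4 Groth.Agent.Helper5.QuotOpenG Groth.Agent.Helper5.QuotEff
  Groth.Agent.Helper5.SpCoprod

/-- the Néron mapping property extends from smooth schemes to smooth algebraic spaces -/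
theorem s13209 {S : Scheme.{u}} (U : S.Opens) (N : Over S)
    (hN : ∀ Y : Over S, Smooth Y.hom →
      Function.Bijective (fun g : Y ⟶ N => (Over.mapPullbackAdj U.ι).counit.app Y ≫ g))
    (F : Sp S) (hF : IsAlgSpace F)
    (sF : F ⟶ (yon S).obj (Over.mk (𝟙 S))) (hsm : LocP @Smooth sF) :
    Function.Bijective (fun φ : F ⟶ (yon S).obj N =>
      (Limits.prod.fst : F ⨯ (yon S).obj (Over.mk U.ι) ⟶ F) ≫ φ) := by
  obtain ⟨V, p, hpe, hps⟩ := hF.atlas
  haveI : Epi p := EtGlue.epi_of_etale_surjective p hpe hps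
  haveI := epi_m U p
  have hVsm : Smooth V.hom := by
    have := hsm p (𝟙 _) (Over.homMk V.hom : V ⟶ Over.mk (𝟙 S)) hpe (repWith_id _ _) (by
      rw [Category.comp_id]; exact isTerminalYon.hom_ext _ _)
    simpa using this
  have hr := hF.representable_from_yon p
  obtain ⟨r₁, hr₁⟩ := (yon S).map_surjective (hr.fst p)
  have hpb : IsPullback ((yon S).map r₁) ((yon S).map (hr.snd p)) p p := by
    rw [hr₁]; exact hr.isPullback p
  have hRsm : Smooth (hr.pullback p).hom := by
    have he : Etale (hr.snd p).left := hpe.property _ _ _ hpb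
    have h1 : (hr.pullback p).hom = (hr.snd p).left ≫ V.hom := (Over.w _).symm
    rw [h1]; infer_instance
  constructor
  · intro φ₁ φ₂ h
    dsimp only at h
    obtain ⟨g₁, hg₁⟩ := (yon S).map_surjective (p ≫ φ₁)
    obtain ⟨g₂, hg₂⟩ := (yon S).map_surjective (p ≫ φ₂)
    have h2 : ε U V ≫ g₁ = ε U V ≫ g₂ := by
      apply (yon S).map_injective
      rw [Functor.map_comp, Functor.map_comp, hg₁, hg₂, ← Category.assoc, ← Category.assoc,
        ← m_fst, Category.assoc, Category.assoc, h]
    have h3 : g₁ = g₂ := (hN V hVsm).1 h2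
    rw [← cancel_epi p, ← hg₁, ← hg₂, h3]
  · intro ψ
    obtain ⟨k, hk⟩ := (yon S).map_surjective (m U p ≫ ψ)
    obtain ⟨g, hg⟩ := (hN V hVsm).2 k
    dsimp only at hg
    have hr12 : r₁ ≫ g = hr.snd p ≫ g := by
      apply (hN _ hRsm).1
      show ε U _ ≫ r₁ ≫ g = ε U _ ≫ hr.snd p ≫ g
      have hg' : ε U V ≫ g = k := hg
      rw [← Category.assoc, ← Category.assoc, ← bcMap_ε, ← bcMap_ε, Category.assoc, Category.assoc,
        hg']
      apply (yon S).map_injective
      rw [Functor.map_comp, Functor.map_comp, hk, ← Category.assoc, ← Category.assoc, m_comp,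
        m_comp, hpb.w]
    obtain ⟨φ, hφ⟩ := exists_desc_of_epi p ((yon S).map g) (by
      intro T a b hab
      obtain ⟨l, hl₁, hl₂⟩ := hpb.exists_lift a b hab
      rw [← hl₁, ← hl₂, Category.assoc, Category.assoc, ← Functor.map_comp, ← Functor.map_comp,
        hr12])
    refine ⟨φ, ?_⟩
    dsimp only
    rw [← cancel_epi (m U p), ← Category.assoc, m_fst, Category.assoc, hφ, ← Functor.map_comp,
      ← hk]
    exact congrArg _ hg

end Groth.Agent.Helper5.NeronSp
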