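import Mathlib
import Groth.Prelude
import Groth.Agent.Helper5.NeutJ
import Groth.Agent.Lead.ConnHartogs
import Groth.Agent.Helper2.LfpComp

set_option autoImplicit false
set_option linter.style.haveILetI false
universe u

namespace Groth.Agent.Helper5.Neut

open AlgebraicGeometry CategoryTheory CategoryTheory.Limits MonoidalCategory
  CartesianMonoidalCategory MonObj GrpObj TopologicalSpace Topology
open Groth.Agent.Helper3.ArtConn

variable {S : Scheme.{u}} (G H : Over S) [GrpObj G] [GrpObj H]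

/-- if the fibres are locally of finite type, the neutral component of a fibre is relatively
open -/
theorem exists_open_inter_fiber_eq [LocallyOfFiniteType G.hom] (t : S) :
    ∃ O : G.left.Opens, (O : Set G.left) ∩ G.hom ⁻¹' {t} =
      connectedComponentIn (G.hom ⁻¹' {t}) (e G t) := by
  haveI : LocallyOfFiniteType (Gt G t).hom :=
    inferInstanceAs (LocallyOfFiniteType (pullback.snd G.hom (it t)))
  haveI : IsLocallyNoetherian (Gt G t).left :=
    LocallyOfFiniteType.isLocallyNoetherian (Gt G t).hom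
  haveI : LocallyConnectedSpace (Gt G t).left :=
    Groth.Agent.Lead.ConnHartogs.locallyConnectedSpace
  have hopen : IsOpen (connectedComponent (η[Gt G t].left (pts t))) := isOpen_connectedComponent
  obtain ⟨O, hO, hOeq⟩ := (isEmbedding_pr t G).isInducing.isOpen_iff.1 hopen
  refine ⟨⟨O, hO⟩, ?_⟩
  rw [ccIn_eq, ← hOeq, Set.image_preimage_eq_inter_range, range_pr]
  rfl

variable (u : G ⟶ H) [IsMonHom u]

/-- lifting points of `H × H` with coordinates in the image of `u` -/
theorem exists_lift_tensor (z : (H ⊗ H).left) (a b : G.left) (ha : (fst H H).left z = u.left a)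
    (hb : (snd H H).left z = u.left b) :
    ∃ w : (G ⊗ G).left, (u ⊗ₘ u).left w = z ∧ (fst G G).left w = a ∧ (snd G G).left w = b := by
  obtain ⟨z₁, hz₁, hz₁b⟩ := Groth.Agent.Helper5.PairPt.exists_point_of_isPullback _ _ _ _
    (Groth.Agent.Helper3.GrpImg1.isPullback_whiskerLeft u H) z b hb
  have hfst : (fst H G).left z₁ = u.left a := by
    rw [← ha, ← hz₁, ← Scheme.Hom.comp_apply, ← Over.comp_left, whiskerLeft_fst]
  obtain ⟨w, hw, hwa⟩ := Groth.Agent.Helper5.PairPt.exists_point_of_isPullback _ _ _ _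
    (Groth.Agent.Helper5.GrpDense.isPullback_whiskerRight u G) z₁ a hfst
  refine ⟨w, ?_, hwa, ?_⟩
  · rw [MonoidalCategory.tensorHom_def, Over.comp_left, Scheme.Hom.comp_apply, hw, hz₁]
  · rw [← hz₁b, ← hw, ← Scheme.Hom.comp_apply, ← Over.comp_left, whiskerRight_snd]

theorem image_neutralSet_eq_of_flat [LocallyOfFinitePresentation G.hom]
    [LocallyOfFinitePresentation H.hom] [Flat u.left] :
    u.left.base '' SGA3x.neutralSet G = SGA3x.neutralSet H := by
  apply Set.Subset.antisymm (image_neutralSet_subset H G u)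
  intro h hh
  obtain ⟨t, ht⟩ : ∃ t, H.hom h = t := ⟨_, rfl⟩
  haveI : LocallyOfFinitePresentation (u.left ≫ H.hom) := by rw [Over.w u]; infer_instance
  haveI : LocallyOfFinitePresentation u.left :=
    Groth.Agent.Helper2.LfpComp.locallyOfFinitePresentation_of_comp u.left H.hom inferInstance
      inferInstance
  obtain ⟨OG, hOG⟩ := exists_open_inter_fiber_eq G t
  let O : H.left.Opens := ⟨u.left '' (OG : Set G.left), u.left.isOpenMap _ OG.2⟩
  have hue : ∀ v, u.left (e G v) = e H v := fun v => by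
    rw [← Scheme.Hom.comp_apply, e_comp_hom]
  have hGu : ∀ x, H.hom (u.left x) = G.hom x := fun x => by
    rw [← Scheme.Hom.comp_apply, Over.w u]
  have heO : e H (H.hom h) ∈ O := by
    rw [ht]
    refine ⟨e G t, ?_, hue t⟩
    have : e G t ∈ (OG : Set G.left) ∩ G.hom ⁻¹' {t} := by
      rw [hOG]; exact mem_connectedComponentIn (hom_e G t)
    exact this.1
  obtain ⟨z, hz1, hz2, hz3⟩ := exists_mul H h hh O heO
  have hzt : (H ⊗ H).hom z = t := by rw [← hom_mul, hz1, ht]
  have key : ∀ y ∈ (O : Set H.left), H.hom y = t → ∃ x ∈ SGA3x.neutralSet G, u.left x = y := by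
    rintro _ ⟨x, hx, rfl⟩ hy
    have hxt : G.hom x = t := by rw [← hGu]; exact hy
    refine ⟨x, ?_, rfl⟩
    rw [mem_neutralSet_iff G hxt, ← hOG]
    exact ⟨hx, hxt⟩
  obtain ⟨a, ha0, ha⟩ := key _ hz2.1 (by rw [hom_fst, hzt])
  obtain ⟨b, hb0, hb⟩ := key _ hz3.1 (by rw [hom_snd, hzt])
  obtain ⟨w, hw, hwa, hwb⟩ := exists_lift_tensor G H u z a b ha.symm hb.symm
  refine ⟨μ[G].left w, mul_mem G w (hwa ▸ ha0) (hwb ▸ hb0), ?_⟩
  show u.left (μ[G].left w) = h
  rw [← hz1, ← hw, ← Scheme.Hom.comp_apply, ← Over.comp_left, IsMonHom.mul_hom, Over.comp_left,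
    Scheme.Hom.comp_apply]

end Groth.Agent.Helper5.Neut
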