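import Mathlib
import Groth.Prelude
import Groth.Agent.Helper5.NeutK
import Groth.Agent.Helper2.FibSmAt
import Groth.Agent.Helper5.FlatOrbit3
import Groth.Agent.Helper5.DomHom1

set_option autoImplicit false
set_option linter.style.haveILetI false
universe u

namespace Groth.Agent.Helper5.Neut

open AlgebraicGeometry CategoryTheory CategoryTheory.Limits MonoidalCategory
  CartesianMonoidalCategory MonObj GrpObj TopologicalSpace Topology
open Groth.Agent.Helper3.ArtConn

/-- the fibrewise criterion of flatness, globally -/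
theorem flat_of_flat_fibres {X Y S : Scheme.{u}} (f : X ⟶ Y) (g : Y ⟶ S) (h : X ⟶ S)
    (w : f ≫ g = h) [LocallyOfFinitePresentation h] [LocallyOfFiniteType g] [Flat h]
    (hfib : ∀ s : S, Flat (pullback.map h (S.fromSpecResidueField s) g (S.fromSpecResidueField s)
      f (𝟙 _) (𝟙 _) (by rw [w, Category.comp_id]) (by simp))) : Flat f := by
  subst w
  rw [Flat.iff_flat_stalkMap]
  intro x
  set s := (f ≫ g) x with hs
  set x' := (f ≫ g).asFiber x with hx'
  have hpt : (f ≫ g).fiberι s x' = x := Scheme.Hom.fiberι_asFiber _ _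
  have hflat : ((f ≫ g).stalkMap ((f ≫ g).fiberι s x')).hom.Flat :=
    (Flat.iff_flat_stalkMap (f ≫ g)).1 inferInstance _
  have key := Groth.Agent.Helper2.FibSmAt.flat_iff_fibre f g s x' hflat
  rw [hpt] at key
  rw [key]
  have heq : MoreMor.fiberMap f g s = pullback.map (f ≫ g) (S.fromSpecResidueField s) g
      (S.fromSpecResidueField s) f (𝟙 _) (𝟙 _) (by rw [Category.comp_id]) (by simp) := by
    apply pullback.hom_ext
    · rw [MoreMor.fiberMap, pullback.lift_fst]
      exact (pullback.lift_fst _ _ _).symm
    · rw [MoreMor.fiberMap, pullback.lift_snd]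
      exact ((pullback.lift_snd _ _ _).trans (Category.comp_id _)).symm
  rw [heq]
  exact (Flat.iff_flat_stalkMap _).1 (hfib s) x'

section grp

open scoped Obj

variable {S : Scheme.{u}} (G H : Over S) [GrpObj G] [GrpObj H] (u : G ⟶ H) [IsMonHom u]

/-- the homomorphism induced on the fibres over a point -/
noncomputable abbrev ut (s : S) : Gt G s ⟶ Gt H s := (Over.pullback (it s)).map u

theorem pr_ut (s : S) (ξ : (Gt G s).left) :
    pr (it s) H ((ut G H u s).left ξ) = u.left (pr (it s) G ξ) := by
  rw [← Scheme.Hom.comp_apply, pr_natural, Scheme.Hom.comp_apply]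

theorem flat_ut (s : S) [IsReduced (Gt H s).left]
    (himg : SGA3x.neutralSet H ⊆ u.left '' SGA3x.neutralSet G) : Flat (ut G H u s).left := by
  haveI : IsMonHom (ut G H u s) := inferInstance
  haveI : Flat (Gt G s).hom := inferInstance
  set C0 := irreducibleComponent (η[Gt H s].left (pts s)) with hC0def
  have hC0 : C0 ∈ irreducibleComponents (Gt H s).left :=
    irreducibleComponent_mem_irreducibleComponents _
  have he : η[Gt H s].left (pts s) ∈ C0 := mem_irreducibleComponent
  have hcc := Groth.Agent.Helper2.HS6.connectedComponent_eq (Gt H s) C0 hC0 (pts s) he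
  have hcl : IsClosed C0 := isClosed_of_mem_irreducibleComponents C0 hC0
  have hgen : IsGenericPoint hC0.1.genericPoint C0 := by
    have := hC0.1.isGenericPoint_genericPoint_closure
    rwa [hcl.closure_eq] at this
  set ζ := hC0.1.genericPoint with hζdef
  have hζgen : ζ ∈ genericPoints (Gt H s).left := by
    show closure {ζ} ∈ irreducibleComponents (Gt H s).left
    rw [hgen.def]; exact hC0
  have hζC0 : ζ ∈ connectedComponent (η[Gt H s].left (pts s)) := by
    rw [hcc]; exact hgen.mem
  have hζ0 : pr (it s) H ζ ∈ SGA3x.neutralSet H := (mem_neutralSet_pr_iff H s ζ).2 hζC0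
  obtain ⟨x, hx0, hx⟩ := himg hζ0
  have hxs : G.hom x = s := by
    have h1 : H.hom (u.left x) = G.hom x := by
      rw [← Scheme.Hom.comp_apply, Over.w u]
    rw [← h1, hx]
    have h0 : pr (it s) H ζ ∈ Set.range (pr (it s) H) := ⟨ζ, rfl⟩
    rw [range_pr] at h0
    exact h0
  obtain ⟨ξ, rfl⟩ : x ∈ Set.range (pr (it s) G) := by rw [range_pr]; exact hxs
  have hξ : (ut G H u s).left ξ = ζ := by
    apply (isEmbedding_pr s H).injective
    rw [pr_ut, hx]
  refine Groth.Agent.Helper5.FlatOrbit.s5336 (S.residueField s) (Gt G s) (Gt H s) (ut G H u s)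
    ⟨ξ, ?_⟩
  have hfield : IsField ((Gt H s).left.presheaf.stalk ((ut G H u s).left ξ)) := by
    rw [hξ]
    exact Groth.Agent.Helper5.DomHom.isField_stalk_of_mem_genericPoints (Gt H s).left ζ hζgen
  exact RingHom.Flat.of_isField hfield _

theorem flat_of_image_neutralSet [LocallyOfFinitePresentation G.hom]
    [LocallyOfFinitePresentation H.hom] [Flat G.hom]
    (hred : ∀ s : S, IsReduced (H.hom.fiber s))
    (himg : u.left.base '' SGA3x.neutralSet G = SGA3x.neutralSet H) : Flat u.left := by
  apply flat_of_flat_fibres u.left H.hom G.hom (Over.w u)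
  intro s
  haveI : IsReduced (Gt H s).left := hred s
  have h1 := flat_ut G H u s himg.symm.subset
  have heq : (ut G H u s).left = pullback.map G.hom (S.fromSpecResidueField s) H.hom
      (S.fromSpecResidueField s) u.left (𝟙 _) (𝟙 _) (by rw [Over.w u, Category.comp_id])
      (by simp) := by
    apply pullback.hom_ext
    · exact (pullback.lift_fst _ _ _).trans (pullback.lift_fst _ _ _).symm
    · exact (pullback.lift_snd _ _ _).trans
        ((pullback.lift_snd _ _ _).trans (Category.comp_id _)).symm
  rw [← heq]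
  exact h1

theorem s5328 (S : Scheme.{u}) (G H : Over S) [GrpObj G] [GrpObj H]
    [LocallyOfFinitePresentation G.hom] [LocallyOfFinitePresentation H.hom] (u : G ⟶ H)
    [IsMonHom u] :
    (Flat u.left → u.left.base '' SGA3x.neutralSet G = SGA3x.neutralSet H) ∧
    (Flat G.hom → (∀ s : S, IsReduced (H.hom.fiber s)) →
      u.left.base '' SGA3x.neutralSet G = SGA3x.neutralSet H → Flat u.left) := by
  refine ⟨fun hfl => ?_, fun hG hred himg => ?_⟩
  · haveI := hfl
    exact image_neutralSet_eq_of_flat G H u
  · haveI := hG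
    exact flat_of_image_neutralSet G H u hred himg

end grp

end Groth.Agent.Helper5.Neut
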