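import Mathlib
import Groth.Prelude
import Groth.Agent.Helper5.NeutM
import Groth.Agent.Lead.ProConsLib6
import Groth.Agent.Lead.ProConsLib2

set_option autoImplicit false
set_option linter.style.haveILetI false
universe u

namespace Groth.Agent.Helper5.Neut

open AlgebraicGeometry CategoryTheory CategoryTheory.Limits MonoidalCategory
  CartesianMonoidalCategory MonObj GrpObj TopologicalSpace Topology
open Groth.Agent.Helper5.SecNb Groth.Agent.Helper3.ArtConn

/-- Lemma T: the section components of a restriction to opens -/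
theorem mem_sectionComponents_resLE_iff {X S : Scheme.{u}} (f : X ⟶ S) (e : S ⟶ X)
    (he : e ≫ f = 𝟙 S) (V : S.Opens) (W : X.Opens) (e1 : W ≤ f ⁻¹ᵁ V) (e2 : V ≤ e ⁻¹ᵁ W)
    (y : ↥(W : Scheme.{u})) :
    y ∈ MoreMor.sectionComponents (f.resLE V W e1) (e.resLE W V e2) ↔
      W.ι y ∈ connectedComponentIn ((W : Set X) ∩ f ⁻¹' {f (W.ι y)}) (e (f (W.ι y))) := by
  set f' := f.resLE V W e1 with hf'def
  set g' := e.resLE W V e2 with hg'def
  have hf' : f' ≫ V.ι = W.ι ≫ f := Scheme.Hom.resLE_comp_ι f e1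
  have hg' : g' ≫ W.ι = V.ι ≫ e := Scheme.Hom.resLE_comp_ι e e2
  have hgf' : g' ≫ f' = 𝟙 _ := by
    rw [← cancel_mono V.ι, Category.assoc, hf', ← Category.assoc, hg', Category.assoc, he,
      Category.comp_id, Category.id_comp]
  have hfι : ∀ w : ↥(W : Scheme.{u}), f (W.ι w) = V.ι (f' w) := fun w => by
    rw [← Scheme.Hom.comp_apply, ← Scheme.Hom.comp_apply, hf']
  have hgι : ∀ v : ↥(V : Scheme.{u}), W.ι (g' v) = e (V.ι v) := fun v => by
    rw [← Scheme.Hom.comp_apply, ← Scheme.Hom.comp_apply, hg']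
  set y' := f' y with hy'
  have himg' : W.ι '' (f' ⁻¹' {y'}) = (W : Set X) ∩ f ⁻¹' {f (W.ι y)} := by
    apply Set.Subset.antisymm
    · rintro _ ⟨w, hw, rfl⟩
      refine ⟨w.2, ?_⟩
      show f (W.ι w) = f (W.ι y)
      rw [hfι, hfι, hw]
    · rintro w ⟨hwW, hwy⟩
      have hwy' : f w = f (W.ι y) := hwy
      refine ⟨⟨w, hwW⟩, ?_, rfl⟩
      show f' ⟨w, hwW⟩ = y'
      apply V.ι.isEmbedding.injective
      rw [← hfι, ← hfι]
      exact hwy'
  have hmem : g' y' ∈ f' ⁻¹' {y'} := by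
    show f' (g' y') = y'
    rw [← Scheme.Hom.comp_apply, hgf']; rfl
  have hgy : W.ι (g' y') = e (f (W.ι y)) := by rw [hgι, hfι]
  have hcomp : W.ι '' connectedComponentIn (f' ⁻¹' {y'}) (g' y') =
      connectedComponentIn ((W : Set X) ∩ f ⁻¹' {f (W.ι y)}) (e (f (W.ι y))) := by
    rw [image_connectedComponentIn_of_isEmbedding W.ι.isEmbedding _ _ hmem, himg', hgy]
  rw [← hcomp, mem_sectionComponents_iff f' g' hy'.symm]
  exact (W.ι.isEmbedding.injective.mem_set_image).symm

section grp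

variable {S : Scheme.{u}} (G : Over S) [GrpObj G]

/-- the neutral component of a fibre is irreducible -/
theorem isIrreducible_ccIn (t : S) :
    IsIrreducible (connectedComponentIn (G.hom ⁻¹' {t}) (e G t)) := by
  rw [ccIn_eq]
  set C0 := irreducibleComponent (η[Gt G t].left (pts t)) with hC0def
  have hC0 : C0 ∈ irreducibleComponents (Gt G t).left :=
    irreducibleComponent_mem_irreducibleComponents _
  have he : η[Gt G t].left (pts t) ∈ C0 := mem_irreducibleComponent
  rw [Groth.Agent.Helper2.HS6.connectedComponent_eq (Gt G t) C0 hC0 (pts t) he]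
  exact hC0.1.image _ (pr (it t) G).continuous.continuousOn

/-- Lemma D: points of `G⁰` in an open neighbourhood of the unit lie in the relative component
inside that neighbourhood -/
theorem mem_ccIn_inter_of_mem_neutralSet (x : G.left) (hx : x ∈ SGA3x.neutralSet G)
    (O : G.left.Opens) (hxO : x ∈ O) (heO : e G (G.hom x) ∈ O) :
    x ∈ connectedComponentIn ((O : Set G.left) ∩ G.hom ⁻¹' {G.hom x}) (e G (G.hom x)) := by
  set t := G.hom x with ht
  set Z := connectedComponentIn (G.hom ⁻¹' {t}) (e G t) with hZ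
  have hxZ : x ∈ Z := (mem_neutralSet_iff G ht.symm).1 hx
  have hirr : IsIrreducible Z := isIrreducible_ccIn G t
  have hpre : IsPreirreducible (Z ∩ (O : Set G.left)) := by
    intro u v hu hv ⟨a, ⟨haZ, haO⟩, hau⟩ ⟨b, ⟨hbZ, hbO⟩, hbv⟩
    obtain ⟨c, hcZ, ⟨hcO, hcu⟩, -, hcv⟩ := hirr.2 ((O : Set G.left) ∩ u) ((O : Set G.left) ∩ v)
      (O.2.inter hu) (O.2.inter hv) ⟨a, haZ, haO, hau⟩ ⟨b, hbZ, hbO, hbv⟩
    exact ⟨c, ⟨hcZ, hcO⟩, hcu, hcv⟩
  have hsub : Z ∩ (O : Set G.left) ⊆
      connectedComponentIn ((O : Set G.left) ∩ G.hom ⁻¹' {t}) (e G t) := by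
    apply hpre.isPreconnected.subset_connectedComponentIn
    · exact ⟨mem_connectedComponentIn (hom_e G t), heO⟩
    · rintro a ⟨haZ, haO⟩
      exact ⟨haO, connectedComponentIn_subset _ _ haZ⟩
  exact hsub ⟨hxZ, hxO⟩

end grp

end Groth.Agent.Helper5.Neut
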