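import Mathlib
import Groth.Prelude
import Groth.Agent.Helper5.NeutN

set_option autoImplicit false
set_option linter.style.haveILetI false
universe u

namespace Groth.Agent.Helper5.Neut

open AlgebraicGeometry CategoryTheory CategoryTheory.Limits MonoidalCategory
  CartesianMonoidalCategory MonObj GrpObj TopologicalSpace Topology
open Groth.Agent.Helper5.SecNb Groth.Agent.Lead.ProConsLib

variable {S : Scheme.{u}} (G : Over S) [GrpObj G]

theorem lfp_mul [LocallyOfFinitePresentation G.hom] : LocallyOfFinitePresentation μ[G].left := by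
  have h1 : LocallyOfFinitePresentation (μ[G].left ≫ G.hom) := by
    rw [Over.w μ[G], Over.tensorObj_hom]
    infer_instance
  exact Groth.Agent.Helper2.LfpComp.locallyOfFinitePresentation_of_comp μ[G].left G.hom h1
    inferInstance

set_option maxHeartbeats 1600000 in
/-- every point of `G⁰` lies in an ind-constructible subset of `G⁰` -/
theorem exists_ind_piece [LocallyOfFinitePresentation G.hom] (g : G.left)
    (hg : g ∈ SGA3x.neutralSet G) :
    ∃ E : Set G.left, ProCons.IsIndConstructible E ∧ g ∈ E ∧ E ⊆ SGA3x.neutralSet G := by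
  set s := G.hom g with hs
  obtain ⟨V, hV, hsV, -⟩ := exists_isAffineOpen_mem_and_subset (x := s) (U := ⊤) trivial
  have hes : e G s ∈ G.hom ⁻¹ᵁ V := by
    show G.hom (e G s) ∈ V
    rw [hom_e]; exact hsV
  obtain ⟨U, hU, hesU, hUV⟩ :=
    exists_isAffineOpen_mem_and_subset (x := e G s) (U := G.hom ⁻¹ᵁ V) hes
  obtain ⟨f, hfO, hsf⟩ := hV.exists_basicOpen_le (V := e G ⁻¹ᵁ U) ⟨s, hesU⟩ hsV
  let W := S.basicOpen f
  have hW : IsAffineOpen W := hV.basicOpen f
  let f' := G.hom.appLE V U hUV f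
  let U' := G.left.basicOpen f'
  have hU' : IsAffineOpen U' := hU.basicOpen f'
  have hU'eq : U' = U ⊓ G.hom ⁻¹ᵁ W := Scheme.basicOpen_appLE G.hom U V hUV f
  have hU'W : U' ≤ G.hom ⁻¹ᵁ W := by rw [hU'eq]; exact inf_le_right
  have hWU' : W ≤ e G ⁻¹ᵁ U' := by
    intro v hv
    show e G v ∈ U'
    rw [hU'eq]
    refine ⟨hfO hv, ?_⟩
    show G.hom (e G v) ∈ W
    rw [hom_e]; exact hv
  let a : U'.toScheme ⟶ W.toScheme := G.hom.resLE W U' hU'W
  let e' : W.toScheme ⟶ U'.toScheme := (e G).resLE U' W hWU'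
  have ha : a ≫ W.ι = U'.ι ≫ G.hom := Scheme.Hom.resLE_comp_ι G.hom hU'W
  have he'ι : e' ≫ U'.ι = W.ι ≫ e G := Scheme.Hom.resLE_comp_ι (e G) hWU'
  have he'a : e' ≫ a = 𝟙 _ := by
    rw [← cancel_mono W.ι, Category.assoc, ha, ← Category.assoc, he'ι, Category.assoc, e_hom,
      Category.comp_id, Category.id_comp]
  haveI : IsAffine U'.toScheme := hU'
  haveI : IsAffine W.toScheme := hW
  haveI : LocallyOfFinitePresentation a := IsZariskiLocalAtSource.resLE hU'W inferInstance
  obtain ⟨N', hN'def⟩ : ∃ N' : Set U'.toScheme, N' = MoreMor.sectionComponents a e' := ⟨_, rfl⟩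
  have hN' : IsConstructible N' := by
    rw [hN'def]
    exact Groth.Agent.Helper5.SecComp.isConstructible_affine a e' he'a
  have hN'sub : ∀ y ∈ N', U'.ι y ∈ SGA3x.neutralSet G := by
    intro y hy
    rw [neutralSet_eq]
    apply image_sectionComponents_subset G.hom (e G) a e' he'a U'.ι W.ι ha he'ι
    rw [hN'def] at hy
    exact ⟨y, hy, rfl⟩
  have key : ∀ y : ↥U'.toScheme, U'.ι y ∈ SGA3x.neutralSet G → G.hom (U'.ι y) = s → y ∈ N' := by
    intro y hy hys
    rw [hN'def, mem_sectionComponents_resLE_iff G.hom (e G) (e_hom G) W U' hU'W hWU' y]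
    apply mem_ccIn_inter_of_mem_neutralSet G _ hy U' y.2
    rw [hys]
    have : e G s ∈ U' := hWU' hsf
    exact this
  let j := pullback.map a a G.hom G.hom U'.ι U'.ι W.ι (by simp [a]) (by simp [a])
  have hj1 : j ≫ (fst G G).left = pullback.fst a a ≫ U'.ι := pullback.lift_fst _ _ _
  have hj2 : j ≫ (snd G G).left = pullback.snd a a ≫ U'.ι := pullback.lift_snd _ _ _
  have hq1 : ∀ p : ↥(pullback a a), U'.ι (pullback.fst a a p) = (fst G G).left (j p) := fun p =>
    (congrArg (fun ψ : pullback a a ⟶ G.left => ψ p) hj1).symm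
  have hq2 : ∀ p : ↥(pullback a a), U'.ι (pullback.snd a a p) = (snd G G).left (j p) := fun p =>
    (congrArg (fun ψ : pullback a a ⟶ G.left => ψ p) hj2).symm
  haveI : IsOpenImmersion j :=
    Scheme.pullback_map_isOpenImmersion a a G.hom G.hom U'.ι U'.ι W.ι (by simp [a]) (by simp [a])
  have hr : Set.range j =
      (fst G G).left ⁻¹' (U' : Set G.left) ∩ (snd G G).left ⁻¹' (U' : Set G.left) := by
    have := Scheme.Pullback.range_map a a G.hom G.hom U'.ι U'.ι W.ι (by simp [a]) (by simp [a])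
    rw [Scheme.Opens.range_ι] at this
    exact this
  let E : Set ↥(pullback a a) := pullback.fst a a ⁻¹' N' ∩ pullback.snd a a ⁻¹' N'
  have hE : IsConstructible E :=
    ((pullback.fst a a).isConstructible_preimage hN').inter
      ((pullback.snd a a).isConstructible_preimage hN')
  haveI := lfp_mul G
  let φ : pullback a a ⟶ G.left := j ≫ μ[G].left
  have hφE : ProCons.IsIndConstructible (φ.base '' E) :=
    ind_image φ (ind_of_isLocallyConstructible hE.isLocallyConstructible)
  refine ⟨φ.base '' E, hφE, ?_, ?_⟩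
  · -- `g` is a product of two points of `U' ∩ G⁰`
    obtain ⟨z, hz1, hz2, hz3⟩ := exists_mul G g hg U hesU
    have hzW : ∀ y : G.left, G.hom y = s → y ∈ U → y ∈ U' := by
      intro y hy hyU
      rw [hU'eq]
      exact ⟨hyU, by show G.hom y ∈ W; rw [hy]; exact hsf⟩
    have h1 : (fst G G).left z ∈ U' := hzW _ (by rw [hom_fst, ← hom_mul, hz1]) hz2.1
    have h2 : (snd G G).left z ∈ U' := hzW _ (by rw [hom_snd, ← hom_mul, hz1]) hz3.1
    obtain ⟨p, rfl⟩ : z ∈ Set.range j := by rw [hr]; exact ⟨h1, h2⟩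
    have k1 : pullback.fst a a p ∈ N' := by
      apply key
      · rw [hq1]; exact hz2.2
      · rw [hq1, hom_fst, ← hom_mul, hz1]
    have k2 : pullback.snd a a p ∈ N' := by
      apply key
      · rw [hq2]; exact hz3.2
      · rw [hq2, hom_snd, ← hom_mul, hz1]
    exact ⟨p, ⟨k1, k2⟩, hz1⟩
  · rintro _ ⟨p, ⟨hp1, hp2⟩, rfl⟩
    have hp1' : pullback.fst a a p ∈ N' := hp1
    have hp2' : pullback.snd a a p ∈ N' := hp2
    show μ[G].left (j p) ∈ _
    apply mul_mem
    · rw [← hq1]
      exact hN'sub _ hp1'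
    · rw [← hq2]
      exact hN'sub _ hp2'

theorem ind_neutralSet [LocallyOfFinitePresentation G.hom] :
    ProCons.IsIndConstructible (SGA3x.neutralSet G) := by
  apply ind_of_pieces
  intro g hg
  obtain ⟨E, hE, hgE, hEsub⟩ := exists_ind_piece G g hg
  exact (ind_pieces hE g hgE).mono hEsub

theorem s5325 (S : Scheme.{u}) (G : Over S) [GrpObj G] [LocallyOfFinitePresentation G.hom] :
    ProCons.IsIndConstructible (SGA3x.neutralSet G) ∧
    (QuasiSeparated G.hom → CompactSpace S → QuasiSeparatedSpace S →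
      Topology.IsConstructible (SGA3x.neutralSet G)) ∧
    (QuasiSeparated G.hom → Topology.IsLocallyConstructible (SGA3x.neutralSet G)) := by
  refine ⟨ind_neutralSet G, fun h1 h2 h3 => ?_, fun h1 => ?_⟩
  · exact isConstructible_neutralSet G
  · exact isLocallyConstructible_neutralSet G

end Groth.Agent.Helper5.Neut
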