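import Mathlib
import Groth.Prelude
import Groth.Agent.Helper5.NeutO
import Groth.Agent.Lead.LimProInd

set_option autoImplicit false
set_option linter.style.haveILetI false
universe u

namespace Groth.Agent.Helper5.Neut

open AlgebraicGeometry CategoryTheory CategoryTheory.Limits MonoidalCategory
  CartesianMonoidalCategory MonObj GrpObj TopologicalSpace Topology
open Groth.Agent.Lead.ProConsLib

set_option maxHeartbeats 1600000 in
set_option backward.isDefEq.respectTransparency false in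
theorem s5401 {I : Type u} [SmallCategory I] [IsCofiltered I]
    (D : I ⥤ Scheme.{u}) (c : Limits.Cone D) (hc : Limits.IsLimit c)
    [∀ (i i' : I) (f : i ⟶ i'), IsAffineHom (D.map f)] [∀ i, CompactSpace (D.obj i)]
    [∀ i, QuasiSeparatedSpace (D.obj i)]
    (S₀ : Scheme.{u}) (q : ∀ i, D.obj i ⟶ S₀) (hq : ∀ (i i' : I) (f : i ⟶ i'), D.map f ≫ q i' = q i)
    (qlim : c.pt ⟶ S₀) (hqlim : ∀ i, c.π.app i ≫ q i = qlim)
    (G : Over S₀) [GrpObj G] [LocallyOfFinitePresentation G.hom] :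
    ∀ u : c.pt ⟶ G.left, u ≫ G.hom = qlim → Set.range u.base ⊆ SGA3x.neutralSet G →
      ∃ (i : I) (ui : D.obj i ⟶ G.left), ui ≫ G.hom = q i ∧
        Set.range ui.base ⊆ SGA3x.neutralSet G ∧ c.π.app i ≫ ui = u := by
  intro u hu hrange
  haveI : ∀ {i j : I} (f : i ⟶ j), IsAffineHom (D.map f) := fun f => inferInstance
  let t : D ⟶ (Functor.const I).obj S₀ :=
    { app := fun i => q i
      naturality := fun i j φ => by
        simp only [Functor.const_obj_obj, Functor.const_obj_map, Category.comp_id]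
        exact hq i j φ }
  have ha : c.π ≫ t = (Functor.const _).map (u ≫ G.hom) := by
    ext i
    simp only [NatTrans.comp_app, Functor.const_obj_obj, Functor.const_map_app]
    show c.π.app i ≫ q i = u ≫ G.hom
    rw [hqlim, hu]
  obtain ⟨i₀, u₀, hu₀1, hu₀2⟩ := Scheme.exists_π_app_comp_eq_of_locallyOfFinitePresentation
    D t G.hom c hc u ha
  have hu₀2' : u₀ ≫ G.hom = q i₀ := hu₀2
  -- pass to the indices over `i₀`
  let D' : Over i₀ ⥤ Scheme.{u} := Over.forget i₀ ⋙ D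
  let c' : Cone D' := c.whisker (Over.forget i₀)
  have hc' : IsLimit c' := (Functor.Initial.isLimitWhiskerEquiv (Over.forget i₀) c).symm hc
  haveI : ∀ {a b : Over i₀} (φ : a ⟶ b), IsAffineHom (D'.map φ) := fun φ =>
    inferInstanceAs (IsAffineHom (D.map φ.left))
  haveI : CompactSpace ↥(D'.obj (Over.mk (𝟙 i₀))) := inferInstanceAs (CompactSpace ↥(D.obj i₀))
  let E : ∀ j : Over i₀, Set (D'.obj j) := fun _ => Set.univ
  let F : ∀ j : Over i₀, Set (D'.obj j) := fun j =>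
    (D.map j.hom ≫ u₀).base ⁻¹' SGA3x.neutralSet G
  have hE : ∀ j, ProCons.IsProConstructible (E j) := fun _ => pro_univ
  have hF : ∀ j, ProCons.IsIndConstructible (F j) := fun j =>
    Groth.Agent.Helper7.PC.ind_preimage (D.map j.hom ≫ u₀) _ (ind_neutralSet G)
  have hEm : ∀ (i j : Over i₀) (φ : i ⟶ j), E i ⊆ ⇑(D'.map φ) ⁻¹' E j := fun _ _ _ _ _ => trivial
  have hFm : ∀ (i j : Over i₀) (φ : i ⟶ j), ⇑(D'.map φ) ⁻¹' F j ⊆ F i := by
    intro i j φ x hx
    have hx' : (D.map j.hom ≫ u₀) (D.map φ.left x) ∈ SGA3x.neutralSet G := hx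
    show (D.map i.hom ≫ u₀) x ∈ SGA3x.neutralSet G
    have h1 : D.map i.hom = D.map φ.left ≫ D.map j.hom := by
      rw [← D.map_comp, Over.w]
    rw [h1, Category.assoc, Scheme.Hom.comp_apply]
    exact hx'
  have hsub : (⋂ i, ⇑(c'.π.app i) ⁻¹' E i : Set c'.pt) ⊆
      (⋃ i, ⇑(c'.π.app i) ⁻¹' F i : Set c'.pt) := by
    intro s _
    refine Set.mem_iUnion.2 ⟨Over.mk (𝟙 i₀), ?_⟩
    show (D.map (𝟙 i₀) ≫ u₀) (c.π.app i₀ s) ∈ SGA3x.neutralSet G
    rw [D.map_id, Category.id_comp, ← Scheme.Hom.comp_apply, hu₀1]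
    exact hrange ⟨s, rfl⟩
  obtain ⟨j, -, hj⟩ := (Groth.Agent.Lead.LimProInd.subset_iff_eventually hc' (Over.mk (𝟙 i₀)) E F
    hE hF hEm hFm).1 hsub
  have hjj := hj j (𝟙 j)
  refine ⟨j.left, D.map j.hom ≫ u₀, ?_, ?_, ?_⟩
  · rw [Category.assoc, hu₀2', hq]
  · rintro _ ⟨x, rfl⟩
    exact hjj (Set.mem_univ x)
  · rw [← Category.assoc, c.w, hu₀1]

end Groth.Agent.Helper5.Neut
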