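import Mathlib

set_option autoImplicit false
universe u

namespace Groth.Agent.Helper5.NhdPow

/-- a finitely generated ideal killed by localization at `p` is killed by an element outside `p` -/
theorem exists_mul_eq_zero {A : Type u} [CommRing A] (p : Ideal A) [p.IsPrime] (K : Ideal A)
    (hK : K.FG) (h0 : K.map (algebraMap A (Localization.AtPrime p)) = ⊥) :
    ∃ f : A, f ∉ p ∧ ∀ x ∈ K, f * x = 0 := by
  classical
  obtain ⟨s, rfl⟩ := hK
  have h1 : ∀ g ∈ s, ∃ t : p.primeCompl, (t : A) * g = 0 := by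
    intro g hg
    have : algebraMap A (Localization.AtPrime p) g = 0 := by
      have hmem : algebraMap A (Localization.AtPrime p) g ∈
          (Ideal.span (s : Set A)).map (algebraMap A (Localization.AtPrime p)) :=
        Ideal.mem_map_of_mem _ (Ideal.subset_span hg)
      rw [h0] at hmem
      exact hmem
    exact (IsLocalization.map_eq_zero_iff p.primeCompl _ g).1 this
  choose! t ht using h1
  refine ⟨∏ g ∈ s, (t g : A), ?_, ?_⟩
  · have h3 : ((∏ g ∈ s, t g : p.primeCompl) : A) ∈ p.primeCompl := (∏ g ∈ s, t g).2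
    have h2 : ((∏ g ∈ s, t g : p.primeCompl) : A) = ∏ g ∈ s, (t g : A) := by
      simp
    rw [← h2]
    exact h3
  · intro x hx
    refine Submodule.span_induction (p := fun x _ => (∏ g ∈ s, (t g : A)) * x = 0)
      ?_ ?_ ?_ ?_ hx
    · intro g hg
      rw [← Finset.mul_prod_erase s _ hg, mul_comm, ← mul_assoc, mul_comm g, ht g hg, zero_mul]
    · exact mul_zero _
    · intro x y _ _ hx hy
      rw [mul_add, hx, hy, add_zero]
    · intro a x _ hx
      rw [smul_eq_mul, mul_left_comm, hx, mul_zero]

theorem main (A : Type u) [CommRing A] (I : Ideal A) (hI : I.FG)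
    (p : Ideal A) [p.IsPrime] (hp : I ≤ p) :
    (∃ f : A, f ∉ p ∧ ∀ q : Ideal A, q.IsPrime → f ∉ q → I ≤ q) ↔
      ∃ n : ℕ, 0 < n ∧
        (I ^ n).map (algebraMap A (Localization.AtPrime p)) =
          (I ^ (n + 1)).map (algebraMap A (Localization.AtPrime p)) := by
  set J := I.map (algebraMap A (Localization.AtPrime p)) with hJ
  have hJfg : J.FG := hI.map _
  constructor
  · rintro ⟨f, hfp, hf⟩
    have hnil : J ≤ nilradical (Localization.AtPrime p) := by
      rw [hJ, Ideal.map_le_iff_le_comap]
      intro x hx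
      have hxf : IsNilpotent (x * f) := by
        rw [← mem_nilradical, nilradical_eq_sInf, Ideal.mem_sInf]
        intro q hq
        have hq' : q.IsPrime := hq
        by_cases hfq : f ∈ q
        · exact q.mul_mem_left _ hfq
        · exact q.mul_mem_right _ (hf q hq' hfq hx)
      obtain ⟨m, hm⟩ := hxf
      rw [Ideal.mem_comap, mem_nilradical]
      refine ⟨m, ?_⟩
      have hunit : IsUnit (algebraMap A (Localization.AtPrime p) f) :=
        IsLocalization.map_units _ (⟨f, hfp⟩ : p.primeCompl)
      have h1 : (algebraMap A (Localization.AtPrime p) x) ^ m *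
          (algebraMap A (Localization.AtPrime p) f) ^ m = 0 := by
        rw [← mul_pow, ← map_mul, ← map_pow, hm, map_zero]
      exact (hunit.pow m).mul_left_eq_zero.1 h1
    obtain ⟨n, hn⟩ := (Ideal.FG.isNilpotent_iff_le_nilradical hJfg).2 hnil
    refine ⟨n + 1, Nat.succ_pos _, ?_⟩
    rw [Ideal.map_pow, Ideal.map_pow, ← hJ, pow_succ, pow_succ, pow_succ, hn]
    simp
  · rintro ⟨n, hn, heq⟩
    rw [Ideal.map_pow, Ideal.map_pow, ← hJ] at heq
    have hJle : J ≤ Ideal.jacobson ⊥ := by
      rw [IsLocalRing.jacobson_eq_maximalIdeal ⊥ bot_ne_top, hJ, Ideal.map_le_iff_le_comap]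
      have := IsLocalization.AtPrime.under_maximalIdeal (Localization.AtPrime p) p
      rw [Ideal.under] at this
      rw [this]
      exact hp
    have hbot : J ^ n = ⊥ := by
      refine Submodule.eq_bot_of_le_smul_of_le_jacobson_bot J (J ^ n) hJfg.pow ?_ hJle
      rw [smul_eq_mul, ← pow_succ', ← heq]
    rw [hJ, ← Ideal.map_pow] at hbot
    obtain ⟨f, hfp, hf⟩ := exists_mul_eq_zero p (I ^ n) hI.pow hbot
    refine ⟨f, hfp, fun q hq hfq x hx => ?_⟩
    have h1 : f * x ^ n = 0 := hf _ (Ideal.pow_mem_pow hx n)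
    have h2 : f * x ^ n ∈ q := by rw [h1]; exact q.zero_mem
    rcases hq.mem_or_mem h2 with h | h
    · exact absurd h hfq
    · exact hq.mem_of_pow_mem n h

end Groth.Agent.Helper5.NhdPow
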