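import Mathlib
import Groth.Agent.Helper5.AssDed1
import Groth.Agent.Helper4.SuppDict
import Groth.Prelude.Def_FDesc

set_option autoImplicit false
universe u
open CategoryTheory CategoryTheory.Limits AlgebraicGeometry TopologicalSpace Opposite

namespace Groth.Agent.Helper5.NoEmb
open Groth.Agent.Helper4 Groth.Agent.Lead

theorem exists_glue₂ {X : Scheme.{u}} (U V : X.Opens) (s : Γ(X, U)) (t : Γ(X, V))
    (h : X.presheaf.map (homOfLE (inf_le_left : U ⊓ V ≤ U)).op s =
      X.presheaf.map (homOfLE (inf_le_right : U ⊓ V ≤ V)).op t) :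
    ∃ g : Γ(X, U ⊔ V), X.presheaf.map (homOfLE (le_sup_left : U ≤ U ⊔ V)).op g = s ∧
      X.presheaf.map (homOfLE (le_sup_right : V ≤ U ⊔ V)).op g = t := by
  refine ⟨(X.sheaf.objSupIsoProdEqLocus U V).inv ⟨(s, t), h⟩, ?_, ?_⟩
  · exact TopCat.Sheaf.objSupIsoProdEqLocus_inv_fst X.sheaf U V ⟨(s, t), h⟩
  · exact TopCat.Sheaf.objSupIsoProdEqLocus_inv_snd X.sheaf U V ⟨(s, t), h⟩

attribute [local instance] specializationOrder in
/-- in a scheme of dimension one, a point with a proper generization is closed. -/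
theorem eq_of_specializes_of_dim_one (C : Scheme.{u}) (hdim : topologicalKrullDim C = 1)
    {x y : C} (hyx : y ⤳ x) (hne : x ≠ y) (z : C) (hxz : x ⤳ z) : z = x := by
  by_contra hzx
  have h1 : x < y := lt_of_le_of_ne hyx hne
  have h2 : z < x := lt_of_le_of_ne hxz hzx
  have h3 := Order.coheight_add_one_le h1
  have h4 := Order.coheight_add_one_le h2
  have h5 : ((Order.coheight z : ℕ∞) : WithBot ℕ∞) ≤ 1 := by
    rw [← hdim, RegDimOne.topologicalKrullDim_eq_iSup_coheight]
    exact le_iSup (fun x : ↥C => ((Order.coheight x : ℕ∞) : WithBot ℕ∞)) z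
  have h6 : Order.coheight z ≤ 1 := by exact_mod_cast h5
  have h7 : (2 : ℕ∞) ≤ Order.coheight z := by
    calc (2 : ℕ∞) = 0 + 1 + 1 := by norm_num
      _ ≤ Order.coheight y + 1 + 1 := by gcongr; exact zero_le
      _ ≤ Order.coheight x + 1 := by gcongr
      _ ≤ Order.coheight z := h4
  have : (2 : ℕ∞) ≤ 1 := h7.trans h6
  exact absurd this (by norm_num)


theorem s7835 (C : Scheme.{u}) [IsNoetherian C]
    (hdim : topologicalKrullDim C = 1) (hred : IsReduced Γ(C, ⊤)) :
    AssSch.NoEmbedded (Coh.structureModule C) := by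
  intro x hx y hy hyx
  by_contra hne
  have hxcl : ∀ z : C, x ⤳ z → z = x := eq_of_specializes_of_dim_one C hdim hyx hne
  have hZ : IsClosed ({x} : Set C) := by
    rw [← closure_eq_iff_isClosed]
    ext z
    rw [← specializes_iff_mem_closure, Set.mem_singleton_iff]
    exact ⟨hxcl z, fun h => h ▸ specializes_rfl⟩
  obtain ⟨W, hW, hxW, -⟩ := SchD.exists_affine_nhd x ⊤ trivial
  haveI : IsNoetherianRing Γ(C, W) := IsLocallyNoetherian.component_noetherian ⟨W, hW⟩
  have hyW : y ∈ W := hyx.mem_open W.isOpen hxW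
  have hx' : IsAssociatedPrime (hW.primeIdealOf ⟨x, hxW⟩).asIdeal Γ(C, W) := by
    rw [← SchD.isAssociatedPrime_stalk_iff hW x hxW, ← AssDed.isAssPoint_structureModule_iff]
    exact hx
  rw [isAssociatedPrime_iff] at hx'
  obtain ⟨hp, b, hb⟩ := hx'
  have hann : ∀ t : Γ(C, W), t ∈ (hW.primeIdealOf ⟨x, hxW⟩).asIdeal ↔ t * b = 0 := by
    intro t
    rw [hb, Submodule.mem_colon_singleton, Submodule.mem_bot, smul_eq_mul]
  -- exists t ∈ p_x ∖ p_z for z ≠ x in W
  have hsep : ∀ (z : C) (hz : z ∈ W), z ≠ x → ∃ t, t ∈ (hW.primeIdealOf ⟨x, hxW⟩).asIdeal ∧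
      t ∉ (hW.primeIdealOf ⟨z, hz⟩).asIdeal := by
    intro z hz hzx
    by_contra hcon
    push Not at hcon
    exact hzx (hxcl z (AssMax.specializes_of_primeIdealOf_le hW hxW hz
      ((PrimeSpectrum.asIdeal_le_asIdeal _ _).mp fun t ht => hcon t ht)))
  -- b ∈ p_x
  have hbp : b * b = 0 := by
    rw [← hann]
    obtain ⟨t, ht, hty⟩ := hsep y hyW (Ne.symm hne)
    have hle : (hW.primeIdealOf ⟨y, hyW⟩).asIdeal ≤ (hW.primeIdealOf ⟨x, hxW⟩).asIdeal :=
      (PrimeSpectrum.asIdeal_le_asIdeal _ _).mpr (SuppDict.primeIdealOf_le_of_specializes hW hyW hxW hyx)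
    apply hle
    have h0 : t * b ∈ (hW.primeIdealOf ⟨y, hyW⟩).asIdeal := by
      rw [(hann t).mp ht]; exact zero_mem _
    exact ((hW.primeIdealOf ⟨y, hyW⟩).isPrime.mem_or_mem h0).resolve_left hty
  -- germs of b away from x vanish
  have hgerm : ∀ (z : C) (hz : z ∈ W), z ≠ x → C.presheaf.germ W z hz b = 0 := by
    intro z hz hzx
    obtain ⟨t, ht, htz⟩ := hsep z hz hzx
    have hu : IsUnit (C.presheaf.germ W z hz t) := by
      rw [← C.mem_basicOpen t z hz, StalkDict.mem_basicOpen_iff_notMem_primeIdealOf hW z hz]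
      exact htz
    have h0 : C.presheaf.germ W z hz t * C.presheaf.germ W z hz b = 0 := by
      rw [← map_mul, (hann t).mp ht, map_zero]
    exact (hu.mul_right_eq_zero).mp h0
  -- germ of b at x is nonzero
  have hgx : C.presheaf.germ W x hxW b ≠ 0 := by
    intro h0
    letI := C.presheaf.algebra_section_stalk ⟨x, hxW⟩
    haveI := hW.isLocalization_stalk ⟨x, hxW⟩
    have h0' : algebraMap Γ(C, W) (C.presheaf.stalk x) b = 0 := h0
    obtain ⟨⟨s, hs⟩, hsb⟩ := (IsLocalization.map_eq_zero_iff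
      (hW.primeIdealOf ⟨x, hxW⟩).asIdeal.primeCompl (C.presheaf.stalk x) b).mp h0'
    exact hs ((hann s).mpr hsb)
  -- glue with zero
  let Zc : C.Opens := ⟨({x} : Set C)ᶜ, hZ.isOpen_compl⟩
  have hcompat : C.presheaf.map (homOfLE (inf_le_left : W ⊓ Zc ≤ W)).op b =
      C.presheaf.map (homOfLE (inf_le_right : W ⊓ Zc ≤ Zc)).op (0 : Γ(C, Zc)) := by
    rw [map_zero]
    apply SchD.eq_zero_of_germ
    intro z hz
    rw [TopCat.Presheaf.germ_res_apply]
    exact hgerm z hz.1 hz.2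
  obtain ⟨g, hg1, hg2⟩ := exists_glue₂ W Zc b 0 hcompat
  have htop : W ⊔ Zc = ⊤ := by
    rw [eq_top_iff]
    intro z _
    by_cases hzx : z = x
    · exact Or.inl (hzx ▸ hxW)
    · exact Or.inr hzx
  haveI : IsReduced Γ(C, W ⊔ Zc) := by rw [htop]; exact hred
  have hg0 : g * g = 0 := by
    apply SchD.eq_zero_of_germ
    intro z hz
    rw [map_mul]
    by_cases hzx : z = x
    · subst hzx
      have h1 := TopCat.Presheaf.germ_res_apply C.presheaf
        (homOfLE (le_sup_left : W ≤ W ⊔ Zc)) z hxW g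
      rw [hg1] at h1
      rw [← h1, ← map_mul, hbp, map_zero]
    · have h1 := TopCat.Presheaf.germ_res_apply C.presheaf
        (homOfLE (le_sup_right : Zc ≤ W ⊔ Zc)) z hzx g
      rw [hg2, map_zero] at h1
      rw [← h1, zero_mul]
  have hgz : g = 0 := by
    have : IsNilpotent g := ⟨2, by rw [pow_two]; exact hg0⟩
    exact this.eq_zero
  apply hgx
  rw [← hg1, TopCat.Presheaf.germ_res_apply, hgz, map_zero]

end Groth.Agent.Helper5.NoEmb
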