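import Groth.Agent.Helper5.DimFormula8
import Groth.Agent.Helper5.GenDim1
import Groth.Agent.Helper5.OpenAt3
import Groth.Agent.Helper5.MaxPt1
import Groth.Agent.Helper5.EqAt1

set_option autoImplicit false
universe u
open AlgebraicGeometry CategoryTheory CategoryTheory.Limits TopologicalSpace

namespace Groth.Agent.Helper5.NoeStalk

open Groth.Agent.Helper5.DimFormula

/-- The dimension inequality at a point `x` of a morphism locally of finite type, assuming only
that the local ring of the base at `f x` is Noetherian. -/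
theorem dimension_inequality_of_noetherian_stalk {X Y : Scheme.{u}} (f : X ⟶ Y)
    [LocallyOfFiniteType f] (x : X) [IsNoetherianRing (Y.presheaf.stalk (f x))] :
    ∃ (ξ : X) (a c : ℕ), closure ({ξ} : Set X) ∈ irreducibleComponents X ∧ ξ ⤳ x ∧
      (ξ ≠ x → 1 ≤ a) ∧ ringKrullDim (Y.presheaf.stalk (f x)) = c ∧
      (a : Cardinal.{u}) + Dual3.resTrdeg f x ≤ (c : Cardinal.{u}) + Dual3.resTrdeg f ξ := by
  let R := Y.presheaf.stalk (f x)
  let j : Spec R ⟶ Y := Y.fromSpecStalk (f x)
  let X' := pullback f j
  let p : X' ⟶ X := pullback.fst f j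
  let f' : X' ⟶ Spec R := pullback.snd f j
  have hsq : IsPullback p f' f j := IsPullback.of_hasPullback f j
  have hlft' : LocallyOfFiniteType f' := by dsimp only [f']; infer_instance
  have hj : IsPreimmersion j := by dsimp only [j]; infer_instance
  have hp : IsPreimmersion p := by dsimp only [p]; infer_instance
  have hemb : Topology.IsEmbedding p := p.isEmbedding
  have hrange : Set.range p = f ⁻¹' {y' | y' ⤳ f x} := by
    dsimp only [p]
    rw [Scheme.Pullback.range_fst, Scheme.range_fromSpecStalk]
  have hjc : j (IsLocalRing.closedPoint R) = f x := Scheme.fromSpecStalk_closedPoint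
  obtain ⟨x', hx'⟩ : x ∈ Set.range p := by rw [hrange]; exact specializes_rfl
  have hfx' : f' x' = IsLocalRing.closedPoint R := by
    apply j.isEmbedding.injective
    have h1 : j (f' x') = f (p x') := (congrArg (fun ψ : X' ⟶ Y => ψ x') hsq.w).symm
    rw [h1, hx', hjc]
  obtain ⟨ξ', a, c, hξ'comp, hξ'x', ha, hc, hineq⟩ := scheme_dimension_inequality f' x'
  refine ⟨p ξ', a, c, ?_, ?_, ?_, ?_, ?_⟩
  · apply closure_mem_irreducibleComponents
    intro η hη
    have hηr : η ∈ Set.range p := by
      rw [hrange]
      show f η ⤳ f x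
      have h1 : f η ⤳ f (p ξ') := hη.map f.continuous
      have h2 : f (p ξ') ⤳ f x := by
        have : p ξ' ∈ Set.range p := ⟨_, rfl⟩
        rw [hrange] at this
        exact this
      exact h1.trans h2
    obtain ⟨η', rfl⟩ := hηr
    have h3 : η' ⤳ ξ' := hemb.isInducing.specializes_iff.mp hη
    rw [Groth.Agent.Helper5.EqAt.max_of_closure_mem_irreducibleComponents ξ' hξ'comp η' h3]
  · rw [← hx']
    exact hξ'x'.map p.continuous
  · intro hne
    by_contra h0
    have ha0 : a = 0 := by omega
    subst ha0
    rw [ringKrullDim_stalk_eq_coheight] at ha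
    have hco : Order.coheight x' = 0 := by exact_mod_cast ha
    rw [Order.coheight_eq_zero] at hco
    have h4 : x' ⤳ ξ' := hco (show x' ≤ ξ' from hξ'x')
    have h5 : ξ' = x' := (hξ'x'.antisymm h4).eq
    exact hne (by rw [h5, hx'])
  · rw [hfx'] at hc
    rw [← hc]
    exact (ringKrullDim_eq_of_ringEquiv
      (stalkClosedPointIso R).commRingCatIsoToRingEquiv).symm
  · have hF1 := Groth.Agent.Helper5.GenDim.resTrdeg_le_of_isPullback f j p f' hsq ξ'
    obtain ⟨x'', hx''1, -, hx''3⟩ :=
      Groth.Agent.Helper5.GenDim.exists_resTrdeg_eq_of_isPullback f j p f' hsq x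
        (IsLocalRing.closedPoint R) hjc
    have hxx : x'' = x' := hemb.injective (hx''1.trans hx'.symm)
    rw [hxx] at hx''3
    rw [← hx''3]
    exact hineq.trans (add_le_add le_rfl hF1)

end Groth.Agent.Helper5.NoeStalk
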