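import Mathlib

set_option autoImplicit false
universe u
open CategoryTheory CategoryTheory.Limits AlgebraicGeometry TensorProduct

namespace Groth.Agent.Helper5.NoethBC

/-- Essentially of finite type over a Noetherian ring is Noetherian. -/
theorem isNoetherianRing_of_essFiniteType (R S : Type*) [CommRing R] [CommRing S] [Algebra R S]
    [IsNoetherianRing R] [Algebra.EssFiniteType R S] : IsNoetherianRing S := by
  have h1 : IsNoetherianRing (Algebra.EssFiniteType.subalgebra R S) :=
    Algebra.FiniteType.isNoetherianRing R _
  exact IsLocalization.isNoetherianRing (Algebra.EssFiniteType.submonoid R S) S h1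

/-- Noetherianity descends along faithfully flat ring maps. -/
theorem isNoetherianRing_of_faithfullyFlat (A B : Type*) [CommRing A] [CommRing B] [Algebra A B]
    [Module.FaithfullyFlat A B] [IsNoetherianRing B] : IsNoetherianRing A := by
  have hB : WellFoundedGT (Ideal B) := inferInstance
  rw [isNoetherianRing_iff, isNoetherian_iff']
  let φ : Ideal A → Ideal B := fun I => I.map (algebraMap A B)
  have hφ : StrictMono φ := by
    refine Monotone.strictMono_of_injective (fun I J h => Ideal.map_mono h) ?_
    intro I J h
    have := congrArg (Ideal.comap (algebraMap A B)) h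
    simpa [φ, Ideal.comap_map_eq_self_of_faithfullyFlat] using this
  exact hφ.wellFoundedGT

end Groth.Agent.Helper5.NoethBC
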