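import Mathlib
import Groth.Agent.Helper5.NoethBC1

set_option autoImplicit false
universe u
open CategoryTheory CategoryTheory.Limits AlgebraicGeometry TensorProduct

namespace Groth.Agent.Helper5.NoethBC

theorem isLocallyNoetherian_iff_of_iso {X Y : Scheme.{u}} (e : X ≅ Y) :
    IsLocallyNoetherian X ↔ IsLocallyNoetherian Y :=
  ⟨fun _ => isLocallyNoetherian_of_isOpenImmersion e.inv,
   fun _ => isLocallyNoetherian_of_isOpenImmersion e.hom⟩

/-- Affine case over `Spec`. -/
theorem spec_case {K A K' : CommRingCat.{u}} (φ : K ⟶ A) (ψ : K ⟶ K')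
    (hE : ψ.hom.EssFiniteType) (hF : ψ.hom.FaithfullyFlat) :
    IsNoetherianRing A ↔ IsLocallyNoetherian (pullback (Spec.map φ) (Spec.map ψ)) := by
  letI := φ.hom.toAlgebra
  letI := ψ.hom.toAlgebra
  haveI : Algebra.EssFiniteType K K' := hE
  haveI : Module.FaithfullyFlat K K' := hF
  have e : pullback (Spec.map φ) (Spec.map ψ) ≅ Spec (.of (A ⊗[K] K')) := pullbackSpecIso K A K'
  rw [isLocallyNoetherian_iff_of_iso e, isLocallyNoetherian_Spec]
  constructor
  · intro h
    exact isNoetherianRing_of_essFiniteType A (A ⊗[K] K')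
  · intro h
    haveI : IsNoetherianRing (A ⊗[K] K') := h
    exact isNoetherianRing_of_faithfullyFlat A (A ⊗[K] K')

end Groth.Agent.Helper5.NoethBC
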