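import Mathlib
import Groth.Agent.Helper5.NoethBC2

set_option autoImplicit false
universe u
open CategoryTheory CategoryTheory.Limits AlgebraicGeometry TensorProduct

namespace Groth.Agent.Helper5.NoethBC

/-- Affine source. -/
theorem affine_case {U : Scheme.{u}} [IsAffine U] {K K' : CommRingCat.{u}} (a : U ⟶ Spec K)
    (ψ : K ⟶ K') (hE : ψ.hom.EssFiniteType) (hF : ψ.hom.FaithfullyFlat) :
    IsLocallyNoetherian U ↔ IsLocallyNoetherian (pullback a (Spec.map ψ)) := by
  let φ : K ⟶ Γ(U, ⊤) := (Scheme.ΓSpecIso K).inv ≫ a.appTop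
  have ha : a = U.isoSpec.hom ≫ Spec.map φ := by
    simp only [φ, Spec.map_comp, Scheme.isoSpec_hom]
    rw [← Scheme.toSpecΓ_naturality_assoc]
    simp
  have hw : a ≫ 𝟙 _ = U.isoSpec.hom ≫ Spec.map φ := by rw [Category.comp_id]; exact ha
  have e : pullback a (Spec.map ψ) ≅ pullback (Spec.map φ) (Spec.map ψ) :=
    asIso (pullback.map a (Spec.map ψ) (Spec.map φ) (Spec.map ψ) U.isoSpec.hom (𝟙 _) (𝟙 _)
      hw (by simp))
  rw [isLocallyNoetherian_iff_of_iso e, ← spec_case φ ψ hE hF,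
    isLocallyNoetherian_iff_of_iso U.isoSpec, isLocallyNoetherian_Spec]

/-- General source. -/
theorem general {X : Scheme.{u}} {K K' : CommRingCat.{u}} (a : X ⟶ Spec K)
    (ψ : K ⟶ K') (hE : ψ.hom.EssFiniteType) (hF : ψ.hom.FaithfullyFlat) :
    IsLocallyNoetherian X ↔ IsLocallyNoetherian (pullback a (Spec.map ψ)) := by
  let 𝒰 : X.OpenCover := X.affineCover
  let 𝒰' : (pullback a (Spec.map ψ)).OpenCover := 𝒰.pullback₂ (pullback.fst a (Spec.map ψ))
  rw [isLocallyNoetherian_iff_openCover 𝒰, isLocallyNoetherian_iff_openCover 𝒰']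
  refine forall_congr' fun i => ?_
  have e : 𝒰'.X i ≅ pullback (𝒰.f i ≫ a) (Spec.map ψ) :=
    pullbackRightPullbackFstIso a (Spec.map ψ) (𝒰.f i)
  rw [isLocallyNoetherian_iff_of_iso e]
  exact affine_case (𝒰.f i ≫ a) ψ hE hF

/-- For an arbitrary pullback square. -/
theorem of_isPullback {X X' : Scheme.{u}} {K K' : CommRingCat.{u}} {a : X ⟶ Spec K}
    {ψ : K ⟶ K'} {m : X' ⟶ X} {a' : X' ⟶ Spec K'} (h : IsPullback m a' a (Spec.map ψ))
    (hE : ψ.hom.EssFiniteType) (hF : ψ.hom.FaithfullyFlat) :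
    IsLocallyNoetherian X ↔ IsLocallyNoetherian X' := by
  rw [isLocallyNoetherian_iff_of_iso h.isoPullback]
  exact general a ψ hE hF

/-- Field extensions are faithfully flat. -/
theorem faithfullyFlat_of_field {K K' : CommRingCat.{u}} (hK : IsField K) [Nontrivial K']
    (ψ : K ⟶ K') : ψ.hom.FaithfullyFlat := by
  let _ := hK.toField
  let _ := ψ.hom.toAlgebra
  have : Module.FaithfullyFlat K K' := inferInstance
  exact this

end Groth.Agent.Helper5.NoethBC
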