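import Mathlib
import Groth.Agent.S10843

set_option autoImplicit false
universe u
open MvPolynomial

namespace Groth.Agent.Helper5.NoethDVR

variable (A : Type u) [CommRing A] [IsDomain A] [IsDiscreteValuationRing A]
  (B : Type u) [CommRing B] [Algebra A B] [Module.Flat A B]

theorem injective_of_mod {d : ℕ} (φ : MvPolynomial (Fin d) A →ₐ[A] B)
    (hred : ∀ F, φ F = 0 → F ∈ Ideal.map (C : A →+* MvPolynomial (Fin d) A)
      (IsLocalRing.maximalIdeal A)) : Function.Injective φ := by
  obtain ⟨t, ht⟩ := IsDiscreteValuationRing.exists_irreducible A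
  have h𝔪 : IsLocalRing.maximalIdeal A = Ideal.span {t} := ht.maximalIdeal_eq
  have ht0 : t ≠ 0 := ht.ne_zero
  set K : Ideal (MvPolynomial (Fin d) A) := RingHom.ker (φ : MvPolynomial (Fin d) A →+* B) with hK
  have hle : K ≤ Ideal.span {(C t : MvPolynomial (Fin d) A)} • K := by
    intro F hF
    have hF0 : φ F = 0 := hF
    have h1 := hred F hF0
    rw [h𝔪, Ideal.map_span, Set.image_singleton, Ideal.mem_span_singleton'] at h1
    obtain ⟨F', rfl⟩ := h1
    have h2 : t • φ F' = 0 := by
      rw [map_mul] at hF0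
      have h6 : φ (C t) = algebraMap A B t := by
        rw [← MvPolynomial.algebraMap_eq, AlgHom.commutes]
      rw [h6] at hF0
      rw [Algebra.smul_def, mul_comm]
      exact hF0
    have h3 : φ F' = 0 := (smul_eq_zero_iff_right ht0).1 h2
    rw [mul_comm, smul_eq_mul]
    exact Ideal.mul_mem_mul (Ideal.mem_span_singleton_self _) h3
  obtain ⟨r, hr1, hr2⟩ := Submodule.exists_sub_one_mem_and_smul_eq_zero_of_fg_of_le_smul
    (Ideal.span {(C t : MvPolynomial (Fin d) A)}) K (IsNoetherian.noetherian K) hle
  rw [injective_iff_map_eq_zero]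
  intro F hF
  have h4 := hr2 F hF
  rw [smul_eq_mul] at h4
  rcases mul_eq_zero.1 h4 with h | h
  · exfalso
    rw [h, zero_sub, Ideal.mem_span_singleton'] at hr1
    obtain ⟨s, hs⟩ := hr1
    have h5 := congrArg (constantCoeff : MvPolynomial (Fin d) A →+* A) hs
    rw [map_mul, constantCoeff_C, map_neg, map_one] at h5
    apply ht.not_isUnit
    refine IsUnit.of_mul_eq_one (-(constantCoeff s)) ?_
    rw [mul_neg, mul_comm, h5, neg_neg]
  · exact h

theorem main (d : ℕ)
    [Algebra.FiniteType A (B ⧸ Ideal.map (algebraMap A B) (IsLocalRing.maximalIdeal A))]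
    (hd : ringKrullDim (B ⧸ Ideal.map (algebraMap A B) (IsLocalRing.maximalIdeal A)) = d) :
    ∃ φ : MvPolynomial (Fin d) A →ₐ[A] B, Function.Injective φ ∧
      (Function.Injective (MvPolynomial.eval₂Hom
          (Ideal.quotientMap (Ideal.map (algebraMap A B) (IsLocalRing.maximalIdeal A)) (algebraMap A B)
            Ideal.le_comap_map)
          (fun i => Ideal.Quotient.mk (Ideal.map (algebraMap A B) (IsLocalRing.maximalIdeal A))
            (φ (MvPolynomial.X i)))) ∧
        (MvPolynomial.eval₂Hom
          (Ideal.quotientMap (Ideal.map (algebraMap A B) (IsLocalRing.maximalIdeal A)) (algebraMap A B)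
            Ideal.le_comap_map)
          (fun i => Ideal.Quotient.mk (Ideal.map (algebraMap A B) (IsLocalRing.maximalIdeal A))
            (φ (MvPolynomial.X i)))).Finite) := by
  set 𝔪 := IsLocalRing.maximalIdeal A with h𝔪
  set I := Ideal.map (algebraMap A B) 𝔪 with hI
  let _ : Field (A ⧸ 𝔪) := Ideal.Quotient.field 𝔪
  have hnt : Nontrivial (B ⧸ I) := by
    by_contra hnt
    rw [not_nontrivial_iff_subsingleton] at hnt
    rw [ringKrullDim_eq_bot_of_subsingleton] at hd
    exact WithBot.coe_ne_bot hd.symm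
  have hft : Algebra.FiniteType (A ⧸ 𝔪) (B ⧸ I) :=
    Algebra.FiniteType.of_restrictScalars_finiteType A (A ⧸ 𝔪) (B ⧸ I)
  obtain ⟨g, hgfin, hginj⟩ := (Groth.Agent.S10843.result (A ⧸ 𝔪) (B ⧸ I) d).1 hd
  choose b hb using fun i : Fin d => Ideal.Quotient.mk_surjective (g (X i))
  refine ⟨aeval b, ?_, ?_⟩
  · apply injective_of_mod
    intro F hF
    have hcomp : (g.toRingHom).comp (MvPolynomial.map (Ideal.Quotient.mk 𝔪)) =
        (Ideal.Quotient.mk I).comp ((aeval b : MvPolynomial (Fin d) A →ₐ[A] B) : _ →+* B) := by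
      apply MvPolynomial.ringHom_ext
      · intro r
        simp only [RingHom.comp_apply, map_C]
        have := g.commutes (Ideal.Quotient.mk 𝔪 r)
        simp only [algebraMap_eq] at this
        rw [AlgHom.toRingHom_eq_coe, RingHom.coe_coe, this]
        simp only [RingHom.coe_coe, ← MvPolynomial.algebraMap_eq, AlgHom.commutes]
        rw [← Ideal.Quotient.algebraMap_eq, ← IsScalarTower.algebraMap_apply]
        rw [IsScalarTower.algebraMap_apply A B (B ⧸ I), Ideal.Quotient.algebraMap_eq]
      · intro i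
        simp [hb]
    have h1 := congrArg (fun f => f F) hcomp
    simp only [RingHom.comp_apply] at h1
    have h2 : (aeval b : MvPolynomial (Fin d) A →ₐ[A] B) F = 0 := hF
    rw [RingHom.coe_coe, h2, map_zero] at h1
    have h3 : MvPolynomial.map (Ideal.Quotient.mk 𝔪) F = 0 := by
      apply hginj
      rw [map_zero]
      exact h1
    rw [← RingHom.mem_ker, MvPolynomial.ker_map, Ideal.mk_ker] at h3
    exact h3
  · have heq : MvPolynomial.eval₂Hom (Ideal.quotientMap I (algebraMap A B) Ideal.le_comap_map)
          (fun i => Ideal.Quotient.mk I ((aeval b : MvPolynomial (Fin d) A →ₐ[A] B) (X i))) =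
        g.toRingHom := by
      apply MvPolynomial.ringHom_ext
      · intro r
        simp only [eval₂Hom_C]
        exact (g.commutes r).symm
      · intro i
        simp [hb]
    rw [heq]
    exact ⟨hginj, hgfin⟩

end Groth.Agent.Helper5.NoethDVR
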