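import Groth.Agent.Helper5.NoethChart
import Groth.Agent.Helper4.AlgSpLocPBC
import Groth.Agent.Helper4.AlgSpPB
import Groth.Agent.Helper4.SDClasses
import Groth.Prelude.Def_AlgSpDec
import Mathlib

set_option autoImplicit false
universe u
open CategoryTheory CategoryTheory.Limits AlgebraicGeometry Opposite

namespace Groth.Agent.Helper5.NoethFibre

open AlgSp Groth.Agent.Helper4 Groth.Agent.Helper4.SDClasses

variable {S : Scheme.{u}}

set_option backward.isDefEq.respectTransparency.types false in
/-- A sheaf which is an algebraic space locally of finite type over a locally Noetherian scheme is locally Noetherian. -/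
theorem isLocNoethSp_of_locP_lft {P : Sp S} (hP : IsAlgSpace P) {T : Over S} [IsLocallyNoetherian T.left]
    (s : P ⟶ (yon S).obj T) (hs : LocP @LocallyOfFiniteType s) : IsLocNoethSp P := by
  obtain ⟨A, a, hae, has⟩ := hP.atlas
  obtain ⟨c, hc⟩ := (yon S).map_surjective (a ≫ s)
  have h1 : LocallyOfFiniteType c.left :=
    hs a (𝟙 _) c hae (repWith_id (@Etale.{u}) T) (by rw [hc, Category.comp_id])
  exact ⟨A, a, hae, has, LocallyOfFiniteType.isLocallyNoetherian c.left⟩

set_option backward.isDefEq.respectTransparency.types false in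
theorem isLocNoethSp_fibre {X Y : Sp S} (hX : IsAlgSpace X) (hY : IsAlgSpace Y) (f : X ⟶ Y)
    (hf : LocP @LocallyOfFiniteType f) (p : FieldPt Y)
    {P : Sp S} (fst : P ⟶ X) (snd : P ⟶ (yon S).obj p.pt) (hP : IsPullback fst snd f p.toHom) :
    IsLocNoethSp P := by
  have hPa : IsAlgSpace P :=
    AlgSpPB.isAlgSpace_of_isPullback hY.diag hX (IsAlgSpace.yon_obj p.pt) f p.toHom fst snd hP
  have hG := good_lft.{u}
  have := hG.bc
  have := hG.comp
  have hs : LocP @LocallyOfFiniteType snd :=
    AlgSpLocPBC.locP_of_isPullback @LocallyOfFiniteType (fun g hg => hG.etale_le g hg)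
      (fun e h he hs hP => hG.sd e h he hs hP) hX hY f p.toHom fst snd hP hf
  have : IsLocallyNoetherian p.pt.left := by
    show IsLocallyNoetherian (Spec (CommRingCat.of p.K))
    infer_instance
  exact isLocNoethSp_of_locP_lft hPa snd hs

end Groth.Agent.Helper5.NoethFibre
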