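import Groth.Agent.Helper5.NoethChart
import Groth.Agent.Helper5.AlgSpMonoPt
import Groth.Agent.Helper4.AlgSpPB
import Groth.Agent.Helper4.AlgSpQC2
import Groth.Agent.Helper5.PbFibre
import Groth.Agent.Helper5.UnramLqf
import Groth.Prelude.Def_AlgSpDec
import Mathlib

set_option autoImplicit false
universe u
open CategoryTheory CategoryTheory.Limits AlgebraicGeometry Opposite

namespace Groth.Agent.Helper5.NoethFibre2

open AlgSp Groth.Agent.Helper4

variable {S : Scheme.{u}}

set_option backward.isDefEq.respectTransparency.types false in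
theorem isLocallyNoetherian_of_flat_univOpen_surjective_affine {U V : Scheme.{u}} [IsAffine V] (f : U ⟶ V)
    [Flat f] [UniversallyOpen f] [Surjective f] [IsLocallyNoetherian U] :
    IsLocallyNoetherian V := by
  have hopen : IsOpenMap f := f.isOpenMap
  let 𝒰 := U.affineCover
  have hcov : (Set.univ : Set V) ⊆ ⋃ x : 𝒰.I₀, f '' Set.range (𝒰.f x) := by
    intro v _
    obtain ⟨u, rfl⟩ := f.surjective v
    obtain ⟨y, hy⟩ := 𝒰.covers u
    exact Set.mem_iUnion.2 ⟨_, u, ⟨y, hy⟩, rfl⟩
  obtain ⟨t, ht⟩ := isCompact_univ.elim_finite_subcover (fun x : 𝒰.I₀ => f '' Set.range (𝒰.f x))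
    (fun x => hopen _ (𝒰.f x).isOpenEmbedding.isOpen_range) hcov
  let T : Scheme.{u} := ∐ fun x : ↥t => 𝒰.X x.1
  let g : T ⟶ U := Sigma.desc fun x : ↥t => 𝒰.f x.1
  have hg1 : LocallyOfFiniteType g :=
    IsZariskiLocalAtSource.sigmaDesc (P := @LocallyOfFiniteType) (fun x => inferInstance)
  have hg2 : Flat g := IsZariskiLocalAtSource.sigmaDesc (P := @Flat) (fun x => inferInstance)
  have hT : IsLocallyNoetherian T := LocallyOfFiniteType.isLocallyNoetherian g
  have hTa : IsAffine T := by
    show IsAffine (∐ fun x : ↥t => 𝒰.X x.1)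
    infer_instance
  have hs : Surjective (g ≫ f) := by
    refine ⟨fun v => ?_⟩
    have hv := ht (Set.mem_univ v)
    simp only [Set.mem_iUnion] at hv
    obtain ⟨x, hx, u, ⟨y, rfl⟩, rfl⟩ := hv
    refine ⟨(Sigma.ι (fun x : ↥t => 𝒰.X x.1) ⟨x, hx⟩) y, ?_⟩
    have h1 : Sigma.ι (fun x : ↥t => 𝒰.X x.1) ⟨x, hx⟩ ≫ g ≫ f = 𝒰.f x ≫ f := by
      rw [← Category.assoc]
      congr 1
      exact Sigma.ι_desc _ _
    have h2 := congrArg (fun φ => φ y) h1
    simpa using h2
  have hN : IsNoetherianRing Γ(V, ⊤) :=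
    Groth.Agent.Helper5.NoethDesc.isNoetherianRing_of_flat_surjective_affine (g ≫ f)
  exact isLocallyNoetherian_of_affine_cover (S := fun _ : Unit => ⟨⊤, isAffineOpen_top V⟩)
    (by simp) (fun _ => hN)

set_option backward.isDefEq.respectTransparency.types false in
/-- Local Noetherianity descends along flat, universally open, surjective morphisms of schemes. -/
theorem isLocallyNoetherian_of_flat_univOpen_surjective {U V : Scheme.{u}} (f : U ⟶ V)
    [Flat f] [UniversallyOpen f] [Surjective f] [IsLocallyNoetherian U] :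
    IsLocallyNoetherian V := by
  rw [isLocallyNoetherian_iff_openCover V.affineCover]
  intro i
  have : IsLocallyNoetherian (pullback f (V.affineCover.f i)) :=
    LocallyOfFiniteType.isLocallyNoetherian (pullback.fst f (V.affineCover.f i))
  exact isLocallyNoetherian_of_flat_univOpen_surjective_affine (pullback.snd f (V.affineCover.f i))

set_option backward.isDefEq.respectTransparency.types false in
theorem isLocNoethSp_of_repWith_flat_univOpen_surjective {P Q : Sp S} (hQ : IsAlgSpace Q) (g : P ⟶ Q)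
    (h1 : RepWith @Flat g) (h2 : RepWith @UniversallyOpen g) (h3 : RepWith @Surjective g)
    (hP : IsLocNoethSp P) : IsLocNoethSp Q := by
  obtain ⟨V₀, b, hbe, hbs⟩ := hQ.atlas
  have hrep := h1.1
  have sq : IsPullback (hrep.fst b) ((yon S).map (hrep.snd b)) g b := hrep.isPullback b
  have e1 : Flat (hrep.snd b).left := h1.2 b _ _ sq
  have e2 : UniversallyOpen (hrep.snd b).left := h2.2 b _ _ sq
  have e3 : Surjective (hrep.snd b).left := h3.2 b _ _ sq
  have hfe : RepWith @Etale (hrep.fst b) :=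
    (repWith_isStableUnderBaseChange (S := S) @Etale).of_isPullback sq.flip hbe
  have hW : IsLocallyNoetherian (hrep.pullback b).left :=
    Groth.Agent.Helper5.NoethChart.isLocallyNoetherian_of_etale_chart hP _ hfe
  exact ⟨V₀, b, hbe, hbs, isLocallyNoetherian_of_flat_univOpen_surjective (hrep.snd b).left⟩

set_option backward.isDefEq.respectTransparency.types false in
theorem isLocNoethSp_of_repWith_lft {R P : Sp S} (g : R ⟶ P) (hg : RepWith @LocallyOfFiniteType g)
    (hP : IsLocNoethSp P) : IsLocNoethSp R := by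
  obtain ⟨U₀, p₀, hpe, hps, hU₀⟩ := hP
  have hrep := hg.1
  have sq : IsPullback (hrep.fst p₀) ((yon S).map (hrep.snd p₀)) g p₀ := hrep.isPullback p₀
  have e1 : LocallyOfFiniteType (hrep.snd p₀).left := hg.2 p₀ _ _ sq
  have : IsLocallyNoetherian U₀.left := hU₀
  exact ⟨hrep.pullback p₀, hrep.fst p₀,
    (repWith_isStableUnderBaseChange (S := S) @Etale).of_isPullback sq.flip hpe,
    (repWith_isStableUnderBaseChange (S := S) @Surjective).of_isPullback sq.flip hps,
    LocallyOfFiniteType.isLocallyNoetherian (hrep.snd p₀).left⟩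

/-- morphisms between spectra of fields -/
theorem field_mor_props {K L : Type u} [Field K] [Field L]
    (c : Spec (CommRingCat.of K) ⟶ Spec (CommRingCat.of L)) :
    Flat c ∧ UniversallyOpen c ∧ Surjective c := by
  refine ⟨inferInstance, inferInstance, ⟨fun y => ?_⟩⟩
  obtain ⟨x⟩ : Nonempty ↥(Spec (CommRingCat.of K)) := inferInstance
  exact ⟨x, Subsingleton.elim _ _⟩

set_option backward.isDefEq.respectTransparency.types false in
theorem isLocNoethSp_fibre_of_mono_fieldPt (X Y : Space S) (f : X ⟶ Y) (p p₀ : FieldPt Y.obj)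
    (hpp : Points.mk p = Points.mk p₀) (hmono : Mono p₀.toHom)
    (hNoeth : ∀ ⦃P : Sp S⦄ (fst : P ⟶ X.obj) (snd : P ⟶ (yon S).obj p.pt),
      IsPullback fst snd f.hom p.toHom → IsLocNoethSp P)
    {Q : Sp S} (qfst : Q ⟶ X.obj) (qsnd : Q ⟶ (yon S).obj p₀.pt)
    (hQ : IsPullback qfst qsnd f.hom p₀.toHom) : IsLocNoethSp Q := by
  obtain ⟨c, hc, -⟩ := Groth.Agent.Helper5.AlgSpMonoPt.existsUnique_factor Y.property p₀ p hpp.symm
  have hP := IsPullback.of_hasPullback f.hom p.toHom
  have hPN := hNoeth _ _ hP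
  let g : pullback f.hom p.toHom ⟶ Q :=
    hQ.lift (pullback.fst _ _) (pullback.snd _ _ ≫ (yon S).map c)
      (by rw [Category.assoc, hc]; exact pullback.condition)
  have hg1 : g ≫ qfst = pullback.fst _ _ := hQ.lift_fst _ _ _
  have hg2 : g ≫ qsnd = pullback.snd _ _ ≫ (yon S).map c := hQ.lift_snd _ _ _
  have sq : IsPullback g (pullback.snd f.hom p.toHom) qsnd ((yon S).map c) := by
    refine IsPullback.of_right ?_ hg2 hQ
    rw [hg1, hc]
    exact hP
  have hQa : IsAlgSpace Q :=
    AlgSpPB.isAlgSpace_of_isPullback Y.property.diag X.property (IsAlgSpace.yon_obj p₀.pt)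
      f.hom p₀.toHom qfst qsnd hQ
  obtain ⟨c1, c2, c3⟩ := field_mor_props (K := p.K) (L := p₀.K) c.left
  refine isLocNoethSp_of_repWith_flat_univOpen_surjective hQa g ?_ ?_ ?_ hPN
  · exact (repWith_isStableUnderBaseChange (S := S) @Flat).of_isPullback sq.flip
      ((repWith_yon_map_iff _ c).2 c1)
  · exact (repWith_isStableUnderBaseChange (S := S) @UniversallyOpen).of_isPullback sq.flip
      ((repWith_yon_map_iff _ c).2 c2)
  · exact (repWith_isStableUnderBaseChange (S := S) @Surjective).of_isPullback sq.flip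
      ((repWith_yon_map_iff _ c).2 c3)

/-- the residue field point of a scheme étale over a field is locally of finite type over it -/
theorem lft_fromSpecResidueField_comp {T : Scheme.{u}} {K : Type u} [Field K]
    (g : T ⟶ Spec (CommRingCat.of K)) [Etale g] (t : ↥T) :
    LocallyOfFiniteType (T.fromSpecResidueField t ≫ g) := by
  have hlqf : LocallyQuasiFinite g := Groth.Agent.Helper5.UnramLqf.locallyQuasiFinite_of_unramified g
  rw [← Scheme.Hom.SpecMap_residueFieldMap_fromSpecResidueField]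
  have h1 : IsFinite (Spec.map (g.residueFieldMap t)) :=
    (IsFinite.SpecMap_iff _).2 (Groth.Agent.Helper5.PbFibre.finite_residueFieldMap_of_lqf g t)
  have h2 : IsClosedImmersion ((Spec (CommRingCat.of K)).fromSpecResidueField (g t)) :=
    isClosed_singleton_iff_isClosedImmersion.1 isClosed_singleton
  infer_instance

set_option backward.isDefEq.respectTransparency.types false in
theorem isLocNoethSp_fibre_etale_chart_of_fieldPt (X Y : Space S) (f : X ⟶ Y)
    (y : Points Y.obj) (p : FieldPt Y.obj) (hp : Points.mk p = y)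
    (hNoeth : ∀ ⦃P : Sp S⦄ (fst : P ⟶ X.obj) (snd : P ⟶ (yon S).obj p.pt),
      IsPullback fst snd f.hom p.toHom → IsLocNoethSp P)
    (V : Over S) (b : (yon S).obj V ⟶ Y.obj) (hb : RepWith @Etale b) (v : ↥V.left)
    (hv : Points.ofPt b v = y)
    {Q : Sp S} (qfst : Q ⟶ X.obj) (qsnd : Q ⟶ (yon S).obj (FieldPt.ofPt b v).pt)
    (hQ : IsPullback qfst qsnd f.hom (FieldPt.ofPt b v).toHom) : IsLocNoethSp Q := by
  have hrep := hb.1
  have sqT : IsPullback (hrep.fst p.toHom) ((yon S).map (hrep.snd p.toHom)) b p.toHom :=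
    hrep.isPullback p.toHom
  obtain ⟨fstT, hfstT⟩ := (yon S).map_surjective (hrep.fst p.toHom)
  have hsndE : Etale (hrep.snd p.toHom).left := hb.2 p.toHom _ _ sqT
  obtain ⟨s⟩ : Nonempty ↥(Spec (CommRingCat.of p.K)) := inferInstance
  have hs : Points.ofPt p.toHom s = Points.mk p := Points.ofPt_toHom p s
  obtain ⟨z, hz1, hz2⟩ := AlgSpPtsDesc.exists_point_of_isPullback sqT (Points.schemeHomeo V v)
    (Points.schemeHomeo p.pt s)
    (by rw [AlgSpQC2.ofPt_eq_map_schemeHomeo, AlgSpQC2.ofPt_eq_map_schemeHomeo, hv, hs, hp])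
  obtain ⟨t, rfl⟩ := (Points.schemeHomeo _).surjective z
  have ht : fstT.left t = v := by
    apply (Points.schemeHomeo V).injective
    rw [← Points.map_yon_map_apply, hfstT, hz1]
  subst ht
  rw [← hfstT] at sqT
  clear hfstT hz1 hz2 hs
  generalize hrep.snd p.toHom = sndT at sqT hsndE
  generalize hrep.pullback p.toHom = T at fstT sndT sqT hsndE t
  -- the point `Spec κ(t)`
  let K' : Over S := Over.mk (T.left.fromSpecResidueField t ≫ T.hom)
  let ι : K' ⟶ T := Over.homMk (T.left.fromSpecResidueField t) rfl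
  let e₁ : K' ⟶ p.pt := ι ≫ sndT
  have hw : Spec.map (fstT.left.residueFieldMap t) ≫
      (V.left.fromSpecResidueField (fstT.left t) ≫ V.hom) =
      T.left.fromSpecResidueField t ≫ T.hom := by
    rw [← Category.assoc, Scheme.Hom.SpecMap_residueFieldMap_fromSpecResidueField, Category.assoc,
      Over.w fstT]
  let e₂ : K' ⟶ (FieldPt.ofPt b (fstT.left t)).pt :=
    Over.homMk (Spec.map (fstT.left.residueFieldMap t)) hw
  have hto := FieldPt.toHom_ofPt b (fstT.left t)
  let ιv : (FieldPt.ofPt b (fstT.left t)).pt ⟶ V :=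
    Over.homMk (V.left.fromSpecResidueField (fstT.left t)) rfl
  have h1 : e₂ ≫ ιv = ι ≫ fstT := by
    apply Over.OverMorphism.ext
    exact Scheme.Hom.SpecMap_residueFieldMap_fromSpecResidueField _ _
  have hcomp : (yon S).map e₂ ≫ (FieldPt.ofPt b (fstT.left t)).toHom = (yon S).map e₁ ≫ p.toHom :=
    calc (yon S).map e₂ ≫ (FieldPt.ofPt b (fstT.left t)).toHom
        = (yon S).map (e₂ ≫ ιv) ≫ b := by rw [hto, Functor.map_comp, Category.assoc]
      _ = (yon S).map (ι ≫ fstT) ≫ b := congrArg (fun m => (yon S).map m ≫ b) h1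
      _ = (yon S).map e₁ ≫ p.toHom := by
        rw [Functor.map_comp, Category.assoc, sqT.w, ← Category.assoc, ← Functor.map_comp]
  have hP := IsPullback.of_hasPullback f.hom p.toHom
  have hPN := hNoeth _ _ hP
  have hR := IsPullback.of_hasPullback f.hom ((yon S).map e₁ ≫ p.toHom)
  let g₁ : pullback f.hom ((yon S).map e₁ ≫ p.toHom) ⟶ pullback f.hom p.toHom :=
    hP.lift (pullback.fst _ _) (pullback.snd _ _ ≫ (yon S).map e₁)
      (by rw [Category.assoc]; exact pullback.condition)
  have sq₁ : IsPullback g₁ (pullback.snd f.hom ((yon S).map e₁ ≫ p.toHom))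
      (pullback.snd f.hom p.toHom) ((yon S).map e₁) := by
    refine IsPullback.of_right ?_ (hP.lift_snd _ _ _) hP
    rw [hP.lift_fst]; exact hR
  let g₂ : pullback f.hom ((yon S).map e₁ ≫ p.toHom) ⟶ Q :=
    hQ.lift (pullback.fst _ _) (pullback.snd _ _ ≫ (yon S).map e₂)
      (by rw [Category.assoc, hcomp]; exact pullback.condition)
  have sq₂ : IsPullback g₂ (pullback.snd f.hom ((yon S).map e₁ ≫ p.toHom)) qsnd ((yon S).map e₂) := by
    refine IsPullback.of_right ?_ (hQ.lift_snd _ _ _) hQ
    rw [hQ.lift_fst, hcomp]; exact hR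
  have he₁ : LocallyOfFiniteType e₁.left := lft_fromSpecResidueField_comp (K := p.K) sndT.left t
  have hRN : IsLocNoethSp (pullback f.hom ((yon S).map e₁ ≫ p.toHom)) :=
    isLocNoethSp_of_repWith_lft g₁
      ((repWith_isStableUnderBaseChange (S := S) @LocallyOfFiniteType).of_isPullback sq₁.flip
        ((repWith_yon_map_iff _ e₁).2 he₁)) hPN
  have hQa : IsAlgSpace Q :=
    AlgSpPB.isAlgSpace_of_isPullback Y.property.diag X.property (IsAlgSpace.yon_obj _)
      f.hom _ qfst qsnd hQ
  obtain ⟨c1, c2, c3⟩ := field_mor_props (K := T.left.residueField t)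
    (L := V.left.residueField (fstT.left t)) e₂.left
  refine isLocNoethSp_of_repWith_flat_univOpen_surjective hQa g₂ ?_ ?_ ?_ hRN
  · exact (repWith_isStableUnderBaseChange (S := S) @Flat).of_isPullback sq₂.flip
      ((repWith_yon_map_iff _ e₂).2 c1)
  · exact (repWith_isStableUnderBaseChange (S := S) @UniversallyOpen).of_isPullback sq₂.flip
      ((repWith_yon_map_iff _ e₂).2 c2)
  · exact (repWith_isStableUnderBaseChange (S := S) @Surjective).of_isPullback sq₂.flip
      ((repWith_yon_map_iff _ e₂).2 c3)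

end Groth.Agent.Helper5.NoethFibre2
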