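import Mathlib
import Groth.Agent.Helper5.DegStr4
import Groth.Agent.Helper5.DegStr5

/-!
# Etale separated morphisms with finite fibres over a Noetherian affine base are quasi-compact
-/

set_option autoImplicit false
universe u
open CategoryTheory CategoryTheory.Limits AlgebraicGeometry TopologicalSpace

namespace Groth.Agent.Helper5.NoethQS

open Groth.Agent.Helper5.DegStr

variable {Y B : Scheme.{u}} (f : Y ⟶ B)

/-- over a nonempty affine base, an etale separated morphism with finite fibres is finite over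
some nonempty open -/
theorem exists_open_isFinite [Etale f] [IsSeparated f] [IsAffine B] [Nonempty ↥B]
    (hfin : ∀ b : ↥B, (f ⁻¹' {b}).Finite) :
    ∃ O : B.Opens, (O : Set ↥B).Nonempty ∧ IsFinite (f ∣_ O) := by
  obtain ⟨n, U, hUo, hUne, hUn, hUd⟩ := exists_open_const f hfin
  refine ⟨⟨U, hUo⟩, hUne, ?_⟩
  apply isFinite_of_Npts n (f ∣_ (⟨U, hUo⟩ : B.Opens))
  · rw [Set.eq_univ_iff_forall]
    intro b
    exact (mem_Npts_morphismRestrict f _ n b).2 (hUn b.2)
  · rw [Set.eq_empty_iff_forall_notMem]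
    intro b hb
    exact Set.disjoint_left.1 hUd b.2 ((mem_Npts_morphismRestrict f _ (n + 1) b).1 hb)

/-- etale separated, finite fibres, Noetherian affine base: preimages of closed sets are compact -/
theorem isCompact_preimage_closeds [Etale f] [IsSeparated f] [IsAffine B] [NoetherianSpace ↥B]
    (hfin : ∀ b : ↥B, (f ⁻¹' {b}).Finite) (Z : Closeds ↥B) :
    IsCompact (f ⁻¹' (Z : Set ↥B)) := by
  induction Z using WellFoundedLT.induction with
  | ind Z ih =>
  by_cases hZe : (Z : Set ↥B) = ∅
  · rw [hZe, Set.preimage_empty]; exact isCompact_empty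
  -- the reduced induced structure on `Z`
  let I := Scheme.IdealSheafData.vanishingIdeal Z
  let ι : I.subscheme ⟶ B := I.subschemeι
  have hrange : Set.range ι = (Z : Set ↥B) := by
    rw [Scheme.IdealSheafData.range_subschemeι]
    exact Scheme.IdealSheafData.coe_support_vanishingIdeal Z
  haveI : IsAffine I.subscheme := isAffine_of_isAffineHom ι
  haveI : Nonempty ↥I.subscheme := by
    obtain ⟨z, hz⟩ := Set.nonempty_iff_ne_empty.2 hZe
    rw [← hrange] at hz
    obtain ⟨z', -⟩ := hz
    exact ⟨z'⟩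
  let fZ : pullback f ι ⟶ I.subscheme := pullback.snd f ι
  have hfinZ : ∀ z : ↥I.subscheme, (fZ ⁻¹' {z}).Finite := by
    intro z
    have hinj : Function.Injective (pullback.fst f ι) :=
      (pullback.fst f ι).isClosedEmbedding.injective
    refine Set.Finite.of_finite_image ((hfin (ι z)).subset ?_) hinj.injOn
    rintro _ ⟨w, hw, rfl⟩
    show f (pullback.fst f ι w) = ι z
    rw [← Scheme.Hom.comp_apply, pullback.condition, Scheme.Hom.comp_apply]
    exact congrArg ι hw
  obtain ⟨O, hOne, hOfin⟩ := exists_open_isFinite fZ hfinZ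
  -- the complement of `ι(O)` in `Z`
  have hcl : IsClosed ((Z : Set ↥B) \ ι '' (O : Set ↥I.subscheme)) := by
    have hemb : Topology.IsClosedEmbedding ι := ι.isClosedEmbedding
    have h1 : IsClosed (ι '' ((O : Set ↥I.subscheme)ᶜ)) :=
      hemb.isClosedMap _ O.isOpen.isClosed_compl
    have h2 : (Z : Set ↥B) \ ι '' (O : Set ↥I.subscheme) = ι '' ((O : Set ↥I.subscheme)ᶜ) := by
      rw [← hrange, ← Set.image_univ, ← Set.image_diff hemb.injective, Set.compl_eq_univ_diff]
    rw [h2]; exact h1
  let Z₁ : Closeds ↥B := ⟨_, hcl⟩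
  have hlt : Z₁ < Z := by
    refine lt_of_le_of_ne (fun x hx => hx.1) ?_
    intro heq
    obtain ⟨o, ho⟩ := hOne
    have h1 : ι o ∈ (Z : Set ↥B) := by rw [← hrange]; exact ⟨o, rfl⟩
    have h2 : ι o ∈ (Z₁ : Set ↥B) := by rw [heq]; exact h1
    exact h2.2 ⟨o, ho, rfl⟩
  have hc1 : IsCompact (f ⁻¹' (Z₁ : Set ↥B)) := ih Z₁ hlt
  -- the part over `O`
  haveI : NoetherianSpace ↥I.subscheme :=
    ι.isClosedEmbedding.isInducing.noetherianSpace
  have hOc : IsCompact (O : Set ↥I.subscheme) := NoetherianSpace.isCompact _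
  have hc2 : IsCompact (fZ ⁻¹' (O : Set ↥I.subscheme)) := by
    haveI : CompactSpace ↥O.toScheme := isCompact_iff_compactSpace.1 hOc
    haveI : IsFinite (fZ ∣_ O) := hOfin
    have h3 : CompactSpace ↥(fZ ⁻¹ᵁ O).toScheme := QuasiCompact.compactSpace_of_compactSpace (fZ ∣_ O)
    exact isCompact_iff_compactSpace.2 h3
  have hc3 : IsCompact (pullback.fst f ι '' (fZ ⁻¹' (O : Set ↥I.subscheme))) :=
    hc2.image (pullback.fst f ι).continuous
  have hunion : f ⁻¹' (Z : Set ↥B) =
      f ⁻¹' (Z₁ : Set ↥B) ∪ pullback.fst f ι '' (fZ ⁻¹' (O : Set ↥I.subscheme)) := by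
    ext y
    constructor
    · intro hy
      by_cases hyO : f y ∈ ι '' (O : Set ↥I.subscheme)
      · right
        obtain ⟨o, ho, hoy⟩ := hyO
        obtain ⟨w, hw1, hw2⟩ := Scheme.Pullback.exists_preimage_pullback (f := f) (g := ι) y o hoy.symm
        refine ⟨w, ?_, hw1⟩
        show fZ w ∈ (O : Set ↥I.subscheme)
        rw [show fZ w = o from hw2]
        exact ho
      · left
        exact ⟨hy, hyO⟩
    · rintro (hy | ⟨w, hw, rfl⟩)
      · exact hy.1
      · show f (pullback.fst f ι w) ∈ (Z : Set ↥B)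
        rw [← Scheme.Hom.comp_apply, pullback.condition, Scheme.Hom.comp_apply, ← hrange]
        exact ⟨_, rfl⟩
  rw [hunion]
  exact hc1.union hc3

end Groth.Agent.Helper5.NoethQS
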