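import Mathlib
import Groth.Agent.Helper5.NoethQS1
import Groth.Agent.Helper5.DecJac4
import Groth.Agent.Helper5.MonoPt
import Groth.Agent.Helper5.MonoQuot5

/-!
# Fibre products of affine etale charts of a locally Noetherian decent space are quasi-compact
-/

set_option autoImplicit false
universe u
open CategoryTheory CategoryTheory.Limits AlgebraicGeometry TopologicalSpace Opposite AlgSp

namespace Groth.Agent.Helper5.NoethQS

open Groth.Agent.Helper4.AlgSpPtsDesc

variable {S : Scheme.{u}}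

theorem isCompact_inter_preimage (X : Space S) (hd : IsDecent X.obj) {U₀ R : Over S}
    [IsLocallyNoetherian U₀.left]
    (p₀ : (yon S).obj U₀ ⟶ X.obj) (hp₀ : RepWith @Etale p₀) (s t : R ⟶ U₀)
    (hR : IsPullback ((yon S).map t) ((yon S).map s) p₀ p₀) [Etale s.left] [Etale t.left]
    (O₁ O₂ : U₀.left.Opens) (hO₁ : IsAffineOpen O₁) (hO₂ : IsAffineOpen O₂) :
    IsCompact ((t.left ⁻¹ᵁ O₁ ⊓ s.left ⁻¹ᵁ O₂ : R.left.Opens) : Set ↥R.left) := by
  set C : R.left.Opens := t.left ⁻¹ᵁ O₁ ⊓ s.left ⁻¹ᵁ O₂ with hC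
  have hr1 : Set.range (C.ι ≫ t.left) ⊆ Set.range O₁.ι := by
    rintro _ ⟨c, rfl⟩
    rw [Scheme.Opens.range_ι]
    exact c.2.1
  have hr2 : Set.range (C.ι ≫ s.left) ⊆ Set.range O₂.ι := by
    rintro _ ⟨c, rfl⟩
    rw [Scheme.Opens.range_ι]
    exact c.2.2
  let f : C.toScheme ⟶ O₁.toScheme := IsOpenImmersion.lift O₁.ι (C.ι ≫ t.left) hr1
  let g : C.toScheme ⟶ O₂.toScheme := IsOpenImmersion.lift O₂.ι (C.ι ≫ s.left) hr2
  have hf : f ≫ O₁.ι = C.ι ≫ t.left := IsOpenImmersion.lift_fac _ _ _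
  have hg : g ≫ O₂.ι = C.ι ≫ s.left := IsOpenImmersion.lift_fac _ _ _
  haveI : Etale (f ≫ O₁.ι) := by rw [hf]; infer_instance
  haveI : Etale f := Etale.of_comp f O₁.ι
  haveI : IsAffine O₁.toScheme := hO₁
  haveI : IsAffine O₂.toScheme := hO₂
  -- separatedness
  have hcond : f ≫ (O₁.ι ≫ U₀.hom) = g ≫ (O₂.ι ≫ U₀.hom) := by
    rw [← Category.assoc, hf, ← Category.assoc, hg, Category.assoc, Category.assoc, Over.w t,
      Over.w s]
  let m : C.toScheme ⟶ pullback (O₁.ι ≫ U₀.hom) (O₂.ι ≫ U₀.hom) := pullback.lift f g hcond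
  haveI : Mono m := by
    constructor
    intro Z a b hab
    rw [← cancel_mono C.ι]
    apply Groth.Agent.Helper5.MonoQuot.kp_jm p₀ s t hR
    · have h1 := congrArg (· ≫ pullback.snd _ _ ≫ O₂.ι) hab
      simp only [Category.assoc, m, pullback.lift_snd_assoc] at h1
      rw [hg] at h1
      simpa only [Category.assoc] using h1
    · have h1 := congrArg (· ≫ pullback.fst _ _ ≫ O₁.ι) hab
      simp only [Category.assoc, m, pullback.lift_fst_assoc] at h1
      rw [hf] at h1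
      simpa only [Category.assoc] using h1
  haveI : IsSeparated f := by
    have : f = m ≫ pullback.fst _ _ := (pullback.lift_fst _ _ _).symm
    rw [this]
    infer_instance
  -- Noetherian
  haveI : IsNoetherian O₁.toScheme := { }
  -- finite fibres
  have hfin : ∀ b : ↥O₁.toScheme, (f ⁻¹' {b}).Finite := by
    intro b
    let x : Points X.obj := Points.ofPt p₀ (O₁.ι b)
    obtain ⟨p, hp, hpm, -⟩ := hd x
    haveI := hpm
    have hA : (Points.ofPt ((yon S).map (Over.homMk O₂.ι rfl : Over.mk (O₂.ι ≫ U₀.hom) ⟶ U₀) ≫ p₀)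
        ⁻¹' {x}).Finite :=
      Groth.Agent.Helper5.DecJac.finite_fibres_of_isDecent hd x (Over.mk (O₂.ι ≫ U₀.hom)) _ hO₂
        (Groth.Agent.Helper5.MonoQuot.repWith_etale_restrict p₀ hp₀ O₂)
    have hA' : ((O₂ : Set ↥U₀.left) ∩ Points.ofPt p₀ ⁻¹' {x}).Finite := by
      refine (hA.image (fun w : ↥O₂.toScheme => (O₂.ι w))).subset ?_
      rintro u' ⟨hu'O, hu'x⟩
      refine ⟨⟨u', hu'O⟩, ?_, rfl⟩
      show Points.ofPt ((yon S).map (Over.homMk O₂.ι rfl : Over.mk (O₂.ι ≫ U₀.hom) ⟶ U₀) ≫ p₀)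
        ⟨u', hu'O⟩ = _
      rw [ofPt_yon_map_comp]
      exact hu'x
    have hB : (⋃ u' ∈ ((O₂ : Set ↥U₀.left) ∩ Points.ofPt p₀ ⁻¹' {x}),
        {r : ↥R.left | s.left r = u' ∧ t.left r = O₁.ι b}).Finite := by
      refine hA'.biUnion (fun u' hu' => ?_)
      exact Groth.Agent.Helper5.MonoPt.finite_relation_fibre_of_mono_point p p₀ hp₀ u' (O₁.ι b)
        (hu'.2.trans hp.symm) hp.symm R s t hR
    have hinj : Function.Injective C.ι := C.ι.isOpenEmbedding.injective
    refine Set.Finite.of_finite_image (hB.subset ?_) hinj.injOn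
    rintro _ ⟨c, hc, rfl⟩
    have hc' : f c = b := hc
    have ht : t.left (C.ι c) = O₁.ι b := by
      rw [← hc', ← Scheme.Hom.comp_apply, ← Scheme.Hom.comp_apply, hf]
    have hs : s.left (C.ι c) ∈ (O₂ : Set ↥U₀.left) := c.2.2
    have hx : Points.ofPt p₀ (s.left (C.ι c)) = x := by
      show _ = Points.ofPt p₀ (O₁.ι b)
      rw [← ht, ← ofPt_yon_map_comp s p₀, ← ofPt_yon_map_comp t p₀, hR.w]
    simp only [Set.mem_iUnion]
    exact ⟨s.left (C.ι c), ⟨hs, hx⟩, rfl, ht⟩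
  have hcpt := isCompact_preimage_closeds f hfin ⊤
  have hcs : CompactSpace ↥C.toScheme := by
    rw [← isCompact_univ_iff]
    simpa using hcpt
  exact isCompact_iff_compactSpace.2 hcs

end Groth.Agent.Helper5.NoethQS
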