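import Mathlib
import Groth.Agent.Helper5.NoethQS2
import Groth.Agent.Helper5.DiagBC4

/-!
# S10354: a locally Noetherian decent algebraic space is quasi-separated
-/

set_option autoImplicit false
universe u
open CategoryTheory CategoryTheory.Limits AlgebraicGeometry TopologicalSpace Opposite AlgSp

namespace Groth.Agent.Helper5.NoethQS

open Groth.Agent.Helper4 Groth.Agent.Helper4.AlgSpQS Groth.Agent.Helper5.DiagBC

variable {S : Scheme.{u}}

/-- an open of `U ×_S U` lying over two affine opens is a separated scheme -/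
theorem quasiSeparatedSpace_of_le {U₀ : Scheme.{u}} {B : Scheme.{u}} (q : U₀ ⟶ B)
    (O₁ O₂ : U₀.Opens) (hO₁ : IsAffineOpen O₁) (hO₂ : IsAffineOpen O₂)
    (W : (pullback q q).Opens)
    (hW : W ≤ pullback.fst q q ⁻¹ᵁ O₁ ⊓ pullback.snd q q ⁻¹ᵁ O₂) :
    QuasiSeparatedSpace ↥W.toScheme := by
  haveI : IsAffine O₁.toScheme := hO₁
  haveI : IsAffine O₂.toScheme := hO₂
  have hr1 : Set.range (W.ι ≫ pullback.fst q q) ⊆ Set.range O₁.ι := by
    rintro _ ⟨c, rfl⟩
    rw [Scheme.Opens.range_ι]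
    exact (hW c.2).1
  have hr2 : Set.range (W.ι ≫ pullback.snd q q) ⊆ Set.range O₂.ι := by
    rintro _ ⟨c, rfl⟩
    rw [Scheme.Opens.range_ι]
    exact (hW c.2).2
  let f : W.toScheme ⟶ O₁.toScheme := IsOpenImmersion.lift O₁.ι (W.ι ≫ pullback.fst q q) hr1
  let g : W.toScheme ⟶ O₂.toScheme := IsOpenImmersion.lift O₂.ι (W.ι ≫ pullback.snd q q) hr2
  have hf : f ≫ O₁.ι = W.ι ≫ pullback.fst q q := IsOpenImmersion.lift_fac _ _ _
  have hg : g ≫ O₂.ι = W.ι ≫ pullback.snd q q := IsOpenImmersion.lift_fac _ _ _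
  let m : W.toScheme ⟶ pullback (terminal.from O₁.toScheme) (terminal.from O₂.toScheme) :=
    pullback.lift f g (Subsingleton.elim _ _)
  haveI : Mono m := by
    constructor
    intro Z a b hab
    rw [← cancel_mono W.ι]
    apply pullback.hom_ext
    · have h1 := congrArg (· ≫ pullback.fst _ _ ≫ O₁.ι) hab
      simp only [Category.assoc, m, pullback.lift_fst_assoc] at h1
      rw [hf] at h1
      simpa only [Category.assoc] using h1
    · have h1 := congrArg (· ≫ pullback.snd _ _ ≫ O₂.ι) hab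
      simp only [Category.assoc, m, pullback.lift_snd_assoc] at h1
      rw [hg] at h1
      simpa only [Category.assoc] using h1
  haveI : W.toScheme.IsSeparated := by
    constructor
    rw [← terminal.comp_from m]
    infer_instance
  infer_instance

/-- S10354 -/
theorem s10354 (X : Space S) (hN : IsLocNoethSp X.obj) (hX : IsDecent X.obj) :
    IsQuasiSeparatedSp X.obj := by
  obtain ⟨U₀, p₀, hp₀e, hp₀s, hU₀N⟩ := hN
  haveI : IsLocallyNoetherian U₀.left := hU₀N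
  obtain ⟨R, s, t, hR, hse, hte⟩ := Groth.Agent.Helper5.MonoQuot.exists_relation p₀ hp₀e
  haveI := hse
  haveI := hte
  have := SchDescent.descendsAlong_quasiCompact_fppf.{u}
  refine repWith_diag_of_chart @QuasiCompact X p₀ hp₀e hp₀s s t hR ?_
  -- quasi-compactness of `R ⟶ U₀ ×_S U₀`
  let h : R.left ⟶ pullback U₀.hom U₀.hom := (toProd t s).left
  have hh1 : h ≫ pullback.fst U₀.hom U₀.hom = t.left :=
    congrArg (fun k => k.left) (toProd_fst t s)
  have hh2 : h ≫ pullback.snd U₀.hom U₀.hom = s.left :=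
    congrArg (fun k => k.left) (toProd_snd t s)
  show QuasiCompact h
  let ι := {O : U₀.left.Opens // IsAffineOpen O} × {O : U₀.left.Opens // IsAffineOpen O}
  let W : ι → (pullback U₀.hom U₀.hom).Opens := fun i =>
    pullback.fst U₀.hom U₀.hom ⁻¹ᵁ i.1.1 ⊓ pullback.snd U₀.hom U₀.hom ⁻¹ᵁ i.2.1
  have hW : iSup W = ⊤ := by
    rw [eq_top_iff]
    intro z _
    obtain ⟨_, ⟨(O₁ : U₀.left.Opens), hO₁, rfl⟩, hz1, -⟩ :=
      (U₀.left.isBasis_affineOpens).exists_subset_of_mem_open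
        (Set.mem_univ (pullback.fst U₀.hom U₀.hom z)) isOpen_univ
    obtain ⟨_, ⟨(O₂ : U₀.left.Opens), hO₂, rfl⟩, hz2, -⟩ :=
      (U₀.left.isBasis_affineOpens).exists_subset_of_mem_open
        (Set.mem_univ (pullback.snd U₀.hom U₀.hom z)) isOpen_univ
    rw [Opens.mem_iSup]
    exact ⟨(⟨O₁, hO₁⟩, ⟨O₂, hO₂⟩), hz1, hz2⟩
  refine IsZariskiLocalAtTarget.of_iSup_eq_top (P := @QuasiCompact) W hW (fun i => ?_)
  haveI : QuasiSeparatedSpace ↥(W i).toScheme :=
    quasiSeparatedSpace_of_le U₀.hom i.1.1 i.2.1 i.1.2 i.2.2 (W i) le_rfl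
  have hpre : h ⁻¹ᵁ (W i) = t.left ⁻¹ᵁ i.1.1 ⊓ s.left ⁻¹ᵁ i.2.1 := by
    ext r
    show (pullback.fst U₀.hom U₀.hom (h r) ∈ i.1.1 ∧ pullback.snd U₀.hom U₀.hom (h r) ∈ i.2.1) ↔
      (t.left r ∈ i.1.1 ∧ s.left r ∈ i.2.1)
    rw [← Scheme.Hom.comp_apply, ← Scheme.Hom.comp_apply, hh1, hh2]
  have hc : IsCompact ((h ⁻¹ᵁ (W i) : R.left.Opens) : Set ↥R.left) := by
    rw [hpre]
    exact isCompact_inter_preimage X hX p₀ hp₀e s t hR i.1.1 i.2.1 i.1.2 i.2.2
  haveI : CompactSpace ↥(h ⁻¹ᵁ (W i)).toScheme := isCompact_iff_compactSpace.1 hc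
  infer_instance

end Groth.Agent.Helper5.NoethQS
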