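import Mathlib
import Groth.Prelude.Def_Found
import Groth.Prelude.Def_Pi1
import Groth.Agent.Helper5.NormChar2

set_option autoImplicit false
set_option linter.unusedSectionVars false
set_option linter.style.haveILetI false
universe u

open AlgebraicGeometry CategoryTheory Opposite

namespace Groth.Agent.Helper5.NormChar

open Groth.Agent.Helper5.NormGen

variable {X : Scheme.{u}} [IsIntegral X] (K : Type u) [Field K] (φ : X.functionField →+* K)
  [QuasiCompact (gen K φ)] [QuasiSeparated (gen K φ)]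

/-- the normalization is an isomorphism over an affine open with integrally closed stalks -/
theorem isIso_morphismRestrict_of_closed (hφ : φ.Finite) (hbij : Function.Bijective φ)
    (W : X.Opens) (hW : IsAffineOpen W) (hne : Nonempty W)
    (hcl : ∀ x ∈ W, IsIntegrallyClosed (X.presheaf.stalk x)) :
    IsIso ((gen K φ).fromNormalization ∣_ W) := by
  apply Groth.Agent.Helper5.NormIso.isIso_morphismRestrict _ W hW (hW.preimage _)
  apply Groth.Agent.Helper5.NormIso.app_bijective_of_closed K φ hφ W hW hne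
  haveI : IsDomain Γ(X, W) := @IsIntegral.component_integral X _ W hne
  letI algK : Algebra Γ(X, W) K := (φ.comp (X.germToFunctionField W).hom).toAlgebra
  letI : Algebra X.functionField K := φ.toAlgebra
  haveI : IsScalarTower Γ(X, W) X.functionField K :=
    IsScalarTower.of_algebraMap_eq (fun x => rfl)
  haveI : IsFractionRing Γ(X, W) X.functionField :=
    functionField_isFractionRing_of_isAffineOpen X W hW
  haveI : IsFractionRing Γ(X, W) K :=
    IsLocalization.isLocalization_of_algEquiv (nonZeroDivisors Γ(X, W))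
      (AlgEquiv.ofBijective (IsScalarTower.toAlgHom Γ(X, W) X.functionField K) hbij)
  haveI : IsIntegrallyClosed Γ(X, W) :=
    Groth.Agent.Helper5.NormKA.isIntegrallyClosed_of_stalks W hW hcl
  intro x hx
  exact IsIntegrallyClosed.isIntegral_iff.1 hx

set_option backward.isDefEq.respectTransparency false in
theorem s5950_mp (hφ : φ.Finite) (hbij : Function.Bijective φ)
    (hV : ∃ V : X.Opens, (V : Set X).Nonempty ∧
      ∀ x ∈ V, IsIntegrallyClosed (X.presheaf.stalk x))
    {Y : Scheme.{u}} (e : Y ≅ (gen K φ).normalization) :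
    ∃ U : X.Opens, Dense (U : Set X) ∧
      Dense (((e.hom ≫ (gen K φ).fromNormalization) ⁻¹ᵁ U : Y.Opens) : Set Y) ∧
      IsIso ((e.hom ≫ (gen K φ).fromNormalization) ∣_ U) := by
  obtain ⟨V, ⟨x, hxV⟩, hcl⟩ := hV
  obtain ⟨_, ⟨W, hW, rfl⟩, hxW, hWV⟩ := X.isBasis_affineOpens.exists_subset_of_mem_open
    hxV V.2
  have hne : Nonempty W := ⟨⟨x, hxW⟩⟩
  haveI hirr : IrreducibleSpace Y :=
    (e.inv.homeomorph).surjective.irreducibleSpace (e.inv.homeomorph).continuous
  refine ⟨W, W.2.dense ⟨x, hxW⟩, ?_, ?_⟩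
  · refine ((e.hom ≫ (gen K φ).fromNormalization) ⁻¹ᵁ W).2.dense ?_
    obtain ⟨x', hx'⟩ := Groth.Agent.Helper5.NormInt.fromNormalization_surjective K φ x
    refine ⟨e.inv x', ?_⟩
    have h1 : (e.hom ≫ (gen K φ).fromNormalization) (e.inv x') =
        (e.inv ≫ e.hom ≫ (gen K φ).fromNormalization) x' := rfl
    show (e.hom ≫ (gen K φ).fromNormalization) (e.inv x') ∈ W
    rw [h1, e.inv_hom_id_assoc, hx']
    exact hxW
  · rw [morphismRestrict_comp]
    have h1 := isIso_morphismRestrict_of_closed K φ hφ hbij W hW hne (fun x hx => hcl x (hWV hx))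
    exact IsIso.comp_isIso' inferInstance h1

theorem s5950_mpr (hφ : φ.Finite) (hbij : Function.Bijective φ) {Y : Scheme.{u}}
    (f : Y ⟶ X) (hY : Pi1.IsNormalScheme Y) [IsIntegralHom f] (U : X.Opens)
    (hU : Dense (U : Set X)) (hfU : Dense ((f ⁻¹ᵁ U : Y.Opens) : Set Y))
    (hiso : IsIso (f ∣_ U)) :
    ∃ e : Y ≅ (gen K φ).normalization, e.hom ≫ (gen K φ).fromNormalization = f := by
  have hUne : (U : Set X).Nonempty := hU.nonempty
  haveI : Nonempty U := hUne.to_subtype
  have hξU : genericPoint X ∈ U := genericPoint_mem U inferInstance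
  haveI hirrU : IrreducibleSpace ↥((f ⁻¹ᵁ U).toScheme) :=
    ((inv (f ∣_ U)).homeomorph).surjective.irreducibleSpace
      ((inv (f ∣_ U)).homeomorph).continuous
  haveI hirrY : IrreducibleSpace Y := by
    rw [irreducibleSpace_def]
    have h1 := ((IrreducibleSpace.isIrreducible_univ ↥((f ⁻¹ᵁ U).toScheme)).image
      (f ⁻¹ᵁ U).ι (f ⁻¹ᵁ U).ι.continuous.continuousOn).closure
    rw [Set.image_univ, Scheme.Opens.range_ι, hfU.closure_eq] at h1
    exact h1
  let η : ↥((f ⁻¹ᵁ U).toScheme) := genericPoint ↥((f ⁻¹ᵁ U).toScheme)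
  have hη : η.1 = genericPoint Y := genericPoint_eq_of_isOpenImmersion (f ⁻¹ᵁ U).ι
  have hfη : (f ∣_ U) η = genericPoint ↥(U.toScheme) :=
    genericPoint_eq_of_isOpenImmersion (f ∣_ U)
  have hUξ : (genericPoint ↥(U.toScheme) : ↥(U.toScheme)).1 = genericPoint X :=
    genericPoint_eq_of_isOpenImmersion U.ι
  have hfξ : f η.1 = genericPoint X := by
    rw [← morphismRestrict_base_coe f U η, hfη, hUξ]
  have hfib : f.base ⁻¹' {genericPoint X} = {genericPoint Y} := by
    ext y
    simp only [Set.mem_preimage, Set.mem_singleton_iff]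
    constructor
    · intro hy
      have hyU : y ∈ f ⁻¹ᵁ U := by
        show f y ∈ U
        have : f y = genericPoint X := hy
        rw [this]; exact hξU
      have h1 : (f ∣_ U) ⟨y, hyU⟩ = (f ∣_ U) η := by
        apply Subtype.ext
        rw [morphismRestrict_base_coe, morphismRestrict_base_coe, hfξ]
        exact hy
      have h2 := ((f ∣_ U).homeomorph).injective h1
      rw [← hη, ← h2]
    · rintro rfl
      rw [← hη]
      exact hfξ
  have hstalk : ∀ y : Y, y = η.1 → IsIso (f.stalkMap y) := by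
    rintro _ rfl
    have h1 := (MorphismProperty.isomorphisms CommRingCat).arrow_mk_iso_iff
      (morphismRestrictStalkMap f U η)
    rw [MorphismProperty.isomorphisms.iff, MorphismProperty.isomorphisms.iff] at h1
    exact h1.1 inferInstance
  exact exists_iso_of_birational K φ hφ hbij f hY hfib (hstalk _ hη.symm)

omit [QuasiCompact (gen K φ)] [QuasiSeparated (gen K φ)] in
theorem s5950_aux (g : Spec (CommRingCat.of K) ⟶ X) (hg : g = gen K φ) [QuasiCompact g]
    [QuasiSeparated g] (hφ : φ.Finite) (hbij : Function.Bijective φ)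
    (hV : ∃ V : X.Opens, (V : Set X).Nonempty ∧
      ∀ x ∈ V, IsIntegrallyClosed (X.presheaf.stalk x))
    {Y : Scheme.{u}} (f : Y ⟶ X) :
    (∃ e : Y ≅ g.normalization, e.hom ≫ g.fromNormalization = f) ↔
      Pi1.IsNormalScheme Y ∧ IsIntegralHom f ∧
        ∃ U : X.Opens, Dense (U : Set X) ∧ Dense ((f ⁻¹ᵁ U : Y.Opens) : Set Y) ∧
          IsIso (f ∣_ U) := by
  subst hg
  constructor
  · rintro ⟨e, rfl⟩
    obtain ⟨h1, h2, -⟩ := props_of_iso K φ hφ hbij e
    exact ⟨h1, h2, s5950_mp K φ hφ hbij hV e⟩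
  · rintro ⟨hY, hint, U, hU, hfU, hiso⟩
    exact s5950_mpr K φ hφ hbij f hY U hU hfU hiso

end Groth.Agent.Helper5.NormChar
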