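import Groth.Agent.Helper5.AlgSpProper
import Groth.Agent.Helper6.LocalFppf
import Groth.Agent.Helper6.LocalIso
import Groth.Agent.S10267
import Groth.Agent.S10272
import Groth.Prelude.Def_AlgSpMor5
import Mathlib

set_option autoImplicit false
set_option linter.style.haveILetI false
set_option linter.unusedSectionVars false
set_option linter.unusedVariables false
universe u
open CategoryTheory CategoryTheory.Limits AlgebraicGeometry Opposite

namespace Groth.Agent.Helper5.NormDesc

open AlgSp Groth.Agent.Helper4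

variable {S : Scheme.{u}}

/-- A morphism of algebraic spaces representable by separated morphisms is separated. -/
theorem isSeparatedMor_of_repWith_separated {X Y : Sp S} (hX : IsAlgSpace X) (hY : IsAlgSpace Y)
    (f : X ⟶ Y) (h : RepWith @IsSeparated f) : IsSeparatedMor f := by
  obtain ⟨V, p, hpe, hps⟩ := hY.atlas
  let W := h.rep.pullback p
  let w : (yon S).obj W ⟶ X := h.rep.fst p
  let q : W ⟶ V := h.rep.snd p
  have hpb : IsPullback w ((yon S).map q) f p := h.rep.isPullback p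
  have hq : IsSeparated q.left := h.property p _ _ hpb
  have hq' : IsSeparatedMor ((yon S).map q) := (isSeparatedMor_yon_map_iff q).2 hq
  exact (Groth.Agent.Helper6.LocalFppf.separated (S := S)
    (fun _ : PUnit.{u + 1} => (yon S).obj V) (fun _ => p) hY
    (fun _ => IsAlgSpace.yon_obj V) (Groth.Agent.Helper6.LocalIso.isFppfCover_of_atlas p hpe hps) f hX
    (fun _ => (yon S).obj W) (fun _ => (yon S).map q) (fun _ => w)
    (fun _ => IsAlgSpace.yon_obj W) (fun _ => hpb)).2 (fun _ => hq')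

theorem isSeparatedMor_of_isIntegralMor {X Y : AlgSp.Space S} (f : X ⟶ Y)
    (h : IsIntegralMor f.hom) : IsSeparatedMor f.hom := by
  have h1 : RepWith @IsIntegralHom f.hom := (Groth.Agent.S10267.result f).1.1 h
  refine isSeparatedMor_of_repWith_separated X.property Y.property f.hom ?_
  exact Groth.Agent.Helper4.AlgSpSrc.repWith_mono (P := @IsIntegralHom) (Q := @IsSeparated)
      (fun g hg => by
        have : IsIntegralHom g := hg
        infer_instance) h1

theorem isIntegralMor_comp {X Y Z : AlgSp.Space S} (f : X ⟶ Y) (g : Y ⟶ Z)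
    (hf : IsIntegralMor f.hom) (hg : IsIntegralMor g.hom) : IsIntegralMor (f ≫ g).hom := by
  have h1 : RepWith @IsIntegralHom f.hom := (Groth.Agent.S10267.result f).1.1 hf
  have h2 : RepWith @IsIntegralHom g.hom := (Groth.Agent.S10267.result g).1.1 hg
  exact (Groth.Agent.S10267.result (f ≫ g)).1.2 (MorphismProperty.comp_mem _ _ _ h1 h2)

theorem s10296 {Y X X' Z : AlgSp.Space S} (f : Y ⟶ X)
    (ν : X' ⟶ X) (f' : Y ⟶ X')
    (hn : AlgSp.IsRelNormalization f.hom ν.hom f'.hom) (π : Z ⟶ X)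
    (hπ : AlgSp.IsIntegralMor π.hom) (g : Y ⟶ Z)
    (hg : g ≫ π = f) (h : X' ⟶ Z) (h1 : f' ≫ h = g) (h2 : h ≫ π = ν) :
    AlgSp.IsRelNormalization g.hom h.hom f'.hom := by
  obtain ⟨hfac, hint, huniv⟩ := hn
  have hg' : g.hom ≫ π.hom = f.hom := congrArg (fun k => k.hom) hg
  have h1' : f'.hom ≫ h.hom = g.hom := congrArg (fun k => k.hom) h1
  have h2' : h.hom ≫ π.hom = ν.hom := congrArg (fun k => k.hom) h2
  have hπsep := isSeparatedMor_of_isIntegralMor π hπ
  have hhint : IsIntegralMor h.hom := by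
    refine (Groth.Agent.S10272.result h π hπsep).2 ?_
    rw [h2]; exact hint
  refine ⟨h1', hhint, ?_⟩
  intro T hT ρ g'' hρ hcomm
  let T' : AlgSp.Space S := ⟨T, hT⟩
  let ρ' : T' ⟶ Z := ObjectProperty.homMk ρ
  have hρπ : IsIntegralMor (ρ ≫ π.hom) := isIntegralMor_comp ρ' π hρ hπ
  have hc2 : g'' ≫ (ρ ≫ π.hom) = f.hom := by
    rw [← Category.assoc, hcomm, hg']
  obtain ⟨k, ⟨hk1, hk2⟩, hkuniq⟩ := huniv hT (ρ ≫ π.hom) g'' hρπ hc2
  obtain ⟨l, -, hluniq⟩ := huniv Z.property π.hom g.hom hπ hg'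
  have e1 : k ≫ ρ = l := hluniq _ ⟨by rw [← Category.assoc, hk1, hcomm], by
    rw [Category.assoc]; exact hk2⟩
  have e2 : h.hom = l := hluniq _ ⟨h1', h2'⟩
  refine ⟨k, ⟨hk1, e1.trans e2.symm⟩, ?_⟩
  intro k' ⟨hk'1, hk'2⟩
  exact hkuniq k' ⟨hk'1, by rw [← Category.assoc, hk'2, h2']⟩

end Groth.Agent.Helper5.NormDesc
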