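import Mathlib

set_option autoImplicit false
universe u
open Polynomial TensorProduct nonZeroDivisors

namespace Groth.Agent.Helper5.NormFlat

/-- Key step: if `π t = a` with `t` integral over `A` and `A/π` reduced, then `π ∣ a`. -/
theorem dvd_of_isIntegral {A T : Type*} [CommRing A] [CommRing T] [Algebra A T]
    (hinj : Function.Injective (algebraMap A T)) (π : A)
    (hrad : (Ideal.span {π}).IsRadical) (t : T) (ht : IsIntegral A t) (a : A)
    (h : algebraMap A T π * t = algebraMap A T a) : π ∣ a := by
  obtain ⟨P, hP, hP0⟩ := ht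
  have h1 : eval₂ (algebraMap A T) (algebraMap A T a) (scaleRoots P π) = 0 := by
    rw [← h]; exact scaleRoots_eval₂_eq_zero _ hP0
  rw [eval₂_at_apply, map_eq_zero_iff _ hinj] at h1
  by_cases hA : Nontrivial (A ⧸ Ideal.span {π})
  · have h2 : (scaleRoots P π).map (Ideal.Quotient.mk (Ideal.span {π})) = X ^ P.natDegree := by
      rw [map_scaleRoots _ _ _ (by rw [hP.leadingCoeff, map_one]; exact one_ne_zero)]
      have : Ideal.Quotient.mk (Ideal.span {π}) π = 0 :=
        Ideal.Quotient.eq_zero_iff_mem.2 (Ideal.mem_span_singleton_self π)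
      rw [this, scaleRoots_zero, (hP.map _).leadingCoeff, one_smul, hP.natDegree_map]
    have h3 : (Ideal.Quotient.mk (Ideal.span {π}) a) ^ P.natDegree = 0 := by
      have := congrArg (Ideal.Quotient.mk (Ideal.span {π})) h1
      rw [map_zero, ← eval₂_id, hom_eval₂, RingHom.comp_id, ← eval_map, h2] at this
      simpa using this
    rw [← map_pow, Ideal.Quotient.eq_zero_iff_mem] at h3
    exact Ideal.mem_span_singleton.1 (hrad ⟨_, h3⟩)
  · rw [not_nontrivial_iff_subsingleton, Ideal.Quotient.subsingleton_iff] at hA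
    have : a ∈ Ideal.span {π} := by rw [hA]; trivial
    exact Ideal.mem_span_singleton.1 this

theorem mem_range_of_pow_mul {A T : Type*} [CommRing A] [CommRing T] [IsDomain T] [Algebra A T]
    (hinj : Function.Injective (algebraMap A T)) (π : A) (hπ : π ≠ 0)
    (hrad : (Ideal.span {π}).IsRadical) (n : ℕ) :
    ∀ (t : T), IsIntegral A t → algebraMap A T π ^ n * t ∈ (algebraMap A T).range →
      t ∈ (algebraMap A T).range := by
  induction n with
  | zero => intro t _ h; simpa using h
  | succ n ih =>
    intro t ht h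
    apply ih t ht
    obtain ⟨a, ha⟩ := h
    have hint : IsIntegral A (algebraMap A T π ^ n * t) :=
      (isIntegral_algebraMap.pow n).mul ht
    obtain ⟨a', rfl⟩ := dvd_of_isIntegral hinj π hrad _ hint a (by rw [ha]; ring)
    refine ⟨a', ?_⟩
    have hπ0 : algebraMap A T π ≠ 0 := fun h0 => hπ (hinj (by rw [h0, map_zero]))
    apply mul_left_cancel₀ hπ0
    rw [← map_mul, ha]; ring

attribute [local instance] Algebra.TensorProduct.rightAlgebra in
theorem s11549 (R : Type u) [CommRing R]
    [IsDomain R] [IsDiscreteValuationRing R] (A : Type u) [CommRing A] [Algebra R A] [Module.Flat R A]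
    [IsDomain (FractionRing R ⊗[R] A)] [IsIntegrallyClosed (FractionRing R ⊗[R] A)]
    (hred : IsReduced (A ⧸ Ideal.map (algebraMap R A) (IsLocalRing.maximalIdeal R))) :
    IsDomain A ∧ IsIntegrallyClosed A := by
  set T := FractionRing R ⊗[R] A with hT
  set S : Submonoid A := Algebra.algebraMapSubmonoid A R⁰ with hS
  have hloc : IsLocalization S T := IsLocalization.tensorRight (M := R⁰) (S := A) (FractionRing R)
  have hSle : S ≤ A⁰ := by
    rintro _ ⟨r, hr, rfl⟩
    have := Module.Flat.isSMulRegular_of_nonZeroDivisors (M := A) hr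
    rw [mem_nonZeroDivisors_iff_right]
    intro x hx
    apply this
    show r • x = r • 0
    rw [smul_zero, Algebra.smul_def, mul_comm]; exact hx
  have hinj : Function.Injective (algebraMap A T) := IsLocalization.injective T hSle
  have hdom : IsDomain A := hinj.isDomain (algebraMap A T)
  refine ⟨hdom, ?_⟩
  obtain ⟨ϖ, hϖ⟩ := IsDiscreteValuationRing.exists_irreducible R
  set π : A := algebraMap R A ϖ with hπdef
  have hπS : π ∈ S := ⟨ϖ, mem_nonZeroDivisors_of_ne_zero hϖ.ne_zero, rfl⟩
  have hπ0 : π ≠ 0 := nonZeroDivisors.ne_zero (hSle hπS)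
  have hmap : Ideal.map (algebraMap R A) (IsLocalRing.maximalIdeal R) = Ideal.span {π} := by
    rw [hϖ.maximalIdeal_eq, Ideal.map_span, Set.image_singleton]
  have hrad : (Ideal.span {π}).IsRadical := by
    rw [← hmap, Ideal.isRadical_iff_quotient_reduced]; exact hred
  have : IsScalarTower A T (FractionRing T) := inferInstance
  have hfrac : IsFractionRing A (FractionRing T) := by
    have h := IsLocalization.localization_localization_isLocalization_of_has_all_units S T⁰
      (FractionRing T) (fun x hx => hx.mem_nonZeroDivisors)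
    have heq : T⁰.comap (algebraMap A T) = A⁰ := by
      ext a
      rw [Submonoid.mem_comap, mem_nonZeroDivisors_iff_ne_zero, mem_nonZeroDivisors_iff_ne_zero,
        Ne, map_eq_zero_iff _ hinj]
    rw [heq] at h
    exact h
  refine (isIntegrallyClosed_iff (FractionRing T)).2 ?_
  intro x hx
  have hxT : IsIntegral T x := hx.tower_top
  obtain ⟨t, rfl⟩ := IsIntegrallyClosed.isIntegral_iff.1 hxT
  have htA : IsIntegral A t :=
    (isIntegral_algebraMap_iff (IsFractionRing.injective T (FractionRing T))).1 hx
  obtain ⟨⟨a, s⟩, has⟩ := IsLocalization.surj S t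
  obtain ⟨r, hr, hrs⟩ := s.2
  obtain ⟨n, u, hu⟩ := IsDiscreteValuationRing.associated_pow_irreducible
    (nonZeroDivisors.ne_zero hr) hϖ
  -- `π ^ n * t` is in the range
  have hrange : algebraMap A T π ^ n * t ∈ (algebraMap A T).range := by
    refine ⟨algebraMap R A (u : R) * a, ?_⟩
    simp only at has
    rw [map_mul, ← has, ← hrs, hπdef, ← map_pow, ← map_pow, ← hu]
    simp only [map_mul]
    ring
  obtain ⟨y, hy⟩ := mem_range_of_pow_mul hinj π hπ0 hrad n t htA hrange
  exact ⟨y, by rw [← hy, ← IsScalarTower.algebraMap_apply]⟩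

end Groth.Agent.Helper5.NormFlat
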