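import Mathlib

/-!
# Irreducible open neighbourhoods in schemes whose local rings are domains
-/

set_option autoImplicit false
set_option linter.style.haveILetI false
universe u

namespace Groth.Agent.Helper5.NormInt

open CategoryTheory AlgebraicGeometry TopologicalSpace

section Top

variable {Y : Type*} [TopologicalSpace Y]

/-- the generic point of an irreducible component is a maximal point -/
theorem eq_of_specializes_genericPoint [T0Space Y] {Z : Set Y} (hZ : Z ∈ irreducibleComponents Y)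
    {ξ u : Y} (hξ : IsGenericPoint ξ Z) (hu : u ⤳ ξ) : u = ξ := by
  have h1 : Z ⊆ closure {u} := by
    rw [← hξ.def]
    exact closure_minimal (Set.singleton_subset_iff.2 (specializes_iff_mem_closure.1 hu))
      isClosed_closure
  have h2 : IsIrreducible (closure ({u} : Set Y)) := isIrreducible_singleton.closure
  have h3 : closure {u} = Z := le_antisymm (hZ.2 h2 h1) h1
  exact IsGenericPoint.eq h3 hξ

/-- if there are finitely many irreducible components and exactly one of them passes through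
`y₀`, then `y₀` has an irreducible open neighbourhood -/
theorem exists_isOpen_irreducible (hfin : (irreducibleComponents Y).Finite) (y₀ : Y)
    (huniq : ∀ Z₁ ∈ irreducibleComponents Y, ∀ Z₂ ∈ irreducibleComponents Y,
      y₀ ∈ Z₁ → y₀ ∈ Z₂ → Z₁ = Z₂) :
    ∃ O : Set Y, IsOpen O ∧ y₀ ∈ O ∧ IsIrreducible O := by
  let Z₀ := irreducibleComponent y₀
  have hZ₀ : Z₀ ∈ irreducibleComponents Y := irreducibleComponent_mem_irreducibleComponents y₀
  have hy₀ : y₀ ∈ Z₀ := mem_irreducibleComponent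
  let C : Set Y := ⋃ Z ∈ irreducibleComponents Y \ {Z₀}, Z
  have hC : IsClosed C :=
    Set.Finite.isClosed_biUnion (hfin.subset Set.diff_subset) fun Z hZ =>
      isClosed_of_mem_irreducibleComponents Z hZ.1
  have hy₀C : y₀ ∉ C := by
    intro h
    simp only [C, Set.mem_iUnion, exists_prop] at h
    obtain ⟨Z, hZ, hyZ⟩ := h
    exact hZ.2 (huniq Z hZ.1 Z₀ hZ₀ hyZ hy₀)
  have hsub : Cᶜ ⊆ Z₀ := by
    intro y hy
    by_contra hyZ₀
    apply hy
    simp only [C, Set.mem_iUnion, exists_prop]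
    refine ⟨irreducibleComponent y, ⟨irreducibleComponent_mem_irreducibleComponents y, ?_⟩,
      mem_irreducibleComponent⟩
    intro h
    rw [Set.mem_singleton_iff] at h
    exact hyZ₀ (h ▸ mem_irreducibleComponent)
  refine ⟨Cᶜ, hC.isOpen_compl, hy₀C, ⟨y₀, hy₀C⟩, ?_⟩
  exact IsPreirreducible.open_subset isIrreducible_irreducibleComponent.2 hC.isOpen_compl hsub

end Top

/-- if the local ring at `y` is a domain then `y` lies on a unique irreducible component -/
theorem eq_of_mem_components {Y : Scheme.{u}} (y : ↥Y) [IsDomain ↥(Y.presheaf.stalk y)]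
    {Z₁ Z₂ : Set ↥Y} (h₁ : Z₁ ∈ irreducibleComponents ↥Y) (h₂ : Z₂ ∈ irreducibleComponents ↥Y)
    (hy₁ : y ∈ Z₁) (hy₂ : y ∈ Z₂) : Z₁ = Z₂ := by
  obtain ⟨ξ₁, hξ₁⟩ := QuasiSober.sober h₁.1 (isClosed_of_mem_irreducibleComponents Z₁ h₁)
  obtain ⟨ξ₂, hξ₂⟩ := QuasiSober.sober h₂.1 (isClosed_of_mem_irreducibleComponents Z₂ h₂)
  have hs₁ : ξ₁ ⤳ y := by rw [specializes_iff_mem_closure, hξ₁.def]; exact hy₁
  have hs₂ : ξ₂ ⤳ y := by rw [specializes_iff_mem_closure, hξ₂.def]; exact hy₂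
  have hr := Scheme.range_fromSpecStalk (X := Y) (x := y)
  obtain ⟨p₁, hp₁⟩ : ξ₁ ∈ Set.range (Y.fromSpecStalk y) := by rw [hr]; exact hs₁
  obtain ⟨p₂, hp₂⟩ : ξ₂ ∈ Set.range (Y.fromSpecStalk y) := by rw [hr]; exact hs₂
  let b : PrimeSpectrum ↥(Y.presheaf.stalk y) := ⟨⊥, Ideal.isPrime_bot⟩
  have hb : ∀ p : PrimeSpectrum ↥(Y.presheaf.stalk y), b ⤳ p := fun p =>
    (PrimeSpectrum.le_iff_specializes b p).1 bot_le
  have e₁ : (Y.fromSpecStalk y) b = ξ₁ :=
    eq_of_specializes_genericPoint h₁ hξ₁ (hp₁ ▸ (hb p₁).map (Y.fromSpecStalk y).continuous)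
  have e₂ : (Y.fromSpecStalk y) b = ξ₂ :=
    eq_of_specializes_genericPoint h₂ hξ₂ (hp₂ ▸ (hb p₂).map (Y.fromSpecStalk y).continuous)
  rw [← hξ₁.def, ← hξ₂.def, ← e₁, ← e₂]

end Groth.Agent.Helper5.NormInt
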