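import Mathlib
import Groth.Agent.Helper5.NormInt1
import Groth.Agent.Helper5.DimDec2
import Groth.Agent.Helper5.NormKA
import Groth.Agent.Helper5.MonoQuot9

/-!
# S10492: affine normal integral etale charts of a normal integral space
-/

set_option autoImplicit false
set_option linter.style.haveILetI false
universe u

namespace Groth.Agent.Helper5.NormInt

open CategoryTheory CategoryTheory.Limits AlgebraicGeometry Opposite TopologicalSpace AlgSp
open Groth.Agent.Helper4.AlgSpPtsDesc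

variable {S : Scheme.{u}}

/-- an affine etale chart of a decent space with irreducible space of points has finitely many
irreducible components -/
theorem finite_irreducibleComponents_chart (X : Space S) (hdec : IsDecent X.obj)
    [IrreducibleSpace (Points X.obj)] {V : Over S} [IsAffine V.left]
    (φ : (yon S).obj V ⟶ X.obj) (hφ : RepWith @Etale φ) :
    (irreducibleComponents ↥V.left).Finite := by
  haveI := Groth.Agent.Helper5.Decent3.t0Space_of_isDecent X.property hdec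
  haveI := Groth.Agent.Helper5.DegStr.s10339 X hdec
  let η : Points X.obj := genericPoint (Points X.obj)
  have hF : (Points.ofPt φ ⁻¹' {η}).Finite :=
    Groth.Agent.Helper5.DecJac.finite_fibres_of_isDecent hdec η V φ inferInstance hφ
  have hgen : ∀ Z ∈ irreducibleComponents ↥V.left, ∃ ξ : ↥V.left, IsGenericPoint ξ Z ∧
      Points.ofPt φ ξ = η := by
    intro Z hZ
    obtain ⟨ξ, hξ⟩ := QuasiSober.sober hZ.1 (isClosed_of_mem_irreducibleComponents Z hZ)
    refine ⟨ξ, hξ, ?_⟩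
    obtain ⟨u', hu', hu'η⟩ := Groth.Agent.Helper5.DimDec.exists_generization X hdec φ hφ ξ η
      (genericPoint_specializes _)
    rw [← eq_of_specializes_genericPoint hZ hξ hu']
    exact hu'η
  choose g hg1 hg2 using hgen
  haveI : Finite ↥(Points.ofPt φ ⁻¹' {η}) := hF.to_subtype
  have hinj : Function.Injective
      (fun Z : ↥(irreducibleComponents ↥V.left) =>
        (⟨g Z.1 Z.2, hg2 Z.1 Z.2⟩ : ↥(Points.ofPt φ ⁻¹' {η}))) := by
    intro Z₁ Z₂ h
    have h' : g Z₁.1 Z₁.2 = g Z₂.1 Z₂.2 := congrArg Subtype.val h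
    apply Subtype.ext
    rw [← (hg1 Z₁.1 Z₁.2).def, ← (hg1 Z₂.1 Z₂.2).def, h']
  haveI := Finite.of_injective _ hinj
  exact Set.toFinite _

set_option backward.isDefEq.respectTransparency.types false in
/-- S10492 -/
theorem s10492 (X : AlgSp.Space S)
    (hXi : AlgSp.IsIntegralSp X.obj)
    (hXn : AlgSp.EtaleLocally (fun U => ∀ u : ↥U, IsDomain ↥(U.presheaf.stalk u) ∧
      IsIntegrallyClosed ↥(U.presheaf.stalk u)) X.obj)
    (x : AlgSp.Points X.obj) :
    ∃ (U : Over S) (a : (AlgSp.yon S).obj U ⟶ X.obj), AlgSp.RepWith @Etale a ∧ IsAffine U.left ∧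
      IsIntegral U.left ∧ IsIntegrallyClosed ↥Γ(U.left, ⊤) ∧
      x ∈ Set.range (AlgSp.Points.ofPt a) := by
  obtain ⟨-, hdec, hirr⟩ := hXi
  haveI := hirr
  obtain ⟨U₀, a₀, ha₀e, ha₀s, hnorm⟩ := hXn
  obtain ⟨u₀, hu₀⟩ := Groth.Agent.Helper5.AlgSpOpen.ofPt_surjective_of_repWith a₀ ha₀s x
  obtain ⟨_, ⟨(V₀ : U₀.left.Opens), hV₀, rfl⟩, hu₀V₀, -⟩ :=
    (U₀.left.isBasis_affineOpens).exists_subset_of_mem_open (Set.mem_univ u₀) isOpen_univ
  let V : Over S := Over.mk (V₀.ι ≫ U₀.hom)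
  let φ : (yon S).obj V ⟶ X.obj := (yon S).map (Over.homMk V₀.ι rfl : V ⟶ U₀) ≫ a₀
  have hφ : RepWith @Etale φ := Groth.Agent.Helper5.MonoQuot.repWith_etale_restrict a₀ ha₀e V₀
  haveI hVaff : IsAffine V.left := hV₀
  -- the stalks of `U₀` are reduced
  haveI : ∀ u : ↥U₀.left, _root_.IsReduced ↥(U₀.left.presheaf.stalk u) := fun u => by
    haveI := (hnorm u).1
    infer_instance
  haveI : IsReduced U₀.left := isReduced_of_isReduced_stalk U₀.left
  -- the stalks of `V₀`
  let Y : Scheme.{u} := V₀.toScheme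
  let y₀ : ↥Y := ⟨u₀, hu₀V₀⟩
  have hstalk : ∀ y : ↥Y, IsDomain ↥(Y.presheaf.stalk y) := by
    intro y
    haveI := (hnorm (V₀.ι y)).1
    exact MulEquiv.isDomain (↥(U₀.left.presheaf.stalk (V₀.ι y)))
      (asIso (V₀.ι.stalkMap y)).commRingCatIsoToRingEquiv.symm.toMulEquiv
  have hfin : (irreducibleComponents ↥Y).Finite := finite_irreducibleComponents_chart X hdec φ hφ
  haveI := hstalk y₀
  obtain ⟨O, hOo, hy₀O, hOirr⟩ := exists_isOpen_irreducible hfin y₀
    (fun Z₁ h₁ Z₂ h₂ hy₁ hy₂ => eq_of_mem_components y₀ h₁ h₂ hy₁ hy₂)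
  obtain ⟨_, ⟨(W : Y.Opens), hW, rfl⟩, hy₀W, hWO⟩ :=
    (Y.isBasis_affineOpens).exists_subset_of_mem_open hy₀O hOo
  have hWirr : IsIrreducible (W : Set ↥Y) :=
    ⟨⟨y₀, hy₀W⟩, IsPreirreducible.open_subset hOirr.2 W.isOpen hWO⟩
  haveI : IrreducibleSpace ↥W.toScheme := Subtype.irreducibleSpace hWirr
  haveI : IsReduced Y := inferInstance
  haveI : IsReduced W.toScheme := inferInstance
  haveI hWint : IsIntegral W.toScheme := isIntegral_of_irreducibleSpace_of_isReduced _
  haveI hWaff : IsAffine W.toScheme := hW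
  -- the chart
  let j : W.toScheme ⟶ U₀.left := W.ι ≫ V₀.ι
  let U : Over S := Over.mk (j ≫ U₀.hom)
  let jU : U ⟶ U₀ := Over.homMk j rfl
  let a : (yon S).obj U ⟶ X.obj := (yon S).map jU ≫ a₀
  have hje : Etale jU.left := by
    show Etale (W.ι ≫ V₀.ι)
    infer_instance
  have ha : RepWith @Etale a :=
    Groth.Agent.Helper4.AlgSpSrc.repWith_comp @Etale ((repWith_yon_map_iff _ _).2 hje) ha₀e
  refine ⟨U, a, ha, hWaff, hWint, ?_, ?_⟩
  · haveI : Nonempty ↥W.toScheme := ⟨⟨y₀, hy₀W⟩⟩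
    haveI : IsDomain ↥Γ(W.toScheme, ⊤) := inferInstance
    refine Groth.Agent.Helper5.NormKA.isIntegrallyClosed_of_stalks (X := W.toScheme) ⊤
      (isAffineOpen_top _) (fun w _ => ?_)
    haveI := (hnorm (j w)).2
    exact IsIntegrallyClosed.of_equiv (asIso (j.stalkMap w)).commRingCatIsoToRingEquiv
  · refine ⟨(⟨y₀, hy₀W⟩ : ↥W.toScheme), ?_⟩
    show Points.ofPt ((yon S).map jU ≫ a₀) _ = x
    rw [ofPt_yon_map_comp, ← hu₀]
    rfl

end Groth.Agent.Helper5.NormInt
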