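import Mathlib

set_option autoImplicit false
universe u

open CategoryTheory CategoryTheory.Limits AlgebraicGeometry

namespace Groth.Agent.Helper5.NormIso

variable {X Y : Scheme.{u}}

theorem isIso_fromNormalization (f : X ⟶ Y) [QuasiCompact f] [QuasiSeparated f]
    (hO : ∀ U : Y.Opens, Function.Bijective (f.app U)) : IsIso f.fromNormalization := by
  rw [← MorphismProperty.isomorphisms.iff,
    IsZariskiLocalAtTarget.iff_of_iSup_eq_top (P := .isomorphisms _) _ (iSup_affineOpens_eq_top Y)]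
  intro U
  rw [MorphismProperty.isomorphisms.iff, isIso_morphismRestrict_iff_isIso_app _ U.2,
    f.fromNormalization_app U.2]
  letI := (f.app U.1).hom.toAlgebra
  have : IsIso (CommRingCat.ofHom (algebraMap Γ(Y, U.1)
      (integralClosure Γ(Y, U.1) Γ(X, f ⁻¹ᵁ U.1)))) := by
    rw [ConcreteCategory.isIso_iff_bijective]
    constructor
    · intro a b hab
      apply (hO U.1).1
      exact congrArg Subtype.val hab
    · rintro ⟨x, hx⟩
      obtain ⟨y, rfl⟩ := (hO U.1).2 x
      exact ⟨y, Subtype.ext rfl⟩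
  infer_instance

end Groth.Agent.Helper5.NormIso

namespace Groth.Agent.Helper5.NormIso

variable {X Y : Scheme.{u}}

theorem quasiFiniteAt_of_isOpen_singleton (f : X ⟶ Y) [LocallyOfFiniteType f] (y : Y)
    (x : f.fiber y) (hx : IsOpen ({x} : Set (f.fiber y))) : f.QuasiFiniteAt (f.fiberι y x) := by
  obtain ⟨x₀, hx₀⟩ : ∃ x₀, x₀ = f.fiberι y x := ⟨_, rfl⟩
  have h0 : f x₀ = y := by
    have : x₀ ∈ Set.range (f.fiberι y) := ⟨x, hx₀.symm⟩
    rw [f.range_fiberι] at this
    exact this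
  subst h0
  have e : f.fiberι (f x₀) x = x₀ := hx₀.symm
  rw [e, Scheme.Hom.quasiFiniteAt_iff_isOpen_singleton_asFiber]
  have : f.asFiber x₀ = x := by
    apply (f.fiberι (f x₀)).isEmbedding.injective
    rw [f.fiberι_asFiber]
    exact hx₀
  rw [this]
  exact hx

theorem s11565 (f : X ⟶ Y) [IsLocallyNoetherian Y] [IsSeparated f] [LocallyOfFiniteType f]
    [QuasiCompact f] (hO : ∀ U : Y.Opens, Function.Bijective (f.app U)) :
    ∃ V : Y.Opens, IsIso (f ∣_ V) ∧
      ∀ y : Y, y ∉ (V : Set Y) → ∀ x : ↥(f.fiber y), ¬ IsOpen ({x} : Set ↥(f.fiber y)) := by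
  have hiso : IsIso f.fromNormalization := isIso_fromNormalization f hO
  obtain ⟨U', hU', hqf⟩ := Scheme.Hom.exists_isIso_morphismRestrict_toNormalization f
  obtain ⟨V, hV⟩ : ∃ V : Y.Opens, f.fromNormalization ⁻¹ᵁ V = U' := by
    refine ⟨(inv f.fromNormalization) ⁻¹ᵁ U', ?_⟩
    ext z
    simp [← Scheme.Hom.comp_apply]
  have hfV : f ⁻¹ᵁ V = f.toNormalization ⁻¹ᵁ U' := by
    calc f ⁻¹ᵁ V = (f.toNormalization ≫ f.fromNormalization) ⁻¹ᵁ V := by
          rw [f.toNormalization_fromNormalization]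
      _ = f.toNormalization ⁻¹ᵁ (f.fromNormalization ⁻¹ᵁ V) := rfl
      _ = _ := by rw [hV]
  refine ⟨V, ?_, ?_⟩
  · have h1 : IsIso (f.toNormalization ∣_ (f.fromNormalization ⁻¹ᵁ V)) := by
      rw [hV]; exact hU'
    have h2 : IsIso (f.fromNormalization ∣_ V) := inferInstance
    have h3 : IsIso ((f.toNormalization ≫ f.fromNormalization) ∣_ V) := by
      rw [morphismRestrict_comp]
      exact @IsIso.comp_isIso _ _ _ _ _ _ _ h1 h2
    have h4 : ∀ g : X ⟶ Y, g = f → IsIso (g ∣_ V) → IsIso (f ∣_ V) := by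
      rintro g rfl h
      exact h
    exact h4 _ f.toNormalization_fromNormalization h3
  · intro y hy x hx
    apply hy
    have h1 := quasiFiniteAt_of_isOpen_singleton f y x hx
    have h2 : f.fiberι y x ∈ (f.toNormalization ⁻¹ᵁ U').1 := by rw [hqf]; exact h1
    have h3 : f.fiberι y x ∈ f ⁻¹ᵁ V := by rw [hfV]; exact h2
    have h4 : f (f.fiberι y x) = y := by
      have : f.fiberι y x ∈ Set.range (f.fiberι y) := ⟨x, rfl⟩
      rw [f.range_fiberι] at this
      exact this
    rw [← h4]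
    exact h3

end Groth.Agent.Helper5.NormIso
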