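import Mathlib

set_option autoImplicit false
set_option linter.style.haveILetI false
set_option linter.unusedSectionVars false

namespace Groth.Agent.Helper5.NormLoc

universe u

section
variable {R : Type*} [CommRing R] [IsDomain R] (K : Type*) [Field K] [Algebra R K] [IsFractionRing R K]

/-- element-wise normality at a prime -/
def NormalAt (p : Ideal R) : Prop :=
  ∀ z : K, IsIntegral R z → ∃ s : R, s ∉ p ∧ ∃ r : R, algebraMap R K s * z = algebraMap R K r

omit [IsDomain R] [IsFractionRing R K] in
theorem normalAt_of_le {p q : Ideal R} (hqp : q ≤ p) (h : NormalAt K p) : NormalAt K q :=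
  fun z hz => let ⟨s, hs, r, hr⟩ := h z hz; ⟨s, fun hsq => hs (hqp hsq), r, hr⟩

theorem isIntegrallyClosed_iff_normalAt (p : Ideal R) [p.IsPrime] (Rp : Type*) [CommRing Rp]
    [Algebra R Rp] [IsLocalization.AtPrime Rp p] [Algebra Rp K] [IsScalarTower R Rp K] :
    IsIntegrallyClosed Rp ↔ NormalAt K p := by
  haveI : IsDomain Rp :=
    IsLocalization.isDomain_of_le_nonZeroDivisors Rp p.primeCompl_le_nonZeroDivisors
  haveI : IsFractionRing Rp K :=
    IsFractionRing.isFractionRing_of_isDomain_of_isLocalization p.primeCompl Rp K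
  rw [isIntegrallyClosed_iff K]
  constructor
  · intro h z hz
    obtain ⟨y, hy⟩ := h (hz.tower_top)
    obtain ⟨r, s, rfl⟩ := IsLocalization.exists_mk'_eq p.primeCompl y
    refine ⟨s, s.2, r, ?_⟩
    rw [← hy, IsScalarTower.algebraMap_apply R Rp K, IsScalarTower.algebraMap_apply R Rp K,
      ← map_mul, mul_comm, IsLocalization.mk'_spec]
  · intro h z hz
    obtain ⟨m, hm⟩ := IsIntegral.exists_multiple_integral_of_isLocalization p.primeCompl z hz
    obtain ⟨s, hs, r, hr⟩ := h _ hm
    refine ⟨IsLocalization.mk' Rp r (⟨s, hs⟩ * m), ?_⟩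
    have h1 : algebraMap Rp K (IsLocalization.mk' Rp r (⟨s, hs⟩ * m)) *
        algebraMap R K (s * m) = algebraMap R K r := by
      rw [IsScalarTower.algebraMap_apply R Rp K, IsScalarTower.algebraMap_apply R Rp K, ← map_mul]
      congr 1
      exact IsLocalization.mk'_spec Rp r (⟨s, hs⟩ * m)
    have h2 : algebraMap R K (s * m) ≠ 0 := by
      intro h0
      have : s * (m : R) = 0 := IsFractionRing.injective R K (by rw [h0, map_zero])
      rcases mul_eq_zero.1 this with h' | h'
      · exact hs (h' ▸ p.zero_mem)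
      · exact m.2 (h' ▸ p.zero_mem)
    have h3 : z * algebraMap R K (s * m) = algebraMap R K r := by
      rw [← hr, Submonoid.smul_def, Algebra.smul_def, map_mul]; ring
    exact mul_right_cancel₀ h2 (h1.trans h3.symm)

theorem exists_pow_mul_eq (f : R) (hf : f ≠ 0) (Rf : Type*) [CommRing Rf]
    [Algebra R Rf] [IsLocalization.Away f Rf] [Algebra Rf K] [IsScalarTower R Rf K]
    (hn : IsIntegrallyClosed Rf) (z : K) (hz : IsIntegral R z) :
    ∃ (n : ℕ) (a : R), algebraMap R K f ^ n * z = algebraMap R K a := by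
  have hle : Submonoid.powers f ≤ nonZeroDivisors R := powers_le_nonZeroDivisors_of_noZeroDivisors hf
  haveI : IsDomain Rf := IsLocalization.isDomain_of_le_nonZeroDivisors Rf hle
  haveI : IsFractionRing Rf K :=
    IsFractionRing.isFractionRing_of_isDomain_of_isLocalization (Submonoid.powers f) Rf K
  obtain ⟨y, hy⟩ := (isIntegrallyClosed_iff K).1 hn (hz.tower_top)
  obtain ⟨a, ⟨_, n, rfl⟩, rfl⟩ := IsLocalization.exists_mk'_eq (Submonoid.powers f) y
  refine ⟨n, a, ?_⟩
  rw [← hy, ← map_pow, IsScalarTower.algebraMap_apply R Rf K, IsScalarTower.algebraMap_apply R Rf K,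
    ← map_mul, mul_comm]
  congr 1
  exact IsLocalization.mk'_spec Rf a (⟨f ^ n, n, rfl⟩ : Submonoid.powers f)

end

section main
variable {R : Type*} [CommRing R] [IsDomain R] [IsNoetherianRing R]
  (K : Type*) [Field K] [Algebra R K] [IsFractionRing R K]

theorem step_one (f : R) (hf : f ≠ 0) (p : Ideal R) [p.IsPrime]
    (hq : ∀ q ∈ associatedPrimes R (R ⧸ Ideal.span {f}), q ≤ p → NormalAt K q)
    (z : K) (hz : IsIntegral R z) (a : R) (hza : algebraMap R K f * z = algebraMap R K a) :
    ∃ s : R, s ∉ p ∧ ∃ r : R, algebraMap R K s * z = algebraMap R K r := by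
  classical
  by_contra hcon
  push Not at hcon
  have hinj := IsFractionRing.injective R K
  have hf0 : algebraMap R K f ≠ 0 := fun h => hf (hinj (by rw [h, map_zero]))
  let N : Submodule R K := LinearMap.range (Algebra.linearMap R K)
  set I : Ideal R := N.colon {z} with hI
  have hmemI : ∀ b : R, b ∈ I ↔ ∃ r : R, algebraMap R K b * z = algebraMap R K r := by
    intro b
    rw [hI, Submodule.mem_colon_singleton]
    constructor
    · rintro ⟨r, hr⟩
      exact ⟨r, by rw [← Algebra.smul_def, ← hr]; rfl⟩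
    · rintro ⟨r, hr⟩
      exact ⟨r, by rw [Algebra.smul_def, hr]; rfl⟩
  have hIp : I ≤ p := by
    intro b hb
    by_contra hbp
    obtain ⟨r, hr⟩ := (hmemI b).1 hb
    exact hcon b hbp r hr
  obtain ⟨q, hqmin, hqp⟩ := Ideal.exists_minimalPrimes_le hIp
  have hqass : q ∈ associatedPrimes R (R ⧸ I) := by
    apply Module.associatedPrimes.minimalPrimes_annihilator_subset_associatedPrimes R (R ⧸ I)
    rwa [Ideal.annihilator_quotient]
  have hker : I ≤ LinearMap.ker (LinearMap.toSpanSingleton R (R ⧸ Ideal.span {f})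
      (Ideal.Quotient.mk _ a)) := by
    intro b hb
    obtain ⟨r, hr⟩ := (hmemI b).1 hb
    rw [LinearMap.mem_ker, LinearMap.toSpanSingleton_apply, ← Ideal.Quotient.mk_eq_mk,
      ← Submodule.Quotient.mk_smul, Ideal.Quotient.mk_eq_mk, Ideal.Quotient.eq_zero_iff_mem,
      Ideal.mem_span_singleton']
    refine ⟨r, hinj ?_⟩
    rw [smul_eq_mul, map_mul, map_mul, ← hr, ← hza]; ring
  have hker' : LinearMap.ker (LinearMap.toSpanSingleton R (R ⧸ Ideal.span {f})
      (Ideal.Quotient.mk _ a)) ≤ I := by
    intro b hb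
    rw [LinearMap.mem_ker, LinearMap.toSpanSingleton_apply, ← Ideal.Quotient.mk_eq_mk,
      ← Submodule.Quotient.mk_smul, Ideal.Quotient.mk_eq_mk, Ideal.Quotient.eq_zero_iff_mem,
      Ideal.mem_span_singleton'] at hb
    obtain ⟨c, hc⟩ := hb
    rw [hmemI]
    refine ⟨c, mul_left_cancel₀ hf0 ?_⟩
    have := congrArg (algebraMap R K) hc
    rw [smul_eq_mul, map_mul, map_mul, ← hza] at this
    rw [mul_comm _ (algebraMap R K c), this]; ring
  have hφinj : Function.Injective (Submodule.liftQ I _ hker) := by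
    rw [← LinearMap.ker_eq_bot]
    exact Submodule.ker_liftQ_eq_bot _ _ _ hker'
  have hqf : q ∈ associatedPrimes R (R ⧸ Ideal.span {f}) :=
    associatedPrimes.subset_of_injective hφinj hqass
  obtain ⟨t, htq, r, hr⟩ := hq q hqf hqp z hz
  exact htq (hqmin.1.2 ((hmemI t).2 ⟨r, hr⟩))

theorem step_pow (f : R) (hf : f ≠ 0) (p : Ideal R) [hp : p.IsPrime]
    (hq : ∀ q ∈ associatedPrimes R (R ⧸ Ideal.span {f}), q ≤ p → NormalAt K q) :
    ∀ n : ℕ, ∀ z : K, IsIntegral R z → (∃ a : R, algebraMap R K f ^ n * z = algebraMap R K a) →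
      ∃ s : R, s ∉ p ∧ ∃ r : R, algebraMap R K s * z = algebraMap R K r := by
  intro n
  induction n with
  | zero =>
    rintro z hz ⟨a, ha⟩
    exact ⟨1, fun h => hp.ne_top ((Ideal.eq_top_iff_one _).2 h), a, by simpa using ha⟩
  | succ n ih =>
    rintro z hz ⟨a, ha⟩
    have h1 : IsIntegral R (algebraMap R K f * z) := isIntegral_algebraMap.mul hz
    obtain ⟨s, hs, r, hr⟩ := ih _ h1 ⟨a, by rw [← ha, pow_succ]; ring⟩
    have h2 : IsIntegral R (algebraMap R K s * z) := isIntegral_algebraMap.mul hz
    obtain ⟨t, ht, r', hr'⟩ := step_one K f hf p hq _ h2 r (by rw [← hr]; ring)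
    exact ⟨t * s, fun h => (hp.mem_or_mem h).elim ht hs, r', by rw [map_mul, mul_assoc, hr']⟩

end main

theorem isOpen_normalLocus (R : Type u) [CommRing R] [IsDomain R] [IsNoetherianRing R] (f : R)
    (hf : f ≠ 0) (hn : IsIntegrallyClosed (Localization.Away f)) :
    IsOpen {p : PrimeSpectrum R | IsIntegrallyClosed (Localization.AtPrime p.asIdeal)} := by
  classical
  have hunitf : ∀ y : Submonoid.powers f, IsUnit (algebraMap R (FractionRing R) y) := by
    intro y
    apply IsUnit.mk0
    intro h0
    have hy : (y : R) ∈ nonZeroDivisors R := powers_le_nonZeroDivisors_of_noZeroDivisors hf y.2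
    exact nonZeroDivisors.ne_zero hy (IsFractionRing.injective R (FractionRing R) (by rw [h0, map_zero]))
  letI : Algebra (Localization.Away f) (FractionRing R) :=
    (IsLocalization.lift (M := Submonoid.powers f) (g := algebraMap R (FractionRing R)) hunitf).toAlgebra
  haveI : IsScalarTower R (Localization.Away f) (FractionRing R) :=
    IsScalarTower.of_algebraMap_eq (fun x => (IsLocalization.lift_eq hunitf x).symm)
  have key : ∀ p : PrimeSpectrum R, IsIntegrallyClosed (Localization.AtPrime p.asIdeal) ↔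
      NormalAt (FractionRing R) p.asIdeal := by
    intro p
    have hunit : ∀ y : p.asIdeal.primeCompl, IsUnit (algebraMap R (FractionRing R) y) := by
      intro y
      apply IsUnit.mk0
      intro h0
      have hy : (y : R) = 0 := IsFractionRing.injective R (FractionRing R) (by rw [h0, map_zero])
      exact y.2 (hy ▸ p.asIdeal.zero_mem)
    letI : Algebra (Localization.AtPrime p.asIdeal) (FractionRing R) :=
      (IsLocalization.lift (M := p.asIdeal.primeCompl) (g := algebraMap R (FractionRing R)) hunit).toAlgebra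
    haveI : IsScalarTower R (Localization.AtPrime p.asIdeal) (FractionRing R) :=
      IsScalarTower.of_algebraMap_eq (fun x => (IsLocalization.lift_eq hunit x).symm)
    exact isIntegrallyClosed_iff_normalAt (FractionRing R) p.asIdeal _
  set bad : Set (Ideal R) := {q ∈ associatedPrimes R (R ⧸ Ideal.span {f}) | ¬ NormalAt (FractionRing R) q}
    with hbad
  have hbadfin : bad.Finite := (associatedPrimes.finite R _).subset (Set.sep_subset _ _)
  have hcompl : {p : PrimeSpectrum R | IsIntegrallyClosed (Localization.AtPrime p.asIdeal)}ᶜ =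
      ⋃ q ∈ bad, PrimeSpectrum.zeroLocus (q : Set R) := by
    ext p
    simp only [Set.mem_compl_iff, Set.mem_ofPred_eq, Set.mem_iUnion, PrimeSpectrum.mem_zeroLocus,
      SetLike.coe_subset_coe, exists_prop, key]
    constructor
    · intro hp
      by_contra hcon
      push Not at hcon
      apply hp
      have hq : ∀ q ∈ associatedPrimes R (R ⧸ Ideal.span {f}), q ≤ p.asIdeal →
          NormalAt (FractionRing R) q := by
        intro q hqa hqp
        by_contra hqn
        exact hcon q ⟨hqa, hqn⟩ hqp
      intro z hz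
      obtain ⟨n, a, ha⟩ := exists_pow_mul_eq (FractionRing R) f hf (Localization.Away f) hn z hz
      exact step_pow (FractionRing R) f hf p.asIdeal hq n z hz ⟨a, ha⟩
    · rintro ⟨q, ⟨-, hqn⟩, hqp⟩ hp
      exact hqn (normalAt_of_le _ hqp hp)
  rw [← isClosed_compl_iff, hcompl]
  exact hbadfin.isClosed_biUnion (fun q _ => PrimeSpectrum.isClosed_zeroLocus _)

end Groth.Agent.Helper5.NormLoc
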