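import Groth.Agent.Helper5.RedImg1
import Groth.Agent.Helper5.ProperImg1
import Groth.Agent.S10192
import Groth.Agent.S10193
import Groth.Agent.S10267
import Groth.Prelude.Def_AlgSpMor5
import Mathlib

set_option autoImplicit false
set_option linter.style.haveILetI false
set_option linter.unusedSectionVars false
set_option linter.unusedVariables false
universe u
open CategoryTheory CategoryTheory.Limits AlgebraicGeometry Opposite

namespace Groth.Agent.Helper5.NormRed

open AlgSp Groth.Agent.Helper4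

variable {S : Scheme.{u}}

theorem s10333 {Y X X' : AlgSp.Space S} (f : Y ⟶ X) (ν : X' ⟶ X) (f' : Y ⟶ X')
    (hn : AlgSp.IsRelNormalization f.hom ν.hom f'.hom) (hY : AlgSp.IsReducedSp Y.obj) :
    AlgSp.IsReducedSp X'.obj := by
  obtain ⟨hfac, hint, huniv⟩ := hn
  obtain ⟨R, r, hrC, hrange, hRred⟩ := Groth.Agent.S10192.result X' Set.univ isClosed_univ
  -- f' factors through R
  obtain ⟨g, hg⟩ := (Groth.Agent.S10193.result r hrC hY f').2 (by rw [hrange]; exact Set.subset_univ _)
  -- r ≫ ν integral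
  have hνI : RepWith @IsIntegralHom ν.hom := (Groth.Agent.S10267.result ν).1.1 hint
  have hrI : RepWith @IsIntegralHom r.hom :=
    Groth.Agent.Helper4.AlgSpSrc.repWith_mono (P := @IsClosedImmersion) (Q := @IsIntegralHom)
      (fun g hg => by
        have : IsClosedImmersion g := hg
        infer_instance) hrC
  have hcompI : RepWith @IsIntegralHom (r ≫ ν).hom :=
    MorphismProperty.comp_mem _ _ _ hrI hνI
  have hint' : IsIntegralMor (r ≫ ν).hom := (Groth.Agent.S10267.result (r ≫ ν)).1.2 hcompI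
  have hg' : g.hom ≫ r.hom = f'.hom := congrArg (fun k => k.hom) hg
  have hcomm : g.hom ≫ (r ≫ ν).hom = f.hom := by
    show g.hom ≫ r.hom ≫ ν.hom = f.hom
    rw [← Category.assoc, hg', hfac]
  obtain ⟨h, ⟨hh1, hh2⟩, -⟩ := huniv R.property (r ≫ ν).hom g.hom hint' hcomm
  -- h ≫ r = 𝟙
  obtain ⟨k, -, hkuniq⟩ := huniv X'.property ν.hom f'.hom hint hfac
  have e1 : h ≫ r.hom = k := hkuniq _ ⟨by rw [← Category.assoc, hh1, hg'], by
    rw [Category.assoc]; exact hh2⟩
  have e2 : 𝟙 X'.obj = k := hkuniq _ ⟨Category.comp_id _, Category.id_comp _⟩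
  have e3 : h ≫ r.hom = 𝟙 X'.obj := e1.trans e2.symm
  haveI : Mono r.hom := Groth.Agent.Helper5.ProperImg.mono_of_closedImmersion _ hrC
  have e4 : r.hom ≫ h = 𝟙 R.obj := by
    rw [← cancel_mono r.hom, Category.assoc, e3, Category.comp_id, Category.id_comp]
  exact Groth.Agent.Helper5.RedImg.isReducedSp_of_iso ⟨r.hom, h, e4, e3⟩ hRred

end Groth.Agent.Helper5.NormRed
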