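import Groth.Agent.Helper5.AffDesc9
import Groth.Agent.S10267
import Groth.Prelude.Def_AlgSpMor5
import Mathlib

set_option autoImplicit false
set_option linter.style.haveILetI false
set_option linter.unusedSectionVars false
set_option linter.unusedVariables false
universe u
open CategoryTheory CategoryTheory.Limits AlgebraicGeometry Opposite

namespace Groth.Agent.Helper5.NormSch

open AlgSp Groth.Agent.Helper4

variable {S : Scheme.{u}}

theorem isIntegralMor_yon_map {N U : Over S} (ν : N ⟶ U) (h : IsIntegralHom ν.left) :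
    IsIntegralMor ((yon S).map ν) := by
  let N' : AlgSp.Space S := ⟨(yon S).obj N, IsAlgSpace.yon_obj N⟩
  let U' : AlgSp.Space S := ⟨(yon S).obj U, IsAlgSpace.yon_obj U⟩
  let ν' : N' ⟶ U' := ObjectProperty.homMk ((yon S).map ν)
  exact (Groth.Agent.S10267.result ν').1.2 ((repWith_yon_map_iff @IsIntegralHom ν).2 h)

/-- an algebraic space integral over a representable is representable by a scheme integral over it -/
theorem exists_rep_of_isIntegralMor {Z : Sp S} (hZ : IsAlgSpace Z) {U : Over S}
    (π : Z ⟶ (yon S).obj U) (hπ : IsIntegralMor π) :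
    ∃ (T : Over S) (t : T ⟶ U) (φ : (yon S).obj T ⟶ Z), IsIso φ ∧ φ ≫ π = (yon S).map t ∧
      IsIntegralHom t.left := by
  let Z' : AlgSp.Space S := ⟨Z, hZ⟩
  let U' : AlgSp.Space S := ⟨(yon S).obj U, IsAlgSpace.yon_obj U⟩
  let π' : Z' ⟶ U' := ObjectProperty.homMk π
  have h1 : RepWith @IsIntegralHom π := (Groth.Agent.S10267.result π').1.1 hπ
  let T := h1.rep.pullback (𝟙 ((yon S).obj U))
  let φ : (yon S).obj T ⟶ Z := h1.rep.fst (𝟙 _)
  let t : T ⟶ U := h1.rep.snd (𝟙 _)
  have hpb : IsPullback φ ((yon S).map t) π (𝟙 _) := h1.rep.isPullback (𝟙 _)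
  have ht : IsIntegralHom t.left := h1.property (𝟙 _) _ _ hpb
  have hiso : IsIso φ := hpb.isIso_fst_of_isIso
  exact ⟨T, t, φ, hiso, by rw [hpb.w, Category.comp_id], ht⟩


theorem s10298 {V U N : Over S} (g : V ⟶ U)
    [QuasiCompact g.left] [QuasiSeparated g.left] (f' : V ⟶ N) (ν : N ⟶ U)
    (e : N.left ≅ g.left.normalization) (he1 : f'.left ≫ e.hom = g.left.toNormalization)
    (he2 : e.hom ≫ g.left.fromNormalization = ν.left) :
    AlgSp.IsRelNormalization ((AlgSp.yon S).map g) ((AlgSp.yon S).map ν) ((AlgSp.yon S).map f') := by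
  have hfac : f' ≫ ν = g := by
    apply Over.OverMorphism.ext
    show f'.left ≫ ν.left = g.left
    rw [← he2, ← Category.assoc, he1, Scheme.Hom.toNormalization_fromNormalization]
  have hνint : IsIntegralHom ν.left := by
    rw [← he2]; infer_instance
  refine ⟨by rw [← Functor.map_comp, hfac], isIntegralMor_yon_map ν hνint, ?_⟩
  intro Z hZ π γ hπ hcomm
  obtain ⟨T, t, φ, hφ, hφπ, ht⟩ := exists_rep_of_isIntegralMor hZ π hπ
  haveI := hφ
  obtain ⟨c, hc⟩ := (yon S).map_surjective (γ ≫ inv φ)
  have hct : c ≫ t = g := by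
    apply (yon S).map_injective
    rw [Functor.map_comp, hc, ← hφπ, Category.assoc, IsIso.inv_hom_id_assoc, hcomm]
  have hct' : g.left = c.left ≫ t.left := by
    rw [← hct]; rfl
  let d0 : g.left.normalization ⟶ T.left := g.left.normalizationDesc c.left t.left hct'
  have hd1 : g.left.toNormalization ≫ d0 = c.left :=
    Scheme.Hom.toNormalization_normalizationDesc _ _ _ hct'
  have hd2 : d0 ≫ t.left = g.left.fromNormalization :=
    Scheme.Hom.normalizationDesc_comp _ _ _ hct'
  have hdw : (e.hom ≫ d0) ≫ T.hom = N.hom := by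
    rw [← Over.w t, ← Over.w ν, Category.assoc, reassoc_of% hd2, reassoc_of% he2]
  let d : N ⟶ T := Over.homMk (e.hom ≫ d0) hdw
  have hfd : f' ≫ d = c := by
    apply Over.OverMorphism.ext
    show f'.left ≫ e.hom ≫ d0 = c.left
    rw [← Category.assoc, he1, hd1]
  have hdt : d ≫ t = ν := by
    apply Over.OverMorphism.ext
    show (e.hom ≫ d0) ≫ t.left = ν.left
    rw [Category.assoc, hd2, he2]
  refine ⟨(yon S).map d ≫ φ, ⟨?_, ?_⟩, ?_⟩
  · rw [← Category.assoc, ← Functor.map_comp, hfd, hc, Category.assoc, IsIso.inv_hom_id,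
      Category.comp_id]
  · rw [Category.assoc, hφπ, ← Functor.map_comp, hdt]
  · intro h' ⟨hh1, hh2⟩
    obtain ⟨d', hd'⟩ := (yon S).map_surjective (h' ≫ inv φ)
    have hd't : d' ≫ t = ν := by
      apply (yon S).map_injective
      rw [Functor.map_comp, hd', ← hφπ, Category.assoc, IsIso.inv_hom_id_assoc, hh2]
    have hfd' : f' ≫ d' = c := by
      apply (yon S).map_injective
      rw [Functor.map_comp, hd', hc, ← Category.assoc, hh1]
    have hfd'l : f'.left ≫ d'.left = c.left := congrArg (fun k => k.left) hfd'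
    have hd'tl : d'.left ≫ t.left = ν.left := congrArg (fun k => k.left) hd't
    have key : e.inv ≫ d'.left = d0 := by
      refine Scheme.Hom.normalization.hom_ext (f := g.left) _ _ t.left ?_ ?_ hd2
      · rw [hd1, ← he1, Category.assoc, e.hom_inv_id_assoc, hfd'l]
      · rw [Category.assoc, hd'tl, ← he2, e.inv_hom_id_assoc]
    have hdd : d' = d := by
      apply Over.OverMorphism.ext
      show d'.left = e.hom ≫ d0
      rw [← key, e.hom_inv_id_assoc]
    rw [← hdd, hd', Category.assoc, IsIso.inv_hom_id, Category.comp_id]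

end Groth.Agent.Helper5.NormSch
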