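import Mathlib
import Groth.Prelude.Def_Found
import Groth.Prelude.Def_Pi1
import Groth.Agent.Helper5.NormKA

set_option autoImplicit false
set_option linter.unusedSectionVars false
set_option linter.style.haveILetI false
universe u

open AlgebraicGeometry CategoryTheory Opposite

namespace Groth.Agent.Helper5.NormSep

open Groth.Agent.Helper5.NormGen

variable {X : Scheme.{u}} [IsIntegral X] (K : Type u) [Field K] (φ : X.functionField →+* K)

/-- finiteness of the normalization from finiteness of the integral closures in `K` -/
theorem isFinite_fromNormalization' (g : Spec (CommRingCat.of K) ⟶ X)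
    (hg : g = gen K φ) [QuasiCompact g] [QuasiSeparated g]
    (hfin : ∀ (U : X.Opens), IsAffineOpen U → ∀ (_ : Nonempty U),
      letI algK : Algebra Γ(X, U) K := (φ.comp (X.germToFunctionField U).hom).toAlgebra
      Module.Finite Γ(X, U) (integralClosure Γ(X, U) K)) :
    IsFinite g.fromNormalization := by
  subst hg
  apply Groth.Agent.Helper5.NormFin.isFinite_fromNormalization
  intro U hU
  by_cases hne : Nonempty U
  · letI := ((gen K φ).app U).hom.toAlgebra
    letI algK : Algebra Γ(X, U) K := (φ.comp (X.germToFunctionField U).hom).toAlgebra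
    have h1 := hfin U hU hne
    let e : Γ(Spec (CommRingCat.of K), (gen K φ) ⁻¹ᵁ U) ≃ₐ[Γ(X, U)] K :=
      AlgEquiv.ofRingEquiv (f := secEquiv K φ U hne) (fun a => secEquiv_app K φ U hne a)
    exact Module.Finite.equiv (e.mapIntegralClosure).symm.toLinearEquiv
  · have hU0 : U = ⊥ := by
      ext x
      simp only [SetLike.mem_coe]
      constructor
      · intro hx
        exact (hne ⟨⟨x, hx⟩⟩).elim
      · intro hx
        exact hx.elim
    subst hU0
    letI := ((gen K φ).app ⊥).hom.toAlgebra
    haveI : Subsingleton Γ(X, ⊥) := inferInstance
    haveI : Subsingleton (integralClosure Γ(X, ⊥)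
        Γ(Spec (CommRingCat.of K), (gen K φ) ⁻¹ᵁ ⊥)) := Module.subsingleton Γ(X, ⊥) _
    infer_instance

/-- normal Noetherian integral scheme, finite separable extension of the function field -/
theorem isFinite_of_normal_of_isSeparable [IsNoetherian X]
    (hX : Pi1.IsNormalScheme X) (L : Type u) [Field L] [Algebra X.functionField L]
    [FiniteDimensional X.functionField L] [Algebra.IsSeparable X.functionField L]
    (g : Spec (CommRingCat.of L) ⟶ X)
    (hg : g = gen L (algebraMap X.functionField L)) [QuasiCompact g] [QuasiSeparated g] :
    IsFinite g.fromNormalization := by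
  apply isFinite_fromNormalization' L (algebraMap X.functionField L) g hg
  intro U hU hne
  letI algK : Algebra Γ(X, U) L :=
    ((algebraMap X.functionField L).comp (X.germToFunctionField U).hom).toAlgebra
  haveI : IsDomain Γ(X, U) := @IsIntegral.component_integral X _ U hne
  haveI : IsScalarTower Γ(X, U) X.functionField L :=
    IsScalarTower.of_algebraMap_eq (fun x => rfl)
  haveI : IsFractionRing Γ(X, U) X.functionField :=
    functionField_isFractionRing_of_isAffineOpen X U hU
  haveI : IsNoetherianRing Γ(X, U) := IsLocallyNoetherian.component_noetherian ⟨U, hU⟩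
  haveI : IsIntegrallyClosed Γ(X, U) :=
    Groth.Agent.Helper5.NormKA.isIntegrallyClosed_of_stalks U hU (fun x _ => (hX x).2)
  exact IsIntegralClosure.finite Γ(X, U) X.functionField L (integralClosure Γ(X, U) L)

end Groth.Agent.Helper5.NormSep
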