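import Mathlib
import Groth.Agent.Helper5.NormQ1
import Groth.Prelude

set_option autoImplicit false
set_option linter.unusedSectionVars false
set_option linter.style.haveILetI false
universe u

namespace Groth.Agent.Helper5.NormUP

open Groth.Agent.Helper5.NormQ

section
variable {A K C : Type u} [CommRing A] [IsDomain A] [Field K] [Algebra A K] [IsFractionRing A K]
  [CommRing C] (a : A →+* C)

theorem map_mem_nonZeroDivisors
    (hinj : ∀ (P : Ideal C) [P.IsMaximal], IsDomain (Localization.AtPrime P) ∧
        Function.Injective ((algebraMap C (Localization.AtPrime P)).comp a))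
    (x : A) (hx : x ≠ 0) : a x ∈ nonZeroDivisors C := by
  rw [mem_nonZeroDivisors_iff_right]
  intro c hc
  apply eq_zero_of_localization
  intro P hP
  haveI := hP
  obtain ⟨hd, hi⟩ := hinj P
  haveI := hd
  have h1 : algebraMap C (Localization.AtPrime P) c *
      algebraMap C (Localization.AtPrime P) (a x) = 0 := by
    rw [← map_mul, hc, map_zero]
  have h2 : algebraMap C (Localization.AtPrime P) (a x) ≠ 0 := by
    intro h
    apply hx
    apply hi
    rw [map_zero]
    exact h
  rcases mul_eq_zero.1 h1 with h | h
  · exact h
  · exact absurd h h2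

/-- universal property of the integral closure in the fraction field with respect to normal
rings -/
theorem core
    (hC : ∀ (P : Ideal C) [P.IsMaximal],
      (IsDomain (Localization.AtPrime P) ∧ IsIntegrallyClosed (Localization.AtPrime P)) ∧
        Function.Injective ((algebraMap C (Localization.AtPrime P)).comp a)) :
    ∃! θ : integralClosure A K →+* C, θ.comp (algebraMap A (integralClosure A K)) = a := by
  have hnzd : ∀ x : A, x ≠ 0 → a x ∈ nonZeroDivisors C :=
    map_mem_nonZeroDivisors a (fun P _ => ⟨(hC P).1.1, (hC P).2⟩)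
  set Q := FractionRing C with hQ
  have hιinj : Function.Injective (algebraMap C Q) :=
    IsLocalization.injective Q (le_refl (nonZeroDivisors C))
  have hunits : ∀ y : nonZeroDivisors A, IsUnit (((algebraMap C Q).comp a) y) := by
    intro y
    exact IsLocalization.map_units Q ⟨a y, hnzd y (nonZeroDivisors.ne_zero y.2)⟩
  let ψ : K →+* Q := IsLocalization.lift (M := nonZeroDivisors A) (S := K) hunits
  have hψ : ∀ x : A, ψ (algebraMap A K x) = algebraMap C Q (a x) := fun x =>
    IsLocalization.lift_eq hunits x
  have hint : ∀ x : integralClosure A K, ∃ c : C, algebraMap C Q c = ψ x := by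
    intro x
    have h1 : IsIntegral C (ψ (x : K)) :=
      IsIntegral.map_of_comp_eq a ψ (RingHom.ext fun y => (hψ y).symm) x.2
    exact mem_range_of_isIntegral (R := C) (K := Q) (fun P hP => (hC P).1) _ h1
  let e : C ≃+* (algebraMap C Q).range :=
    RingEquiv.ofBijective (algebraMap C Q).rangeRestrict
      ⟨fun x y hxy => hιinj (congrArg Subtype.val hxy),
        (algebraMap C Q).rangeRestrict_surjective⟩
  let Φ : integralClosure A K →+* (algebraMap C Q).range :=
    (ψ.comp (integralClosure A K).val.toRingHom).codRestrict (algebraMap C Q).range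
      (fun x => by obtain ⟨c, hc⟩ := hint x; exact ⟨c, hc⟩)
  let θ : integralClosure A K →+* C := (e.symm : (algebraMap C Q).range →+* C).comp Φ
  have hθ : ∀ x : integralClosure A K, algebraMap C Q (θ x) = ψ x := by
    intro x
    have h1 : e (θ x) = Φ x := e.apply_symm_apply _
    have h2 := congrArg Subtype.val h1
    exact h2
  refine ⟨θ, ?_, ?_⟩
  · ext x
    apply hιinj
    rw [RingHom.comp_apply, hθ]
    exact hψ x
  · intro θ' hθ'
    ext x
    obtain ⟨a₁, a₂, ha₂, hx⟩ := IsFractionRing.div_surjective (A := A) (x : K)
    have ha₂0 : a₂ ≠ 0 := nonZeroDivisors.ne_zero ha₂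
    have hK0 : algebraMap A K a₂ ≠ 0 := by
      intro h
      exact ha₂0 ((IsFractionRing.injective A K) (by rw [h, map_zero]))
    have hx' : x * algebraMap A (integralClosure A K) a₂ = algebraMap A (integralClosure A K) a₁ := by
      apply Subtype.ext
      show (x : K) * algebraMap A K a₂ = algebraMap A K a₁
      rw [← hx, div_mul_cancel₀ _ hK0]
    have h1 : θ' x * a a₂ = a a₁ := by
      have := congrArg θ' hx'
      rw [map_mul] at this
      have e1 : ∀ y, θ' (algebraMap A (integralClosure A K) y) = a y := fun y =>
        congrArg (fun f : A →+* C => f y) hθ'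
      rw [e1, e1] at this
      exact this
    have h2 : θ x * a a₂ = a a₁ := by
      apply hιinj
      rw [map_mul, hθ, ← hψ, ← hψ, ← map_mul]
      congr 1
      rw [← hx, div_mul_cancel₀ _ hK0]
    have h3 : (θ' x - θ x) * a a₂ = 0 := by rw [sub_mul, h1, h2, sub_self]
    have h4 := (mem_nonZeroDivisors_iff_right.1 (hnzd a₂ ha₂0)) _ h3
    exact sub_eq_zero.1 h4

end

end Groth.Agent.Helper5.NormUP
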