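import Mathlib
import Groth.Agent.Helper5.NormUP1
import Groth.Agent.Helper5.NormFF
import Groth.Agent.Helper5.SmNorm6
import Groth.Agent.Helper5.ConnInt
import Groth.Prelude

set_option autoImplicit false
set_option linter.unusedSectionVars false
set_option linter.style.haveILetI false
universe u

open AlgebraicGeometry CategoryTheory Opposite Limits

namespace Groth.Agent.Helper5.NormUP

open Groth.Agent.Helper5.NormGen Groth.Agent.Helper5.SmNorm

/-- the local hypotheses: normal stalks, injective stalk maps -/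
structure LocHyp {X Z : Scheme.{u}} (g : Z ⟶ X) : Prop where
  normal : ∀ z : Z, IsDomain (Z.presheaf.stalk z) ∧ IsIntegrallyClosed (Z.presheaf.stalk z)
  inj : ∀ z : Z, Function.Injective (g.stalkMap z).hom

theorem sec_hyp {X Z : Scheme.{u}} [IsIntegral X] (g : Z ⟶ X) (hg : LocHyp g)
    (U : X.Opens) (V : Z.Opens) (hV : IsAffineOpen V) (hVU : V ≤ g ⁻¹ᵁ U)
    (P : Ideal Γ(Z, V)) [hP : P.IsMaximal] :
    (IsDomain (Localization.AtPrime P) ∧ IsIntegrallyClosed (Localization.AtPrime P)) ∧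
      Function.Injective
        ((algebraMap Γ(Z, V) (Localization.AtPrime P)).comp (g.appLE U V hVU).hom) := by
  let y : PrimeSpectrum Γ(Z, V) := ⟨P, hP.isPrime⟩
  have hz : hV.fromSpec y ∈ V := by
    have : hV.fromSpec y ∈ Set.range hV.fromSpec := Set.mem_range_self y
    rw [hV.range_fromSpec] at this
    exact this
  set z := hV.fromSpec y with hzdef
  letI := Z.presheaf.algebra_section_stalk ⟨z, hz⟩
  haveI : IsLocalization.AtPrime (Z.presheaf.stalk z) P := hV.isLocalization_stalk' y hz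
  let e := IsLocalization.algEquiv P.primeCompl (Z.presheaf.stalk z) (Localization.AtPrime P)
  refine ⟨normal_of_ringEquiv e.toRingEquiv (hg.normal z), ?_⟩
  have h1 : ((algebraMap Γ(Z, V) (Localization.AtPrime P)).comp (g.appLE U V hVU).hom) =
      (e : Z.presheaf.stalk z →+* Localization.AtPrime P).comp
        ((algebraMap Γ(Z, V) (Z.presheaf.stalk z)).comp (g.appLE U V hVU).hom) := by
    ext x
    simp only [RingHom.comp_apply]
    exact (e.commutes _).symm
  rw [h1]
  refine (e.injective).comp ?_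
  have h2 : (algebraMap Γ(Z, V) (Z.presheaf.stalk z)).comp (g.appLE U V hVU).hom =
      (g.stalkMap z).hom.comp (X.presheaf.germ U (g z) (hVU hz)).hom := by
    have halg : algebraMap Γ(Z, V) (Z.presheaf.stalk z) = (Z.presheaf.germ V z hz).hom := rfl
    rw [← CommRingCat.hom_comp, Scheme.Hom.germ_stalkMap, halg, ← CommRingCat.hom_comp]
    congr 1
    rw [Scheme.Hom.appLE, Category.assoc, Z.presheaf.germ_res]
  rw [h2]
  exact (hg.inj z).comp (germ_injective_of_isIntegral X (g z) (hVU hz))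

section
variable {X : Scheme.{u}} [IsIntegral X] (K : Type u) [Field K] (φ : X.functionField →+* K)
  [QuasiCompact (gen K φ)] [QuasiSeparated (gen K φ)]

theorem existsUnique_sec (hbij : Function.Bijective φ) {Z : Scheme.{u}} (g : Z ⟶ X)
    (hg : LocHyp g) (U : X.Opens) (hU : IsAffineOpen U) (hne : Nonempty U)
    (V : Z.Opens) (hV : IsAffineOpen V) (hVU : V ≤ g ⁻¹ᵁ U) :
    ∃! θ : Γ((gen K φ).normalization, (gen K φ).fromNormalization ⁻¹ᵁ U) ⟶ Γ(Z, V),
      (gen K φ).fromNormalization.app U ≫ θ = g.appLE U V hVU := by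
  haveI : IsDomain Γ(X, U) := @IsIntegral.component_integral X _ U hne
  letI algAK : Algebra Γ(X, U) K := (φ.comp (X.germToFunctionField U).hom).toAlgebra
  letI algFK : Algebra X.functionField K := φ.toAlgebra
  haveI : IsScalarTower Γ(X, U) X.functionField K :=
    IsScalarTower.of_algebraMap_eq (fun x => rfl)
  haveI : IsFractionRing Γ(X, U) X.functionField :=
    functionField_isFractionRing_of_isAffineOpen X U hU
  haveI : IsFractionRing Γ(X, U) K :=
    IsLocalization.isLocalization_of_algEquiv (nonZeroDivisors Γ(X, U))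
      (AlgEquiv.ofBijective (IsScalarTower.toAlgHom Γ(X, U) X.functionField K) hbij)
  obtain ⟨E, hE⟩ := Groth.Agent.Helper5.NormFF.exists_secEquiv K φ U hU hne
  obtain ⟨θ', hθ', huniq⟩ := core (A := Γ(X, U)) (K := K) (g.appLE U V hVU).hom
    (fun P _ => sec_hyp g hg U V hV hVU P)
  have hEs : ∀ a : Γ(X, U), E.symm (algebraMap Γ(X, U) (integralClosure Γ(X, U) K) a) =
      ((gen K φ).fromNormalization.app U).hom a := fun a => by
    rw [← hE a, RingEquiv.symm_apply_apply]
  refine ⟨CommRingCat.ofHom (θ'.comp (E : _ →+* integralClosure Γ(X, U) K)), ?_, ?_⟩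
  · ext a
    simp only [CommRingCat.hom_comp, CommRingCat.hom_ofHom, RingHom.comp_apply, RingHom.coe_coe]
    rw [hE a]
    exact congrArg (fun f : Γ(X, U) →+* Γ(Z, V) => f a) hθ'
  · intro θ₂ hθ₂
    have h1 : θ₂.hom.comp (E.symm : integralClosure Γ(X, U) K →+* _) = θ' := by
      apply huniq
      ext a
      simp only [RingHom.comp_apply, RingHom.coe_coe]
      rw [hEs a]
      exact congrArg (fun f : Γ(X, U) ⟶ Γ(Z, V) => f.hom a) hθ₂
    ext b
    simp only [CommRingCat.hom_ofHom, RingHom.comp_apply, RingHom.coe_coe]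
    rw [← h1]
    simp only [RingHom.comp_apply, RingHom.coe_coe, RingEquiv.symm_apply_apply]

theorem appLE_of_eq {X Y : Scheme.{u}} {f f' : X ⟶ Y} (h : f = f') (U : Y.Opens) (V : X.Opens)
    (e : V ≤ f ⁻¹ᵁ U) (e' : V ≤ f' ⁻¹ᵁ U) :
    f.appLE U V e = f'.appLE U V e' := by subst h; rfl

theorem hom_unique (hbij : Function.Bijective φ) {Z : Scheme.{u}} (g : Z ⟶ X)
    (hg : LocHyp g) (h₁ h₂ : Z ⟶ (gen K φ).normalization)
    (e₁ : h₁ ≫ (gen K φ).fromNormalization = g) (e₂ : h₂ ≫ (gen K φ).fromNormalization = g) :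
    h₁ = h₂ := by
  have key : ∀ z : Z, ∃ V : Z.Opens, z ∈ V ∧ V.ι ≫ h₁ = V.ι ≫ h₂ := by
    intro z
    obtain ⟨_, ⟨U, hU, rfl⟩, hzU, -⟩ :=
      X.isBasis_affineOpens.exists_subset_of_mem_open (Set.mem_univ (g z)) isOpen_univ
    obtain ⟨_, ⟨V, hV, rfl⟩, hzV, hVU⟩ :=
      Z.isBasis_affineOpens.exists_subset_of_mem_open hzU (U.2.preimage g.continuous)
    refine ⟨V, hzV, ?_⟩
    have hne : Nonempty U := ⟨⟨g z, hzU⟩⟩
    have hVU' : V ≤ g ⁻¹ᵁ U := hVU
    have hW : IsAffineOpen ((gen K φ).fromNormalization ⁻¹ᵁ U) := hU.preimage _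
    have hV1 : V ≤ h₁ ⁻¹ᵁ ((gen K φ).fromNormalization ⁻¹ᵁ U) := by
      rw [← Scheme.Hom.comp_preimage, e₁]; exact hVU'
    have hV2 : V ≤ h₂ ⁻¹ᵁ ((gen K φ).fromNormalization ⁻¹ᵁ U) := by
      rw [← Scheme.Hom.comp_preimage, e₂]; exact hVU'
    obtain ⟨θ, -, huniq⟩ := existsUnique_sec K φ hbij g hg U hU hne V hV hVU'
    have t1 : h₁.appLE ((gen K φ).fromNormalization ⁻¹ᵁ U) V hV1 = θ := huniq _ (by
      beta_reduce
      rw [Scheme.Hom.app_eq_appLE, Scheme.Hom.appLE_comp_appLE]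
      exact appLE_of_eq e₁ _ _ _ _)
    have t2 : h₂.appLE ((gen K φ).fromNormalization ⁻¹ᵁ U) V hV2 = θ := huniq _ (by
      beta_reduce
      rw [Scheme.Hom.app_eq_appLE, Scheme.Hom.appLE_comp_appLE]
      exact appLE_of_eq e₂ _ _ _ _)
    have s1 := IsAffineOpen.SpecMap_appLE_fromSpec h₁ hW hV hV1
    have s2 := IsAffineOpen.SpecMap_appLE_fromSpec h₂ hW hV hV2
    rw [t1] at s1
    rw [t2] at s2
    have h3 : hV.fromSpec ≫ h₁ = hV.fromSpec ≫ h₂ := s1.symm.trans s2
    rw [← hV.isoSpec_inv_ι, Category.assoc, Category.assoc] at h3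
    exact (cancel_epi _).1 h3
  choose V hzV hV using key
  have hcov : TopologicalSpace.IsOpenCover V :=
    eq_top_iff.2 fun z _ => TopologicalSpace.Opens.mem_iSup.2 ⟨z, hzV z⟩
  exact Scheme.Cover.hom_ext (Z.openCoverOfIsOpenCover V hcov) _ _ (fun z => hV z)

omit [IsIntegral X] in
theorem LocHyp.comp_openImmersion {Z Z' : Scheme.{u}} {g : Z ⟶ X} (hg : LocHyp g)
    (j : Z' ⟶ Z) [IsOpenImmersion j] : LocHyp (j ≫ g) where
  normal z' :=
    normal_of_ringEquiv (asIso (j.stalkMap z')).commRingCatIsoToRingEquiv (hg.normal (j z'))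
  inj z' := by
    have h2 : ((j ≫ g).stalkMap z').hom = (j.stalkMap z').hom.comp (g.stalkMap (j z')).hom :=
      congrArg CommRingCat.Hom.hom (Scheme.Hom.stalkMap_comp j g z')
    rw [h2]
    exact ((asIso (j.stalkMap z')).commRingCatIsoToRingEquiv.injective).comp (hg.inj (j z'))

theorem exists_local (hbij : Function.Bijective φ) {Z : Scheme.{u}} (g : Z ⟶ X)
    (hg : LocHyp g) (z : Z) :
    ∃ (V : Z.Opens) (_ : z ∈ V) (h : (V : Scheme.{u}) ⟶ (gen K φ).normalization),
      h ≫ (gen K φ).fromNormalization = V.ι ≫ g := by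
  obtain ⟨_, ⟨U, hU, rfl⟩, hzU, -⟩ :=
    X.isBasis_affineOpens.exists_subset_of_mem_open (Set.mem_univ (g z)) isOpen_univ
  obtain ⟨_, ⟨V, hV, rfl⟩, hzV, hVU⟩ :=
    Z.isBasis_affineOpens.exists_subset_of_mem_open hzU (U.2.preimage g.continuous)
  have hne : Nonempty U := ⟨⟨g z, hzU⟩⟩
  have hVU' : V ≤ g ⁻¹ᵁ U := hVU
  have hW : IsAffineOpen ((gen K φ).fromNormalization ⁻¹ᵁ U) := hU.preimage _
  obtain ⟨θ, hθ, -⟩ := existsUnique_sec K φ hbij g hg U hU hne V hV hVU'
  refine ⟨V, hzV, hV.isoSpec.hom ≫ Spec.map θ ≫ hW.fromSpec, ?_⟩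
  have h1 : hW.fromSpec ≫ (gen K φ).fromNormalization =
      Spec.map ((gen K φ).fromNormalization.app U) ≫ hU.fromSpec := by
    rw [Scheme.Hom.app_eq_appLE]
    exact (IsAffineOpen.SpecMap_appLE_fromSpec _ hU hW le_rfl).symm
  rw [Category.assoc, Category.assoc, h1, ← Spec.map_comp_assoc, hθ,
    IsAffineOpen.SpecMap_appLE_fromSpec g hU hV hVU', ← Category.assoc, hV.isoSpec_hom_fromSpec]

theorem existsUnique_hom (hbij : Function.Bijective φ) {Z : Scheme.{u}} (g : Z ⟶ X)
    (hg : LocHyp g) :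
    ∃! h : Z ⟶ (gen K φ).normalization, h ≫ (gen K φ).fromNormalization = g := by
  choose V hzV hloc₀ hhloc₀ using exists_local K φ hbij g hg
  have hcov : TopologicalSpace.IsOpenCover V :=
    eq_top_iff.2 fun z _ => TopologicalSpace.Opens.mem_iSup.2 ⟨z, hzV z⟩
  obtain ⟨𝒰, hloc, hhloc⟩ : ∃ (𝒰 : Z.OpenCover) (hloc : ∀ z : 𝒰.I₀, 𝒰.X z ⟶ (gen K φ).normalization),
      ∀ z : 𝒰.I₀, hloc z ≫ (gen K φ).fromNormalization = 𝒰.f z ≫ g :=
    ⟨Z.openCoverOfIsOpenCover V hcov, hloc₀, hhloc₀⟩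
  have hcompat : ∀ x y : 𝒰.I₀, pullback.fst (𝒰.f x) (𝒰.f y) ≫ hloc x =
      pullback.snd (𝒰.f x) (𝒰.f y) ≫ hloc y := by
    intro x y
    have hg' : LocHyp ((pullback.fst (𝒰.f x) (𝒰.f y) ≫ 𝒰.f x) ≫ g) :=
      hg.comp_openImmersion _
    refine hom_unique K φ hbij _ hg' _ _ ?_ ?_
    · rw [Category.assoc, hhloc x, Category.assoc]
    · rw [Category.assoc, hhloc y, ← pullback.condition_assoc, Category.assoc]
  refine ⟨𝒰.glueMorphisms hloc hcompat, ?_, ?_⟩
  · refine Scheme.Cover.hom_ext 𝒰 _ _ (fun z => ?_)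
    rw [Scheme.Cover.ι_glueMorphisms_assoc, hhloc z]
  · intro h' hh'
    refine hom_unique K φ hbij g hg _ _ hh' ?_
    refine Scheme.Cover.hom_ext 𝒰 _ _ (fun z => ?_)
    rw [Scheme.Cover.ι_glueMorphisms_assoc, hhloc z]

end

theorem locHyp_of_dominant {X Z : Scheme.{u}} [IsIntegral X] (g : Z ⟶ X)
    (hZ : Pi1.IsNormalScheme Z)
    (hdom : ∀ z : Z, closure {z} ∈ irreducibleComponents ↥Z → g.base z = genericPoint ↥X) :
    LocHyp g where
  normal := hZ
  inj z := by
    haveI := (hZ z).1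
    let bot : PrimeSpectrum (Z.presheaf.stalk z) := ⟨⊥, Ideal.isPrime_bot⟩
    set ζ := Z.fromSpecStalk z bot with hζ
    have hζz : ζ ⤳ z := by
      have : ζ ∈ Set.range (Z.fromSpecStalk z) := ⟨_, rfl⟩
      rw [Scheme.range_fromSpecStalk] at this
      exact this
    have hmax : ∀ s, s ⤳ ζ → s = ζ := by
      intro s hs
      have : s ∈ Set.range (Z.fromSpecStalk z) := by
        rw [Scheme.range_fromSpecStalk]; exact hs.trans hζz
      obtain ⟨P, rfl⟩ := this
      have h1 : bot ⤳ P := by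
        rw [← PrimeSpectrum.le_iff_specializes]
        exact bot_le (a := P.asIdeal)
      have h2 : ζ ⤳ Z.fromSpecStalk z P := h1.map (Z.fromSpecStalk z).continuous
      exact (h2.antisymm hs).eq.symm
    have hcomp : closure {ζ} ∈ irreducibleComponents ↥Z := by
      refine ⟨isIrreducible_singleton.closure, fun T hT hle => ?_⟩
      obtain ⟨t, ht⟩ := QuasiSober.sober hT.closure isClosed_closure
      have h1 : ζ ∈ closure {t} := by
        rw [ht.def]
        exact subset_closure (hle (subset_closure rfl))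
      have h2 : t ⤳ ζ := specializes_iff_mem_closure.2 h1
      have h4 : t = ζ := hmax t h2
      rw [← h4, ht.def]
      exact subset_closure
    have hgζ : g ζ = genericPoint X := hdom ζ hcomp
    have h1 := Scheme.SpecMap_stalkMap_fromSpecStalk (f := g) (x := z)
    have h2 : X.fromSpecStalk (g z) (Spec.map (g.stalkMap z) bot) = g ζ := by
      rw [← Scheme.Hom.comp_apply, h1, Scheme.Hom.comp_apply]
    have h3 : X.fromSpecStalk (g z) ⟨⊥, Ideal.isPrime_bot⟩ = genericPoint X :=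
      Groth.Agent.Helper5.ConnInt.fromSpecStalk_bot (g z)
    have h4 : Spec.map (g.stalkMap z) bot = ⟨⊥, Ideal.isPrime_bot⟩ :=
      (X.fromSpecStalk (g z)).isEmbedding.injective (by rw [h2, hgζ, h3])
    have h5 : Ideal.comap (g.stalkMap z).hom ⊥ = ⊥ := congrArg PrimeSpectrum.asIdeal h4
    rw [RingHom.injective_iff_ker_eq_bot, RingHom.ker_eq_comap_bot]
    exact h5

theorem s9690 (X : Scheme.{u}) [IsIntegral X]
    [QuasiCompact (X.fromSpecStalk (genericPoint ↥X))]
    [QuasiSeparated (X.fromSpecStalk (genericPoint ↥X))]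
    {Z : Scheme.{u}} (g : Z ⟶ X) (hZ : Pi1.IsNormalScheme Z)
    (hdom : ∀ z : Z, closure {z} ∈ irreducibleComponents ↥Z → g.base z = genericPoint ↥X) :
    ∃! h : Z ⟶ Curv2.normalization X, h ≫ Curv2.normalizationι X = g := by
  have hγ : X.fromSpecStalk (genericPoint X) =
      gen (X := X) X.functionField (RingHom.id _) := by
    unfold gen
    have : CommRingCat.ofHom (RingHom.id X.functionField) = 𝟙 _ := rfl
    rw [this, Spec.map_id]
    exact (Category.id_comp _).symm
  have key : ∀ (γ : Spec (CommRingCat.of X.functionField) ⟶ X)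
      (hγ : γ = gen (X := X) X.functionField (RingHom.id _)) [QuasiCompact γ] [QuasiSeparated γ],
      ∃! h : Z ⟶ γ.normalization, h ≫ γ.fromNormalization = g := by
    intro γ hγ _ _
    subst hγ
    exact existsUnique_hom X.functionField (RingHom.id _) Function.bijective_id g
      (locHyp_of_dominant g hZ hdom)
  exact key _ hγ

end Groth.Agent.Helper5.NormUP
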