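import Mathlib
import Groth.Agent.Helper5.NormUP2
import Groth.Agent.Helper5.StalkRed
import Groth.Agent.Helper5.NormInt
import Groth.Prelude

set_option autoImplicit false
set_option linter.unusedSectionVars false
set_option linter.style.haveILetI false
universe u

open AlgebraicGeometry CategoryTheory Opposite Limits

namespace Groth.Agent.Helper5.NormUP

open Groth.Agent.Helper5.NormGen Groth.Agent.Helper5.SmNorm

theorem gen_id_eq (X : Scheme.{u}) [IsIntegral X] :
    X.fromSpecStalk (genericPoint X) = gen (X := X) X.functionField (RingHom.id _) := by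
  unfold gen
  have : CommRingCat.ofHom (RingHom.id X.functionField) = 𝟙 _ := rfl
  rw [this, Spec.map_id]
  exact (Category.id_comp _).symm

section
variable {X : Scheme.{u}} [IsIntegral X]
  [QuasiCompact (X.fromSpecStalk (genericPoint X))]
  [QuasiSeparated (X.fromSpecStalk (genericPoint X))]

theorem hom_unique' {Z : Scheme.{u}} (g : Z ⟶ X) (hg : LocHyp g)
    (h₁ h₂ : Z ⟶ (X.fromSpecStalk (genericPoint X)).normalization)
    (e₁ : h₁ ≫ (X.fromSpecStalk (genericPoint X)).fromNormalization = g)
    (e₂ : h₂ ≫ (X.fromSpecStalk (genericPoint X)).fromNormalization = g) : h₁ = h₂ := by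
  have key : ∀ (γ : Spec (CommRingCat.of X.functionField) ⟶ X)
      (hγ : γ = gen (X := X) X.functionField (RingHom.id _)) [QuasiCompact γ] [QuasiSeparated γ]
      (h₁ h₂ : Z ⟶ γ.normalization) (e₁ : h₁ ≫ γ.fromNormalization = g)
      (e₂ : h₂ ≫ γ.fromNormalization = g), h₁ = h₂ := by
    intro γ hγ _ _ h₁ h₂ e₁ e₂
    subst hγ
    exact hom_unique X.functionField (RingHom.id _) Function.bijective_id g hg h₁ h₂ e₁ e₂
  exact key _ (gen_id_eq X) h₁ h₂ e₁ e₂

theorem existsUnique_hom' {Z : Scheme.{u}} (g : Z ⟶ X) (hg : LocHyp g) :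
    ∃! h : Z ⟶ (X.fromSpecStalk (genericPoint X)).normalization,
      h ≫ (X.fromSpecStalk (genericPoint X)).fromNormalization = g := by
  have key : ∀ (γ : Spec (CommRingCat.of X.functionField) ⟶ X)
      (hγ : γ = gen (X := X) X.functionField (RingHom.id _)) [QuasiCompact γ] [QuasiSeparated γ],
      ∃! h : Z ⟶ γ.normalization, h ≫ γ.fromNormalization = g := by
    intro γ hγ _ _
    subst hγ
    exact existsUnique_hom X.functionField (RingHom.id _) Function.bijective_id g hg
  exact key _ (gen_id_eq X)

end

/-- stalks of the spectrum of a field are normal -/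
theorem spec_field_normal (F : Type u) [Field F] (p : Spec (CommRingCat.of F)) :
    IsDomain ((Spec (CommRingCat.of F)).presheaf.stalk p) ∧
      IsIntegrallyClosed ((Spec (CommRingCat.of F)).presheaf.stalk p) := by
  haveI : IsLocalization.AtPrime ((Spec.structureSheaf F).presheaf.stalk p) p.asIdeal :=
    StructureSheaf.IsLocalization.to_stalk F p
  have hle : p.asIdeal.primeCompl ≤ IsUnit.submonoid F := by
    intro x hx
    have hx0 : x ≠ 0 := by
      rintro rfl
      exact hx p.asIdeal.zero_mem
    exact (isUnit_iff_ne_zero.2 hx0)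
  let e : F ≃ₐ[F] (Spec.structureSheaf F).presheaf.stalk p :=
    IsLocalization.atUnits F p.asIdeal.primeCompl hle
  exact normal_of_ringEquiv e.toRingEquiv ⟨inferInstance, inferInstance⟩

theorem locHyp_of_flat {X Z : Scheme.{u}} (g : Z ⟶ X) [Flat g]
    (hn : ∀ z : Z, IsDomain (Z.presheaf.stalk z) ∧ IsIntegrallyClosed (Z.presheaf.stalk z)) :
    LocHyp g :=
  ⟨hn, fun z => Groth.Agent.Helper5.ConnInt.stalkMap_injective_of_flat g z⟩

theorem map_genericPoint {X Y : Scheme.{u}} (f : X ⟶ Y) [Smooth f] [IsIntegral X] [IsIntegral Y] :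
    f (genericPoint X) = genericPoint Y := by
  have hopen : IsOpen (Set.range f) := f.isOpenMap.isOpen_range
  have h1 : genericPoint Y ∈ Set.range f := by
    rw [(genericPoint_spec Y).mem_open_set_iff hopen]
    exact ⟨f (genericPoint X), trivial, _, rfl⟩
  obtain ⟨x, hx⟩ := h1
  have h2 : genericPoint X ⤳ x := (genericPoint_spec X).specializes trivial
  have h3 : f (genericPoint X) ⤳ genericPoint Y := hx ▸ h2.map f.continuous
  have h4 : genericPoint Y ⤳ f (genericPoint X) := (genericPoint_spec Y).specializes trivial
  exact (h3.antisymm h4).eq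

section Main
variable {X Y : Scheme.{u}} (f : X ⟶ Y) [Smooth f] [IsIntegral X] [IsIntegral Y]
  [QuasiCompact (X.fromSpecStalk (genericPoint X))]
  [QuasiSeparated (X.fromSpecStalk (genericPoint X))]
  [QuasiCompact (Y.fromSpecStalk (genericPoint Y))]
  [QuasiSeparated (Y.fromSpecStalk (genericPoint Y))]

theorem fromSpecStalk_generic_apply (pt : Spec X.functionField) :
    X.fromSpecStalk (genericPoint X) pt = genericPoint X := by
  have key : ∀ (γ : Spec (CommRingCat.of X.functionField) ⟶ X)
      (hγ : γ = gen (X := X) X.functionField (RingHom.id _)), γ pt = genericPoint X := by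
    intro γ hγ
    subst hγ
    exact Groth.Agent.Helper5.NormInt.gen_apply X.functionField (RingHom.id _) pt
  exact key _ (gen_id_eq X)

/-- the isomorphism between the normalization of `X` and the normalization of `X` in the
generic fibre of `f` -/
theorem exists_iso_generic_fibre :
    ∃ e : (X.fromSpecStalk (genericPoint X)).normalization ≅
        (pullback.snd (Y.fromSpecStalk (genericPoint Y)) f).normalization,
      e.hom ≫ (pullback.snd (Y.fromSpecStalk (genericPoint Y)) f).fromNormalization =
        (X.fromSpecStalk (genericPoint X)).fromNormalization := by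
  set γX := X.fromSpecStalk (genericPoint X) with hγX
  set γY := Y.fromSpecStalk (genericPoint Y) with hγY
  haveI : Flat γX := Groth.Agent.Helper5.StalkRed.flat_fromSpecStalk X _
  haveI : Flat γY := Groth.Agent.Helper5.StalkRed.flat_fromSpecStalk Y _
  set q := pullback.snd γY f with hq
  haveI : Flat q := inferInstance
  haveI : Mono q := inferInstance
  -- the generic point of the generic fibre
  have hspec : f (genericPoint X) ⤳ genericPoint Y := by rw [map_genericPoint f]
  let ι₀ : Spec X.functionField ⟶ Spec Y.functionField :=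
    Spec.map (f.stalkMap (genericPoint X)) ≫ Spec.map (Y.presheaf.stalkSpecializes hspec)
  have hι₀ : ι₀ ≫ γY = γX ≫ f := by
    simp only [ι₀, Category.assoc]
    rw [Scheme.SpecMap_stalkSpecializes_fromSpecStalk, Scheme.SpecMap_stalkMap_fromSpecStalk]
  let ι : Spec X.functionField ⟶ pullback γY f := pullback.lift ι₀ γX hι₀
  have hιq : ι ≫ q = γX := pullback.lift_snd _ _ _
  -- normality of the generic fibre
  have hGn : ∀ w : ↑(pullback γY f), IsDomain ((pullback γY f).presheaf.stalk w) ∧
      IsIntegrallyClosed ((pullback γY f).presheaf.stalk w) := fun w =>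
    stalk_normal_of_smooth (pullback.fst γY f) w (spec_field_normal _ _)
  haveI : IsReduced (pullback γY f) := by
    haveI : ∀ w : ↑(pullback γY f), _root_.IsReduced ((pullback γY f).presheaf.stalk w) :=
      fun w => by
        haveI := (hGn w).1; infer_instance
    exact isReduced_of_isReduced_stalk _
  -- dominance
  haveI : IsDominant ι := by
    obtain ⟨pt⟩ : Nonempty (Spec X.functionField) := inferInstance
    refine ⟨fun w => ?_⟩
    have h1 : genericPoint X ⤳ q w := (genericPoint_spec X).specializes trivial
    obtain ⟨w', hw', hqw'⟩ := (Flat.generalizingMap q) h1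
    have h2 : q (ι pt) = genericPoint X := by
      rw [← Scheme.Hom.comp_apply, hιq]
      exact fromSpecStalk_generic_apply pt
    have h3 : w' = ι pt := q.injective (hqw'.trans h2.symm)
    rw [h3] at hw'
    have h4 : ({ι pt} : Set ↑(pullback γY f)) ⊆ Set.range ι := by
      rintro _ rfl
      exact ⟨pt, rfl⟩
    exact closure_mono h4 (specializes_iff_mem_closure.1 hw')
  -- the lifts
  have hLq : LocHyp q := locHyp_of_flat q hGn
  have hLγ : LocHyp γX := locHyp_of_flat γX (fun z => spec_field_normal _ z)
  obtain ⟨lG, hlG, -⟩ := existsUnique_hom' q hLq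
  let β := q.normalizationDesc lG γX.fromNormalization hlG.symm
  have hH : γX = (ι ≫ q.toNormalization) ≫ q.fromNormalization := by
    rw [Category.assoc, Scheme.Hom.toNormalization_fromNormalization, hιq]
  let α := γX.normalizationDesc (ι ≫ q.toNormalization) q.fromNormalization hH
  have a1 : γX.toNormalization ≫ α = ι ≫ q.toNormalization :=
    γX.toNormalization_normalizationDesc _ _ hH
  have a2 : α ≫ q.fromNormalization = γX.fromNormalization := γX.normalizationDesc_comp _ _ hH
  have b1 : q.toNormalization ≫ β = lG := q.toNormalization_normalizationDesc _ _ hlG.symm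
  have b2 : β ≫ γX.fromNormalization = q.fromNormalization := q.normalizationDesc_comp _ _ hlG.symm
  have c : ι ≫ lG = γX.toNormalization := by
    refine hom_unique' γX hLγ _ _ ?_ ?_
    · rw [Category.assoc, hlG, hιq]
    · exact Scheme.Hom.toNormalization_fromNormalization γX
  have hαβ : α ≫ β = 𝟙 _ := by
    refine Scheme.Hom.normalization.hom_ext γX _ _ γX.fromNormalization ?_ ?_ ?_
    · rw [← Category.assoc, a1, Category.assoc, b1, c, Category.comp_id]
    · rw [Category.assoc, b2, a2]
    · rw [Category.id_comp]
  have d : lG ≫ α = q.toNormalization := by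
    refine ext_of_isDominant_of_isSeparated q.fromNormalization ?_ ι ?_
    · rw [Category.assoc, a2, hlG, Scheme.Hom.toNormalization_fromNormalization]
    · rw [← Category.assoc, c, a1]
  have hβα : β ≫ α = 𝟙 _ := by
    refine Scheme.Hom.normalization.hom_ext q _ _ q.fromNormalization ?_ ?_ ?_
    · rw [← Category.assoc, b1, d, Category.comp_id]
    · rw [Category.assoc, a2, b2]
    · rw [Category.id_comp]
  exact ⟨⟨α, β, hαβ, hβα⟩, a2⟩

theorem s9791 :
    ∃! e : Curv2.normalization X ≅ pullback f (Curv2.normalizationι Y),
      e.hom ≫ pullback.fst f (Curv2.normalizationι Y) = Curv2.normalizationι X := by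
  obtain ⟨e₁, he₁⟩ := exists_iso_generic_fibre f
  show ∃! e : (X.fromSpecStalk (genericPoint X)).normalization ≅
      pullback f (Y.fromSpecStalk (genericPoint Y)).fromNormalization,
    e.hom ≫ pullback.fst f (Y.fromSpecStalk (genericPoint Y)).fromNormalization =
      (X.fromSpecStalk (genericPoint X)).fromNormalization
  set γX := X.fromSpecStalk (genericPoint X) with hγX
  set γY := Y.fromSpecStalk (genericPoint Y) with hγY
  haveI : Flat γX := Groth.Agent.Helper5.StalkRed.flat_fromSpecStalk X _
  let e₂ := asIso (γY.normalizationPullback f)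
  let e₃ := pullbackSymmetry γY.fromNormalization f
  have hfst : (e₁ ≪≫ e₂ ≪≫ e₃).hom ≫ pullback.fst f γY.fromNormalization =
      γX.fromNormalization := by
    show (e₁.hom ≫ γY.normalizationPullback f ≫ (pullbackSymmetry γY.fromNormalization f).hom) ≫
      pullback.fst f γY.fromNormalization = γX.fromNormalization
    rw [Category.assoc, Category.assoc, pullbackSymmetry_hom_comp_fst,
      Scheme.Hom.normalizationPullback_snd, he₁]
  refine ⟨e₁ ≪≫ e₂ ≪≫ e₃, hfst, ?_⟩
  intro e' he'
  apply Iso.ext
  refine Scheme.Hom.normalization.hom_ext γX _ _ (pullback.fst f γY.fromNormalization) ?_ he' hfst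
  apply pullback.hom_ext
  · rw [Category.assoc, Category.assoc, he', hfst]
  · have hL : LocHyp (γX ≫ f) := locHyp_of_flat (γX ≫ f) (fun z => spec_field_normal _ z)
    refine hom_unique' (X := Y) (γX ≫ f) hL _ _ ?_ ?_
    · rw [Category.assoc, Category.assoc, ← pullback.condition, ← Category.assoc e'.hom, he',
        ← Category.assoc, Scheme.Hom.toNormalization_fromNormalization]
    · rw [Category.assoc, Category.assoc, ← pullback.condition,
        ← Category.assoc (e₁ ≪≫ e₂ ≪≫ e₃).hom, hfst,
        ← Category.assoc, Scheme.Hom.toNormalization_fromNormalization]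

end Main

end Groth.Agent.Helper5.NormUP
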