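import Mathlib

set_option autoImplicit false
universe u

namespace Groth.Agent.Helper5.NormalClosed
open AlgebraicGeometry CategoryTheory TopologicalSpace

/-- If `x ⤳ z` and the stalk at `z` is an integrally closed domain, so is the stalk at `x`. -/
theorem stalk_of_specializes (X : Scheme.{u}) {x z : X} (h : x ⤳ z)
    (hz : IsDomain (X.presheaf.stalk z) ∧ IsIntegrallyClosed (X.presheaf.stalk z)) :
    IsDomain (X.presheaf.stalk x) ∧ IsIntegrallyClosed (X.presheaf.stalk x) := by
  obtain ⟨hdom, hic⟩ := hz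
  obtain ⟨_, ⟨U, hU : IsAffineOpen U, rfl⟩, hzU, -⟩ :=
    X.isBasis_affineOpens.exists_subset_of_mem_open (Set.mem_univ z) isOpen_univ
  have hxU : x ∈ U := h.mem_open U.isOpen hzU
  let algx : Algebra Γ(X, U) (X.presheaf.stalk x) :=
    TopCat.Presheaf.algebra_section_stalk X.presheaf ⟨x, hxU⟩
  let algz : Algebra Γ(X, U) (X.presheaf.stalk z) :=
    TopCat.Presheaf.algebra_section_stalk X.presheaf ⟨z, hzU⟩
  have hlocx : IsLocalization.AtPrime (X.presheaf.stalk x) (hU.primeIdealOf ⟨x, hxU⟩).asIdeal :=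
    hU.isLocalization_stalk ⟨x, hxU⟩
  have hlocz : IsLocalization.AtPrime (X.presheaf.stalk z) (hU.primeIdealOf ⟨z, hzU⟩).asIdeal :=
    hU.isLocalization_stalk ⟨z, hzU⟩
  let alg : Algebra (X.presheaf.stalk z) (X.presheaf.stalk x) :=
    (X.presheaf.stalkSpecializes h).hom.toAlgebra
  have htower : IsScalarTower Γ(X, U) (X.presheaf.stalk z) (X.presheaf.stalk x) := by
    refine IsScalarTower.of_algebraMap_eq' ?_
    have := TopCat.Presheaf.germ_stalkSpecializes X.presheaf hzU h
    change (X.presheaf.germ U x hxU).hom =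
      (X.presheaf.stalkSpecializes h).hom.comp (X.presheaf.germ U z hzU).hom
    rw [← this]
    rfl
  have hle : (hU.primeIdealOf ⟨z, hzU⟩).asIdeal.primeCompl ≤
      (hU.primeIdealOf ⟨x, hxU⟩).asIdeal.primeCompl := by
    intro s hs
    have h1 : IsUnit (algebraMap Γ(X, U) (X.presheaf.stalk z) s) :=
      (IsLocalization.AtPrime.isUnit_to_map_iff (X.presheaf.stalk z)
        (hU.primeIdealOf ⟨z, hzU⟩).asIdeal s).mpr hs
    have h2 : IsUnit (algebraMap Γ(X, U) (X.presheaf.stalk x) s) := by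
      rw [IsScalarTower.algebraMap_apply Γ(X, U) (X.presheaf.stalk z) (X.presheaf.stalk x)]
      exact h1.map _
    exact (IsLocalization.AtPrime.isUnit_to_map_iff (X.presheaf.stalk x)
      (hU.primeIdealOf ⟨x, hxU⟩).asIdeal s).mp h2
  have hloc : IsLocalization ((hU.primeIdealOf ⟨x, hxU⟩).asIdeal.primeCompl.map
      (algebraMap Γ(X, U) (X.presheaf.stalk z))) (X.presheaf.stalk x) :=
    IsLocalization.isLocalization_of_submonoid_le (X.presheaf.stalk z) (X.presheaf.stalk x)
      (hU.primeIdealOf ⟨z, hzU⟩).asIdeal.primeCompl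
      (hU.primeIdealOf ⟨x, hxU⟩).asIdeal.primeCompl hle
  have hM : (hU.primeIdealOf ⟨x, hxU⟩).asIdeal.primeCompl.map
      (algebraMap Γ(X, U) (X.presheaf.stalk z)) ≤ nonZeroDivisors (X.presheaf.stalk z) := by
    rintro _ ⟨s, hs, rfl⟩
    apply mem_nonZeroDivisors_of_ne_zero
    intro h0
    have h2 : IsUnit (algebraMap Γ(X, U) (X.presheaf.stalk x) s) :=
      (IsLocalization.AtPrime.isUnit_to_map_iff (X.presheaf.stalk x)
        (hU.primeIdealOf ⟨x, hxU⟩).asIdeal s).mpr hs
    rw [IsScalarTower.algebraMap_apply Γ(X, U) (X.presheaf.stalk z) (X.presheaf.stalk x)] at h2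
    have h0' : (algebraMap Γ(X, U) (X.presheaf.stalk z)) s = 0 := h0
    rw [h0', map_zero] at h2
    exact not_isUnit_zero h2
  exact ⟨IsLocalization.isDomain_of_le_nonZeroDivisors _ hM,
    isIntegrallyClosed_of_isLocalization _ _ hM⟩

theorem main (X : Scheme.{u}) [CompactSpace ↥X]
    (h : ∀ x : X, IsClosed ({x} : Set X) →
      IsDomain (X.presheaf.stalk x) ∧ IsIntegrallyClosed (X.presheaf.stalk x)) :
    ∀ x : X, IsDomain (X.presheaf.stalk x) ∧ IsIntegrallyClosed (X.presheaf.stalk x) := by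
  intro x
  obtain ⟨z, hzmem, hzcl⟩ := (isClosed_closure (s := ({x} : Set X))).exists_closed_singleton
    ⟨x, subset_closure rfl⟩
  have hspec : x ⤳ z := specializes_iff_mem_closure.mpr hzmem
  exact stalk_of_specializes X hspec (h z hzcl)

end Groth.Agent.Helper5.NormalClosed
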