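import Groth.Agent.Helper5.IdealEtImg1
import Mathlib

/-! The comparison map `O_X ⟶ i_* O_Z` of a closed immersion is locally surjective. -/

set_option autoImplicit false
set_option linter.style.haveILetI false
universe u
open CategoryTheory CategoryTheory.Limits AlgebraicGeometry Opposite MorphismProperty

namespace Groth.Agent.Helper5.IdealEtChart

open AlgSp

variable {S : Scheme.{u}}

set_option backward.isDefEq.respectTransparency.types false in
/-- S9987 -/
theorem s9987 {Z X : Sp S} (i : Z ⟶ X) (hi : RepWith @IsClosedImmersion i) :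
    Presheaf.IsLocallySurjective (etTop X) (bcRingHom hi.1).hom := by
  constructor
  intro E s
  let Yo : E.obj.left.left.affineOpens → EtOver X := fun O => chartObj E.obj.hom E.property O.1
  let g : ∀ O, Yo O ⟶ E := fun O =>
    EtOver.homMk (Over.homMk O.1.ι rfl : Over.mk (O.1.ι ≫ E.obj.left.hom) ⟶ E.obj.left) rfl
  have hcov : Sieve.ofArrows Yo g ∈ etTop X E := by
    refine ofArrows_mem_etTop Yo g (fun x => ?_)
    obtain ⟨_, ⟨O, hO, rfl⟩, hxO, -⟩ :=
      E.obj.left.left.isBasis_affineOpens.exists_subset_of_mem_open (Set.mem_univ x) isOpen_univ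
    exact ⟨⟨O, hO⟩, ⟨⟨x, hxO⟩, rfl⟩⟩
  refine (etTop X).superset_covering ?_ hcov
  rw [Sieve.ofArrows, Sieve.generate_le_iff]
  rintro _ _ ⟨O⟩
  haveI : IsAffine (Yo O).obj.left.left := O.2
  haveI : IsClosedImmersion (EtOver.bcπ hi.1 (Yo O)).left :=
    hi.2 _ _ _ (EtOver.isPullback_bcObj hi.1 (Yo O))
  obtain ⟨-, hsurj⟩ :=
    IsClosedImmersion.isAffine_surjective_of_isAffine (EtOver.bcπ hi.1 (Yo O)).left
  obtain ⟨t₀, ht₀⟩ := hsurj ((EtOver.bcMap hi.1 (g O)).hom.left.left.appTop.hom s.down)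
  refine ⟨ULift.up t₀, ?_⟩
  apply ULift.ext
  exact ht₀

end Groth.Agent.Helper5.IdealEtChart
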