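import Mathlib

set_option autoImplicit false
set_option linter.style.haveILetI false
universe u

namespace Groth.Agent.Helper5.OmegaAlg

open CategoryTheory CategoryTheory.Limits TensorProduct

variable (R A : Type u) [CommRing R] [CommRing A] [Algebra R A]

/-- multiplication as a ring hom -/
noncomputable def mu' : A ⊗[R] A →+* A :=
  (Algebra.TensorProduct.lmul' R : A ⊗[R] A →ₐ[R] A).toRingHom

theorem mu'_tmul (a b : A) : mu' R A (a ⊗ₜ b) = a * b := by
  simp [mu']

theorem ker_mu' : RingHom.ker (mu' R A) = KaehlerDifferential.ideal R A := rfl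

/-- `A ⊗ A` acts on `Ω` through multiplication -/
theorem smul_eq_mu_smul (c : A ⊗[R] A) (ω : Ω[A⁄R]) : c • ω = (mu' R A c) • ω := by
  have h1 : c - (mu' R A c) ⊗ₜ[R] (1 : A) ∈ KaehlerDifferential.ideal R A := by
    rw [← ker_mu', RingHom.mem_ker, map_sub, mu'_tmul, mul_one, sub_self]
  have h2 : (c - (mu' R A c) ⊗ₜ[R] (1 : A)) • ω = 0 :=
    Ideal.Cotangent.smul_eq_zero_of_mem h1 ω
  rw [sub_smul, sub_eq_zero] at h2
  rw [h2]
  have h3 : (mu' R A c) ⊗ₜ[R] (1 : A) = (mu' R A c) • (1 : A ⊗[R] A) := by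
    rw [Algebra.TensorProduct.one_def, TensorProduct.smul_tmul', smul_eq_mul, mul_one]
  rw [h3, smul_assoc, one_smul]

/-- the ideal of the diagonal as a module -/
noncomputable abbrev Imod : ModuleCat.{u} (A ⊗[R] A) :=
  ModuleCat.of (A ⊗[R] A) (KaehlerDifferential.ideal R A)

/-- Kähler differentials as a module -/
noncomputable abbrev Omod : ModuleCat.{u} A := ModuleCat.of A Ω[A⁄R]

/-- the class map `I ⟶ Ω`, semilinear along multiplication -/
noncomputable def gHom : Imod R A ⟶ (ModuleCat.restrictScalars (mu' R A)).obj (Omod R A) :=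
  ModuleCat.ofHom (Y := (ModuleCat.restrictScalars (mu' R A)).obj (Omod R A))
    { toFun := fun x => (KaehlerDifferential.ideal R A).toCotangent x
      map_add' := fun x y => map_add _ x y
      map_smul' := fun c x => by
        have h1 : (KaehlerDifferential.ideal R A).toCotangent (c • x) =
            c • (KaehlerDifferential.ideal R A).toCotangent x := map_smul _ c x
        exact h1.trans (smul_eq_mu_smul R A c _) }

/-- the comparison `A ⊗_{A ⊗ A} I ⟶ Ω` -/
noncomputable def Phi : (ModuleCat.extendScalars.{u, u, u} (mu' R A)).obj (Imod R A) ⟶ Omod R A :=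
  ((ModuleCat.extendRestrictScalarsAdj.{u, u, u} (mu' R A)).homEquiv (Imod R A) (Omod R A)).symm
    (gHom R A)

open ChangeOfRings in
theorem Phi_tmul (a : A) (x : KaehlerDifferential.ideal R A) :
    (Phi R A).hom (a ⊗ₜ[A ⊗[R] A, mu' R A] (x : Imod R A)) =
      a • (KaehlerDifferential.ideal R A).toCotangent x := rfl

open ChangeOfRings in
/-- `x ↦ 1 ⊗ x` -/
noncomputable def psi0 : KaehlerDifferential.ideal R A →+
    ((ModuleCat.extendScalars.{u, u, u} (mu' R A)).obj (Imod R A)) where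
  toFun x := (1 : A) ⊗ₜ[A ⊗[R] A, mu' R A] (x : Imod R A)
  map_zero' := TensorProduct.tmul_zero _ _
  map_add' x y := TensorProduct.tmul_add _ _ _

open ChangeOfRings in
theorem psi0_smul (c : A ⊗[R] A) (x : KaehlerDifferential.ideal R A) :
    psi0 R A (c • x) = (mu' R A c) ⊗ₜ[A ⊗[R] A, mu' R A] (x : Imod R A) := by
  letI : Module (A ⊗[R] A) A := Module.compHom A (mu' R A)
  have h := TensorProduct.smul_tmul (R := A ⊗[R] A) (R' := A ⊗[R] A) (M := A)
    (N := KaehlerDifferential.ideal R A) c (1 : A) x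
  have h2 : c • (1 : A) = mu' R A c := by
    change mu' R A c * 1 = mu' R A c
    rw [mul_one]
  rw [h2] at h
  exact h.symm

theorem psi0_mul (x y : KaehlerDifferential.ideal R A) : psi0 R A (x * y) = 0 := by
  have h1 : x * y = (x : A ⊗[R] A) • y := Subtype.ext rfl
  rw [h1, psi0_smul]
  have h2 : mu' R A (x : A ⊗[R] A) = 0 := x.2
  rw [h2]
  letI : Module (A ⊗[R] A) A := Module.compHom A (mu' R A)
  exact TensorProduct.zero_tmul (R := A ⊗[R] A) A (y : KaehlerDifferential.ideal R A)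

/-- the inverse comparison `Ω ⟶ A ⊗_{A ⊗ A} I`, `[x] ↦ 1 ⊗ x` -/
noncomputable def Psi (ω : Ω[A⁄R]) :
    ((ModuleCat.extendScalars.{u, u, u} (mu' R A)).obj (Imod R A)) :=
  Ideal.Cotangent.lift (R := ℤ) (I := KaehlerDifferential.ideal R A)
    (psi0 R A).toIntLinearMap (psi0_mul R A) ω

theorem Psi_toCotangent (x : KaehlerDifferential.ideal R A) :
    Psi R A ((KaehlerDifferential.ideal R A).toCotangent x) = psi0 R A x := rfl

theorem Psi_add (ω η : Ω[A⁄R]) : Psi R A (ω + η) = Psi R A ω + Psi R A η :=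
  map_add (Ideal.Cotangent.lift (R := ℤ) (I := KaehlerDifferential.ideal R A)
    (psi0 R A).toIntLinearMap (psi0_mul R A)) ω η

theorem Psi_zero : Psi R A 0 = 0 :=
  map_zero (Ideal.Cotangent.lift (R := ℤ) (I := KaehlerDifferential.ideal R A)
    (psi0 R A).toIntLinearMap (psi0_mul R A))

open ChangeOfRings in
theorem Phi_Psi (ω : Ω[A⁄R]) : (Phi R A).hom (Psi R A ω) = ω := by
  obtain ⟨x, rfl⟩ := Ideal.toCotangent_surjective _ ω
  rw [Psi_toCotangent]
  change (Phi R A).hom ((1 : A) ⊗ₜ[A ⊗[R] A, mu' R A] (x : Imod R A)) = _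
  rw [Phi_tmul, one_smul]

open ChangeOfRings in
theorem Psi_Phi_tmul (a : A) (x : KaehlerDifferential.ideal R A) :
    Psi R A ((Phi R A).hom (a ⊗ₜ[A ⊗[R] A, mu' R A] (x : Imod R A))) =
      a ⊗ₜ[A ⊗[R] A, mu' R A] (x : Imod R A) := by
  have h1 : (Phi R A).hom (a ⊗ₜ[A ⊗[R] A, mu' R A] (x : Imod R A)) =
      (KaehlerDifferential.ideal R A).toCotangent ((a ⊗ₜ[R] (1 : A)) • x) := by
    rw [Phi_tmul]
    have h2 := smul_eq_mu_smul R A (a ⊗ₜ[R] (1 : A))
      ((KaehlerDifferential.ideal R A).toCotangent x : Ω[A⁄R])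
    rw [mu'_tmul, mul_one] at h2
    have h3 : (KaehlerDifferential.ideal R A).toCotangent ((a ⊗ₜ[R] (1 : A)) • x) =
        (a ⊗ₜ[R] (1 : A)) • (KaehlerDifferential.ideal R A).toCotangent x := map_smul _ _ _
    exact (h3.trans h2).symm
  refine (congrArg (Psi R A) h1).trans ?_
  rw [Psi_toCotangent, psi0_smul, mu'_tmul, mul_one]

theorem Psi_Phi_zero :
    Psi R A ((Phi R A).hom (0 : (ModuleCat.extendScalars.{u, u, u} (mu' R A)).obj (Imod R A))) =
      0 := by
  rw [map_zero, Psi_zero]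

theorem Psi_Phi_add (s t : (ModuleCat.extendScalars.{u, u, u} (mu' R A)).obj (Imod R A))
    (hs : Psi R A ((Phi R A).hom s) = s) (ht : Psi R A ((Phi R A).hom t) = t) :
    Psi R A ((Phi R A).hom (s + t)) = s + t := by
  rw [map_add, Psi_add, hs, ht]

theorem Psi_Phi (t : (ModuleCat.extendScalars.{u, u, u} (mu' R A)).obj (Imod R A)) :
    Psi R A ((Phi R A).hom t) = t := by
  refine TensorProduct.induction_on
    (motive := fun t => Psi R A ((Phi R A).hom t) = t) t ?_ ?_ ?_
  · exact Psi_Phi_zero R A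
  · intro a x
    exact Psi_Phi_tmul R A a x
  · intro s t hs ht
    exact Psi_Phi_add R A s t hs ht

instance : IsIso (Phi R A) := by
  rw [ConcreteCategory.isIso_iff_bijective]
  constructor
  · intro s t h
    have h1 := congrArg (Psi R A) h
    exact (Psi_Phi R A s).symm.trans (h1.trans (Psi_Phi R A t))
  · intro ω
    exact ⟨Psi R A ω, Phi_Psi R A ω⟩

/-- `A ⊗_{A ⊗ A} I ≅ Ω` -/
noncomputable def PhiIso :
    (ModuleCat.extendScalars.{u, u, u} (mu' R A)).obj (Imod R A) ≅ Omod R A :=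
  asIso (Phi R A)

end Groth.Agent.Helper5.OmegaAlg
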