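import Mathlib
import Groth.Prelude.Def_Omega4

set_option autoImplicit false
set_option linter.style.haveILetI false
universe u

namespace Groth.Agent.Helper5.OmegaSpecA

open CategoryTheory CategoryTheory.Limits AlgebraicGeometry Opposite TopologicalSpace TensorProduct

section General

variable {P : Scheme.{u}} (C : CommRingCat.{u}) (j : Spec C ⟶ P) [IsOpenImmersion j]
  (K : P.IdealSheafData)

/-- the ring map `C ⟶ Γ(P, j ''ᵁ ⊤)` -/
noncomputable def rho : C ⟶ Γ(P, j ''ᵁ ⊤) :=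
  (Scheme.ΓSpecIso C).inv ≫ (Spec C).presheaf.map (⊤ : (Spec C).Opens).leTop.op ≫
    (j.appIso ⊤).inv

instance : IsIso (rho C j) := by
  unfold rho
  have h : (⊤ : (Spec C).Opens).leTop = 𝟙 _ := Subsingleton.elim _ _
  rw [h, op_id, CategoryTheory.Functor.map_id, Category.id_comp]
  infer_instance

/-- sections of the ideal over `Spec C` -/
noncomputable def N : ModuleCat.{u} C :=
  moduleSpecΓFunctor.obj ((ClSub.idealMod K).restrict j)

/-- underlying map to functions -/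
noncomputable def psi0 (n : N C j K) : Γ(P, j ''ᵁ ⊤) :=
  (ClSub.idealModι K).app (j ''ᵁ ⊤) n

theorem psi0_add (m n : N C j K) : psi0 C j K (m + n) = psi0 C j K m + psi0 C j K n :=
  map_add _ _ _

theorem smul_eq (c : C) (n : N C j K) :
    c • n = (show Γ(ClSub.idealMod K, j ''ᵁ ⊤) from
      ((rho C j).hom c) • (show Γ(ClSub.idealMod K, j ''ᵁ ⊤) from n)) := rfl

theorem psi0_smul (c : C) (n : N C j K) :
    psi0 C j K (c • n) = (rho C j).hom c * psi0 C j K n := by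
  rw [smul_eq]
  exact Scheme.Modules.Hom.app_smul (ClSub.idealModι K) ((rho C j).hom c)
    (show Γ(ClSub.idealMod K, j ''ᵁ ⊤) from n)

theorem psi0_injective : Function.Injective (psi0 C j K) :=
  OmegaSh.idealModι_app_injective (j ''ᵁ ⊤) K

theorem subschemeι_psi0 (n : N C j K) :
    K.subschemeι.app (j ''ᵁ ⊤) (psi0 C j K n) = 0 := by
  have h := OmegaSh.kerSectIso_hom_apply (ClSub.toSubscheme K) (j ''ᵁ ⊤)
    (show Γ(kernel (ClSub.toSubscheme K), j ''ᵁ ⊤) from n)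
  have h2 := ((OmegaSh.kerSectIso (ClSub.toSubscheme K) (j ''ᵁ ⊤)).hom
    (show Γ(kernel (ClSub.toSubscheme K), j ''ᵁ ⊤) from n)).2
  rw [AddMonoidHom.mem_ker] at h2
  rw [h] at h2
  exact h2

theorem exists_psi0 (x : Γ(P, j ''ᵁ ⊤)) (hx : K.subschemeι.app (j ''ᵁ ⊤) x = 0) :
    ∃ n : N C j K, psi0 C j K n = x :=
  ⟨OmegaSh.kerLift (ClSub.toSubscheme K) (j ''ᵁ ⊤) (OmegaSh.strSect P (j ''ᵁ ⊤) x) hx,
    OmegaSh.ι_kerLift _ _ _ _⟩

/-- the ideal of `C` cut out by `K` -/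
noncomputable def I : Ideal C := RingHom.ker (rho C j ≫ K.subschemeι.app (j ''ᵁ ⊤)).hom

theorem rho_inv (x : Γ(P, j ''ᵁ ⊤)) : (rho C j).hom ((inv (rho C j)).hom x) = x := by
  rw [← RingHom.comp_apply, ← CommRingCat.hom_comp, IsIso.inv_hom_id]
  rfl

theorem inv_rho (c : C) : (inv (rho C j)).hom ((rho C j).hom c) = c := by
  rw [← RingHom.comp_apply, ← CommRingCat.hom_comp, IsIso.hom_inv_id]
  rfl

theorem mem_I (c : C) : c ∈ I C j K ↔ K.subschemeι.app (j ''ᵁ ⊤) ((rho C j).hom c) = 0 := by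
  rw [I, RingHom.mem_ker]
  rfl

/-- sections of the ideal are the ideal -/
noncomputable def psi : N C j K →ₗ[C] I C j K where
  toFun n := ⟨(inv (rho C j)).hom (psi0 C j K n), by
    rw [mem_I, rho_inv]
    exact subschemeι_psi0 C j K n⟩
  map_add' m n := by
    apply Subtype.ext
    simp only [psi0_add, map_add, Submodule.coe_add]
  map_smul' c n := by
    apply Subtype.ext
    simp only [psi0_smul, map_mul, inv_rho, RingHom.id_apply, Submodule.coe_smul, smul_eq_mul]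

theorem psi_bijective : Function.Bijective (psi C j K) := by
  constructor
  · intro m n h
    apply psi0_injective C j K
    have h1 := congrArg (fun x : I C j K => (rho C j).hom (x : C)) h
    simpa only [psi, LinearMap.coe_mk, AddHom.coe_mk, rho_inv] using h1
  · rintro ⟨c, hc⟩
    rw [mem_I] at hc
    obtain ⟨n, hn⟩ := exists_psi0 C j K _ hc
    refine ⟨n, ?_⟩
    apply Subtype.ext
    simp only [psi, LinearMap.coe_mk, AddHom.coe_mk, hn, inv_rho]

/-- sections of the ideal are the ideal -/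
noncomputable def equivN : N C j K ≃ₗ[C] I C j K :=
  LinearEquiv.ofBijective (psi C j K) (psi_bijective C j K)

variable {A' : CommRingCat.{u}} (μ : C ⟶ A')

theorem rho_comp_app :
    rho C j ≫ j.app (j ''ᵁ ⊤) ≫ (Spec.map μ).app (j ⁻¹ᵁ j ''ᵁ ⊤) =
      μ ≫ (Scheme.ΓSpecIso A').inv ≫ (Spec A').presheaf.map
        (homOfLE (le_top : Spec.map μ ⁻¹ᵁ j ⁻¹ᵁ (j ''ᵁ ⊤) ≤ ⊤)).op := by
  rw [Scheme.ΓSpecIso_inv_naturality_assoc]
  unfold rho
  simp only [Category.assoc]
  rw [Scheme.Hom.appIso_inv_app_assoc]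
  congr 1

theorem preimage_eq_top : Spec.map μ ⁻¹ᵁ j ⁻¹ᵁ (j ''ᵁ ⊤) = ⊤ := by
  rw [Scheme.Hom.preimage_image_eq]
  rfl

theorem res_injective {X : Scheme.{u}} (V : X.Opens) (hV : V = ⊤) :
    Function.Injective (X.presheaf.map (homOfLE (le_top : V ≤ ⊤)).op) := by
  subst hV
  intro a b h
  have h1 : (homOfLE (le_top : (⊤ : X.Opens) ≤ ⊤)) = 𝟙 _ := Subsingleton.elim _ _
  rw [h1, op_id, X.presheaf.map_id] at h
  exact h

theorem app_rho_eq_zero_iff (c : C) :
    (Spec.map μ ≫ j).app (j ''ᵁ ⊤) ((rho C j).hom c) = 0 ↔ μ.hom c = 0 := by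
  have h := congrArg (fun φ => φ.hom c) (rho_comp_app C j μ)
  simp only [CommRingCat.hom_comp, RingHom.comp_apply] at h
  have h2 : (Spec.map μ ≫ j).app (j ''ᵁ ⊤) ((rho C j).hom c) =
      (Spec.map μ).app (j ⁻¹ᵁ j ''ᵁ ⊤) (j.app (j ''ᵁ ⊤) ((rho C j).hom c)) := by
    rw [Scheme.Hom.comp_app]
    rfl
  rw [h2, h]
  constructor
  · intro h0
    have h3 := res_injective _ (preimage_eq_top C j μ) (h0.trans (map_zero _).symm)
    have h4 : Function.Injective (Scheme.ΓSpecIso A').inv.hom :=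
      (ConcreteCategory.bijective_of_isIso (Scheme.ΓSpecIso A').inv).1
    exact h4 (h3.trans (map_zero _).symm)
  · intro h0
    rw [h0, map_zero, map_zero]
    rfl

theorem I_ker (Δ : Spec A' ⟶ P) [QuasiCompact Δ] (hΔ : Δ = Spec.map μ ≫ j) :
    I C j Δ.ker = RingHom.ker μ.hom := by
  subst hΔ
  ext c
  rw [mem_I, RingHom.mem_ker, ← app_rho_eq_zero_iff C j μ c]
  have hW : IsAffineOpen (j ''ᵁ ⊤) := (isAffineOpen_top (Spec C)).image_of_isOpenImmersion j
  have h1 := Scheme.IdealSheafData.ker_subschemeι_app (Spec.map μ ≫ j).ker ⟨_, hW⟩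
  have h2 := Scheme.Hom.ker_apply (Spec.map μ ≫ j) ⟨_, hW⟩
  change (rho C j).hom c ∈ RingHom.ker ((Spec.map μ ≫ j).ker.subschemeι.app (j ''ᵁ ⊤)).hom ↔
    (rho C j).hom c ∈ RingHom.ker ((Spec.map μ ≫ j).app (j ''ᵁ ⊤)).hom
  rw [h1, h2]

end General

end Groth.Agent.Helper5.OmegaSpecA
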