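import Mathlib
import Groth.Prelude.Def_Omega4
import Groth.Agent.Helper8.TildeBC
import Groth.Agent.Helper1.IdealMod
import Groth.Agent.Helper5.OmegaSpecA
import Groth.Agent.Helper5.OmegaAlg

set_option autoImplicit false
set_option linter.style.haveILetI false
universe u

namespace Groth.Agent.Helper5.OmegaSpec

open CategoryTheory CategoryTheory.Limits AlgebraicGeometry Opposite TopologicalSpace TensorProduct

/-- the ideal sheaf module of a quasi-coherent ideal is quasi-coherent -/
instance isQuasicoherent_idealMod {P : Scheme.{u}} (K : P.IdealSheafData) :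
    (ClSub.idealMod K).IsQuasicoherent := by
  haveI : ((Scheme.Modules.pushforward K.subschemeι).obj
      (Coh.structureModule K.subscheme)).IsQuasicoherent :=
    Groth.Agent.Helper4.QcohGlue.isQuasicoherent_pushforward K.subschemeι _
  exact Groth.Agent.Helper4.QcohLimits.isQuasicoherent_kernel (ClSub.toSubscheme K)

section

variable (R A : Type u) [CommRing R] [CommRing A] [Algebra R A]

/-- multiplication `A ⊗[R] A ⟶ A` -/
noncomputable def mu : CommRingCat.of (A ⊗[R] A) ⟶ CommRingCat.of A :=
  CommRingCat.ofHom (Algebra.TensorProduct.lmul' R : A ⊗[R] A →ₐ[R] A).toRingHom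

/-- the diagonal of `Spec A ⟶ Spec R` -/
noncomputable abbrev diag : Spec (CommRingCat.of A) ⟶
    pullback (Spec.map (CommRingCat.ofHom (algebraMap R A)))
      (Spec.map (CommRingCat.ofHom (algebraMap R A))) :=
  pullback.diagonal (Spec.map (CommRingCat.ofHom (algebraMap R A)))

theorem diag_eq : diag R A = Spec.map (mu R A) ≫ (pullbackSpecIso R A A).inv :=
  diagonal_SpecMap R A

/-- the ideal of the diagonal, restricted to `Spec (A ⊗[R] A)` -/
noncomputable def idealRes : (Spec (CommRingCat.of (A ⊗[R] A))).Modules :=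
  (ClSub.idealMod (diag R A).ker).restrict (pullbackSpecIso R A A).inv

instance : (idealRes R A).IsQuasicoherent := by
  unfold idealRes
  exact Scheme.Modules.isQuasicoherent_restrictFunctor _ _

/-- its module of global sections -/
noncomputable def J₁ : ModuleCat.{u} (CommRingCat.of (A ⊗[R] A)) :=
  moduleSpecΓFunctor.obj (idealRes R A)

noncomputable def idealResIso : idealRes R A ≅ tilde (J₁ R A) :=
  haveI : IsIso (Scheme.Modules.fromTildeΓ (R := CommRingCat.of (A ⊗[R] A)) (idealRes R A)) :=
    Scheme.Modules.isIso_fromTildeΓ_of_isQuasicoherent (R := CommRingCat.of (A ⊗[R] A)) (idealRes R A)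
  (asIso (Scheme.Modules.fromTildeΓ (R := CommRingCat.of (A ⊗[R] A)) (idealRes R A))).symm

noncomputable def omegaIso₁ :
    Omega.sheaf (Spec.map (CommRingCat.ofHom (algebraMap R A))) ≅
      tilde ((ModuleCat.extendScalars.{u, u, u} (mu R A).hom).obj (J₁ R A)) :=
  (Scheme.Modules.pullbackCongr (diag_eq R A)).app (ClSub.idealMod (diag R A).ker) ≪≫
    ((Scheme.Modules.pullbackComp (Spec.map (mu R A)) (pullbackSpecIso R A A).inv).symm.app
      (ClSub.idealMod (diag R A).ker)) ≪≫
    (Scheme.Modules.pullback (Spec.map (mu R A))).mapIso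
      ((Scheme.Modules.restrictFunctorIsoPullback (pullbackSpecIso R A A).inv).symm.app
        (ClSub.idealMod (diag R A).ker)) ≪≫
    (Scheme.Modules.pullback (Spec.map (mu R A))).mapIso
      (idealResIso R A) ≪≫
    (Groth.Agent.Helper8.TildeBC.tildePullbackIso (mu R A)).app (J₁ R A)

open Groth.Agent.Helper5.OmegaSpecA Groth.Agent.Helper5.OmegaAlg

theorem J₁_eq : J₁ R A = N (CommRingCat.of (A ⊗[R] A)) (pullbackSpecIso R A A).inv
    (diag R A).ker := rfl

theorem I_eq : I (CommRingCat.of (A ⊗[R] A)) (pullbackSpecIso R A A).inv (diag R A).ker =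
    KaehlerDifferential.ideal R A :=
  I_ker (CommRingCat.of (A ⊗[R] A)) (pullbackSpecIso R A A).inv (mu R A) (diag R A)
    (diag_eq R A)

/-- sections of the ideal of the diagonal are the kernel of multiplication -/
noncomputable def J₁Iso : J₁ R A ≅ Imod R A :=
  (equivN (CommRingCat.of (A ⊗[R] A)) (pullbackSpecIso R A A).inv (diag R A).ker).toModuleIso ≪≫
    (LinearEquiv.ofEq _ _ (I_eq R A)).toModuleIso

/-- `Ω_{Spec A / Spec R}` is the sheaf associated to `Ω[A⁄R]` -/
noncomputable def omegaIso :
    Omega.sheaf (Spec.map (CommRingCat.ofHom (algebraMap R A))) ≅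
      tilde (R := CommRingCat.of A) (ModuleCat.of A (Ω[A⁄R])) :=
  omegaIso₁ R A ≪≫
    (tilde.functor (CommRingCat.of A)).mapIso
      ((ModuleCat.extendScalars.{u, u, u} (mu R A).hom).mapIso (J₁Iso R A) ≪≫ PhiIso R A)

end

end Groth.Agent.Helper5.OmegaSpec
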