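import Groth.Agent.Helper5.MaxPt7

set_option autoImplicit false
universe u
open AlgebraicGeometry CategoryTheory TopologicalSpace

namespace Groth.Agent.Helper5.OpenAt

open Groth.Agent.Helper5.LocDE Groth.Agent.Helper5.VarDim Groth.Agent.Helper5.MaxPt
  Groth.Agent.Helper5.SubDim

/-- At a maximal point of a fibre where `f` is open, `dim O_{X,z} = dim O_{Y,f z}`. -/
theorem stalk_dim_eq_of_isOpenAt_of_max {X Y : Scheme.{u}} [IsLocallyNoetherian X]
    [IsLocallyNoetherian Y] (f : X ⟶ Y) (z : X)
    (hmax : ∀ t : X, f t = f z → t ⤳ z → t = z) (h : EGA43.IsOpenAt f.base z) :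
    ringKrullDim (X.presheaf.stalk z) = ringKrullDim (Y.presheaf.stalk (f z)) := by
  apply le_antisymm
  · have h1 := Groth.Agent.Helper5.DimIneq.stalk_dim_le f z
    rw [ringKrullDim_stalk_eq_coheight (f.asFiber z), coheight_asFiber_eq_zero f z hmax] at h1
    simpa using h1
  · exact stalk_dim_ge_of_isOpenAt f z hmax h

/-- EGA IV 14.2.? (S4920 form). -/
theorem fibre_dims_subset_of_isOpenAt {X Y : Scheme.{u}} [IrreducibleSpace Y]
    [IsLocallyNoetherian Y] (f : X ⟶ Y) [LocallyOfFiniteType f] (y : Y)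
    (h : ∀ x : X, f.base x = y → EGA43.IsOpenAt f.base x) :
    ((fun Z : Set ↥(f.fiber y) => topologicalKrullDim ↥Z) '' irreducibleComponents ↥(f.fiber y) ⊆
      (fun Z : Set ↥(f.fiber (genericPoint Y)) => topologicalKrullDim ↥Z) ''
        irreducibleComponents ↥(f.fiber (genericPoint Y))) ∧
      topologicalKrullDim ↥(f.fiber y) ≤ topologicalKrullDim ↥(f.fiber (genericPoint Y)) := by
  have hX : IsLocallyNoetherian X := LocallyOfFiniteType.isLocallyNoetherian f
  refine fibre_dims_subset' f y ?_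
  intro z hfz hmax
  subst hfz
  exact stalk_dim_eq_of_isOpenAt_of_max f z
    (fun t ht hsp => hmax t ht (specializes_iff_mem_closure.1 hsp)) (h z rfl)

end Groth.Agent.Helper5.OpenAt
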