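import Groth.Agent.Helper5.FppfImg1
import Groth.Agent.Helper5.SpCoprod1
import Groth.Agent.Helper5.FppfLift
import Mathlib

/-! Open immersions of fppf sheaves can be recognised fppf-locally on the target. -/

set_option autoImplicit false
universe u
open CategoryTheory CategoryTheory.Limits AlgebraicGeometry Opposite MorphismProperty

namespace Groth.Agent.Helper5.OpenDesc

open AlgSp Groth.Agent.Helper4.AlgSpOpenImage Groth.Agent.Helper4.AlgSpBasic
  Groth.Agent.Helper5.FppfImg

variable {S : Scheme.{u}}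

/-- the open subscheme of `T` as an object over `S` -/
abbrev opensOver (T : Over S) (O : T.left.Opens) : Over S := Over.mk (O.ι ≫ T.hom)

/-- the inclusion of an open subscheme, over `S` -/
abbrev opensι (T : Over S) (O : T.left.Opens) : opensOver T O ⟶ T := Over.homMk O.ι rfl

theorem mono_yon_opensι (T : Over S) (O : T.left.Opens) : Mono ((yon S).map (opensι T O)) := by
  have hmono : Mono (opensι T O) := by
    have : Mono ((Over.forget S).map (opensι T O)) := by
      show Mono O.ι
      infer_instance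
    exact (Over.forget S).mono_of_mono_map this
  exact mono_yon_map _

set_option backward.isDefEq.respectTransparency.types false in
/-- A monomorphism of sheaves which, fppf locally on every test scheme, is the inclusion of an
open subscheme is representable by open immersions. -/
theorem openImmersion_of_fppf_local {X Y : Sp S} (f : X ⟶ Y) [Mono f]
    (h : ∀ (T : Over S) (ξ : (yon S).obj T ⟶ Y), ∃ (κ : Type u) (T₁ : κ → Over S)
      (c : ∀ k, T₁ k ⟶ T),
      (∀ k, Flat (c k).left) ∧ (∀ k, LocallyOfFinitePresentation (c k).left) ∧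
      (∀ z : ↥T.left, ∃ k, z ∈ Set.range (c k).left) ∧
      ∀ k, ∃ (O₁ : (T₁ k).left.Opens) (a : (yon S).obj (opensOver (T₁ k) O₁) ⟶ X),
        IsPullback a ((yon S).map (opensι (T₁ k) O₁)) f ((yon S).map (c k) ≫ ξ)) :
    RepWith @IsOpenImmersion f := by
  refine MorphismProperty.relative.of_exists fun T ξ => ?_
  obtain ⟨κ, T₁, c, hcf, hcl, hcs, hO⟩ := h T ξ
  choose O₁ a sq₁ using hO
  have hopen : ∀ k, IsOpen ((c k).left.base '' (O₁ k : Set (T₁ k).left)) := fun k =>
    haveI := hcf k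
    haveI := hcl k
    (c k).left.isOpenMap _ (O₁ k).2
  let O : T.left.Opens := ⟨⋃ k, (c k).left.base '' (O₁ k : Set (T₁ k).left),
    isOpen_iUnion hopen⟩
  have hmono' : Mono ((yon S).map (opensι T O)) := mono_yon_opensι T O
  -- the corestrictions `O₁ k ⟶ O`
  have hfac : ∀ k, ∃ c' : opensOver (T₁ k) (O₁ k) ⟶ opensOver T O,
      c' ≫ opensι T O = opensι (T₁ k) (O₁ k) ≫ c k := fun k =>
    exists_factor_opens O (opensι (T₁ k) (O₁ k) ≫ c k)
      (fun v => Set.mem_iUnion.2 ⟨k, (O₁ k).ι v, v.2, rfl⟩)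
  choose c' hc' using hfac
  have hc'pb := fun k => isPullback_corestrict O (opensι (T₁ k) (O₁ k) ≫ c k) (c' k) (hc' k)
  have hcomp_f : ∀ k, Flat (opensι (T₁ k) (O₁ k) ≫ c k).left := fun k => by
    haveI := hcf k
    show Flat ((O₁ k).ι ≫ (c k).left)
    infer_instance
  have hcomp_l : ∀ k, LocallyOfFinitePresentation (opensι (T₁ k) (O₁ k) ≫ c k).left := fun k => by
    haveI := hcl k
    show LocallyOfFinitePresentation ((O₁ k).ι ≫ (c k).left)
    infer_instance
  have hc'f : ∀ k, Flat (c' k).left := fun k =>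
    MorphismProperty.of_isPullback (P := @Flat) (hc'pb k) (hcomp_f k)
  have hc'l : ∀ k, LocallyOfFinitePresentation (c' k).left := fun k =>
    MorphismProperty.of_isPullback (P := @LocallyOfFinitePresentation) (hc'pb k) (hcomp_l k)
  have hc's : ∀ o : ↥(opensOver T O).left, ∃ k, o ∈ Set.range (c' k).left := by
    intro o
    obtain ⟨k, v, hv, hvo⟩ := Set.mem_iUnion.1 (show (O.ι o) ∈ ⋃ k,
      (c k).left.base '' (O₁ k : Set (T₁ k).left) from o.2)
    refine ⟨k, ⟨v, hv⟩, ?_⟩
    apply O.ι.isOpenEmbedding.injective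
    rw [← hvo]
    show (c' k ≫ opensι T O).left _ = _
    rw [hc' k]
    rfl
  -- the lift `h_O ⟶ X`
  obtain ⟨b, hb⟩ : ∃ b : (yon S).obj (opensOver T O) ⟶ X, b ≫ f = (yon S).map (opensι T O) ≫ ξ := by
    apply Groth.Agent.Helper5.SpCoprod.exists_lift_of_local_lift f _
      (Sieve.ofArrows _ c') (Groth.Agent.Helper5.FppfLift.ofArrows_mem_J _ c' hc'f hc'l hc's)
    rintro V' γ ⟨Z, γ', _, ⟨k⟩, rfl⟩
    refine ⟨(yon S).map γ' ≫ a k, ?_⟩
    rw [Category.assoc, (sq₁ k).w, Functor.map_comp, Category.assoc,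
      ← Category.assoc ((yon S).map (c' k)), ← Functor.map_comp, hc' k, Functor.map_comp,
      Category.assoc]
  refine ⟨opensOver T O, b, opensι T O, ⟨⟨hb⟩, ⟨?_⟩⟩, (inferInstance : IsOpenImmersion O.ι)⟩
  have hlift : ∀ c₀ : PullbackCone f ξ, ∃ l : c₀.pt ⟶ (yon S).obj (opensOver T O),
      l ≫ (yon S).map (opensι T O) = c₀.snd := by
    intro c₀
    refine exists_lift_of_mono ((yon S).map (opensι T O)) c₀.snd fun U s => ?_
    obtain ⟨τ, hτ⟩ := (yon S).map_surjective (s ≫ c₀.snd)
    have hrange : ∀ u : U.left, τ.left u ∈ O := by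
      intro u
      obtain ⟨k, z₁, hz₁⟩ := hcs (τ.left u)
      have hrep := representable_yon_map (c k)
      obtain ⟨U₁, pr₁, pr₂', sqU⟩ := hrep ((yon S).map τ)
      have hcone : ((yon S).map pr₁ ≫ s ≫ c₀.fst) ≫ f = pr₂' ≫ (yon S).map (c k) ≫ ξ := by
        rw [Category.assoc, Category.assoc, c₀.condition, ← Category.assoc s, ← hτ,
          ← Category.assoc, ← sqU.w, Category.assoc]
      obtain ⟨m₀, hm₀⟩ := (yon S).map_surjective ((sq₁ k).lift _ _ hcone)
      obtain ⟨pr₂, hpr₂⟩ := (yon S).map_surjective pr₂'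
      have hm : m₀ ≫ opensι (T₁ k) (O₁ k) = pr₂ := by
        apply (yon S).map_injective
        rw [Functor.map_comp, hm₀, (sq₁ k).lift_snd, hpr₂]
      have hw : pr₂ ≫ c k = pr₁ ≫ τ := by
        apply (yon S).map_injective
        rw [Functor.map_comp, Functor.map_comp, hpr₂, sqU.w]
      -- a point of `U₁` over `u` and `z₁`
      rw [← hpr₂] at sqU
      have sqS : IsPullback pr₂.left pr₁.left (c k).left τ.left :=
        Groth.Agent.Helper5.GeomFibSp.isPullback_left
          (Groth.Agent.Helper5.GeomFibSp.isPullback_of_yon_map sqU)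
      obtain ⟨u₁, hu₁a, hu₁b⟩ := Scheme.exists_preimage_of_isPullback sqS z₁ u hz₁
      refine Set.mem_iUnion.2 ⟨k, (O₁ k).ι (m₀.left u₁), (m₀.left u₁).2, ?_⟩
      rw [← hu₁b]
      show (m₀ ≫ opensι (T₁ k) (O₁ k) ≫ c k).left u₁ = (pr₁ ≫ τ).left u₁
      rw [← Category.assoc, hm, hw]
    obtain ⟨g₀, hg₀⟩ := exists_factor_opens O τ hrange
    exact ⟨(yon S).map g₀, by rw [← Functor.map_comp, hg₀, hτ]⟩
  choose l hl using hlift
  refine PullbackCone.IsLimit.mk _ l ?_ hl ?_
  · intro c₀
    rw [← cancel_mono f, Category.assoc, hb, ← Category.assoc, hl, c₀.condition]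
  · intro c₀ m _ h2
    rw [← cancel_mono ((yon S).map (opensι T O)), h2, hl]

end Groth.Agent.Helper5.OpenDesc
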