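import Mathlib
import Groth.Agent.Helper5.OpenGen

set_option autoImplicit false
universe u

namespace Groth.Agent.Helper5.OpenDim
open AlgebraicGeometry CategoryTheory TopologicalSpace

theorem dim_le_of_generalizing {X Z : Type*} [TopologicalSpace X] [TopologicalSpace Z] [QuasiSober Z]
    (g : X → Z) (hcont : Continuous g) (hsurj : Function.Surjective g) (hgen : GeneralizingMap g) :
    topologicalKrullDim Z ≤ topologicalKrullDim X := by
  unfold topologicalKrullDim
  refine iSup_le fun p => ?_
  have hy : ∀ i : Fin (p.length + 1), ∃ y : Z, IsGenericPoint y (p i : Set Z) := fun i =>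
    QuasiSober.sober (p i).isIrreducible' (p i).isClosed'
  choose y hy using hy
  obtain ⟨y', hy'⟩ : ∃ y' : ℕ → Z, y' = fun i => y ⟨min i p.length, by omega⟩ := ⟨_, rfl⟩
  have hspec : ∀ i, y' (i + 1) ⤳ y' i := by
    intro i
    rw [specializes_iff_closure_subset, hy']
    simp only
    rw [(hy _).def, (hy _).def]
    have : (⟨min i p.length, by omega⟩ : Fin (p.length + 1)) ≤ ⟨min (i + 1) p.length, by omega⟩ := by
      rw [Fin.mk_le_mk]; omega
    exact p.strictMono.monotone this
  obtain ⟨x₀, hx₀⟩ := hsurj (y' 0)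
  have hstep : ∀ i, ∀ x : {x : X // g x = y' i}, ∃ x' : {x : X // g x = y' (i + 1)}, x'.1 ⤳ x.1 := by
    intro i x
    have h1 : y' (i + 1) ⤳ g x.1 := by rw [x.2]; exact hspec i
    obtain ⟨x', hx', hgx'⟩ := hgen h1
    exact ⟨⟨x', hgx'⟩, hx'⟩
  choose nxt hnxt using hstep
  obtain ⟨xs, hxs0, hxsS⟩ : ∃ xs : (i : ℕ) → {x : X // g x = y' i},
      xs 0 = ⟨x₀, hx₀⟩ ∧ ∀ i, xs (i + 1) = nxt i (xs i) :=
    ⟨fun i => Nat.rec (motive := fun i => {x : X // g x = y' i}) ⟨x₀, hx₀⟩ (fun i x => nxt i x) i,
      rfl, fun i => rfl⟩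
  have hxspec : ∀ i, (xs (i + 1)).1 ⤳ (xs i).1 := fun i => by rw [hxsS]; exact hnxt i _
  let q : LTSeries (IrreducibleCloseds X) := LTSeries.mk p.length
    (fun i => ⟨closure {(xs i.1).1}, isIrreducible_singleton.closure, isClosed_closure⟩) (by
      rw [Fin.strictMono_iff_lt_succ]
      intro i
      rw [lt_iff_le_and_ne]
      constructor
      · change closure {(xs i.1).1} ⊆ closure {(xs (i.1 + 1)).1}
        exact specializes_iff_closure_subset.mp (hxspec i.1)
      · intro heq
        have heq' : closure {(xs i.1).1} = closure {(xs (i.1 + 1)).1} :=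
          congrArg (fun s : IrreducibleCloseds X => (s : Set X)) heq
        have h2 : (xs i.1).1 ⤳ (xs (i.1 + 1)).1 := by
          rw [specializes_iff_closure_subset, heq']
        have h3 := h2.map hcont
        rw [(xs i.1).2, (xs (i.1 + 1)).2, specializes_iff_closure_subset, hy'] at h3
        simp only at h3
        rw [(hy _).def, (hy _).def] at h3
        have h4 : (⟨min i.1 p.length, by omega⟩ : Fin (p.length + 1)) <
            ⟨min (i.1 + 1) p.length, by omega⟩ := by
          rw [Fin.mk_lt_mk]
          have := i.2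
          omega
        exact absurd (p.strictMono h4) (not_lt_of_ge h3))
  exact Order.LTSeries.length_le_krullDim q

theorem main {X Y : Scheme.{u}} (f : X ⟶ Y) (hf : IsOpenMap f.base) :
    topologicalKrullDim ↥(Set.range f.base) ≤ topologicalKrullDim ↥X := by
  have hopen : IsOpen (Set.range f.base) := hf.isOpen_range
  have hqs : QuasiSober ↥(Set.range f.base) := hopen.isOpenEmbedding_subtypeVal.quasiSober
  refine dim_le_of_generalizing (Set.rangeFactorization f.base)
    (f.base.hom.continuous.subtype_mk _) Set.rangeFactorization_surjective ?_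
  intro x y hy
  have h1 : (y : Y) ⤳ f.base x := by
    have := hy.map continuous_subtype_val
    exact this
  obtain ⟨x', hx', hfx'⟩ := Groth.Agent.Helper5.OpenGen.main f hf h1
  exact ⟨x', hx', Subtype.ext hfx'⟩

end Groth.Agent.Helper5.OpenDim
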