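import Mathlib

set_option autoImplicit false
universe u

namespace Groth.Agent.Helper5.OpenImmDense
open AlgebraicGeometry CategoryTheory TopologicalSpace Limits

/-- Two sections of a separated morphism which agree on a dense open agree pointwise. -/
theorem eq_on_points_of_eq_on_dense {W X Y : Scheme.{u}} (f : X ⟶ Y) [IsSeparated f]
    (s₁ s₂ : W ⟶ X) (h : s₁ ≫ f = s₂ ≫ f) (W' : W.Opens) (hd : Dense (W' : Set W))
    (heq : W'.ι ≫ s₁ = W'.ι ≫ s₂) (w : W) : s₁.base w = s₂.base w := by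
  let X' : Over Y := Over.mk (s₁ ≫ f)
  let Y' : Over Y := Over.mk f
  let U' : Over Y := Over.mk (W'.ι ≫ s₁ ≫ f)
  let f' : X' ⟶ Y' := Over.homMk s₁
  let g' : X' ⟶ Y' := Over.homMk s₂ h.symm
  let ι' : U' ⟶ X' := Over.homMk W'.ι
  have hsep : IsSeparated Y'.hom := ‹_›
  have hcl : IsClosedImmersion (equalizer.ι f' g').left := inferInstance
  have hιeq : ι' ≫ f' = ι' ≫ g' := by
    ext1
    exact heq
  have hfac : (equalizer.lift ι' hιeq).left ≫ (equalizer.ι f' g').left = W'.ι := by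
    rw [← Over.comp_left, equalizer.lift_ι]
    rfl
  have hrange : (W' : Set W) ⊆ Set.range (equalizer.ι f' g').left.base := by
    intro z hz
    have hz' : z ∈ Set.range W'.ι.base := by rw [Scheme.Opens.range_ι]; exact hz
    obtain ⟨z', rfl⟩ := hz'
    refine ⟨(equalizer.lift ι' hιeq).left.base z', ?_⟩
    rw [← Scheme.Hom.comp_apply, hfac]
  have hsurj : Function.Surjective (equalizer.ι f' g').left.base := by
    rw [← Set.range_eq_univ]
    have hclosed : IsClosed (Set.range (equalizer.ι f' g').left.base) :=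
      (Scheme.Hom.isClosedEmbedding _).isClosed_range
    exact Set.eq_univ_of_univ_subset (hd.closure_eq ▸ hclosed.closure_subset_iff.mpr hrange)
  obtain ⟨z, rfl⟩ := hsurj w
  have hcond : (equalizer.ι f' g').left ≫ s₁ = (equalizer.ι f' g').left ≫ s₂ :=
    congr($(equalizer.condition f' g').left)
  rw [← Scheme.Hom.comp_apply, ← Scheme.Hom.comp_apply, hcond]

theorem injective_of_dense {X Y : Scheme.{u}} (f : X ⟶ Y) [IsSeparated f]
    (U₁ U₂ : X.Opens) (hd : Dense (U₂ : Set X))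
    (h₁ : IsOpenImmersion (U₁.ι ≫ f)) (h₂ : IsOpenImmersion (U₂.ι ≫ f))
    (x₁ x₂ : X) (hx₁ : x₁ ∈ U₁) (hx₂ : x₂ ∈ U₂) (hfx : f.base x₁ = f.base x₂) : x₁ = x₂ := by
  let j₁ := U₁.ι ≫ f
  let j₂ := U₂.ι ≫ f
  let W : Y.Opens := j₁.opensRange ⊓ j₂.opensRange
  have hW₁ : Set.range W.ι.base ⊆ Set.range j₁.base := by
    rw [Scheme.Opens.range_ι]; exact fun y hy => hy.1
  have hW₂ : Set.range W.ι.base ⊆ Set.range j₂.base := by
    rw [Scheme.Opens.range_ι]; exact fun y hy => hy.2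
  let g₁ : (W : Scheme.{u}) ⟶ U₁ := IsOpenImmersion.lift j₁ W.ι hW₁
  let g₂ : (W : Scheme.{u}) ⟶ U₂ := IsOpenImmersion.lift j₂ W.ι hW₂
  have hg₁ : g₁ ≫ j₁ = W.ι := IsOpenImmersion.lift_fac _ _ _
  have hg₂ : g₂ ≫ j₂ = W.ι := IsOpenImmersion.lift_fac _ _ _
  have hg₁open : IsOpenImmersion g₁ := by
    have : IsOpenImmersion (g₁ ≫ j₁) := by rw [hg₁]; infer_instance
    exact IsOpenImmersion.of_comp g₁ j₁
  obtain ⟨s₁, hs₁def⟩ : ∃ s₁ : (W : Scheme.{u}) ⟶ X, s₁ = g₁ ≫ U₁.ι := ⟨_, rfl⟩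
  obtain ⟨s₂, hs₂def⟩ : ∃ s₂ : (W : Scheme.{u}) ⟶ X, s₂ = g₂ ≫ U₂.ι := ⟨_, rfl⟩
  have hs₁ : s₁ ≫ f = W.ι := by rw [hs₁def, Category.assoc]; exact hg₁
  have hs₂ : s₂ ≫ f = W.ι := by rw [hs₂def, Category.assoc]; exact hg₂
  have hs₁open : IsOpenImmersion s₁ := by rw [hs₁def]; infer_instance
  let W' : (W : Scheme.{u}).Opens := s₁ ⁻¹ᵁ U₂
  have hW'd : Dense (W' : Set (W : Scheme.{u})) :=
    hd.preimage s₁.isOpenEmbedding.isOpenMap
  have heq : W'.ι ≫ s₁ = W'.ι ≫ s₂ := by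
    have hr : Set.range (W'.ι ≫ s₁).base ⊆ Set.range U₂.ι.base := by
      rw [Scheme.Opens.range_ι]
      rintro _ ⟨z, rfl⟩
      exact z.2
    let k := IsOpenImmersion.lift U₂.ι (W'.ι ≫ s₁) hr
    have hk : k ≫ U₂.ι = W'.ι ≫ s₁ := IsOpenImmersion.lift_fac _ _ _
    have hk2 : k = W'.ι ≫ g₂ := by
      rw [← cancel_mono j₂]
      change k ≫ U₂.ι ≫ f = (W'.ι ≫ g₂) ≫ j₂
      rw [← Category.assoc, hk, Category.assoc, Category.assoc, hs₁, hg₂]
    rw [← hk, hk2, Category.assoc, hs₂def]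
  -- the point
  have hy₁ : f.base x₁ ∈ W := by
    refine ⟨⟨⟨x₁, hx₁⟩, rfl⟩, ⟨⟨x₂, hx₂⟩, ?_⟩⟩
    exact hfx.symm
  let w₀ : (W : Scheme.{u}) := ⟨f.base x₁, hy₁⟩
  have key := eq_on_points_of_eq_on_dense f s₁ s₂ (hs₁.trans hs₂.symm) W' hW'd heq w₀
  have hinj₁ : Function.Injective j₁.base := j₁.isOpenEmbedding.injective
  have hinj₂ : Function.Injective j₂.base := j₂.isOpenEmbedding.injective
  have e₁ : g₁.base w₀ = ⟨x₁, hx₁⟩ := by
    apply hinj₁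
    rw [← Scheme.Hom.comp_apply, hg₁]
    rfl
  have e₂ : g₂.base w₀ = ⟨x₂, hx₂⟩ := by
    apply hinj₂
    rw [← Scheme.Hom.comp_apply, hg₂]
    exact hfx
  have e₁' : s₁.base w₀ = x₁ := by
    rw [hs₁def]
    change U₁.ι.base (g₁.base w₀) = x₁
    rw [e₁]; rfl
  have e₂' : s₂.base w₀ = x₂ := by
    rw [hs₂def]
    change U₂.ι.base (g₂.base w₀) = x₂
    rw [e₂]; rfl
  rw [← e₁', ← e₂', key]

theorem main {X Y : Scheme.{u}} (f : X ⟶ Y) [IsSeparated f]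
    {ι : Type u} (U : ι → X.Opens)
    (hU : ⨆ i, U i = ⊤) (hd : ∀ i, Dense (U i : Set X)) (h : ∀ i, IsOpenImmersion ((U i).ι ≫ f)) :
    IsOpenImmersion f := by
  refine IsOpenImmersion.of_openCover_source f (X.openCoverOfIsOpenCover U hU) ?_ h
  intro x y hxy
  have hx : x ∈ ⨆ i, U i := hU ▸ trivial
  have hy : y ∈ ⨆ i, U i := hU ▸ trivial
  rw [Opens.mem_iSup] at hx hy
  obtain ⟨i, hi⟩ := hx
  obtain ⟨j, hj⟩ := hy
  exact injective_of_dense f (U i) (U j) (hd j) (h i) (h j) x y hi hj hxy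

end Groth.Agent.Helper5.OpenImmDense
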