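import Mathlib
import Groth.Prelude
import Groth.Agent.Helper5.OrbP3

set_option autoImplicit false
set_option linter.unusedSectionVars false
set_option linter.style.haveILetI false
set_option linter.unusedVariables false
universe u

open AlgebraicGeometry CategoryTheory CategoryTheory.Limits
open MonoidalCategory CartesianMonoidalCategory MonObj

namespace Groth.Agent.Helper5.OrbP

open Groth.Agent.Helper5.FlatOrbit

/-- **The orbit morphism is proper iff the orbit is closed and the stabilizer is proper.** -/
theorem s11435 (k : Type u) [Field k] [IsAlgClosed k]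
    (G X : Over (Spec (CommRingCat.of k))) [GrpObj G] [LocallyOfFiniteType G.hom]
    [QuasiCompact G.hom] [LocallyOfFiniteType X.hom] (a : AlgGrp.Action G X)
    (x : 𝟙_ (Over (Spec (CommRingCat.of k))) ⟶ X) :
    IsProper (GIT.psi a x).left ↔
      IsClosed (Set.range (GIT.psi a x).left.base) ∧
        IsProper (Limits.pullback.snd (GIT.psi a x).left
          (lift x (𝟙 (𝟙_ (Over (Spec (CommRingCat.of k)))))).left ≫
          (𝟙_ (Over (Spec (CommRingCat.of k)))).hom) := by
  set ψ := GIT.psi a x with hψdef
  set pt : 𝟙_ (Over (Spec (CommRingCat.of k))) ⟶ X ⊗ 𝟙_ (Over (Spec (CommRingCat.of k))) :=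
    lift x (𝟙 (𝟙_ (Over (Spec (CommRingCat.of k))))) with hptdef
  have hψ : ψ = (ρ_ G).hom ≫ a.orbitMap x ≫ (ρ_ X).inv := psi_eq a x
  have hunit : (𝟙_ (Over (Spec (CommRingCat.of k)))).hom = 𝟙 _ := rfl
  constructor
  · intro hp
    refine ⟨ψ.left.isClosedMap.isClosed_range, ?_⟩
    rw [hunit, Category.comp_id]
    infer_instance
  · rintro ⟨hcl, hst⟩
    haveI : IsIso (ρ_ G).hom.left := (Over.forget _).map_isIso (ρ_ G).hom
    haveI : IsIso (ρ_ X).inv.left := (Over.forget _).map_isIso (ρ_ X).inv
    haveI : IsIso (ρ_ X).hom.left := (Over.forget _).map_isIso (ρ_ X).hom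
    haveI : IsIso (ρ_ G).inv.left := (Over.forget _).map_isIso (ρ_ G).inv
    suffices h : IsProper (a.orbitMap x).left by
      rw [hψ, Over.comp_left, Over.comp_left]
      infer_instance
    -- the orbit is closed
    have horb : a.orbitMap x = (ρ_ G).inv ≫ ψ ≫ (ρ_ X).hom := by
      rw [hψ]; simp
    have hcl' : IsClosed (Set.range (a.orbitMap x).left.base) := by
      have h1 : Set.range (a.orbitMap x).left.base =
          (ρ_ X).hom.left.base '' Set.range ψ.left.base := by
        rw [horb, Over.comp_left, Over.comp_left, Scheme.Hom.comp_base, Scheme.Hom.comp_base,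
          TopCat.coe_comp, TopCat.coe_comp, Set.range_comp,
          Set.range_eq_univ.2 (ρ_ G).inv.left.surjective, Set.image_univ, Set.range_comp]
      rw [h1]
      exact (ρ_ X).hom.left.homeomorph.isClosedMap _ hcl
    -- the stabilizer
    let H : Over (Spec (CommRingCat.of k)) := pullback ψ pt
    let p₁ : H ⟶ G ⊗ 𝟙_ (Over (Spec (CommRingCat.of k))) := pullback.fst ψ pt
    let p₂ : H ⟶ 𝟙_ (Over (Spec (CommRingCat.of k))) := pullback.snd ψ pt
    have hpb : IsPullback p₁ p₂ ψ pt := IsPullback.of_hasPullback ψ pt
    have hH : IsPullback (p₁ ≫ (ρ_ G).hom) (toUnit H) (a.orbitMap x) x := by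
      refine IsPullback.of_iso hpb (Iso.refl _) (ρ_ G) (Iso.refl _) (ρ_ X) ?_ ?_ ?_ ?_
      · simp
      · simp only [Iso.refl_hom, Category.comp_id, Category.id_comp]
        exact toUnit_unique _ _
      · rw [hψ]; simp
      · simp [hptdef]
    haveI : IsProper H.hom := by
      have h1 : H.hom = p₂.left ≫ (𝟙_ (Over (Spec (CommRingCat.of k)))).hom := (Over.w p₂).symm
      rw [hunit, Category.comp_id] at hst
      haveI hp2 : IsProper p₂.left := by
        have h2 := PreservesPullback.iso_hom_snd (Over.forget (Spec (CommRingCat.of k))) ψ pt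
        show IsProper ((Over.forget (Spec (CommRingCat.of k))).map (pullback.snd ψ pt))
        rw [← h2]
        haveI : IsProper (pullback.snd ((Over.forget (Spec (CommRingCat.of k))).map ψ)
            ((Over.forget (Spec (CommRingCat.of k))).map pt)) := hst
        infer_instance
      haveI : IsProper (𝟙_ (Over (Spec (CommRingCat.of k)))).hom := by
        rw [hunit]; infer_instance
      rw [h1]
      infer_instance
    exact isProper_orbitMap k G X H a x hcl' (p₁ ≫ (ρ_ G).hom) hH

end Groth.Agent.Helper5.OrbP
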