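import Mathlib
import Groth.Prelude
import Groth.Agent.Helper5.OrbSm2

set_option autoImplicit false
set_option linter.unusedSectionVars false
set_option linter.style.haveILetI false
set_option linter.unusedVariables false
universe u

open AlgebraicGeometry CategoryTheory CategoryTheory.Limits
open MonoidalCategory CartesianMonoidalCategory MonObj

namespace Groth.Agent.Helper5.OrbSm

open Groth.Agent.Helper5.FlatOrbit Groth.Agent.Helper5.GenSm

variable {k : Type u} [Field k] [IsAlgClosed k]
  {G X : Over (Spec (CommRingCat.of k))} [GrpObj G] (a : AlgGrp.Action G X)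

/-- transitivity on rational points makes the orbit map surjective on closed points -/
theorem closedPoints_subset_range [LocallyOfFiniteType X.hom]
    (htrans : ∀ x x' : 𝟙_ (Over (Spec (CommRingCat.of k))) ⟶ X,
      ∃ σ : 𝟙_ (Over (Spec (CommRingCat.of k))) ⟶ G, lift σ x ≫ a.act = x')
    (x : 𝟙_ (Over (Spec (CommRingCat.of k))) ⟶ X) :
    closedPoints X.left ⊆ Set.range (a.orbitMap x).left := by
  intro p hp
  obtain ⟨x', hx'⟩ := exists_section_of_isClosed X p hp
  obtain ⟨σ, hσ⟩ := htrans x x'
  have h1 : σ ≫ a.orbitMap x = x' := by rw [section_orbitMap, hσ]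
  let pt : (𝟙_ (Over (Spec (CommRingCat.of k)))).left :=
    (show Spec (CommRingCat.of k) from IsLocalRing.closedPoint k)
  refine ⟨σ.left pt, ?_⟩
  rw [← hx' pt, ← h1, Over.comp_left, Scheme.Hom.comp_apply]

/-- a morphism to an integral scheme whose image is dense maps the generic point to the generic
point -/
theorem map_genericPoint_of_dense {A B : Scheme.{u}} [IsIntegral A] [IsIntegral B] (ψ : A ⟶ B)
    (h : closure (Set.range ψ) = Set.univ) : ψ (genericPoint A) = genericPoint B := by
  have h1 := (genericPoint_spec A).image ψ.continuous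
  rw [Set.image_univ, h] at h1
  exact h1.eq (genericPoint_spec B)

/-- **Orbit maps of homogeneous spaces in characteristic zero are smooth.** -/
theorem s10927 [CharZero k] [IsIntegral G.left] [LocallyOfFiniteType G.hom]
    [IsIntegral X.left] [LocallyOfFiniteType X.hom]
    (htrans : ∀ x x' : 𝟙_ (Over (Spec (CommRingCat.of k))) ⟶ X,
      ∃ σ : 𝟙_ (Over (Spec (CommRingCat.of k))) ⟶ G, lift σ x ≫ a.act = x')
    (x : 𝟙_ (Over (Spec (CommRingCat.of k))) ⟶ X) :
    Smooth (a.orbitMap x).left := by
  haveI : LocallyOfFiniteType ((a.orbitMap x).left ≫ X.hom) := by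
    rw [Over.w]; infer_instance
  haveI : LocallyOfFiniteType (a.orbitMap x).left :=
    locallyOfFiniteType_of_comp (a.orbitMap x).left X.hom
  haveI : IsLocallyNoetherian X.left := LocallyOfFiniteType.isLocallyNoetherian X.hom
  haveI : LocallyOfFinitePresentation (a.orbitMap x).left := inferInstance
  haveI : JacobsonSpace X.left := LocallyOfFiniteType.jacobsonSpace X.hom
  haveI : JacobsonSpace G.left := LocallyOfFiniteType.jacobsonSpace G.hom
  -- dominance
  have hdom : (a.orbitMap x).left (genericPoint G.left) = genericPoint X.left := by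
    apply map_genericPoint_of_dense
    rw [← Set.univ_subset_iff, ← closure_closedPoints]
    exact closure_mono (closedPoints_subset_range a htrans x)
  -- the function field has characteristic zero
  haveI : CharZero X.left.functionField := by
    let ρ : k →+* X.left.functionField :=
      ((Scheme.ΓSpecIso (CommRingCat.of k)).inv ≫ X.hom.appTop ≫
        X.left.presheaf.germ ⊤ (genericPoint X.left) trivial).hom
    exact charZero_of_injective_ringHom ρ.injective
  have hFY := isField_stalk_of_eq _ hdom
  have hFX : IsField (G.left.presheaf.stalk (genericPoint G.left)) :=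
    Field.toIsField G.left.functionField
  haveI : CharZero (X.left.presheaf.stalk ((a.orbitMap x).left (genericPoint G.left))) :=
    charZero_stalk_of_eq _ hdom
  have hsm : genericPoint G.left ∈ (a.orbitMap x).left.smoothLocus :=
    mem_smoothLocus_of_isField_charZero (a.orbitMap x).left _ hFY hFX
  -- translation argument
  rw [← Scheme.Hom.smoothLocus_eq_top_iff, ← TopologicalSpace.Opens.coe_eq_univ,
    ← not_ne_iff, ← Set.nonempty_compl]
  intro H
  obtain ⟨g, hg, hgc⟩ := nonempty_inter_closedPoints H
    (a.orbitMap x).left.smoothLocus.2.isClosed_compl.isLocallyClosed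
  obtain ⟨y, hy, hyc⟩ := nonempty_inter_closedPoints ⟨_, hsm⟩
    (a.orbitMap x).left.smoothLocus.2.isLocallyClosed
  obtain ⟨g', hg'⟩ := exists_section_of_isClosed G g hgc
  obtain ⟨y', hy'⟩ := exists_section_of_isClosed G y hyc
  have h1 : y' ≫ tr (regular G) (g' * y'⁻¹) = g' := by
    rw [section_tr, inv_mul_cancel_right]
  have hcomm : (trIso (regular G) (g' * y'⁻¹)).hom.left ≫ (a.orbitMap x).left =
      (a.orbitMap x).left ≫ (trIso a (g' * y'⁻¹)).hom.left := by
    rw [← Over.comp_left, ← Over.comp_left]
    exact congrArg _ (tr_orbitMap a x (g' * y'⁻¹))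
  haveI : IsIso (trIso (regular G) (g' * y'⁻¹)).hom.left :=
    inferInstanceAs (IsIso ((Over.forget _).map (trIso (regular G) (g' * y'⁻¹)).hom))
  haveI : IsIso (trIso a (g' * y'⁻¹)).hom.left :=
    inferInstanceAs (IsIso ((Over.forget _).map (trIso a (g' * y'⁻¹)).hom))
  have key := mem_smoothLocus_of_comm (a.orbitMap x).left
    (trIso (regular G) (g' * y'⁻¹)).hom.left (trIso a (g' * y'⁻¹)).hom.left hcomm y hy
  let pt : (𝟙_ (Over (Spec (CommRingCat.of k)))).left :=
    (show Spec (CommRingCat.of k) from IsLocalRing.closedPoint k)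
  have h2 : (trIso (regular G) (g' * y'⁻¹)).hom.left y = g := by
    rw [← hy' pt, ← Scheme.Hom.comp_apply, ← Over.comp_left]
    show (y' ≫ tr (regular G) (g' * y'⁻¹)).left pt = g
    rw [h1, hg' pt]
  rw [h2] at key
  exact hg key

end Groth.Agent.Helper5.OrbSm
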