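import Mathlib
import Groth.Agent.Helper5.KLem6

set_option autoImplicit false
universe u
open CategoryTheory CategoryTheory.Limits AlgebraicGeometry TopologicalSpace

namespace Groth.Agent.Helper5.OrdFin

open Groth.Agent.Helper5.KLem Groth.Agent.Helper5.PtOpen

theorem s1692 (X : Scheme.{u}) [IsIntegral X] [IsLocallyNoetherian X] (f : ↑X.functionField)
    (hf : f ≠ 0) :
    LocallyFinite (fun ξ : {ξ : ↥X // Order.coheight ξ = 1 ∧ Scheme.ord f ξ ≠ 0} =>
      closure ({ξ.1} : Set ↥X)) := by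
  obtain ⟨W₀, -, f', hne, hf', hunit⟩ := AlgebraicGeometry.exists_isUnit_germ_eq X f hf
  let η := genericPoint X
  have hη : ∀ z : X, η ⤳ z := fun z => by
    rw [specializes_iff_mem_closure, (genericPoint_spec X).def]; exact Set.mem_univ _
  have hηW : η ∈ W₀ := by
    obtain ⟨⟨w, hw⟩⟩ := hne
    exact (hη w).mem_open W₀.isOpen hw
  let F : Set X := (W₀ : Set X)ᶜ
  have hFcl : IsClosed F := W₀.isOpen.isClosed_compl
  -- points with nonzero order lie in F and are maximal there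
  have hmemF : ∀ ξ : X, Scheme.ord f ξ ≠ 0 → ξ ∈ F := by
    intro ξ hξ hξW
    apply hξ
    rw [← hf']
    exact Scheme.ord_of_isUnit hunit hξW
  have hmaxF : ∀ ξ : X, Order.coheight ξ = 1 → ∀ z : X, z ∈ F → z ⤳ ξ → z = ξ := by
    intro ξ hξ z hzF hzξ
    by_contra hne'
    have hlt : ξ < z := by
      refine lt_of_le_not_ge (Scheme.le_iff_specializes.2 hzξ) ?_
      intro h2
      exact hne' (hzξ.antisymm (Scheme.le_iff_specializes.1 h2)).eq
    have h1 := Order.coheight_add_one_le hlt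
    rw [hξ] at h1
    have h0 : Order.coheight z = 0 := by
      have : Order.coheight z + 1 ≤ 0 + 1 := by simpa using h1
      have h2 : Order.coheight z ≤ 0 := by
        exact (ENat.add_le_add_iff_right (by simp)).mp this
      exact le_antisymm h2 (zero_le)
    rw [Order.coheight_eq_zero] at h0
    have h3 : η ≤ z := h0 (Scheme.le_iff_specializes.2 (hη z))
    have h4 : z = η := ((hη z).antisymm (Scheme.le_iff_specializes.1 h3)).eq.symm
    rw [h4] at hzF
    exact hzF hηW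
  intro x
  obtain ⟨U, hU, hxU⟩ : ∃ U : X.Opens, IsAffineOpen U ∧ x ∈ U := by
    obtain ⟨_, ⟨U, hU, rfl⟩, hxU, -⟩ :=
      (X.isBasis_affineOpens).exists_subset_of_mem_open (Set.mem_univ x) isOpen_univ
    exact ⟨U, hU, hxU⟩
  have hNU : IsNoetherianRing Γ(X, U) := IsLocallyNoetherian.component_noetherian ⟨U, hU⟩
  have hNS : NoetherianSpace ↥(U : Scheme.{u}) := noetherianSpace_of_isAffineOpen U hU
  refine ⟨(U : Set X), U.isOpen.mem_nhds hxU, ?_⟩
  let FU : Set ↥(U : Scheme.{u}) := U.ι ⁻¹' F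
  have hFU : IsClosed FU := hFcl.preimage U.ι.continuous
  obtain ⟨T, hTf, hTc, hTi, hTU⟩ := NoetherianSpace.exists_finite_set_isClosed_irreducible hFU
  -- generic points of the pieces
  have hgp : ∀ t ∈ T, ∃ γ : ↥(U : Scheme.{u}), IsGenericPoint γ t := fun t ht =>
    QuasiSober.sober (hTi t ht) (hTc t ht)
  let G : Set X := {y | ∃ t ∈ T, ∃ γ : ↥(U : Scheme.{u}), IsGenericPoint γ t ∧ U.ι γ = y}
  have hG : G.Finite := by
    have : G ⊆ ⋃ t ∈ T, {y | ∃ γ : ↥(U : Scheme.{u}), IsGenericPoint γ t ∧ U.ι γ = y} := by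
      rintro y ⟨t, ht, γ, hγ, rfl⟩
      simp only [Set.mem_iUnion]
      exact ⟨t, ht, γ, hγ, rfl⟩
    refine (hTf.biUnion fun t _ => ?_).subset this
    refine Set.Subsingleton.finite ?_
    rintro _ ⟨γ, hγ, rfl⟩ _ ⟨γ', hγ', rfl⟩
    rw [hγ.eq hγ']
  refine (hG.preimage (Subtype.val_injective.injOn)).subset ?_
  rintro ⟨ξ, hξ1, hξ2⟩ ⟨p, hp1, hp2⟩
  have hξp : ξ ⤳ p := specializes_iff_mem_closure.mpr hp1
  have hξU : ξ ∈ U := hξp.mem_open U.isOpen hp2
  let ξ' : ↥(U : Scheme.{u}) := ⟨ξ, hξU⟩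
  have hξ'F : ξ' ∈ FU := hmemF ξ hξ2
  rw [hTU] at hξ'F
  obtain ⟨t, ht, hξ't⟩ := hξ'F
  obtain ⟨γ, hγ⟩ := hgp t ht
  have hγξ' : γ ⤳ ξ' := by
    rw [specializes_iff_mem_closure, hγ.def]; exact hξ't
  have hγF : U.ι γ ∈ F := by
    have : γ ∈ FU := by
      rw [hTU]
      exact ⟨t, ht, hγ.mem⟩
    exact this
  have h5 : U.ι γ ⤳ ξ := hγξ'.map U.ι.continuous
  have h6 : U.ι γ = ξ := hmaxF ξ hξ1 _ hγF h5
  exact ⟨t, ht, γ, hγ, h6⟩

end Groth.Agent.Helper5.OrdFin
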