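import Mathlib
import Groth.Agent.Helper5.LaurentU

set_option autoImplicit false
set_option linter.unusedSectionVars false
set_option linter.style.haveILetI false
universe u

open LaurentPolynomial

namespace Groth.Agent.Helper5.PLine

open Groth.Agent.Helper5.LaurentU

/-- a ring hom out of a Laurent polynomial ring on the monomials `T n` -/
theorem map_T_eq {R B' : Type u} [CommRing R] [CommRing B'] (φ : R[T;T⁻¹] →+* B')
    (w : Multiplicative ℤ →* B') (h : φ (T 1) = w (Multiplicative.ofAdd 1)) (n : ℤ) :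
    φ (T n) = w (Multiplicative.ofAdd n) := by
  let ψ : Multiplicative ℤ →* B' :=
    { toFun := fun m => φ (T (Multiplicative.toAdd m))
      map_one' := by
        show φ (T (Multiplicative.toAdd 1)) = 1
        rw [toAdd_one, T_zero, map_one]
      map_mul' := fun a b => by
        show φ (T (Multiplicative.toAdd (a * b))) =
          φ (T (Multiplicative.toAdd a)) * φ (T (Multiplicative.toAdd b))
        rw [toAdd_mul, T_add, map_mul] }
  have : ψ = w := MonoidHom.ext_mint h
  exact congrArg (fun χ => χ (Multiplicative.ofAdd n)) this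

theorem C_injective' {R : Type u} [CommRing R] : Function.Injective (C : R → R[T;T⁻¹]) := by
  intro a b h
  exact AddMonoidAlgebra.single_right_injective (m := (0 : ℤ)) h

/-- `C r * T a = T 1` forces `a = 1` and `r = 1` -/
theorem eq_of_C_mul_T_eq_T_one {R : Type u} [CommRing R] [Nontrivial R] (r : R) (hr : r ≠ 0)
    (a : ℤ) (h : C r * T a = (T 1 : R[T;T⁻¹])) : a = 1 ∧ r = 1 := by
  have h1 : degree (C r * T a) = degree (T 1 : R[T;T⁻¹]) := by rw [h]
  rw [degree_C_mul_T a r hr, degree_T] at h1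
  have ha : a = 1 := by exact_mod_cast h1
  refine ⟨ha, ?_⟩
  subst ha
  have h2 : C r * T 1 * T (-1) = (T 1 : R[T;T⁻¹]) * T (-1) := by rw [h]
  rw [mul_T_assoc, ← T_add] at h2
  simp only [add_neg_cancel, T_zero, mul_one] at h2
  exact C_injective' (h2.trans (map_one C).symm)

section
variable {k : Type u} [Field k]

/-- the key computation for group laws on the punctured line -/
theorem laurent_key (P : (k[T;T⁻¹])[T;T⁻¹]) (hP : IsUnit P) (e : k) (he : e ≠ 0)
    (φ₂ φ₃ : (k[T;T⁻¹])[T;T⁻¹] →+* (k[T;T⁻¹])[T;T⁻¹])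
    (h20 : ∀ c : k, φ₂ (C (C c)) = C (C c)) (h21 : φ₂ (C (T 1)) = C (T 1))
    (h22 : φ₂ (T 1) = C (C e)) (h2P : φ₂ P = C (T 1))
    (h30 : ∀ c : k, φ₃ (C (C c)) = C (C c)) (h31 : φ₃ (C (T 1)) = C (C e))
    (h32 : φ₃ (T 1) = T 1) (h3P : φ₃ P = T 1) :
    P = C (C e⁻¹ * T 1) * T 1 := by
  obtain ⟨w, b, hPw⟩ := exists_eq_C_mul_T_of_isUnit hP
  obtain ⟨c, a, hw⟩ := exists_eq_C_mul_T_of_isUnit w.isUnit
  have hc : (c : k) ≠ 0 := c.ne_zero
  -- the multiplicative families
  let wE : Multiplicative ℤ →* (k[T;T⁻¹])[T;T⁻¹] :=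
    { toFun := fun m => C (C (e ^ (Multiplicative.toAdd m)))
      map_one' := by simp
      map_mul' := fun x y => by
        simp only [toAdd_mul]
        rw [zpow_add₀ he, map_mul, map_mul] }
  let wY : Multiplicative ℤ →* (k[T;T⁻¹])[T;T⁻¹] :=
    { toFun := fun m => C (T (Multiplicative.toAdd m))
      map_one' := by simp [T_zero]
      map_mul' := fun x y => by
        simp only [toAdd_mul]
        rw [T_add, map_mul] }
  let wX : Multiplicative ℤ →* (k[T;T⁻¹])[T;T⁻¹] :=
    { toFun := fun m => T (Multiplicative.toAdd m)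
      map_one' := by simp [T_zero]
      map_mul' := fun x y => by
        simp only [toAdd_mul]
        rw [T_add] }
  -- values of `φ₂`
  have e2T : ∀ n : ℤ, φ₂ (T n) = C (C (e ^ n)) := fun n =>
    map_T_eq φ₂ wE (by simpa [wE] using h22) n
  have e2CT : ∀ n : ℤ, φ₂ (C (T n)) = C (T n) := fun n =>
    map_T_eq (φ₂.comp C) wY (by simpa [wY] using h21) n
  have e3T : ∀ n : ℤ, φ₃ (T n) = T n := fun n =>
    map_T_eq φ₃ wX (by simpa [wX] using h32) n
  have e3CT : ∀ n : ℤ, φ₃ (C (T n)) = C (C (e ^ n)) := fun n =>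
    map_T_eq (φ₃.comp C) wE (by simpa [wE] using h31) n
  have hP' : P = C (C (c : k)) * C (T a) * T b := by
    rw [hPw, hw, map_mul]
  -- second identity
  have k2 : C ((c : k) * e ^ b) * T a = (T 1 : k[T;T⁻¹]) := by
    have : φ₂ P = C (C ((c : k) * e ^ b) * T a) := by
      rw [hP', map_mul, map_mul, h20, e2CT, e2T, map_mul, map_mul, map_mul]
      ring
    rw [h2P] at this
    exact (C_injective' this).symm
  have hce : (c : k) * e ^ b ≠ 0 := mul_ne_zero hc (zpow_ne_zero _ he)
  obtain ⟨ha, hcb⟩ := eq_of_C_mul_T_eq_T_one _ hce a k2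
  -- third identity
  have k3 : C (C ((c : k) * e ^ a)) * T b = (T 1 : (k[T;T⁻¹])[T;T⁻¹]) := by
    have : φ₃ P = C (C ((c : k) * e ^ a)) * T b := by
      rw [hP', map_mul, map_mul, h30, e3CT, e3T, map_mul, map_mul]
    rw [← this, h3P]
  have hce' : (C ((c : k) * e ^ a) : k[T;T⁻¹]) ≠ 0 := by
    intro h0
    have := C_injective' (h0.trans (map_zero C).symm)
    exact mul_ne_zero hc (zpow_ne_zero _ he) this
  obtain ⟨hb, hca⟩ := eq_of_C_mul_T_eq_T_one _ hce' b k3
  subst ha hb
  have hc1 : (c : k) * e = 1 := by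
    have := C_injective' (hca.trans (map_one C).symm)
    simpa using this
  have hc2 : (c : k) = e⁻¹ := eq_inv_of_mul_eq_one_left hc1
  rw [hP', hc2, map_mul]

end

end Groth.Agent.Helper5.PLine
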