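import Mathlib
import Groth.Agent.Helper5.PLine1
import Groth.Agent.Helper5.AffLine2
import Groth.Prelude

set_option autoImplicit false
set_option linter.unusedSectionVars false
set_option linter.style.haveILetI false
universe u

open AlgebraicGeometry CategoryTheory CategoryTheory.Limits
open MonoidalCategory CartesianMonoidalCategory MonObj GrpObj
open LaurentPolynomial

namespace Groth.Agent.Helper5.PLine

open Groth.Agent.Helper5.AffLine (B₀ κ specK toSpecK toSpecK_appTop)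

section
variable (k : Type u) [Field k]

/-- a natural unit coordinate on an object of `Over (Spec k)`: it represents `Y ↦ Γ(Y, 𝒪_Y)ˣ` -/
structure CoordU (G : Over (B₀ k)) where
  c : ∀ Y : Over (B₀ k), (Y ⟶ G) ≃ Γ(Y.left, ⊤)ˣ
  nat : ∀ {Y Y' : Over (B₀ k)} (p : Y' ⟶ Y) (z : Y ⟶ G),
    c Y' (p ≫ z) = Units.map (p.left.appTop.hom : Γ(Y.left, ⊤) →* Γ(Y'.left, ⊤)) (c Y z)

/-- the two-variable Laurent polynomial ring -/
abbrev L₂ : Type u := (k[T;T⁻¹])[T;T⁻¹]

/-- the test object `Spec k[y,y⁻¹][x,x⁻¹]` -/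
noncomputable abbrev XL : Over (B₀ k) := specK k (L₂ k)

theorem algebraMap_L₂ (c : k) : algebraMap k (L₂ k) c = C (C c) := rfl

variable {k}

/-- the `k`-algebra hom out of `L₂` with `y ↦ a`, `x ↦ b` -/
noncomputable def evU₂ {B : Type u} [CommRing B] (κ' : k →+* B) (a b : Bˣ) : L₂ k →+* B :=
  eval₂ (eval₂ κ' a) b

theorem evU₂_CC {B : Type u} [CommRing B] (κ' : k →+* B) (a b : Bˣ) (c : k) :
    evU₂ κ' a b (C (C c)) = κ' c := by
  unfold evU₂
  rw [eval₂_C, eval₂_C]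

theorem evU₂_CT {B : Type u} [CommRing B] (κ' : k →+* B) (a b : Bˣ) :
    evU₂ κ' a b (C (T 1)) = a := by
  unfold evU₂
  rw [eval₂_C, eval₂_T, zpow_one]

theorem evU₂_T {B : Type u} [CommRing B] (κ' : k →+* B) (a b : Bˣ) :
    evU₂ κ' a b (T 1) = b := by
  unfold evU₂
  rw [eval₂_T, zpow_one]

theorem evU₂_comp_algebraMap {B : Type u} [CommRing B] (κ' : k →+* B) (a b : Bˣ) :
    (evU₂ κ' a b).comp (algebraMap k (L₂ k)) = κ' := by
  ext c
  show evU₂ κ' a b (C (C c)) = κ' c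
  exact evU₂_CC κ' a b c

/-- the unit `y` -/
noncomputable def yU : (L₂ k)ˣ :=
  Units.map ((C : k[T;T⁻¹] →+* L₂ k) : k[T;T⁻¹] →* L₂ k) (isUnit_T 1).unit
/-- the unit `x` -/
noncomputable def xU : (L₂ k)ˣ := (isUnit_T 1).unit

theorem yU_val : ((yU : (L₂ k)ˣ) : L₂ k) = C (T 1) := rfl
theorem xU_val : ((xU : (L₂ k)ˣ) : L₂ k) = T 1 := rfl

/-- the endomorphism `evU₂ (C ∘ C) a b` of `L₂` -/
noncomputable abbrev evU (a b : (L₂ k)ˣ) : L₂ k →+* L₂ k :=
  evU₂ ((C : k[T;T⁻¹] →+* L₂ k).comp C) a b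

theorem map_evU_yU (a b : (L₂ k)ˣ) : Units.map (evU a b : L₂ k →* L₂ k) yU = a :=
  Units.ext (evU₂_CT _ a b)

theorem map_evU_xU (a b : (L₂ k)ˣ) : Units.map (evU a b : L₂ k →* L₂ k) xU = b :=
  Units.ext (evU₂_T _ a b)

variable {G : Over (B₀ k)} (cd : CoordU k G)

/-- global sections of the test object -/
noncomputable def gIso : Γ((XL k).left, ⊤) ≃+* L₂ k :=
  (Scheme.ΓSpecIso (CommRingCat.of (L₂ k))).commRingCatIsoToRingEquiv

theorem gIso_apply (s : Γ((XL k).left, ⊤)) :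
    gIso s = (Scheme.ΓSpecIso (CommRingCat.of (L₂ k))).hom s := rfl

theorem gIso_symm_apply (a : L₂ k) :
    (gIso (k := k)).symm a = (Scheme.ΓSpecIso (CommRingCat.of (L₂ k))).inv a := rfl

/-- the `L₂`-point of `G` with coordinate `a` -/
noncomputable def ptT (a : (L₂ k)ˣ) : XL k ⟶ G :=
  (cd.c (XL k)).symm (Units.mapEquiv (gIso (k := k)).symm.toMulEquiv a)

/-- the coordinate of an `L₂`-point -/
noncomputable def coordT (z : XL k ⟶ G) : (L₂ k)ˣ :=
  Units.mapEquiv (gIso (k := k)).toMulEquiv (cd.c (XL k) z)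

theorem coordT_ptT (a : (L₂ k)ˣ) : coordT cd (ptT cd a) = a := by
  unfold coordT ptT
  rw [Equiv.apply_symm_apply]
  apply Units.ext
  exact (gIso (k := k)).apply_symm_apply _

theorem ptT_coordT (z : XL k ⟶ G) : ptT cd (coordT cd z) = z := by
  unfold coordT ptT
  have : Units.mapEquiv (gIso (k := k)).symm.toMulEquiv
      (Units.mapEquiv (gIso (k := k)).toMulEquiv (cd.c (XL k) z)) = cd.c (XL k) z := by
    apply Units.ext
    exact (gIso (k := k)).symm_apply_apply _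
  rw [this, Equiv.symm_apply_apply]

theorem coordT_injective : Function.Injective (coordT cd) := by
  intro z z' h
  rw [← ptT_coordT cd z, ← ptT_coordT cd z', h]

/-- the endomorphism of the test object given by `y ↦ a`, `x ↦ b` -/
noncomputable def Ev (a b : (L₂ k)ˣ) : XL k ⟶ XL k :=
  Over.homMk (Spec.map (CommRingCat.ofHom (evU a b))) (by
    show Spec.map (CommRingCat.ofHom (evU a b)) ≫
      Spec.map (CommRingCat.ofHom (algebraMap k (L₂ k))) = _
    rw [← Spec.map_comp, ← CommRingCat.ofHom_comp, evU₂_comp_algebraMap]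
    rfl)

theorem coordT_Ev_comp (a b : (L₂ k)ˣ) (z : XL k ⟶ G) :
    coordT cd (Ev a b ≫ z) = Units.map (evU a b : L₂ k →* L₂ k) (coordT cd z) := by
  unfold coordT
  rw [cd.nat]
  apply Units.ext
  have h1 := Scheme.ΓSpecIso_naturality (CommRingCat.ofHom (evU a b))
  have := congrArg (fun φ => φ.hom ((cd.c (XL k) z : Γ((XL k).left, ⊤)ˣ) : Γ((XL k).left, ⊤))) h1
  exact this

theorem Ev_comp_ptT (a b t : (L₂ k)ˣ) :
    Ev a b ≫ ptT cd t = ptT cd (Units.map (evU a b : L₂ k →* L₂ k) t) := by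
  apply coordT_injective cd
  rw [coordT_Ev_comp, coordT_ptT, coordT_ptT]

end

end Groth.Agent.Helper5.PLine
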