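import Mathlib
import Groth.Agent.Helper5.PLine2
import Groth.Prelude

set_option autoImplicit false
set_option linter.unusedSectionVars false
set_option linter.style.haveILetI false
universe u

open AlgebraicGeometry CategoryTheory CategoryTheory.Limits
open MonoidalCategory CartesianMonoidalCategory MonObj GrpObj
open LaurentPolynomial

namespace Groth.Agent.Helper5.PLine

open Groth.Agent.Helper5.AffLine (B₀ κ specK toSpecK toSpecK_appTop)

section
variable {k : Type u} [Field k] {G : Over (B₀ k)} (cd : CoordU k G)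

/-- coordinate of the unit section -/
noncomputable def unitCoord (η₀ : 𝟙_ (Over (B₀ k)) ⟶ G) : kˣ :=
  Units.mapEquiv (Scheme.ΓSpecIso (CommRingCat.of k)).commRingCatIsoToRingEquiv.toMulEquiv
    (cd.c (𝟙_ (Over (B₀ k))) η₀)

/-- the constant unit -/
noncomputable def constU (e : kˣ) : (L₂ k)ˣ :=
  Units.map ((algebraMap k (L₂ k) : k →+* L₂ k) : k →* L₂ k) e

theorem constU_val (e : kˣ) : ((constU e : (L₂ k)ˣ) : L₂ k) = C (C (e : k)) := rfl

/-- the standard product `e⁻¹ y x` -/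
noncomputable def stdP (e : kˣ) : (L₂ k)ˣ := constU e⁻¹ * yU * xU

theorem stdP_val (e : kˣ) :
    ((stdP e : (L₂ k)ˣ) : L₂ k) = C (C ((e : k)⁻¹) * T 1) * T 1 := by
  unfold stdP
  rw [Units.val_mul, Units.val_mul, constU_val, yU_val, xU_val, Units.val_inv_eq_inv_val,
    map_mul]

/-- the morphism `G ⊗ G → Spec L₂` given by the two coordinates -/
noncomputable def rr : G ⊗ G ⟶ XL k :=
  toSpecK k (evU₂ (κ k (G ⊗ G)) (cd.c _ (fst G G)) (cd.c _ (snd G G)))
    (evU₂_comp_algebraMap _ _ _)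

theorem c_rr_ptT (v : (L₂ k)ˣ) : ((cd.c _ (rr cd ≫ ptT cd v) : Γ((G ⊗ G).left, ⊤)ˣ) :
    Γ((G ⊗ G).left, ⊤)) =
    evU₂ (κ k (G ⊗ G)) (cd.c _ (fst G G)) (cd.c _ (snd G G)) (v : L₂ k) := by
  rw [cd.nat]
  unfold ptT
  rw [Equiv.apply_symm_apply]
  exact toSpecK_appTop k _ (evU₂_comp_algebraMap _ _ _) (v : L₂ k)

theorem rr_ptT_yU : rr cd ≫ ptT cd yU = fst G G := by
  apply (cd.c _).injective
  apply Units.ext
  rw [c_rr_ptT, yU_val, evU₂_CT]

theorem rr_ptT_xU : rr cd ≫ ptT cd xU = snd G G := by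
  apply (cd.c _).injective
  apply Units.ext
  rw [c_rr_ptT, xU_val, evU₂_T]

/-- the standard multiplication determined by the unit -/
noncomputable def stdMul (η₀ : 𝟙_ (Over (B₀ k)) ⟶ G) : G ⊗ G ⟶ G :=
  rr cd ≫ ptT cd (stdP (unitCoord cd η₀))

variable [GrpObj G]

/-- the universal product -/
noncomputable def univP : (L₂ k)ˣ := coordT cd (ptT cd yU * ptT cd xU)

theorem ptT_mul (a b : (L₂ k)ˣ) :
    ptT cd a * ptT cd b = ptT cd (Units.map (evU a b : L₂ k →* L₂ k) (univP cd)) := by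
  have h : ptT cd a * ptT cd b = Ev a b ≫ (ptT cd yU * ptT cd xU) := by
    rw [MonObj.comp_mul, Ev_comp_ptT, Ev_comp_ptT, map_evU_yU, map_evU_xU]
  rw [h]
  apply coordT_injective cd
  rw [coordT_Ev_comp, coordT_ptT]
  rfl

theorem coordT_one : coordT cd (1 : XL k ⟶ G) = constU (unitCoord cd η[G]) := by
  rw [CategoryTheory.Hom.one_def]
  unfold coordT
  rw [cd.nat]
  apply Units.ext
  have h1 := Scheme.ΓSpecIso_naturality (CommRingCat.ofHom (algebraMap k (L₂ k)))
  have := congrArg (fun φ => φ.hom ((cd.c (𝟙_ (Over (B₀ k))) η[G] :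
    Γ((𝟙_ (Over (B₀ k))).left, ⊤)ˣ) : Γ((𝟙_ (Over (B₀ k))).left, ⊤))) h1
  exact this

theorem univP_val : ((univP cd : (L₂ k)ˣ) : L₂ k) =
    C (C ((unitCoord cd η[G] : k)⁻¹) * T 1) * T 1 := by
  set e := unitCoord cd η[G]
  have hone : (1 : XL k ⟶ G) = ptT cd (constU e) := by
    apply coordT_injective cd
    rw [coordT_one, coordT_ptT]
  refine laurent_key _ (univP cd).isUnit (e : k) e.ne_zero (evU yU (constU e))
    (evU (constU e) xU) ?_ ?_ ?_ ?_ ?_ ?_ ?_ ?_
  · intro c; exact evU₂_CC _ _ _ c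
  · exact evU₂_CT _ _ _
  · exact evU₂_T _ _ _
  · have h : ptT cd yU * 1 = ptT cd yU := mul_one _
    rw [hone, ptT_mul] at h
    have := congrArg (coordT cd) h
    rw [coordT_ptT, coordT_ptT] at this
    exact congrArg Units.val this
  · intro c; exact evU₂_CC _ _ _ c
  · exact evU₂_CT _ _ _
  · exact evU₂_T _ _ _
  · have h : 1 * ptT cd xU = ptT cd xU := one_mul _
    rw [hone, ptT_mul] at h
    have := congrArg (coordT cd) h
    rw [coordT_ptT, coordT_ptT] at this
    exact congrArg Units.val this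

theorem mul_eq_stdMul : μ[G] = stdMul cd η[G] := by
  have h1 : μ[G] = fst G G * snd G G := by
    rw [CategoryTheory.Hom.mul_def, lift_fst_snd, Category.id_comp]
  have h2 : ptT cd yU * ptT cd xU = ptT cd (univP cd) := (ptT_coordT cd _).symm
  have h3 : univP cd = stdP (unitCoord cd η[G]) :=
    Units.ext ((univP_val cd).trans (stdP_val _).symm)
  rw [h1, ← rr_ptT_yU cd, ← rr_ptT_xU cd, ← MonObj.comp_mul, h2, h3]
  rfl

end

/-- two group structures on a "punctured line" with the same unit have the same multiplication -/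
theorem mul_eq_of_one_eq {k : Type u} [Field k] {G : Over (B₀ k)} (cd : CoordU k G)
    (h₁ h₂ : GrpObj G) (e : h₁.one = h₂.one) : h₁.mul = h₂.mul := by
  have e1 := @mul_eq_stdMul k _ G cd h₁
  have e2 := @mul_eq_stdMul k _ G cd h₂
  rw [e1, e2, e]

end Groth.Agent.Helper5.PLine
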