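import Mathlib
import Groth.Agent.Helper5.PLine3
import Groth.Agent.Helper5.GmPts1
import Groth.Prelude

set_option autoImplicit false
set_option linter.unusedSectionVars false
set_option linter.style.haveILetI false
universe u

open AlgebraicGeometry CategoryTheory CategoryTheory.Limits
open MonoidalCategory CartesianMonoidalCategory MonObj GrpObj

namespace Groth.Agent.Helper5.PLine

/-- the unit coordinate on `𝔾_m` -/
noncomputable def gmCoordStr (k : Type u) [Field k] :
    CoordU k (Red.Gm (Spec (CommRingCat.of k))) where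
  c Y := ⟨GmPts.gmFnU, GmPts.ptU, GmPts.ptU_gmFnU, GmPts.gmFnU_ptU⟩
  nat p z := GmPts.gmFnU_comp p z

theorem s15603 (k : Type u) [Field k]
    (h₁ h₂ : GrpObj (Red.Gm (Spec (CommRingCat.of k)))) (e : h₁.one = h₂.one) :
    h₁.mul = h₂.mul :=
  mul_eq_of_one_eq (gmCoordStr k) h₁ h₂ e

end Groth.Agent.Helper5.PLine
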