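import Groth.Agent.Helper5.HasseChain

set_option autoImplicit false

namespace Groth.Agent.Helper5.PSInv
open PowerSeries

variable {K : Type*} [Field K]

/-- solving a lower triangular system by recursion -/
noncomputable def solve (c : ℕ → ℕ → K) (g : ℕ → K) : ℕ → K
  | m => (c m m)⁻¹ * (g m - ∑ j : Fin m, solve c g j * c m j)
decreasing_by exact j.2

theorem solve_spec (c : ℕ → ℕ → K) (g : ℕ → K) (hc : ∀ m, c m m ≠ 0) (m : ℕ) :
    ∑ j ∈ Finset.range (m + 1), solve c g j * c m j = g m := by
  rw [Finset.sum_range_succ, ← Fin.sum_univ_eq_sum_range (fun j => solve c g j * c m j) m]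
  have h : solve c g m = (c m m)⁻¹ * (g m - ∑ j : Fin m, solve c g j * c m j) := by rw [solve]
  rw [h]
  have := hc m
  field_simp
  ring

theorem coeff_subst_eq_sum {θ : PowerSeries K} (hθ : constantCoeff θ = 0) (f : PowerSeries K)
    (m : ℕ) :
    coeff m (subst θ f) = ∑ d ∈ Finset.range (m + 1), coeff d f * coeff m (θ ^ d) := by
  have hs : HasSubst θ := HasSubst.of_constantCoeff_zero' hθ
  rw [coeff_subst' hs, finsum_eq_sum_of_support_subset]
  · rfl
  · intro d hd
    simp only [Function.mem_support, ne_eq] at hd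
    simp only [Finset.coe_range, Set.mem_Iio]
    by_contra hlt
    apply hd
    rw [Hs.coeff_pow_of_constantCoeff_zero hθ, if_pos (by omega), smul_zero]

theorem subst_surjective {u : PowerSeries K} (h0 : constantCoeff u = 0) (h1 : coeff 1 u ≠ 0)
    (g : PowerSeries K) : ∃ f : PowerSeries K, subst u f = g := by
  refine ⟨PowerSeries.mk (solve (fun m j => coeff m (u ^ j)) (fun m => coeff m g)), ?_⟩
  ext m
  rw [coeff_subst_eq_sum h0]
  simp only [coeff_mk]
  refine solve_spec _ _ (fun m => ?_) m
  rw [Hs.coeff_pow_of_constantCoeff_zero h0, if_neg (lt_irrefl _), if_pos rfl]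
  exact pow_ne_zero _ h1

theorem coeff_one_subst {θ : PowerSeries K} (hθ : constantCoeff θ = 0) (f : PowerSeries K) :
    coeff 1 (subst θ f) = coeff 1 f * coeff 1 θ := by
  rw [coeff_subst_eq_sum hθ, Finset.sum_range_succ, Finset.sum_range_one, pow_zero, pow_one]
  simp

theorem subst_X_left (f : PowerSeries K) : subst (X : PowerSeries K) f = f := by
  have := map_algebraMap_eq_subst_X (R := K) (S := K) f
  rw [← this, Algebra.algebraMap_self, PowerSeries.map_id]
  rfl

/-- the compositional inverse -/
theorem exists_comp_inverse {u : PowerSeries K} (h0 : constantCoeff u = 0) (h1 : coeff 1 u ≠ 0) :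
    ∃ w : PowerSeries K, constantCoeff w = 0 ∧ subst w u = X ∧ subst u w = X := by
  obtain ⟨w, hw⟩ := subst_surjective h0 h1 X
  have hw0 : constantCoeff w = 0 := by
    have := Hs.constantCoeff_subst_of_constantCoeff_zero h0 w
    rw [hw, constantCoeff_X] at this
    exact this.symm
  have hw1 : coeff 1 w ≠ 0 := by
    have := coeff_one_subst h0 w
    rw [hw, coeff_one_X] at this
    intro h
    rw [h, zero_mul] at this
    exact one_ne_zero this
  obtain ⟨v, hv⟩ := subst_surjective hw0 hw1 X
  have hsu : HasSubst u := HasSubst.of_constantCoeff_zero' h0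
  have hsw : HasSubst w := HasSubst.of_constantCoeff_zero' hw0
  have hvu : v = u := by
    have h := subst_comp_subst_apply (R := K) hsw hsu v
    rw [hv, subst_X hsu, hw, subst_X_left] at h
    exact h.symm
  refine ⟨w, hw0, ?_, hw⟩
  rw [← hvu]
  exact hv

end Groth.Agent.Helper5.PSInv
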