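import Groth.Agent.Helper5.FinLenInd

set_option autoImplicit false
universe v u v' u'
open CategoryTheory CategoryTheory.Limits ZeroObject

namespace Groth.Agent.Helper5.PervCounit

variable {A : Type u} [Category.{v} A] [Abelian A] {B : Type u'} [Category.{v'} B] [Abelian B]
  (u : A ⥤ B) [u.Full] [u.Faithful] [PreservesFiniteLimits u] [PreservesFiniteColimits u]

/-- the property: subobjects of `u X` receiving no nonzero map from the image of `u` vanish -/
def P (X : A) : Prop :=
  ∀ (K : B) (i : K ⟶ u.obj X), Mono i → (∀ (X' : A) (g : u.obj X' ⟶ K), g = 0) → IsZero K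

omit [Abelian A] [u.Full] [u.Faithful] [PreservesFiniteLimits u] [PreservesFiniteColimits u] in
lemma P_iso {X Y : A} (e : X ≅ Y) (h : P u X) : P u Y := by
  intro K i hi hK
  exact h K (i ≫ u.map e.inv) (mono_comp _ _) hK

omit [u.Full] [u.Faithful] [PreservesFiniteLimits u] in
lemma P_zero {X : A} (hX : IsZero X) : P u X := by
  intro K i hi hK
  have : IsZero (u.obj X) := u.map_isZero hX
  rw [IsZero.iff_id_eq_zero, ← cancel_mono i]
  exact this.eq_of_tgt _ _

omit [Abelian A] [u.Full] [u.Faithful] [PreservesFiniteLimits u] [PreservesFiniteColimits u] in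
lemma P_simple {X : A} (hX : Simple (u.obj X)) : P u X := by
  intro K i hi hK
  by_cases h0 : i = 0
  · rw [IsZero.iff_id_eq_zero, ← cancel_mono i, h0, comp_zero, comp_zero]
  · have : IsIso i := isIso_of_mono_of_nonzero h0
    exfalso
    have h1 : inv i = 0 := hK X (inv i)
    have : 𝟙 (u.obj X) = 0 := by rw [← IsIso.inv_hom_id i, h1, zero_comp]
    exact Simple.not_isZero (u.obj X) ((IsZero.iff_id_eq_zero _).2 this)

omit [u.Full] [u.Faithful] in
lemma P_ext (S : ShortComplex A) (hS : S.ShortExact) (h1 : P u S.X₁) (h3 : P u S.X₃) : P u S.X₂ := by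
  intro K i hi hK
  have hS' : (S.map u).ShortExact := hS.map_of_exact u
  -- the kernel of `K → u X₂ → u X₃`
  let k₁ := kernel.ι (i ≫ u.map S.g)
  have hk₁ : (k₁ ≫ i) ≫ (S.map u).g = 0 := by
    show (kernel.ι (i ≫ u.map S.g) ≫ i) ≫ u.map S.g = 0
    rw [Category.assoc, kernel.condition]
  let j₁ : kernel (i ≫ u.map S.g) ⟶ u.obj S.X₁ := hS'.fIsKernel.lift (KernelFork.ofι (k₁ ≫ i) hk₁)
  have hj₁ : j₁ ≫ u.map S.f = k₁ ≫ i := hS'.fIsKernel.fac (KernelFork.ofι (k₁ ≫ i) hk₁) WalkingParallelPair.zero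
  have : Mono j₁ := by
    have : Mono (j₁ ≫ u.map S.f) := by rw [hj₁]; exact mono_comp _ _
    exact mono_of_mono j₁ (u.map S.f)
  have hz : IsZero (kernel (i ≫ u.map S.g)) := h1 _ j₁ inferInstance (fun X' g => by
    have := hK X' (g ≫ k₁)
    rwa [← cancel_mono k₁, zero_comp])
  have : Mono (i ≫ u.map S.g) := Preadditive.mono_of_isZero_kernel _ hz
  exact h3 K (i ≫ u.map S.g) this hK

theorem s11523 [u.IsRightAdjoint]
    (uStar : B ⥤ A) (adj : u ⊣ uStar)
    (hlen : ∀ X : A, IsArtinianObject X ∧ IsNoetherianObject X)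
    (hsimple : ∀ X : A, Simple X → Simple (u.obj X)) (Y : B) :
    Mono (adj.counit.app Y) := by
  have hP : ∀ X : A, P u X := fun X => by
    have := (hlen X).2
    exact FinLenInd.finiteLength_induction (P u) (fun _ _ e h => P_iso u e h)
      (fun _ h => P_zero u h) (fun X hX => P_simple u (hsimple X hX))
      (fun S hS h1 h3 => P_ext u S hS h1 h3) (fun Z => (hlen Z).1) X
  apply Preadditive.mono_of_isZero_kernel
  apply hP (uStar.obj Y) _ (kernel.ι (adj.counit.app Y)) inferInstance
  intro X' g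
  rw [← cancel_mono (kernel.ι (adj.counit.app Y)), zero_comp]
  obtain ⟨h, hh⟩ := u.map_surjective (g ≫ kernel.ι (adj.counit.app Y))
  have h0 : u.map h ≫ adj.counit.app Y = 0 := by
    rw [hh, Category.assoc, kernel.condition, comp_zero]
  have : h = 0 := by
    apply (adj.homEquiv X' Y).symm.injective
    rw [Adjunction.homEquiv_counit, h0, Adjunction.homEquiv_counit, Functor.map_zero, zero_comp]
  rw [← hh, this, u.map_zero]

end Groth.Agent.Helper5.PervCounit
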