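import Groth.Agent.Helper4.AlgSpLocPBC
import Groth.Agent.Helper4.SDClasses
import Groth.Prelude.Def_W4stk3sptopologiesPh
import Mathlib

set_option autoImplicit false
universe u
open CategoryTheory CategoryTheory.Limits AlgebraicGeometry Opposite

namespace Groth.Agent.Helper5.PhBC

open AlgSp Groth.Agent.Helper4.SDClasses

variable {S : Scheme.{u}}

set_option backward.isDefEq.respectTransparency.types false in
/-- base change of a ph covering -/
theorem isPhCover_of_isPullback {X X' : Sp S} (hX : IsAlgSpace X) (a : X' ⟶ X) {ι : Type u}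
    (Xi : ι → Sp S) (hXi : ∀ i, IsAlgSpace (Xi i)) (g : ∀ i, Xi i ⟶ X) (Xi' : ι → Sp S)
    (q : ∀ i, Xi' i ⟶ X') (p : ∀ i, Xi' i ⟶ Xi i) (sq : ∀ i, IsPullback (q i) (p i) a (g i))
    (h : IsPhCover Xi g) : IsPhCover Xi' q := by
  refine ⟨fun i => ?_, ?_⟩
  · have hG : Good (@LocallyOfFiniteType : MorphismProperty Scheme.{u}) := good_lft
    have := hG.bc
    have := hG.comp
    exact Groth.Agent.Helper4.AlgSpLocPBC.locP_of_isPullback @LocallyOfFiniteType hG.etale_le hG.sd (hXi i) hX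
      (g i) a (p i) (q i) (sq i).flip (h.1 i)
  · intro Z hZ k
    obtain ⟨F, hF, hl⟩ := h.2 Z hZ (k ≫ a)
    refine ⟨F, hF, fun j => ?_⟩
    obtain ⟨i, l, hl⟩ := hl j
    have hcomm : ((yon S).map (Over.homMk (F.f j) rfl : Over.mk (F.f j ≫ Z.hom) ⟶ Z) ≫ k) ≫ a = l ≫ g i := by
      rw [Category.assoc, hl]
    exact ⟨i, (sq i).lift _ _ hcomm, (sq i).lift_fst _ _ hcomm⟩

end Groth.Agent.Helper5.PhBC
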