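import Mathlib
import Groth.Agent.Helper5.SpecFib3
import Groth.Agent.Helper5.EtFib

set_option autoImplicit false
set_option linter.style.haveILetI false
universe u
open CategoryTheory CategoryTheory.Limits AlgebraicGeometry TopologicalSpace Topology TensorProduct

namespace Groth.Agent.Helper5.PiDecomp

open Groth.Agent.Helper5.SpecFib

set_option maxHeartbeats 1000000 in
theorem s9165 (R S : Type u) [CommRing R]
    [CommRing S] [Algebra R S] [Module.Flat R S] [Algebra.FinitePresentation R S]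
    (hCM : ∀ p : PrimeSpectrum R, LocCoh.IsCohenMacaulayRing (p.asIdeal.Fiber S)) :
    ∃ (N : ℕ) (T : Fin (N + 1) → Type u) (_ : ∀ d, CommRing (T d)) (_ : ∀ d, Algebra R (T d)),
      Nonempty (S ≃ₐ[R] ((d : Fin (N + 1)) → T d)) ∧
        ∀ d : Fin (N + 1), Module.Flat R (T d) ∧ Algebra.FinitePresentation R (T d) ∧
          (∀ p : PrimeSpectrum R, LocCoh.IsCohenMacaulayRing (p.asIdeal.Fiber (T d))) ∧
          ∀ (p : PrimeSpectrum R), ∀ P ∈ minimalPrimes (p.asIdeal.Fiber (T d)),
            ringKrullDim (p.asIdeal.Fiber (T d) ⧸ P) = ((d : ℕ) : WithBot ℕ∞) := by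
  let f : Spec (CommRingCat.of S) ⟶ Spec (CommRingCat.of R) :=
    Spec.map (CommRingCat.ofHom (algebraMap R S))
  haveI : LocallyOfFinitePresentation f := by
    rw [HasRingHomProperty.Spec_iff (P := @LocallyOfFinitePresentation)]
    exact RingHom.finitePresentation_algebraMap.2 inferInstance
  haveI : LocallyOfFiniteType f := inferInstance
  haveI : Flat f := by
    rw [HasRingHomProperty.Spec_iff (P := @Flat)]
    exact RingHom.flat_algebraMap_iff.2 inferInstance
  have hcm : ∀ x, MoreMor.IsCMAt f x := fun x =>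
    isCMAt_of_fibre_cm R S x (Flat.stalkMap f x) hCM
  obtain ⟨N, φ, hφlc, hφN, hφ⟩ := exists_fibreDim_fun f hcm
  obtain ⟨e, he, hmem⟩ := exists_idempotents N φ hφlc hφN
  refine ⟨N, fun d => S ⧸ Ideal.span {1 - e d}, fun d => inferInstance, fun d => inferInstance,
    ⟨algEquiv R e he⟩, ?_⟩
  intro d
  haveI hloc : IsLocalization.Away (e d) (S ⧸ Ideal.span {1 - e d}) :=
    IsLocalization.Away.quotient_of_isIdempotentElem (he.idem d)
  haveI hflS : Module.Flat S (S ⧸ Ideal.span {1 - e d}) :=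
    IsLocalization.flat _ (Submonoid.powers (e d))
  haveI hfl : Module.Flat R (S ⧸ Ideal.span {1 - e d}) := Module.Flat.trans R S _
  haveI hfp : Algebra.FinitePresentation R (S ⧸ Ideal.span {1 - e d}) :=
    Algebra.FinitePresentation.quotient (Submodule.fg_span_singleton _)
  let j : Spec (CommRingCat.of (S ⧸ Ideal.span {1 - e d})) ⟶ Spec (CommRingCat.of S) :=
    Spec.map (CommRingCat.ofHom (algebraMap S (S ⧸ Ideal.span {1 - e d})))
  haveI : IsOpenImmersion j := IsOpenImmersion.of_isLocalization (e d)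
  have hcomp : Spec.map (CommRingCat.ofHom (algebraMap R (S ⧸ Ideal.span {1 - e d}))) = j ≫ f := by
    rw [← Spec.map_comp, ← CommRingCat.ofHom_comp]
  have hcm_d : ∀ y, MoreMor.IsCMAt
      (Spec.map (CommRingCat.ofHom (algebraMap R (S ⧸ Ideal.span {1 - e d})))) y := by
    intro y
    rw [hcomp]
    exact (isCMAt_openImmersion_comp j f y).2 (hcm (j y))
  have hfd : ∀ y, FlatMor.fibreDimAt
      (Spec.map (CommRingCat.ofHom (algebraMap R (S ⧸ Ideal.span {1 - e d})))) y =
        ((d : ℕ) : WithBot ℕ∞) := by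
    intro y
    rw [hcomp, Groth.Agent.Helper5.EtFib.fibreDimAt_etale_comp j f y, hφ (j y)]
    have hed : e d ∉ (j y : PrimeSpectrum S).asIdeal := by
      intro h
      have h1 : algebraMap S (S ⧸ Ideal.span {1 - e d}) (e d) ∈ (y : PrimeSpectrum _).asIdeal := h
      have h2 : algebraMap S (S ⧸ Ideal.span {1 - e d}) (e d) = 1 := by
        have : algebraMap S (S ⧸ Ideal.span {1 - e d}) (1 - e d) = 0 :=
          Ideal.Quotient.eq_zero_iff_mem.2 (Ideal.subset_span rfl)
        rw [map_sub, map_one, sub_eq_zero] at this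
        exact this.symm
      rw [h2] at h1
      exact (y : PrimeSpectrum _).2.ne_top ((Ideal.eq_top_iff_one _).2 h1)
    rw [(hmem d (j y)).1 hed]
  refine ⟨hfl, hfp, ?_, ?_⟩
  · intro p
    haveI : Algebra.FiniteType p.asIdeal.ResidueField
        (p.asIdeal.Fiber (S ⧸ Ideal.span {1 - e d})) := inferInstance
    haveI : IsNoetherianRing (p.asIdeal.Fiber (S ⧸ Ideal.span {1 - e d})) :=
      Algebra.FiniteType.isNoetherianRing p.asIdeal.ResidueField _
    exact cm_fibre_ring_of_isCMAt R (S ⧸ Ideal.span {1 - e d}) p hcm_d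
  · intro p P hP
    obtain ⟨y, hy⟩ := dim_component_fibre R (S ⧸ Ideal.span {1 - e d}) p P hP
    rw [hy, hfd y]

end Groth.Agent.Helper5.PiDecomp
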