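import Mathlib
import Groth.Agent.Helper5.PnBridge2
import Groth.Prelude.Def_W4c2simpsonmod1HP

/-!
# Projective space itself: the polarisation `O(1)`, and comparison of the two forms of the
reduced comparison of Hilbert polynomials
-/

set_option autoImplicit false

namespace Groth.Agent.Helper5.PnBridge

open CategoryTheory Limits AlgebraicGeometry Opposite TopologicalSpace Polynomial

universe u

section Compare

theorem w4RedLE_iff {d : ℕ} {P Q : ℚ[X]} (hP : 0 < StabCat.alpha d P) (hQ : 0 < StabCat.alpha d Q) :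
    W4c2simpsonmod1.RedLE d P Q ↔ StabCat.RedLE d P Q := by
  have hrP : W4c2simpsonmod1.rankOf d P = StabCat.alpha d P := rfl
  have hrQ : W4c2simpsonmod1.rankOf d Q = StabCat.alpha d Q := rfl
  unfold W4c2simpsonmod1.RedLE StabCat.RedLE StabCat.PolyLE
  rw [hrP, hrQ]
  constructor
  · rintro ⟨N, hN⟩
    refine ⟨N.toNat, fun m hm => ?_⟩
    have h := hN (m : ℤ) (by omega)
    rw [div_le_div_iff₀ hP hQ] at h
    simp only [Polynomial.eval_smul, smul_eq_mul]
    push_cast at h
    linarith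
  · rintro ⟨N, hN⟩
    refine ⟨(N : ℤ), fun m hm => ?_⟩
    have h := hN m.toNat (by omega)
    simp only [Polynomial.eval_smul, smul_eq_mul] at h
    rw [div_le_div_iff₀ hP hQ]
    have hm' : ((m.toNat : ℕ) : ℚ) = (m : ℚ) := by
      have : ((m.toNat : ℕ) : ℤ) = m := Int.toNat_of_nonneg (by omega)
      exact_mod_cast this
    rw [hm'] at h
    linarith

theorem w4RedLT_iff {d : ℕ} {P Q : ℚ[X]} (hP : 0 < StabCat.alpha d P) (hQ : 0 < StabCat.alpha d Q) :
    W4c2simpsonmod1.RedLT d P Q ↔ StabCat.RedLT d P Q := by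
  have hrP : W4c2simpsonmod1.rankOf d P = StabCat.alpha d P := rfl
  have hrQ : W4c2simpsonmod1.rankOf d Q = StabCat.alpha d Q := rfl
  unfold W4c2simpsonmod1.RedLT StabCat.RedLT StabCat.PolyLT
  rw [hrP, hrQ]
  constructor
  · rintro ⟨N, hN⟩
    refine ⟨N.toNat, fun m hm => ?_⟩
    have h := hN (m : ℤ) (by omega)
    rw [div_lt_div_iff₀ hP hQ] at h
    simp only [Polynomial.eval_smul, smul_eq_mul]
    push_cast at h
    linarith
  · rintro ⟨N, hN⟩
    refine ⟨(N : ℤ), fun m hm => ?_⟩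
    have h := hN m.toNat (by omega)
    simp only [Polynomial.eval_smul, smul_eq_mul] at h
    rw [div_lt_div_iff₀ hP hQ]
    have hm' : ((m.toNat : ℕ) : ℚ) = (m : ℚ) := by
      have : ((m.toNat : ℕ) : ℤ) = m := Int.toNat_of_nonneg (by omega)
      exact_mod_cast this
    rw [hm'] at h
    linarith

theorem w4RedLE_refl (d : ℕ) (P : ℚ[X]) : W4c2simpsonmod1.RedLE d P P :=
  ⟨0, fun _ _ => le_refl _⟩

end Compare

section Pn

variable (k : Type u) [Field k] (n : ℕ)

/-- the polarisation `O(1)` of projective space (as the pullback along the identity) -/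
noncomputable abbrev LP : (CohB1.ProjSpace n k).Modules := LL k (𝟙 (CohB1.ProjSpace n k))

instance isProper_Pn : IsProper ((CohB1.ProjSpace n k) ↘ Spec (CommRingCat.of k)) :=
  Groth.Agent.Helper6.HProj.isProper_toSpec n k

theorem isAmple_LP : CohB1.IsAmple (LP k n) := isAmple_LL k (𝟙 (CohB1.ProjSpace n k))

theorem nonempty_twistOn_id_iso (E : (CohB1.ProjSpace n k).Modules) (m : ℤ) :
    Nonempty (Pic13.twistOn k (𝟙 (CohB1.ProjSpace n k)) E m ≅
      CohB1.tensorMod E (Twist.twistProjSpace n k m)) :=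
  ⟨PicGrp.tensorModIso (Iso.refl E)
    ((Scheme.Modules.pullbackId (CohB1.ProjSpace n k)).app (Twist.twistProjSpace n k m))⟩

theorem euler_twistOn_id (E : (CohB1.ProjSpace n k).Modules) (m : ℤ) :
    Curv2.euler k (CohB1.ProjSpace n k) (Pic13.twistOn k (𝟙 (CohB1.ProjSpace n k)) E m) =
      Curv2.euler k (CohB1.ProjSpace n k) (CohB1.tensorMod E (Twist.twistProjSpace n k m)) := by
  obtain ⟨e⟩ := nonempty_twistOn_id_iso k n E m
  exact Groth.Agent.Helper4.SN.chi_iso k e

theorem isHilbPoly_of_forall_int_Pn (E : (CohB1.ProjSpace n k).Modules) (P : ℚ[X])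
    (hP : ∀ m : ℤ, (Curv2.euler k (CohB1.ProjSpace n k)
      (CohB1.tensorMod E (Twist.twistProjSpace n k m)) : ℚ) = P.eval (m : ℚ)) :
    ShStab.IsHilbPoly k (CohB1.ProjSpace n k) (LP k n) E P := by
  apply isHilbPoly_of_forall_int k (𝟙 (CohB1.ProjSpace n k)) E P
  intro m
  rw [euler_twistOn_id]
  exact hP m

theorem forall_int_of_isHilbPoly_Pn (E : (CohB1.ProjSpace n k).Modules) (hE : Coh.IsCoh E)
    (P : ℚ[X]) (h : ShStab.IsHilbPoly k (CohB1.ProjSpace n k) (LP k n) E P) :
    ∀ m : ℤ, (Curv2.euler k (CohB1.ProjSpace n k)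
      (CohB1.tensorMod E (Twist.twistProjSpace n k m)) : ℚ) = P.eval (m : ℚ) := by
  intro m
  rw [← euler_twistOn_id]
  exact forall_int_of_isHilbPoly k (𝟙 (CohB1.ProjSpace n k)) (Category.id_comp _) E hE P h m

end Pn

end Groth.Agent.Helper5.PnBridge
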