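import Mathlib
import Groth.Agent.Helper5.PnBridge3
import Groth.Agent.Helper5.ChainSeries2

/-!
# The Harder–Narasimhan chain of a pure coherent sheaf on projective space
-/

set_option autoImplicit false

namespace Groth.Agent.Helper5.PnBridge

open CategoryTheory Limits AlgebraicGeometry Opposite TopologicalSpace Polynomial
open Groth.Agent.Helper5.ChainSeries

universe u

section Main

variable (k : Type u) [Field k] (n d : ℕ)

/-- `φ` is the Hilbert polynomial of `G` for all integer twists -/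
def HPZ (G : (CohB1.ProjSpace n k).Modules) (φ : ℚ[X]) : Prop :=
  ∀ m : ℤ, (Curv2.euler k (CohB1.ProjSpace n k)
    (CohB1.tensorMod G (Twist.twistProjSpace n k m)) : ℚ) = φ.eval (m : ℚ)

/-- pure of dimension `d` with support of dimension `d` -/
def PureD (Q : (CohB1.ProjSpace n k).Modules) : Prop :=
  topologicalKrullDim ↥(CohB1.support Q) = (d : WithBot ℕ∞) ∧
    ∀ (G : (CohB1.ProjSpace n k).Modules) (ι : G ⟶ Q), Mono ι → Coh.IsCoh G → ¬ IsZero G →
      topologicalKrullDim ↥(CohB1.support G) = (d : WithBot ℕ∞)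

/-- p-semistability, integer twists, division form -/
def SSZ (Q : (CohB1.ProjSpace n k).Modules) : Prop :=
  ∀ (G : (CohB1.ProjSpace n k).Modules) (ι : G ⟶ Q), Mono ι → Coh.IsCoh G → ¬ IsZero G →
    ∀ φ ψ : ℚ[X], HPZ k n Q φ → HPZ k n G ψ → W4c2simpsonmod1.RedLE d ψ φ

theorem not_isZero_of_dim {Q : (CohB1.ProjSpace n k).Modules}
    (h : topologicalKrullDim ↥(CohB1.support Q) = (d : WithBot ℕ∞)) : ¬ IsZero Q := by
  intro h0
  rw [(Groth.Agent.Lead.EpiPull.isZero_iff_support Q).mp h0] at h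
  haveI : IsEmpty (TopologicalSpace.IrreducibleCloseds ((∅ : Set (CohB1.ProjSpace n k)))) :=
    ⟨fun s => (Set.notMem_empty _ s.isIrreducible'.nonempty.some.2).elim⟩
  unfold topologicalKrullDim at h
  rw [Order.krullDim_eq_bot] at h
  exact absurd h (by simp)

theorem isSemistable_iff (Q : (CohB1.ProjSpace n k).Modules) (hQ : Coh.IsCoh Q) :
    (PureD k n d Q ∧ SSZ k n d Q) ↔
      ShStab.IsSemistable k (CohB1.ProjSpace n k) (LP k n) Q d := by
  have hL := isAmple_LP k n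
  constructor
  · rintro ⟨⟨hdim, hpure⟩, hss⟩
    refine ⟨hQ, not_isZero_of_dim k n d hdim, hpure, ?_⟩
    intro F ι hι hF hF0 _ pF pE hpF hpE
    have hdF := hpure F ι hι hF hF0
    have h1 := hss F ι hι hF hF0 pE pF (forall_int_of_isHilbPoly_Pn k n Q hQ pE hpE)
      (forall_int_of_isHilbPoly_Pn k n F hF pF hpF)
    exact (w4RedLE_iff (Groth.Agent.Helper5.ShStab2.alpha_pos k hL F hF d hdF hpF)
      (Groth.Agent.Helper5.ShStab2.alpha_pos k hL Q hQ d hdim hpE)).mp h1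
  · rintro ⟨-, hQ0, hpure, hss⟩
    have hdim : topologicalKrullDim ↥(CohB1.support Q) = (d : WithBot ℕ∞) :=
      hpure Q (𝟙 Q) inferInstance hQ hQ0
    refine ⟨⟨hdim, hpure⟩, ?_⟩
    intro G ι hι hG hG0 φ ψ hφ hψ
    have hpE := isHilbPoly_of_forall_int_Pn k n Q φ hφ
    have hpF := isHilbPoly_of_forall_int_Pn k n G ψ hψ
    by_cases hiso : IsIso ι
    · have : ψ = φ := Groth.Agent.Helper5.ShStab1.hilbPoly_unique k
        (Groth.Agent.Helper5.ShStab1.hilbPoly_of_iso k (asIso ι) hpF) hpE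
      rw [this]
      exact w4RedLE_refl d φ
    · have hdG := hpure G ι hι hG hG0
      exact (w4RedLE_iff (Groth.Agent.Helper5.ShStab2.alpha_pos k hL G hG d hdG hpF)
        (Groth.Agent.Helper5.ShStab2.alpha_pos k hL Q hQ d hdim hpE)).mpr
        (hss G ι hι hG hG0 hiso ψ φ hpF hpE)

variable {k n d}

theorem isCoh_factor {E : (CohB1.ProjSpace n k).Modules} (s : LTSeries (Subobject E))
    (hs : ∀ i, Coh.IsCoh (s i : (CohB1.ProjSpace n k).Modules)) (i : Fin s.length) :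
    Coh.IsCoh (StabCat.factor s i) :=
  Groth.Agent.Lead.PerfLib.isCoh_cokernel (hs _) (hs _) _

variable (k n d)

/-- the conditions of the chain form, for the set of members of a series -/
theorem chain_conditions_iff {E : (CohB1.ProjSpace n k).Modules} (s : LTSeries (Subobject E)) :
    (⊥ ∈ toFinset s ∧ ⊤ ∈ toFinset s ∧
      IsChain (fun A B : Subobject E => A ≤ B) (↑(toFinset s) : Set (Subobject E)) ∧
      (∀ A ∈ toFinset s, Coh.IsCoh (A : (CohB1.ProjSpace n k).Modules)) ∧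
      (∀ A ∈ toFinset s, ∀ B ∈ toFinset s, ∀ hAB : A < B,
        (∀ D ∈ toFinset s, ¬ (A < D ∧ D < B)) →
          PureD k n d (cokernel (Subobject.ofLE A B hAB.le)) ∧
          SSZ k n d (cokernel (Subobject.ofLE A B hAB.le))) ∧
      (∀ A ∈ toFinset s, ∀ B ∈ toFinset s, ∀ B' ∈ toFinset s, ∀ hAB : A < B, ∀ hBB : B < B',
        (∀ D ∈ toFinset s, ¬ (A < D ∧ D < B)) → (∀ D ∈ toFinset s, ¬ (B < D ∧ D < B')) →
        ∀ ψ ψ' : ℚ[X], HPZ k n (cokernel (Subobject.ofLE A B hAB.le)) ψ →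
          HPZ k n (cokernel (Subobject.ofLE B B' hBB.le)) ψ' →
          W4c2simpsonmod1.RedLT d ψ' ψ)) ↔
    (ShStab.IsHNFiltration k (CohB1.ProjSpace n k) (LP k n) E d s ∧
      ∀ i, Coh.IsCoh (s i : (CohB1.ProjSpace n k).Modules)) := by
  have hL := isAmple_LP k n
  rw [pairs_iff s (fun Q => PureD k n d Q ∧ SSZ k n d Q),
    triples_iff s (fun Q Q' => ∀ ψ ψ' : ℚ[X], HPZ k n Q ψ → HPZ k n Q' ψ' →
      W4c2simpsonmod1.RedLT d ψ' ψ)]
  constructor
  · rintro ⟨h1, h2, -, h4, h5, h6⟩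
    have hcoh : ∀ i, Coh.IsCoh (s i : (CohB1.ProjSpace n k).Modules) :=
      fun i => h4 _ ((mem_toFinset s _).mpr ⟨i, rfl⟩)
    have hss : ∀ i : Fin s.length,
        ShStab.IsSemistable k (CohB1.ProjSpace n k) (LP k n) (StabCat.factor s i) d :=
      fun i => (isSemistable_iff k n d _ (isCoh_factor s hcoh i)).mp (h5 i)
    refine ⟨⟨head_eq_bot_of_mem s ((mem_toFinset s _).mp h1),
      last_eq_top_of_mem s ((mem_toFinset s _).mp h2), hss, ?_⟩, hcoh⟩
    intro i j hij p q hp hq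
    have hi := hss i
    have hj := hss j
    have hdi := hi.2.2.1 _ (𝟙 _) inferInstance hi.1 hi.2.1
    have hdj := hj.2.2.1 _ (𝟙 _) inferInstance hj.1 hj.2.1
    exact (w4RedLT_iff (Groth.Agent.Helper5.ShStab2.alpha_pos k hL _ hj.1 d hdj hq)
      (Groth.Agent.Helper5.ShStab2.alpha_pos k hL _ hi.1 d hdi hp)).mp
      (h6 i j hij p q (forall_int_of_isHilbPoly_Pn k n _ hi.1 p hp)
        (forall_int_of_isHilbPoly_Pn k n _ hj.1 q hq))
  · rintro ⟨⟨h1, h2, hss, hlt⟩, hcoh⟩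
    refine ⟨(mem_toFinset s _).mpr ⟨_, h1⟩, (mem_toFinset s _).mpr ⟨_, h2⟩, isChain_toFinset s,
      ?_, ?_, ?_⟩
    · intro A hA
      obtain ⟨i, rfl⟩ := (mem_toFinset s _).mp hA
      exact hcoh i
    · intro i
      exact (isSemistable_iff k n d _ (isCoh_factor s hcoh i)).mpr (hss i)
    · intro i j hij ψ ψ' hψ hψ'
      have hi := hss i
      have hj := hss j
      have hdi := hi.2.2.1 _ (𝟙 _) inferInstance hi.1 hi.2.1
      have hdj := hj.2.2.1 _ (𝟙 _) inferInstance hj.1 hj.2.1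
      have hp := isHilbPoly_of_forall_int_Pn k n _ ψ hψ
      have hq := isHilbPoly_of_forall_int_Pn k n _ ψ' hψ'
      exact (w4RedLT_iff (Groth.Agent.Helper5.ShStab2.alpha_pos k hL _ hj.1 d hdj hq)
        (Groth.Agent.Helper5.ShStab2.alpha_pos k hL _ hi.1 d hdi hp)).mpr
        (hlt i j hij ψ ψ' hp hq)

/-- existence and uniqueness of the Harder–Narasimhan chain -/
theorem existsUnique_chain (E : (CohB1.ProjSpace n k).Modules) (hE : Coh.IsCoh E)
    (hpure : PureD k n d E) :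
    ∃! C : Finset (Subobject E),
      ⊥ ∈ C ∧ ⊤ ∈ C ∧ IsChain (fun A B : Subobject E => A ≤ B) (↑C : Set (Subobject E)) ∧
      (∀ A ∈ C, Coh.IsCoh (A : (CohB1.ProjSpace n k).Modules)) ∧
      (∀ A ∈ C, ∀ B ∈ C, ∀ hAB : A < B, (∀ D ∈ C, ¬ (A < D ∧ D < B)) →
          PureD k n d (cokernel (Subobject.ofLE A B hAB.le)) ∧
          SSZ k n d (cokernel (Subobject.ofLE A B hAB.le))) ∧
      (∀ A ∈ C, ∀ B ∈ C, ∀ B' ∈ C, ∀ hAB : A < B, ∀ hBB : B < B',
        (∀ D ∈ C, ¬ (A < D ∧ D < B)) → (∀ D ∈ C, ¬ (B < D ∧ D < B')) →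
        ∀ ψ ψ' : ℚ[X], HPZ k n (cokernel (Subobject.ofLE A B hAB.le)) ψ →
          HPZ k n (cokernel (Subobject.ofLE B B' hBB.le)) ψ' →
          W4c2simpsonmod1.RedLT d ψ' ψ) := by
  have hL := isAmple_LP k n
  have hE0 := not_isZero_of_dim k n d hpure.1
  obtain ⟨s, hs, hcoh⟩ := Groth.Agent.Helper5.ShStab18.exists_hn k (LP k n) hL d E hE hE0 hpure.2
  refine ⟨toFinset s, (chain_conditions_iff k n d s).mpr ⟨hs, hcoh⟩, ?_⟩
  intro C hC
  obtain ⟨t, -, -, rfl⟩ := exists_series C hC.1 hC.2.1 hC.2.2.1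
  have ht := (chain_conditions_iff k n d t).mp hC
  rw [Groth.Agent.Helper5.ShStab18.hn_unique k hL t s ht.1 hs]

end Main

end Groth.Agent.Helper5.PnBridge
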