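import Mathlib
import Groth.Agent.Helper5.PnBridge3

/-!
# Degree of the Hilbert polynomial on projective space
-/

set_option autoImplicit false

namespace Groth.Agent.Helper5.PnBridge

open CategoryTheory Limits AlgebraicGeometry Opposite TopologicalSpace Polynomial

universe u

theorem exists_nat_of_le {x : WithBot ℕ∞} {n : ℕ} (h0 : x ≠ ⊥) (h : x ≤ (n : WithBot ℕ∞)) :
    ∃ d : ℕ, x = (d : WithBot ℕ∞) := by
  obtain ⟨e, rfl⟩ := WithBot.ne_bot_iff_exists.mp h0
  have he : e ≤ (n : ℕ∞) := by exact_mod_cast h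
  obtain ⟨m, rfl⟩ := ENat.ne_top_iff_exists.mp (ne_top_of_le_ne_top (ENat.coe_ne_top n) he)
  exact ⟨m, rfl⟩

section Pn

variable (k : Type u) [Field k] (n : ℕ)

theorem exists_nat_dim (F : (CohB1.ProjSpace n k).Modules) (hF0 : ¬ IsZero F) :
    ∃ d : ℕ, topologicalKrullDim ↥(CohB1.support F) = (d : WithBot ℕ∞) := by
  apply exists_nat_of_le (n := n)
  · have hne : (CohB1.support F).Nonempty := by
      rw [Set.nonempty_iff_ne_empty]
      intro h
      exact hF0 ((Groth.Agent.Lead.EpiPull.isZero_iff_support F).mpr h)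
    obtain ⟨x, hx⟩ := hne
    haveI : Nonempty ↥(CohB1.support F) := ⟨⟨x, hx⟩⟩
    intro h
    unfold topologicalKrullDim at h
    rw [Order.krullDim_eq_bot_iff] at h
    exact h.elim ⟨closure {⟨x, hx⟩}, isIrreducible_singleton.closure, isClosed_closure⟩
  · rw [← Groth.Agent.S10829.result k n]
    exact Topology.IsInducing.subtypeVal.topologicalKrullDim_le

theorem dim_support_eq_natDegree (F : (CohB1.ProjSpace n k).Modules) (hF : Coh.IsCoh F)
    (hF0 : ¬ IsZero F) (P : ℚ[X])
    (hP : ShStab.IsHilbPoly k (CohB1.ProjSpace n k) (LP k n) F P) :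
    topologicalKrullDim ↥(CohB1.support F) = (P.natDegree : WithBot ℕ∞) := by
  obtain ⟨d, hd⟩ := exists_nat_dim k n F hF0
  have hL := isAmple_LP k n
  have h1 : P.natDegree ≤ d :=
    Groth.Agent.Helper5.ShStab1.natDegree_le_of_hilbPoly k hL.1 F hF d hd.le hP
  have h2 : 0 < StabCat.alpha d P := Groth.Agent.Helper5.ShStab2.alpha_pos k hL F hF d hd hP
  have h3 : d ≤ P.natDegree := by
    apply Polynomial.le_natDegree_of_ne_zero
    intro h
    unfold StabCat.alpha at h2
    rw [h, mul_zero] at h2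
    exact lt_irrefl _ h2
  rw [hd, le_antisymm h1 h3]

end Pn

end Groth.Agent.Helper5.PnBridge
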