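import Mathlib
import Groth.Agent.Helper5.ShStabPoly2

/-!
# The lexicographic form of `ℓ`-stability implies the strict reduced comparison
-/

set_option autoImplicit false

namespace Groth.Agent.Helper5.ShStabPoly3

open Polynomial Filter
open Groth.Agent.Helper5.ShStabPoly Groth.Agent.Helper5.ShStabPoly2

theorem redLT_of_lex {d ℓ : ℕ} (hℓd : ℓ ≤ d) {P Q : ℚ[X]} (hP : P.natDegree ≤ d)
    (hQ : Q.natDegree ≤ d) (haP : 0 < StabCat.alpha d P) (haQ : 0 < StabCat.alpha d Q)
    (h : toLex (fun j : Fin ℓ => (Q.coeff (d - 1 - (j : ℕ)) *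
          (Nat.factorial (d - 1 - (j : ℕ)) : ℚ)) / (Q.coeff d * (Nat.factorial d : ℚ))) <
        toLex (fun j : Fin ℓ => (P.coeff (d - 1 - (j : ℕ)) *
          (Nat.factorial (d - 1 - (j : ℕ)) : ℚ)) / (P.coeff d * (Nat.factorial d : ℚ)))) :
    StabCat.RedLT d Q P := by
  obtain ⟨j₀, heq, hlt⟩ := h
  have hPd : 0 < P.coeff d * (Nat.factorial d : ℚ) := by
    have : StabCat.alpha d P = P.coeff d * (Nat.factorial d : ℚ) := by
      unfold StabCat.alpha; ring
    rw [← this]; exact haP
  have hQd : 0 < Q.coeff d * (Nat.factorial d : ℚ) := by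
    have : StabCat.alpha d Q = Q.coeff d * (Nat.factorial d : ℚ) := by
      unfold StabCat.alpha; ring
    rw [← this]; exact haQ
  have hj₀ : (j₀ : ℕ) < ℓ := j₀.isLt
  set i₀ : ℕ := d - 1 - (j₀ : ℕ) with hi₀
  set D : ℚ[X] := StabCat.alpha d Q • P - StabCat.alpha d P • Q with hD
  have hDc : ∀ i, D.coeff i = StabCat.alpha d Q * P.coeff i - StabCat.alpha d P * Q.coeff i := by
    intro i
    rw [hD, Polynomial.coeff_sub, Polynomial.coeff_smul, Polynomial.coeff_smul, smul_eq_mul,
      smul_eq_mul]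
  -- cross-multiplied forms
  have cross_eq : ∀ i : ℕ, (Q.coeff i * (Nat.factorial i : ℚ)) / (Q.coeff d * (Nat.factorial d : ℚ)) =
      (P.coeff i * (Nat.factorial i : ℚ)) / (P.coeff d * (Nat.factorial d : ℚ)) → D.coeff i = 0 := by
    intro i hi
    rw [div_eq_div_iff hQd.ne' hPd.ne'] at hi
    rw [hDc]
    unfold StabCat.alpha
    have hf : (0 : ℚ) < (Nat.factorial i : ℚ) := by positivity
    have : (Nat.factorial i : ℚ) * ((d.factorial : ℚ) * Q.coeff d * P.coeff i -
        (d.factorial : ℚ) * P.coeff d * Q.coeff i) = 0 := by linarith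
    rcases mul_eq_zero.mp this with h0 | h0
    · exact absurd h0 hf.ne'
    · exact h0
  have cross_lt : ∀ i : ℕ, (Q.coeff i * (Nat.factorial i : ℚ)) / (Q.coeff d * (Nat.factorial d : ℚ)) <
      (P.coeff i * (Nat.factorial i : ℚ)) / (P.coeff d * (Nat.factorial d : ℚ)) → 0 < D.coeff i := by
    intro i hi
    rw [div_lt_div_iff₀ hQd hPd] at hi
    rw [hDc]
    unfold StabCat.alpha
    have hf : (0 : ℚ) < (Nat.factorial i : ℚ) := by positivity
    have : 0 < (Nat.factorial i : ℚ) * ((d.factorial : ℚ) * Q.coeff d * P.coeff i -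
        (d.factorial : ℚ) * P.coeff d * Q.coeff i) := by linarith
    exact (mul_pos_iff_of_pos_left hf).mp this
  have hDdeg : D.natDegree ≤ d := by
    refine (Polynomial.natDegree_sub_le _ _).trans (max_le ?_ ?_)
    · exact (Polynomial.natDegree_smul_le _ _).trans hP
    · exact (Polynomial.natDegree_smul_le _ _).trans hQ
  have hzero : ∀ i, i₀ < i → D.coeff i = 0 := by
    intro i hi
    rcases lt_trichotomy i d with hid | hid | hid
    · -- i = d - 1 - j with j < j₀
      have hjlt : d - 1 - i < (j₀ : ℕ) := by omega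
      have hjl : d - 1 - i < ℓ := by omega
      have := heq ⟨d - 1 - i, hjl⟩ (by exact hjlt)
      have hidx : d - 1 - (d - 1 - i) = i := by omega
      have this' : (Q.coeff (d - 1 - (d - 1 - i)) * (Nat.factorial (d - 1 - (d - 1 - i)) : ℚ)) /
          (Q.coeff d * (Nat.factorial d : ℚ)) =
        (P.coeff (d - 1 - (d - 1 - i)) * (Nat.factorial (d - 1 - (d - 1 - i)) : ℚ)) /
          (P.coeff d * (Nat.factorial d : ℚ)) := this
      rw [hidx] at this'
      exact cross_eq i this'
    · subst hid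
      rw [hDc]; unfold StabCat.alpha; ring
    · exact Polynomial.coeff_eq_zero_of_natDegree_lt (lt_of_le_of_lt hDdeg hid)
  have hlt' : (Q.coeff i₀ * (Nat.factorial i₀ : ℚ)) / (Q.coeff d * (Nat.factorial d : ℚ)) <
      (P.coeff i₀ * (Nat.factorial i₀ : ℚ)) / (P.coeff d * (Nat.factorial d : ℚ)) := hlt
  have hpos : 0 < D.coeff i₀ := cross_lt i₀ hlt'
  have hnat : D.natDegree = i₀ := by
    apply le_antisymm
    · rw [Polynomial.natDegree_le_iff_coeff_eq_zero]
      exact hzero
    · exact Polynomial.le_natDegree_of_ne_zero hpos.ne'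
  have hlc : 0 < D.leadingCoeff := by
    rw [Polynomial.leadingCoeff, hnat]; exact hpos
  rw [redLT_iff]
  filter_upwards [eventually_pos_of_leadingCoeff_pos hlc] with m hm
  rw [hD, Polynomial.eval_sub, Polynomial.eval_smul, Polynomial.eval_smul, smul_eq_mul,
    smul_eq_mul] at hm
  linarith

end Groth.Agent.Helper5.ShStabPoly3
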