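import Mathlib
import Groth.Agent.Helper5.PnBridge2
import Groth.Agent.Helper5.ShStab5
import Groth.Agent.Helper5.ShStab7
import Groth.Agent.Helper5.ShStabPoly3

/-!
# `ℓ`-stable sheaves (lexicographic form) on a projective scheme are stable, hence simple
-/

set_option autoImplicit false

namespace Groth.Agent.Helper5.PnBridge

open CategoryTheory Limits AlgebraicGeometry Opposite TopologicalSpace Polynomial Filter
open Groth.Agent.Helper5.ShStab1 Groth.Agent.Helper5.ShStabPoly Groth.Agent.Helper5.ShStab2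
open Groth.Agent.Helper5.ShStab5

universe u

theorem isStable_of_lex (k : Type u) [Field k]
    (X : Scheme.{u}) [X.Over (Spec (CommRingCat.of k))]
    [IsProper (X ↘ Spec (CommRingCat.of k))]
    (N : ℕ) (ι : X ⟶ CohB1.ProjSpace N k) [IsClosedImmersion ι]
    (hι : ι ≫ CohB1.ProjSpace.toSpec N k = X ↘ Spec (CommRingCat.of k))
    (d ℓ : ℕ) (hℓd : ℓ ≤ d)
    (E : X.Modules) (hE : Coh.IsCoh E) (P : ℚ[X]) (hP0 : P ≠ 0)
    (hP : ∀ m : ℤ, (Curv2.euler k X (Pic13.twistOn k ι E m) : ℚ) = P.eval (m : ℚ))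
    (hpure : ∀ (F : X.Modules) (j : F ⟶ E), Mono j → Coh.IsCoh F → ¬ IsZero F →
      topologicalKrullDim (CohB1.support F) = (d : WithBot ℕ∞))
    (hst : ∀ (F : X.Modules) (j : F ⟶ E), Mono j → Coh.IsCoh F → ∀ Q : ℚ[X],
      (∀ m : ℤ, (Curv2.euler k X (Pic13.twistOn k ι F m) : ℚ) = Q.eval (m : ℚ)) →
        0 < Q.coeff d → Q.coeff d < P.coeff d →
          toLex (fun j : Fin ℓ => ((Q).coeff (d - 1 - (j : ℕ)) * (Nat.factorial (d - 1 - (j : ℕ)) : ℚ)) / ((Q).coeff d * (Nat.factorial d : ℚ))) < toLex (fun j : Fin ℓ => ((P).coeff (d - 1 - (j : ℕ)) * (Nat.factorial (d - 1 - (j : ℕ)) : ℚ)) / ((P).coeff d * (Nat.factorial d : ℚ)))) :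
    ShStab.IsStable k X (LL k ι) E d := by
  have hL := isAmple_LL k ι
  have hpE : ShStab.IsHilbPoly k X (LL k ι) E P := isHilbPoly_of_forall_int k ι E P hP
  have hE0 : ¬ IsZero E := fun hz => hP0 (hilbPoly_unique k hpE (hilbPoly_zero k hL.1 hz))
  refine ⟨hE, hE0, hpure, ?_⟩
  intro F j hm hFc hF0 hni pF pE hpF hpE'
  haveI := hm
  have hPE : pE = P := hilbPoly_unique k hpE' hpE
  subst hPE
  have hdimE := hpure E (𝟙 E) inferInstance hE hE0
  obtain ⟨pC, hpC, hsum, hdC, hdF, hdE', hCnn, hCpos⟩ :=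
    sub_package k hL d hFc hE hdimE.le j hpF hpE'
  have haF : 0 < StabCat.alpha d pF := alpha_pos k hL F hFc d (hpure F j hm hFc hF0) hpF
  have haE : 0 < StabCat.alpha d pE := alpha_pos k hL E hE d hdimE hpE'
  have haC : 0 ≤ StabCat.alpha d pC := alpha_nonneg hdC hCnn
  have hle : StabCat.alpha d pF ≤ StabCat.alpha d pE := by
    rw [hsum, alpha_add]; linarith
  rcases lt_or_eq_of_le hle with hlt | heq
  · have hfac : (0 : ℚ) < (d.factorial : ℚ) := by positivity
    have h1 : 0 < pF.coeff d := (mul_pos_iff_of_pos_left hfac).mp haF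
    have h2 : pF.coeff d < pE.coeff d := lt_of_mul_lt_mul_left hlt hfac.le
    exact Groth.Agent.Helper5.ShStabPoly3.redLT_of_lex hℓd hdE' hdF haE haF
      (hst F j hm hFc pF (forall_int_of_isHilbPoly k ι hι F hFc pF hpF) h1 h2)
  · rw [redLT_iff, ← heq]
    filter_upwards [hCpos hni] with m hm'
    rw [hsum, Polynomial.eval_add]
    exact mul_lt_mul_of_pos_left (by linarith) haF

end Groth.Agent.Helper5.PnBridge
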