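import Mathlib
import Groth.Agent.Helper5.Cond

set_option autoImplicit false
set_option linter.style.haveILetI false
set_option linter.unusedSectionVars false

namespace Groth.Agent.Helper5.Pole

open Groth.Agent.Helper5.KA Groth.Agent.Helper5.Cond IsDedekindDomain

universe u

/-- simultaneous poles: a subring not contained in any of finitely many valuation rings
contains an element outside all of them. -/
theorem exists_pole_all {K : Type*} [Field K] {Γ : Type*} [LinearOrderedCommGroupWithZero Γ]
    (A : Subring K) {J : Type*} (v : J → Valuation K Γ)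
    (hA : ∀ j, ∃ a ∈ A, 1 < v j a) (T : Finset J) :
    ∃ x ∈ A, x ≠ 0 ∧ ∀ j ∈ T, 1 < v j x := by
  classical
  induction T using Finset.induction_on with
  | empty => exact ⟨1, A.one_mem, one_ne_zero, by simp⟩
  | insert j₀ T hj₀ ih =>
    obtain ⟨x, hxA, hx0, hx⟩ := ih
    by_cases h0 : 1 < v j₀ x
    · exact ⟨x, hxA, hx0, fun j hj => by
        rcases Finset.mem_insert.1 hj with rfl | hj
        · exact h0
        · exact hx j hj⟩
    rw [not_lt] at h0
    obtain ⟨a, haA, ha⟩ := hA j₀
    -- bad exponents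
    have hbad : (⋃ j ∈ T, {m : ℕ | v j a ^ m = v j x}).Finite := by
      refine Set.Finite.biUnion T.finite_toSet fun j hj => ?_
      refine Set.Subsingleton.finite ?_
      intro m hm n hn
      simp only [Set.mem_ofPred_eq] at hm hn
      by_contra hmn
      have hvx := hx j hj
      -- v j a > 1 necessarily
      have hva : 1 < v j a := by
        by_contra hle
        rw [not_lt] at hle
        have : v j a ^ m ≤ 1 := pow_le_one₀ zero_le hle
        rw [hm] at this
        exact absurd hvx (not_lt.2 this)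
      rcases lt_or_gt_of_ne hmn with h | h
      · have := pow_lt_pow_right₀ hva h
        rw [hm, hn] at this
        exact lt_irrefl _ this
      · have := pow_lt_pow_right₀ hva h
        rw [hm, hn] at this
        exact lt_irrefl _ this
    obtain ⟨m, hm1, hmbad⟩ := ((Set.Ici_infinite 1).sdiff hbad).nonempty
    have hm1' : 1 ≤ m := hm1
    have hm0 : m ≠ 0 := by omega
    refine ⟨x + a ^ m, A.add_mem hxA (A.pow_mem haA m), ?_, ?_⟩
    · intro h
      have h1 : v j₀ (x + a ^ m) = v j₀ (a ^ m) := by
        apply Valuation.map_add_eq_of_lt_right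
        rw [map_pow]
        exact lt_of_le_of_lt h0 (one_lt_pow₀ ha hm0)
      rw [h, map_zero, map_pow] at h1
      have := one_lt_pow₀ ha hm0
      rw [← h1] at this
      exact not_lt_zero this
    · intro j hj
      rcases Finset.mem_insert.1 hj with rfl | hj
      · have h1 : v j (x + a ^ m) = v j (a ^ m) := by
          apply Valuation.map_add_eq_of_lt_right
          rw [map_pow]
          exact lt_of_le_of_lt h0 (one_lt_pow₀ ha hm0)
        rw [h1, map_pow]
        exact one_lt_pow₀ ha hm0
      · have hne : v j (a ^ m) ≠ v j x := by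
          intro h
          apply hmbad
          simp only [Set.mem_iUnion, Set.mem_ofPred_eq]
          exact ⟨j, hj, by rw [← map_pow]; exact h⟩
        have hvx := hx j hj
        rcases lt_or_gt_of_ne hne with h | h
        · rw [Valuation.map_add_eq_of_lt_left _ h]
          exact hvx
        · rw [Valuation.map_add_eq_of_lt_right _ h]
          exact lt_trans hvx h

section
variable (B : Type*) [CommRing B] [IsDomain B] [IsNoetherianRing B] [Ring.KrullDimLE 1 B]
  (K : Type*) [Field K] [Algebra B K] [IsFractionRing B K]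

/-- P1 -/
theorem exists_pow_mem_jacobson (hnf : ¬ IsField B)
    [hD : IsDedekindDomain (integralClosure B K)]
    [hfr : IsFractionRing (integralClosure B K) K] (y : K)
    (hy : ∀ N : HeightOneSpectrum (integralClosure B K), N.valuation K y < 1) :
    ∃ m : ℕ, 1 ≤ m ∧ ∃ b : B, algebraMap B K b = y ^ m ∧ b ∈ (⊥ : Ideal B).jacobson := by
  have hinjBt := algebraMap_closure_injective B K
  have hnf' : ¬ IsField (integralClosure B K) :=
    fun h => hnf (isField_of_isIntegral_of_isField hinjBt h)
  obtain ⟨d, hd⟩ := HeightOneSpectrum.mem_integers_of_valuation_le_one K y (fun N => (hy N).le)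
  have hdmax : ∀ N : Ideal (integralClosure B K), N.IsMaximal → d ∈ N := by
    intro N hN
    obtain ⟨v, hv⟩ : ∃ v : HeightOneSpectrum (integralClosure B K), v.asIdeal = N :=
      ⟨⟨N, hN.isPrime, Ring.ne_bot_of_isMaximal_of_not_isField hN hnf'⟩, rfl⟩
    have := hy v
    rw [← hd, HeightOneSpectrum.valuation_lt_one_iff_mem] at this
    rw [← hv]; exact this
  have hdjac : d ∈ (⊥ : Ideal (integralClosure B K)).jacobson := by
    rw [Ideal.jacobson, Ideal.mem_sInf]
    rintro N ⟨-, hN⟩
    exact hdmax N hN
  obtain ⟨n, b, hb⟩ := pow_mul_mem B K d d hdjac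
  refine ⟨n + 1, by omega, b, ?_, ?_⟩
  · rw [hb, ← hd, pow_succ]
    rfl
  · rw [Ideal.jacobson, Ideal.mem_sInf]
    rintro P ⟨-, hP⟩
    have hker : RingHom.ker (algebraMap B (integralClosure B K)) ≤ P := by
      rw [(RingHom.injective_iff_ker_eq_bot _).1 hinjBt]; exact bot_le
    obtain ⟨N, hN, hNP⟩ := Ideal.exists_ideal_over_maximal_of_isIntegral P hker
    rw [← hNP, Ideal.mem_comap]
    have hbd : algebraMap B (integralClosure B K) b = d ^ n * d := by
      apply Subtype.ext
      exact hb
    rw [hbd]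
    exact N.mul_mem_left _ (hdmax N hN)

/-- P2 -/
theorem exists_pole_of_sup_eq_top [hD : IsDedekindDomain (integralClosure B K)]
    [hfr : IsFractionRing (integralClosure B K) K] (A : Subring K)
    (hgen : A ⊔ (algebraMap B K).range = ⊤)
    (N : HeightOneSpectrum (integralClosure B K)) : ∃ a ∈ A, 1 < N.valuation K a := by
  by_contra hcon
  push Not at hcon
  have hA : A ≤ (N.valuation K).valuationSubring.toSubring := fun a ha => hcon a ha
  have hB : (algebraMap B K).range ≤ (N.valuation K).valuationSubring.toSubring := by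
    rintro _ ⟨b, rfl⟩
    have : algebraMap B K b = algebraMap (integralClosure B K) K
        (algebraMap B (integralClosure B K) b) := IsScalarTower.algebraMap_apply _ _ _ _
    rw [this]
    exact HeightOneSpectrum.valuation_le_one N _
  have htop : (⊤ : Subring K) ≤ (N.valuation K).valuationSubring.toSubring := by
    rw [← hgen]; exact sup_le hA hB
  obtain ⟨π, hπN, hπ0⟩ := Submodule.exists_mem_ne_zero_of_ne_bot N.ne_bot
  have h1 : N.valuation K (algebraMap (integralClosure B K) K π) < 1 :=
    (HeightOneSpectrum.valuation_lt_one_iff_mem N π).2 hπN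
  have hπK : algebraMap (integralClosure B K) K π ≠ 0 := by
    intro h
    exact hπ0 (IsFractionRing.injective (integralClosure B K) K (by rw [h, map_zero]))
  have h2 : N.valuation K (algebraMap (integralClosure B K) K π)⁻¹ ≤ 1 := htop trivial
  rw [map_inv₀] at h2
  have h3 : N.valuation K (algebraMap (integralClosure B K) K π) ≠ 0 := by
    rwa [Ne, map_eq_zero]
  have h4 : 1 ≤ N.valuation K (algebraMap (integralClosure B K) K π) := by
    rwa [inv_le_one₀ (zero_lt_iff.2 h3)] at h2
  exact absurd h1 (not_lt.2 h4)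

end

theorem main (K : Type u) [Field K] (A : Subring K) [IsFractionRing A K]
    (r : ℕ) (B : Fin r → Subring K) [∀ i, IsNoetherianRing (B i)] [∀ i, IsFractionRing (B i) K]
    (hdim : ∀ i, ringKrullDim (B i) = 1) (hsl : ∀ i, Finite (MaximalSpectrum (B i)))
    (hgen : ∀ i, A ⊔ B i = ⊤) :
    ∃ x : K, x ∈ A ∧ x ≠ 0 ∧ ∀ i, ∃ hx : x⁻¹ ∈ B i,
      (⟨x⁻¹, hx⟩ : B i) ∈ (⊥ : Ideal (B i)).jacobson := by
  classical
  have hK : ∀ i, Ring.KrullDimLE 1 (B i) := fun i => Ring.krullDimLE_iff.2 (by rw [hdim i]; rfl)
  have hnf : ∀ i, ¬ IsField (B i) := by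
    intro i h
    have h0 := ringKrullDim_eq_zero_of_isField h
    rw [hdim i] at h0
    exact one_ne_zero h0
  have hD : ∀ i, IsDedekindDomain (integralClosure (B i) K) := fun i =>
    isDedekindDomain_integralClosure (B i) K (B i) (IsFractionRing.injective (B i) K)
  have hfr : ∀ i, IsFractionRing (integralClosure (B i) K) K := fun i =>
    isFractionRing_of_between (B i) K (integralClosure (B i) K) Subtype.val_injective
  have hfinMax : ∀ i, Finite (MaximalSpectrum (integralClosure (B i) K)) := fun i =>
    finite_maxSpec (B i) K (hnf i) (hsl i)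
  have hfinH : ∀ i, Finite (HeightOneSpectrum (integralClosure (B i) K)) := by
    intro i
    haveI := hfinMax i
    haveI := hD i
    refine Finite.of_injective (fun N : HeightOneSpectrum (integralClosure (B i) K) =>
      (⟨N.asIdeal, N.isMaximal⟩ : MaximalSpectrum (integralClosure (B i) K))) ?_
    intro N N' h
    exact HeightOneSpectrum.ext (congrArg MaximalSpectrum.asIdeal h)
  haveI : Finite (Σ i : Fin r, HeightOneSpectrum (integralClosure (B i) K)) := inferInstance
  haveI := Fintype.ofFinite (Σ i : Fin r, HeightOneSpectrum (integralClosure (B i) K))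
  let v : (Σ i : Fin r, HeightOneSpectrum (integralClosure (B i) K)) →
      Valuation K (WithZero (Multiplicative ℤ)) := fun j => j.2.valuation K
  have hrange : ∀ i, (algebraMap (B i) K).range = B i := by
    intro i
    ext z
    constructor
    · rintro ⟨b, rfl⟩; exact b.2
    · intro hz; exact ⟨⟨z, hz⟩, rfl⟩
  have hA : ∀ j, ∃ a ∈ A, 1 < v j a := by
    rintro ⟨i, N⟩
    haveI := hD i
    haveI := hfr i
    haveI := hK i
    exact exists_pole_of_sup_eq_top (B i) K A (by rw [hrange i]; exact hgen i) N
  obtain ⟨x, hxA, hx0, hx⟩ := exists_pole_all A v hA Finset.univ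
  have hy : ∀ i, ∀ N : HeightOneSpectrum (integralClosure (B i) K), N.valuation K x⁻¹ < 1 := by
    intro i N
    have h1 : 1 < N.valuation K x := hx ⟨i, N⟩ (Finset.mem_univ _)
    rw [map_inv₀]
    exact inv_lt_one_of_one_lt₀ h1
  have hP1 : ∀ i, ∃ m : ℕ, 1 ≤ m ∧ ∃ b : B i, algebraMap (B i) K b = x⁻¹ ^ m ∧
      b ∈ (⊥ : Ideal (B i)).jacobson := by
    intro i
    haveI := hD i
    haveI := hfr i
    haveI := hK i
    exact exists_pow_mem_jacobson (B i) K (hnf i) x⁻¹ (hy i)
  choose m hm1 b hb hbjac using hP1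
  refine ⟨x ^ (∏ i, m i), A.pow_mem hxA _, pow_ne_zero _ hx0, fun i => ?_⟩
  have hprod : ∏ j, m j = m i * ∏ j ∈ Finset.univ.erase i, m j :=
    (Finset.mul_prod_erase Finset.univ m (Finset.mem_univ i)).symm
  have hk1 : 1 ≤ ∏ j ∈ Finset.univ.erase i, m j :=
    Nat.one_le_iff_ne_zero.2 (Finset.prod_ne_zero_iff.2 fun j _ => by have := hm1 j; omega)
  have heq : (x ^ (∏ j, m j))⁻¹ = ((b i ^ (∏ j ∈ Finset.univ.erase i, m j) : B i) : K) := by
    rw [← inv_pow, hprod, pow_mul, ← hb i]
    rfl
  have hmem : (x ^ (∏ j, m j))⁻¹ ∈ B i := by rw [heq]; exact Subtype.mem _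
  refine ⟨hmem, ?_⟩
  have heq' : (⟨(x ^ (∏ j, m j))⁻¹, hmem⟩ : B i) = b i ^ (∏ j ∈ Finset.univ.erase i, m j) :=
    Subtype.ext heq
  rw [heq']
  obtain ⟨k, hk⟩ : ∃ k, ∏ j ∈ Finset.univ.erase i, m j = k + 1 := ⟨_, (Nat.sub_add_cancel hk1).symm⟩
  rw [hk, pow_succ]
  exact Ideal.mul_mem_left _ _ (hbjac i)

end Groth.Agent.Helper5.Pole
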