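import Mathlib

set_option autoImplicit false
universe u

namespace Groth.Agent.Helper5.PoleOne

theorem main (R : Type u) [CommRing R] [IsDomain R] [IsNoetherianRing R]
    (p : Ideal R) [p.IsPrime] (hp : p.height = 1) :
    ∃ f : FractionRing R, f ∉ Set.range ⇑(algebraMap R (FractionRing R)) ∧
      ∀ q : Ideal R, q.IsPrime → q.height = 1 → q ≠ p →
        ∃ a b : R, b ∉ q ∧ f * algebraMap R (FractionRing R) b = algebraMap R (FractionRing R) a := by
  have hfin : p.FiniteHeight := p.finiteHeight_iff.mpr (Or.inr (by rw [hp]; exact ENat.one_ne_top))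
  have hpbot : p ≠ ⊥ := Ideal.ne_bot_of_height_eq_one hp
  obtain ⟨a, hap, ha0⟩ := Submodule.exists_mem_ne_zero_of_ne_bot hpbot
  have hle : Ideal.span {a} ≤ p := (Ideal.span_singleton_le_iff_mem _).2 hap
  have hmin : p ∈ (Ideal.span {a}).minimalPrimes := by
    refine Ideal.mem_minimalPrimes_of_height_le hle ?_
    rw [hp, Order.one_le_iff_ne_zero]
    intro h0
    rw [Ideal.height_eq_zero_iff_eq_bot, Ideal.span_singleton_eq_bot] at h0
    exact ha0 h0
  have hcolon : (Ideal.span {a} : Submodule R R).colon {(1 : R)} = Ideal.span {a} := by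
    ext r
    rw [Submodule.mem_colon_singleton, smul_eq_mul, mul_one]
  rw [← hcolon] at hmin
  obtain ⟨y, hy⟩ := Submodule.exists_eq_colon_of_mem_minimalPrimes hmin
  have hmem : ∀ r : R, r ∈ p ↔ r * y ∈ Ideal.span {a} := by
    intro r
    rw [hy, Submodule.mem_colon_singleton, smul_eq_mul]
  have hinj := IsFractionRing.injective R (FractionRing R)
  have ha0' : algebraMap R (FractionRing R) a ≠ 0 := by
    rwa [Ne, map_eq_zero_iff _ hinj]
  refine ⟨algebraMap R (FractionRing R) y / algebraMap R (FractionRing R) a, ?_, ?_⟩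
  · rintro ⟨r, hr⟩
    have h1 : algebraMap R (FractionRing R) (r * a) = algebraMap R (FractionRing R) y := by
      rw [map_mul, hr, div_mul_cancel₀ _ ha0']
    have h2 : y = r * a := (hinj h1).symm
    have h3 : (1 : R) ∈ p := by
      rw [hmem, one_mul, h2]
      exact Ideal.mul_mem_left _ _ (Ideal.mem_span_singleton_self a)
    exact ‹p.IsPrime›.ne_top ((Ideal.eq_top_iff_one _).2 h3)
  · intro q hq hqh hqp
    have hnle : ¬ p ≤ q := by
      intro hpq
      have hlt : p < q := lt_of_le_of_ne hpq (Ne.symm hqp)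
      have := Ideal.height_strict_mono_of_isPrime hlt
      rw [hp, hqh] at this
      exact lt_irrefl _ this
    obtain ⟨c, hcp, hcq⟩ := SetLike.not_le_iff_exists.1 hnle
    have h1 := (hmem c).1 hcp
    rw [Ideal.mem_span_singleton'] at h1
    obtain ⟨r, hr⟩ := h1
    refine ⟨r, c, hcq, ?_⟩
    rw [div_mul_eq_mul_div, div_eq_iff ha0', ← map_mul, ← map_mul, hr, mul_comm]

end Groth.Agent.Helper5.PoleOne
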