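import Mathlib
import Groth.Agent.Helper5.CMAff3
import Groth.Agent.Helper2.RegSmooth2
import Groth.Agent.Helper2.FiberSmooth2

set_option autoImplicit false
set_option linter.style.haveILetI false
set_option linter.unusedSectionVars false
universe u
open CategoryTheory CategoryTheory.Limits AlgebraicGeometry TopologicalSpace Topology

namespace Groth.Agent.Helper5.PolyQF

open Groth.Agent.Helper5.CMFib Groth.Agent.Helper5.CMAff Groth.Agent.Helper5.VarDim

section

variable (k : Type u) [Field k] (d : ℕ)

/-- localizations of a polynomial ring over a field are regular -/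
theorem regular_localization_mvPolynomial (p : Ideal (MvPolynomial (Fin d) k)) [p.IsPrime] :
    IsRegularLocalRing (Localization.AtPrime p) := by
  apply Groth.Agent.Helper2.RegSmooth2.isRegularLocalRing_of_isSmoothAt k
  show Algebra.FormallySmooth k (Localization.AtPrime p)
  haveI : Algebra.FormallySmooth (MvPolynomial (Fin d) k) (Localization.AtPrime p) :=
    Algebra.FormallySmooth.of_isLocalization p.primeCompl
  exact Algebra.FormallySmooth.comp k (MvPolynomial (Fin d) k) (Localization.AtPrime p)

/-- stalks of affine space over a field are regular -/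
theorem regular_stalk_Spec_mvPolynomial (y : ↥(Spec (CommRingCat.of (MvPolynomial (Fin d) k)))) :
    IsRegularLocalRing ((Spec (CommRingCat.of (MvPolynomial (Fin d) k))).presheaf.stalk y) := by
  haveI := regular_localization_mvPolynomial k d y.asIdeal
  exact IsRegularLocalRing.of_ringEquiv
    (Spec.stalkIso (CommRingCat.of (MvPolynomial (Fin d) k)) y).commRingCatIsoToRingEquiv.symm

/-- the local dimension of affine `d`-space over a field is `d` everywhere -/
theorem localDim_Spec_mvPolynomial (y : ↥(Spec (CommRingCat.of (MvPolynomial (Fin d) k)))) :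
    FlatMor.localDim ↥(Spec (CommRingCat.of (MvPolynomial (Fin d) k))) y = (d : WithBot ℕ∞) := by
  haveI : LocallyOfFiniteType (Spec.map (CommRingCat.ofHom
      (algebraMap k (MvPolynomial (Fin d) k)))) := by
    rw [HasRingHomProperty.Spec_iff (P := @LocallyOfFiniteType)]
    exact (RingHom.finiteType_algebraMap).mpr inferInstance
  haveI : IrreducibleSpace ↥(Spec (CommRingCat.of (MvPolynomial (Fin d) k))) :=
    inferInstanceAs (IrreducibleSpace (PrimeSpectrum (MvPolynomial (Fin d) k)))
  rw [localDim_eq_dim_of_irreducible k
    (Spec.map (CommRingCat.ofHom (algebraMap k (MvPolynomial (Fin d) k)))) y]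
  show topologicalKrullDim (PrimeSpectrum (MvPolynomial (Fin d) k)) = _
  rw [PrimeSpectrum.topologicalKrullDim_eq_ringKrullDim,
    MvPolynomial.ringKrullDim_of_isNoetherianRing, ringKrullDim_eq_zero_of_field]
  simp

end

end Groth.Agent.Helper5.PolyQF
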