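import Mathlib
import Groth.Agent.Helper5.PolyQF1

set_option autoImplicit false
set_option linter.style.haveILetI false
set_option linter.unusedSectionVars false
universe u
open CategoryTheory CategoryTheory.Limits AlgebraicGeometry TopologicalSpace Topology

namespace Groth.Agent.Helper5.PolyQF

open Groth.Agent.Helper5.CMFib Groth.Agent.Helper5.CMAff Groth.Agent.Helper5.VarDim

set_option maxHeartbeats 2000000 in
/-- S9159 -/
theorem s9159 (k S : Type u) [Field k] [CommRing S]
    [Algebra k S] [Algebra.FiniteType k S] (d : ℕ) [Algebra (MvPolynomial (Fin d) k) S]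
    [IsScalarTower k (MvPolynomial (Fin d) k) S] [Algebra.QuasiFinite (MvPolynomial (Fin d) k) S]
    (q : Ideal S) [q.IsPrime] :
    Module.Flat (MvPolynomial (Fin d) k) (Localization.AtPrime q) ↔
      (LocCoh.IsCohenMacaulayLocalRing (Localization.AtPrime q) ∧
        FlatMor.localDim (PrimeSpectrum S) ⟨q, inferInstance⟩ = (d : WithBot ℕ∞)) := by
  let P := MvPolynomial (Fin d) k
  let F : Scheme.{u} := Spec (CommRingCat.of S)
  let G : Scheme.{u} := Spec (CommRingCat.of P)
  let gF : F ⟶ Spec (CommRingCat.of k) := Spec.map (CommRingCat.ofHom (algebraMap k S))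
  let gG : G ⟶ Spec (CommRingCat.of k) := Spec.map (CommRingCat.ofHom (algebraMap k P))
  let φ : F ⟶ G := Spec.map (CommRingCat.ofHom (algebraMap P S))
  have hφ : φ ≫ gG = gF := by
    show Spec.map _ ≫ Spec.map _ = Spec.map _
    rw [← Spec.map_comp, ← CommRingCat.ofHom_comp, ← IsScalarTower.algebraMap_eq]
  haveI hgF : LocallyOfFiniteType gF := by
    rw [HasRingHomProperty.Spec_iff (P := @LocallyOfFiniteType)]
    exact (RingHom.finiteType_algebraMap).mpr inferInstance
  haveI hgG : LocallyOfFiniteType gG := by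
    rw [HasRingHomProperty.Spec_iff (P := @LocallyOfFiniteType)]
    exact (RingHom.finiteType_algebraMap).mpr inferInstance
  haveI hlqf : LocallyQuasiFinite φ := by
    rw [HasRingHomProperty.Spec_iff (P := @LocallyQuasiFinite)]
    exact (RingHom.quasiFinite_algebraMap).mpr inferInstance
  haveI hφlft : LocallyOfFiniteType φ := by
    have : LocallyOfFiniteType (φ ≫ gG) := hφ ▸ inferInstance
    exact locallyOfFiniteType_of_comp φ gG
  haveI hFN : IsLocallyNoetherian F := LocallyOfFiniteType.isLocallyNoetherian gF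
  haveI hGN : IsLocallyNoetherian G := LocallyOfFiniteType.isLocallyNoetherian gG
  let z : F := ⟨q, inferInstance⟩
  have hflat : (φ.stalkMap z).hom.Flat ↔ Module.Flat P (Localization.AtPrime q) := by
    rw [RingHom.Flat.respectsIso.arrow_mk_iso_iff
      (Scheme.arrowStalkMapSpecIso (CommRingCat.ofHom (algebraMap P S)) z)]
    exact Groth.Agent.Helper2.FiberSmooth2.localRingHom_flat_iff (R := P) (S := S) q
  let e0 : F.presheaf.stalk z ≃+* Localization.AtPrime q :=
    (Spec.stalkIso (CommRingCat.of S) z).commRingCatIsoToRingEquiv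
  have hcm : LocCoh.IsCohenMacaulayLocalRing (F.presheaf.stalk z) ↔
      LocCoh.IsCohenMacaulayLocalRing (Localization.AtPrime q) :=
    ⟨fun h => Groth.Agent.Lead.CMCl.cm_of_ringEquiv e0 (h := h),
      fun h => Groth.Agent.Lead.CMCl.cm_of_ringEquiv e0.symm (h := h)⟩
  have hreg : IsRegularLocalRing (G.presheaf.stalk (φ z)) :=
    regular_stalk_Spec_mvPolynomial k d (φ z)
  have hG : FlatMor.localDim G (φ z) = (d : WithBot ℕ∞) := localDim_Spec_mvPolynomial k d (φ z)
  rw [← hflat, ← hcm]
  show (φ.stalkMap z).hom.Flat ↔ LocCoh.IsCohenMacaulayLocalRing (F.presheaf.stalk z) ∧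
    FlatMor.localDim F z = (d : WithBot ℕ∞)
  constructor
  · intro hfl
    refine ⟨?_, ?_⟩
    · have hA : LocCoh.IsCohenMacaulayLocalRing (G.presheaf.stalk (φ z)) :=
        { supportDim_eq_depth := Groth.Agent.Helper2.RegCM.cm_of_isRegularLocalRing _ }
      letI : Algebra (G.presheaf.stalk (φ z)) (F.presheaf.stalk z) :=
        (φ.stalkMap z).hom.toAlgebra
      haveI : IsLocalHom (algebraMap (G.presheaf.stalk (φ z)) (F.presheaf.stalk z)) :=
        inferInstanceAs (IsLocalHom (φ.stalkMap z).hom)
      haveI : Module.Flat (G.presheaf.stalk (φ z)) (F.presheaf.stalk z) := hfl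
      obtain ⟨e⟩ := fibre_stalk_equiv' φ z
      have h0 := fibre_stalk_dim_zero_of_lqf φ z
      rw [← ringKrullDim_eq_of_ringEquiv e] at h0
      haveI : Nontrivial (F.presheaf.stalk z ⧸ Ideal.map (φ.stalkMap z).hom
          (IsLocalRing.maximalIdeal (G.presheaf.stalk (φ z)))) := e.symm.injective.nontrivial
      have hF := cm_of_dim_zero _ h0
      exact cm_of_flat_of_fibre (G.presheaf.stalk (φ z)) (F.presheaf.stalk z) hA hF
    · have h1 := flat_formula k gF gG φ hφ z hfl
      rw [hG, Groth.Agent.Helper5.RelDim.fibreDimAt_eq_zero_of_lqf φ z, add_zero] at h1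
      exact h1
  · rintro ⟨hCM, hd⟩
    have hdim := (dim_formula_lqf k gF gG φ hφ z d hd hG).1
    exact ((s3440 φ z hreg hCM).out 4 1).1 hdim

end Groth.Agent.Helper5.PolyQF
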