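import Groth.Agent.Helper5.TraceLen2

set_option autoImplicit false
universe u
open LinearMap IsLocalRing Module

namespace Groth.Agent.Helper5.PrimePow

section
variable {B : Type*} [CommRing B] [IsDedekindDomain B] (Q : Ideal B) [Q.IsMaximal] (n : ℕ)

omit [IsDedekindDomain B] in
theorem pow_ne_top (hn : n ≠ 0) : maximalIdeal (Localization.AtPrime Q) ^ n ≠ ⊤ := by
  intro h
  have h1 := Ideal.pow_le_self hn (I := maximalIdeal (Localization.AtPrime Q))
  rw [h] at h1
  exact (maximalIdeal.isMaximal _).ne_top (top_le_iff.1 h1)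

omit [IsDedekindDomain B] in
theorem isLocalRing_quot_pow (hn : n ≠ 0) : IsLocalRing (B ⧸ Q ^ n) := by
  have : Nontrivial (Localization.AtPrime Q ⧸ maximalIdeal (Localization.AtPrime Q) ^ n) :=
    Ideal.Quotient.nontrivial_iff.2 (pow_ne_top Q n hn)
  have : IsLocalRing (Localization.AtPrime Q ⧸ maximalIdeal (Localization.AtPrime Q) ^ n) :=
    IsLocalRing.of_surjective' (Ideal.Quotient.mk _) Ideal.Quotient.mk_surjective
  exact (IsLocalization.AtPrime.equivQuotMaximalIdealPow Q
    (Localization.AtPrime Q) n).symm.toRingEquiv.isLocalRing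

theorem length_quot_pow (hQ0 : Q ≠ ⊥) :
    Module.length (B ⧸ Q ^ n) (B ⧸ Q ^ n) = n := by
  have hdvr : IsDiscreteValuationRing (Localization.AtPrime Q) :=
    IsLocalization.AtPrime.isDiscreteValuationRing_of_dedekind_domain B hQ0 _
  let e := IsLocalization.AtPrime.equivQuotMaximalIdealPow Q (Localization.AtPrime Q) n
  have hsurj : Function.Surjective
      (algebraMap B (Localization.AtPrime Q ⧸ maximalIdeal (Localization.AtPrime Q) ^ n)) := by
    intro c
    obtain ⟨b, hb⟩ := Ideal.Quotient.mk_surjective (e.symm c)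
    refine ⟨b, ?_⟩
    have : e (Ideal.Quotient.mk _ b) = c := by rw [hb, AlgEquiv.apply_symm_apply]
    rw [← this]
    rfl
  calc Module.length (B ⧸ Q ^ n) (B ⧸ Q ^ n) = Module.length B (B ⧸ Q ^ n) :=
        (Module.length_eq_of_surjective Ideal.Quotient.mk_surjective).symm
    _ = Module.length B
          (Localization.AtPrime Q ⧸ maximalIdeal (Localization.AtPrime Q) ^ n) :=
        e.toLinearEquiv.length_eq
    _ = Module.length (Localization.AtPrime Q ⧸ maximalIdeal (Localization.AtPrime Q) ^ n)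
          (Localization.AtPrime Q ⧸ maximalIdeal (Localization.AtPrime Q) ^ n) :=
        Module.length_eq_of_surjective hsurj
    _ = Module.length (Localization.AtPrime Q)
          (Localization.AtPrime Q ⧸ maximalIdeal (Localization.AtPrime Q) ^ n) :=
        (Module.length_eq_of_surjective Ideal.Quotient.mk_surjective).symm
    _ = n := IsDiscreteValuationRing.length_quotient_pow_maximalIdeal _ n

theorem trace_quot_pow (hQ0 : Q ≠ ⊥) {k : Type*} [Field k] [Algebra k (B ⧸ Q ^ n)]
    [Algebra k (B ⧸ Q)] [Module.Finite k (B ⧸ Q ^ n)] (hn : n ≠ 0)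
    (hcompat : ∀ a : k, Ideal.Quotient.factor (Ideal.pow_le_self hn)
      (algebraMap k (B ⧸ Q ^ n) a) = algebraMap k (B ⧸ Q) a) (y : B) :
    Algebra.trace k (B ⧸ Q ^ n) (Ideal.Quotient.mk _ y) =
      n • Algebra.trace k (B ⧸ Q) (Ideal.Quotient.mk _ y) := by
  haveI := isLocalRing_quot_pow Q n hn
  rw [TraceAdd.algebra_trace_eq_length_smul k (B ⧸ Q ^ n), length_quot_pow Q n hQ0,
    ENat.toNat_natCast]
  congr 1
  letI := Ideal.Quotient.field Q
  let π : (B ⧸ Q ^ n) →+* (B ⧸ Q) := Ideal.Quotient.factor (Ideal.pow_le_self hn)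
  have hπs : Function.Surjective π := Ideal.Quotient.factor_surjective _
  haveI : IsLocalHom π := .of_surjective _ hπs
  let ψ : ResidueField (B ⧸ Q ^ n) →+* B ⧸ Q := ResidueField.lift π
  have hψ : Function.Bijective ψ := by
    refine ⟨RingHom.injective _, fun z => ?_⟩
    obtain ⟨c, rfl⟩ := hπs z
    exact ⟨residue _ c, rfl⟩
  let ψa : ResidueField (B ⧸ Q ^ n) →ₐ[k] B ⧸ Q :=
    { ψ with
      commutes' := fun a => by
        rw [← hcompat a]
        rfl }
  let ψe : ResidueField (B ⧸ Q ^ n) ≃ₐ[k] B ⧸ Q := AlgEquiv.ofBijective ψa hψ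
  rw [← Algebra.trace_eq_of_algEquiv ψe]
  rfl

end

end Groth.Agent.Helper5.PrimePow
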