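import Mathlib
import Groth.Agent.Helper5.FibCI3

set_option autoImplicit false
universe u

open CategoryTheory CategoryTheory.Limits AlgebraicGeometry

namespace Groth.Agent.Helper5.PropAt

variable {X Y : Scheme.{u}}

/-- if `f` lands in `U`, then `f ∣_ U` is the lift of `f` to `U` up to an isomorphism -/
theorem morphismRestrict_iff_lift (P : MorphismProperty Scheme.{u}) [P.RespectsIso]
    (f : X ⟶ Y) (U : Y.Opens) (hU : Set.range f ⊆ Set.range U.ι) :
    P (f ∣_ U) ↔ P (IsOpenImmersion.lift U.ι f hU) := by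
  have htop : f ⁻¹ᵁ U = ⊤ := by
    ext x
    simp only [Scheme.Hom.coe_preimage, Set.mem_preimage, SetLike.mem_coe,
      TopologicalSpace.Opens.coe_top, Set.mem_univ, iff_true]
    have := hU ⟨x, rfl⟩
    rwa [Scheme.Opens.range_ι] at this
  have : IsIso (f ⁻¹ᵁ U).ι := by
    rw [htop]; exact X.topIso.isIso_hom
  have e : f ∣_ U = (f ⁻¹ᵁ U).ι ≫ IsOpenImmersion.lift U.ι f hU := by
    rw [← cancel_mono U.ι, morphismRestrict_ι, Category.assoc, IsOpenImmersion.lift_fac]
  rw [e, P.cancel_left_of_respectsIso]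

theorem s3460 [IsLocallyNoetherian Y]
    (f : X ⟶ Y) [LocallyOfFiniteType f] [QuasiCompact f] :
    (∃ (Z : Scheme.{u}) (g : X ⟶ Z) (h : Z ⟶ Y), IsProper g ∧ IsImmersion h ∧ g ≫ h = f) ↔
      ∀ x : X, ∃ U : Y.Opens, f.base x ∈ U ∧ IsProper (f ∣_ U) := by
  constructor
  · rintro ⟨Z, g, h, hg, hh, rfl⟩ x
    have hU : Set.range (g ≫ h) ⊆ Set.range h.coborderRange.ι := by
      rintro _ ⟨x, rfl⟩
      rw [Scheme.Opens.range_ι]
      exact subset_coborder ⟨g x, (Scheme.Hom.comp_apply g h x).symm⟩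
    refine ⟨h.coborderRange, ?_, ?_⟩
    · have := hU ⟨x, rfl⟩
      rwa [Scheme.Opens.range_ι] at this
    · rw [morphismRestrict_iff_lift @IsProper _ _ hU]
      have : IsOpenImmersion.lift h.coborderRange.ι (g ≫ h) hU = g ≫ h.liftCoborder := by
        rw [← cancel_mono h.coborderRange.ι, IsOpenImmersion.lift_fac, Category.assoc,
          h.liftCoborder_ι]
      rw [this]
      infer_instance
  · intro H
    choose U hxU hU using H
    have hprop : IsProper (f ∣_ ⨆ x, U x) := FibCI.restrict_iSup @IsProper f U hU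
    have hr : Set.range f ⊆ Set.range (⨆ x, U x).ι := by
      rintro _ ⟨x, rfl⟩
      rw [Scheme.Opens.range_ι]
      exact (le_iSup U x) (hxU x)
    refine ⟨(⨆ x, U x).toScheme, IsOpenImmersion.lift (⨆ x, U x).ι f hr, (⨆ x, U x).ι, ?_,
      inferInstance, IsOpenImmersion.lift_fac _ _ _⟩
    exact (morphismRestrict_iff_lift @IsProper f _ hr).mp hprop

end Groth.Agent.Helper5.PropAt
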