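import Groth.Agent.Helper5.ConsFin1
import Groth.Agent.Helper5.NoeStalk1

set_option autoImplicit false
universe u

namespace Groth.Agent.Helper5.PropFin

open CategoryTheory CategoryTheory.Limits AlgebraicGeometry TopologicalSpace Topology
open Groth.Agent.Helper5.KLem Groth.Agent.Helper5.GenDim

/-- a scheme of finite type and dimension `≤ 0` over a one-point integral scheme is finite as a
set -/
theorem finite_of_dim_le_zero {Y T : Scheme.{u}} (g : Y ⟶ T) [IsIntegral T] [Subsingleton T]
    [LocallyOfFiniteType g] [QuasiCompact g] (hdim : topologicalKrullDim ↥Y ≤ 0) : Finite Y := by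
  have hN : IsLocallyNoetherian Y := LocallyOfFiniteType.isLocallyNoetherian g
  have hA : IsLocallyArtinian Y := IsLocallyArtinian.of_topologicalKrullDim_le_zero hdim
  have hC : CompactSpace Y := QuasiCompact.compactSpace_of_compactSpace g
  exact finite_of_compact_of_discrete

/-- a fibre all of whose points have residue transcendence degree zero is finite -/
theorem finite_preimage_of_resTrdeg_eq_zero {X Y : Scheme.{u}} (f : X ⟶ Y) [LocallyOfFiniteType f]
    [QuasiCompact f] (y : Y) (h : ∀ x : X, f x = y → Dual3.resTrdeg f x = 0) :
    (f ⁻¹' {y}).Finite := by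
  have h1 : topologicalKrullDim ↥(f ⁻¹' {y} ∩ Set.univ) ≤ 0 :=
    dim_fibre_inter_closed_le f y Set.univ isClosed_univ 0 (fun ζ hζ n hn => by
      have h2 := h ζ hζ.1
      rw [hn] at h2
      have : n = 0 := by exact_mod_cast h2
      rw [this]
      rfl)
  rw [Set.inter_univ, ← dim_fiber_eq_preimage] at h1
  have hlft : LocallyOfFiniteType (f.fiberToSpecResidueField y) :=
    inferInstanceAs (LocallyOfFiniteType (pullback.snd f (Y.fromSpecResidueField y)))
  have hqc : QuasiCompact (f.fiberToSpecResidueField y) :=
    inferInstanceAs (QuasiCompact (pullback.snd f (Y.fromSpecResidueField y)))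
  have hsub : Subsingleton ↥(Spec (Y.residueField y)) :=
    inferInstanceAs (Subsingleton (PrimeSpectrum (Y.residueField y)))
  have hfin : Finite ↥(f.fiber y) := finite_of_dim_le_zero (f.fiberToSpecResidueField y) h1
  exact (f.fiberHomeo y).finite_iff.mp hfin

theorem s1867 (X Y : Scheme.{u}) [IsIntegral X] [IsIntegral Y] [IsLocallyNoetherian Y] (f : X ⟶ Y)
    [IsProper f] (hgen : f (genericPoint X) = genericPoint Y)
    (hfin : (f.residueFieldMap (genericPoint X)).hom.Finite) (ξ : Y)
    (hξ : ringKrullDim (Y.presheaf.stalk ξ) = 1) : ∃ V : Y.Opens, ξ ∈ V ∧ IsFinite (f ∣_ V) := by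
  refine exists_isFinite_morphismRestrict_of_finite_preimage_singleton f ξ ?_
  refine finite_preimage_of_resTrdeg_eq_zero f ξ ?_
  intro x hx
  obtain ⟨η, a, c, hcomp, hηx, ha, hc, hineq⟩ :=
    Groth.Agent.Helper5.NoeStalk.dimension_inequality_of_noetherian_stalk f x
  -- η is the generic point of X
  have hη : η = genericPoint X := by
    have h1 : η ⤳ genericPoint X → η = genericPoint X := fun h =>
      (h.antisymm (by
        rw [specializes_iff_mem_closure, (genericPoint_spec X).def]; exact Set.mem_univ _)).eq
    have h2 : genericPoint X ⤳ η := by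
      rw [specializes_iff_mem_closure, (genericPoint_spec X).def]; exact Set.mem_univ _
    exact (Groth.Agent.Helper5.EqAt.max_of_closure_mem_irreducibleComponents η hcomp _ h2).symm
  subst hη
  -- transcendence degree zero at the generic point
  have htr : Dual3.resTrdeg f (genericPoint X) = 0 := by
    unfold Dual3.resTrdeg
    let _ := (f.residueFieldMap (genericPoint X)).hom.toAlgebra
    have hmf : Module.Finite (Y.residueField (f (genericPoint X)))
        (X.residueField (genericPoint X)) := hfin
    have : Algebra.IsAlgebraic (Y.residueField (f (genericPoint X)))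
        (X.residueField (genericPoint X)) := Algebra.IsAlgebraic.of_finite _ _
    exact trdeg_eq_zero
  -- c = 1
  have hc1 : c = 1 := by
    rw [hx, hξ] at hc
    exact_mod_cast hc.symm
  -- the generic point is not x
  have hne : genericPoint X ≠ x := by
    intro h
    rw [← h, hgen] at hx
    rw [← hx, ringKrullDim_stalk_eq_coheight] at hξ
    have h0 : Order.coheight (genericPoint Y) = 0 := by
      rw [Order.coheight_eq_zero]
      intro b _
      show genericPoint Y ⤳ b
      rw [specializes_iff_mem_closure, (genericPoint_spec Y).def]; exact Set.mem_univ _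
    rw [h0] at hξ
    exact absurd hξ (by decide)
  have ha1 := ha hne
  obtain ⟨n, hn⟩ := Groth.Agent.Helper5.KDim.exists_resTrdeg_nat f x
  rw [htr, hn, hc1] at hineq
  have h3 : a + n ≤ 1 + 0 := by exact_mod_cast hineq
  have : n = 0 := by omega
  rw [hn, this]
  rfl

end Groth.Agent.Helper5.PropFin
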