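import Mathlib
import Groth.Prelude
import Groth.Agent.Helper5.ProdDom
import Groth.Agent.Helper5.GrpClosed1
import Groth.Agent.S0086

set_option autoImplicit false
set_option linter.unusedSectionVars false
set_option linter.style.haveILetI false
universe u

open AlgebraicGeometry CategoryTheory CategoryTheory.Limits
open MonoidalCategory CartesianMonoidalCategory MonObj

namespace Groth.Agent.Helper5.PropKer

open Groth.Agent.Helper5.GrpDense

variable {S : Scheme.{u}} {G G' G'' H : Over S} [GrpObj G] [GrpObj G''] [GrpObj H]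
  (p : G ⟶ G'') [IsMonHom p] (i : G' ⟶ G) (hker : AlgGrp.IsKernel i p)
  (u : G ⟶ H) [IsMonHom u]

/-- `(n, g) ↦ i(n) · g` -/
noncomputable abbrev tmap : G' ⊗ G ⟶ G := (fst G' G ≫ i) * snd G' G

/-- `(n, g) ↦ (u(i(n)) · u(g), g)` -/
noncomputable abbrev vmap : G' ⊗ G ⟶ H ⊗ G :=
  lift ((fst G' G ≫ i ≫ u) * (snd G' G ≫ u)) (snd G' G)

/-- `(h, g) ↦ (h · u(g), g)` -/
noncomputable def shearU : H ⊗ G ≅ H ⊗ G where
  hom := lift (fst H G * (snd H G ≫ u)) (snd H G)
  inv := lift (fst H G * (snd H G ≫ u)⁻¹) (snd H G)
  hom_inv_id := by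
    apply CartesianMonoidalCategory.hom_ext
    · rw [Category.assoc, lift_fst, MonObj.comp_mul, GrpObj.comp_inv, lift_fst, ← Category.assoc,
        lift_snd, mul_inv_cancel_right, Category.id_comp]
    · rw [Category.assoc, lift_snd, lift_snd, Category.id_comp]
  inv_hom_id := by
    apply CartesianMonoidalCategory.hom_ext
    · rw [Category.assoc, lift_fst, MonObj.comp_mul, lift_fst, ← Category.assoc,
        lift_snd, inv_mul_cancel_right, Category.id_comp]
    · rw [Category.assoc, lift_snd, lift_snd, Category.id_comp]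

theorem vmap_eq : vmap i u = ((i ≫ u) ▷ G) ≫ (shearU u).hom := by
  apply CartesianMonoidalCategory.hom_ext
  · rw [lift_fst, Category.assoc, shearU, lift_fst, MonObj.comp_mul, whiskerRight_fst,
      whiskerRight_snd_assoc]
  · rw [lift_snd, Category.assoc, shearU, lift_snd, whiskerRight_snd]

include hker in
theorem isPullback_vt :
    IsPullback (vmap i u) (tmap i) (H ◁ p) (lift u p) := by
  have hq' : IsPullback i (toUnit G') p η[G''] := hker
  have hw1 : ∀ {T : Over S} (n : T ⟶ G'), n ≫ i ≫ p = 1 := by
    intro T n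
    rw [hq'.w, ← Category.assoc, toUnit_unique (n ≫ toUnit G') (toUnit T)]
    rfl
  have hw : vmap i u ≫ (H ◁ p) = tmap i ≫ lift u p := by
    apply CartesianMonoidalCategory.hom_ext
    · rw [Category.assoc, whiskerLeft_fst, lift_fst, Category.assoc, lift_fst, MonObj.mul_comp,
        Category.assoc]
    · rw [Category.assoc, whiskerLeft_snd, ← Category.assoc, lift_snd, Category.assoc, lift_snd,
        MonObj.mul_comp, Category.assoc, hw1, _root_.one_mul]
  have hmono : ∀ {T : Over S} (a b : T ⟶ G'), a ≫ i = b ≫ i → a = b := by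
    intro T a b hab
    exact hq'.hom_ext hab (toUnit_unique _ _)
  have hc : ∀ s : PullbackCone (H ◁ p) (lift u p),
      (s.snd * (s.fst ≫ snd H G)⁻¹) ≫ p = toUnit s.pt ≫ η[G''] := by
    intro s
    have h2 := s.condition =≫ snd H G''
    rw [Category.assoc, whiskerLeft_snd, Category.assoc, lift_snd] at h2
    rw [MonObj.mul_comp, GrpObj.inv_comp, ← h2, Category.assoc, mul_inv_cancel]
    rfl
  have hfst : ∀ s : PullbackCone (H ◁ p) (lift u p), s.fst ≫ fst H G = s.snd ≫ u := by
    intro s
    have h1 := s.condition =≫ fst H G''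
    rwa [Category.assoc, whiskerLeft_fst, Category.assoc, lift_fst] at h1
  refine ⟨⟨hw⟩, ⟨PullbackCone.IsLimit.mk _
    (fun s => lift (hq'.lift (s.snd * (s.fst ≫ snd H G)⁻¹) (toUnit _) (hc s)) (s.fst ≫ snd H G))
    ?_ ?_ ?_⟩⟩
  · intro s
    apply CartesianMonoidalCategory.hom_ext
    · rw [Category.assoc, lift_fst, MonObj.comp_mul, lift_fst_assoc, lift_snd_assoc,
        ← Category.assoc, hq'.lift_fst, ← MonObj.mul_comp, inv_mul_cancel_right, hfst]
    · rw [Category.assoc, lift_snd, lift_snd]
  · intro s
    rw [MonObj.comp_mul, ← Category.assoc, lift_fst, lift_snd, hq'.lift_fst, inv_mul_cancel_right]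
  · intro s m hm1 hm2
    have h3 : m ≫ snd G' G = s.fst ≫ snd H G := by
      have := hm1 =≫ snd H G
      rwa [Category.assoc, lift_snd] at this
    apply CartesianMonoidalCategory.hom_ext
    · rw [lift_fst]
      apply hmono
      rw [hq'.lift_fst, ← hm2, ← h3, MonObj.comp_mul, ← Category.assoc, mul_inv_cancel_right]
    · rw [lift_snd, h3]


include hker in
/-- **S5415**: a homomorphism which is proper on the kernel of a flat surjection onto a proper group
is proper. -/
theorem s5415 [QuasiCompact G.hom] [IsProper G''.hom] [Surjective p.left] [Flat p.left]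
    (hu : IsProper (i ≫ u).left) : IsProper u.left := by
  have hpb : IsPullback (vmap i u).left (tmap i).left (H ◁ p).left (lift u p).left :=
    (isPullback_vt p i hker u).map (Over.forget S)
  haveI : QuasiCompact (p.left ≫ G''.hom) := by rw [Over.w]; infer_instance
  haveI : QuasiCompact p.left := QuasiCompact.of_comp p.left G''.hom
  have hpbc : IsPullback (H ◁ p).left (snd H G).left (snd H G'').left p.left :=
    isPullback_whiskerLeft H p
  have hQ : (@Surjective ⊓ @Flat ⊓ @QuasiCompact : MorphismProperty Scheme.{u}) (H ◁ p).left :=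
    ⟨⟨MorphismProperty.of_isPullback (P := @Surjective) hpbc.flip inferInstance,
      MorphismProperty.of_isPullback (P := @Flat) hpbc.flip inferInstance⟩,
      MorphismProperty.of_isPullback (P := @QuasiCompact) hpbc.flip inferInstance⟩
  haveI : IsProper ((i ≫ u) ▷ G).left :=
    MorphismProperty.of_isPullback (P := @IsProper) (isPullback_whiskerRight (i ≫ u) G).flip hu
  haveI : IsIso (shearU (G := G) u).hom.left := (Over.forget S).map_isIso (shearU u).hom
  have hv : IsProper (vmap i u).left := by
    rw [vmap_eq, Over.comp_left]; infer_instance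
  haveI := Groth.Agent.S0086.result.{u}
  haveI : IsProper (lift u p).left :=
    MorphismProperty.of_isPullback_of_descendsAlong (P := @IsProper)
      (Q := @Surjective ⊓ @Flat ⊓ @QuasiCompact) hpb hQ hv
  haveI : IsProper (fst H G'').left := by rw [Over.fst_left]; infer_instance
  have e : u.left = (lift u p).left ≫ (fst H G'').left := by
    rw [← Over.comp_left, lift_fst]
  rw [e]
  infer_instance

end Groth.Agent.Helper5.PropKer
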