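import Mathlib
import Groth.Agent.Helper5.CPair7

set_option autoImplicit false
universe u

namespace Groth.Agent.Helper5.PropPair

open CategoryTheory CategoryTheory.Limits AlgebraicGeometry TopologicalSpace Topology
open Groth.Agent.Helper5.CPair

variable (R : Type u) [CommRing R] (K : Type u) [CommRing K] [Algebra R K]

set_option maxHeartbeats 1600000 in
/-- Lemma C with the relation: a morphism between the base changes of two families to `Spec K`
is the base change of a morphism between the base changes to the spectrum of a finitely generated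
subalgebra. -/
theorem exists_fg_model_rel
    {X Y S : Scheme.{u}} (u : X ⟶ S) (v : Y ⟶ S)
    [LocallyOfFinitePresentation u] [QuasiCompact u] [QuasiSeparated u]
    [LocallyOfFinitePresentation v] [QuasiCompact v] [QuasiSeparated v]
    (j : Spec (CommRingCat.of R) ⟶ S)
    {X' Y' : Scheme.{u}} (gX' : X' ⟶ (cone R K).pt) (gY' : Y' ⟶ (cone R K).pt)
    (eX : X' ⟶ X) (eY : Y' ⟶ Y)
    (sqX : IsPullback eX gX' u (top R K ≫ j))
    (sqY : IsPullback eY gY' v (top R K ≫ j))
    (g : X' ⟶ Y') (hg : g ≫ gY' = gX') :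
    ∃ (k : (Idx R K)ᵒᵖ) (XB YB : Scheme.{u}) (gYB : YB ⟶ (D R K).obj k)
      (eXB : XB ⟶ X) (eYB : YB ⟶ Y) (gB : XB ⟶ YB) (sX : X' ⟶ XB) (sY : Y' ⟶ YB),
      IsPullback eXB (gB ≫ gYB) u (str R K k ≫ j) ∧ IsPullback eYB gYB v (str R K k ≫ j) ∧
        IsPullback sY gY' gYB (proj R K k) ∧ IsPullback sX g gB sY := by
  let i₀ : (Idx R K)ᵒᵖ := Opposite.op (base R K)
  have hc : IsLimit (cone R K) := coneIsLimit R K
  -- the models over the base index
  have hτ : ∀ i : (Idx R K)ᵒᵖ, proj R K i ≫ (str R K i ≫ j) = top R K ≫ j := fun i => by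
    rw [← Category.assoc, proj_str]
  have key : ∀ {W W' : Scheme.{u}} (w : W ⟶ S) (gW' : W' ⟶ (cone R K).pt) (eW : W' ⟶ W)
      (sqW : IsPullback eW gW' w (top R K ≫ j)),
      ∃ qW : W' ⟶ pullback w (str R K i₀ ≫ j),
        qW ≫ pullback.fst w (str R K i₀ ≫ j) = eW ∧
        IsPullback qW gW' (pullback.snd w (str R K i₀ ≫ j)) (proj R K i₀) := by
    intro W W' w gW' eW sqW
    have hw : eW ≫ w = (gW' ≫ proj R K i₀) ≫ (str R K i₀ ≫ j) := by
      rw [Category.assoc, hτ i₀]; exact sqW.w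
    refine ⟨pullback.lift eW (gW' ≫ proj R K i₀) hw, pullback.lift_fst _ _ _, ?_⟩
    refine IsPullback.of_right (h₁₂ := pullback.fst w (str R K i₀ ≫ j)) (h₂₂ := str R K i₀ ≫ j)
      (v₁₃ := w) ?_ (pullback.lift_snd _ _ _) (IsPullback.of_hasPullback _ _)
    rw [pullback.lift_fst, hτ i₀]
    exact sqW
  obtain ⟨qX, hqX, hX⟩ := key u gX' eX sqX
  obtain ⟨qY, hqY, hY⟩ := key v gY' eY sqY
  let xi := pullback.snd u (str R K i₀ ≫ j)
  let yi := pullback.snd v (str R K i₀ ≫ j)
  have : CompactSpace ↥(pullback u (str R K i₀ ≫ j)) :=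
    QuasiCompact.compactSpace_of_compactSpace xi
  have : CompactSpace ↥(pullback v (str R K i₀ ≫ j)) :=
    QuasiCompact.compactSpace_of_compactSpace yi
  have : QuasiSeparatedSpace ↥(pullback u (str R K i₀ ≫ j)) :=
    quasiSeparatedSpace_of_quasiSeparated xi
  have : QuasiSeparatedSpace ↥(pullback v (str R K i₀ ≫ j)) :=
    quasiSeparatedSpace_of_quasiSeparated yi
  obtain ⟨j₁, φ, fj, sX, sY, hfj, hsX1, hsX2, hsY1, hsY2, hsf⟩ :=
    Groth.Agent.S9218.result (D R K) (cone R K) hc i₀ xi yi qX gX' hX qY gY' hY g hg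
  -- the squares over the stage `j₁`
  let x₁ := pullback.snd xi ((D R K).map φ)
  let y₁ := pullback.snd yi ((D R K).map φ)
  have hcw : proj R K j₁ ≫ (D R K).map φ = proj R K i₀ := proj_map R K φ
  have hX₁ : IsPullback sX gX' x₁ (proj R K j₁) := by
    refine IsPullback.of_right (h₁₂ := pullback.fst xi ((D R K).map φ)) (h₂₂ := (D R K).map φ)
      (v₁₃ := xi) ?_ hsX2 (IsPullback.of_hasPullback _ _)
    rw [hsX1, hcw]
    exact hX
  have hY₁ : IsPullback sY gY' y₁ (proj R K j₁) := by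
    refine IsPullback.of_right (h₁₂ := pullback.fst yi ((D R K).map φ)) (h₂₂ := (D R K).map φ)
      (v₁₃ := yi) ?_ hsY2 (IsPullback.of_hasPullback _ _)
    rw [hsY1, hcw]
    exact hY
  have hXg : IsPullback sX g fj sY := by
    refine IsPullback.of_bot (v₂₁ := gY') (v₂₂ := y₁) (h₃₁ := proj R K j₁) ?_ hsf hY₁
    rw [hg, hfj]
    exact hX₁
  have hstr : (D R K).map φ ≫ (str R K i₀ ≫ j) = str R K j₁ ≫ j := by
    rw [← Category.assoc, map_str]
  refine ⟨j₁, _, _, y₁, pullback.fst xi ((D R K).map φ) ≫ pullback.fst u _,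
    pullback.fst yi ((D R K).map φ) ≫ pullback.fst v _, fj, sX, sY, ?_, ?_, hY₁, hXg⟩
  · have sqB : IsPullback (pullback.fst xi ((D R K).map φ)) x₁ xi ((D R K).map φ) :=
      IsPullback.of_hasPullback _ _
    have sqC : IsPullback (pullback.fst u (str R K i₀ ≫ j)) xi u (str R K i₀ ≫ j) :=
      IsPullback.of_hasPullback _ _
    have := sqB.paste_horiz sqC
    rw [hstr] at this
    rw [hfj]
    exact this
  · have sqB : IsPullback (pullback.fst yi ((D R K).map φ)) y₁ yi ((D R K).map φ) :=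
      IsPullback.of_hasPullback _ _
    have sqC : IsPullback (pullback.fst v (str R K i₀ ≫ j)) yi v (str R K i₀ ≫ j) :=
      IsPullback.of_hasPullback _ _
    have := sqB.paste_horiz sqC
    rw [hstr] at this
    exact this

end Groth.Agent.Helper5.PropPair
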