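import Mathlib
import Groth.Agent.Helper5.PropPair1
import Groth.Agent.Helper5.PropCons6
import Groth.Agent.Helper5.GenFib4

set_option autoImplicit false
universe u

namespace Groth.Agent.Helper5.PropPair

open CategoryTheory CategoryTheory.Limits AlgebraicGeometry TopologicalSpace Topology
open Groth.Agent.Helper5.CPair Groth.Agent.Lead.FibLocus Groth.Agent.Helper5.PropCons

/-- base change along a map over the target -/
theorem of_isPullback_of_hom (Q : MorphismProperty Scheme.{u}) [Q.IsStableUnderBaseChange]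
    {A₁ B₁ A₂ B₂ XZ YZ : Scheme.{u}} {g : XZ ⟶ YZ}
    {p₁ : A₁ ⟶ XZ} {q₁ : A₁ ⟶ B₁} {r₁ : B₁ ⟶ YZ} {p₂ : A₂ ⟶ XZ} {q₂ : A₂ ⟶ B₂} {r₂ : B₂ ⟶ YZ}
    (sq₁ : IsPullback p₁ q₁ g r₁) (sq₂ : IsPullback p₂ q₂ g r₂) (e : B₁ ⟶ B₂) (he : e ≫ r₂ = r₁)
    (h : Q q₂) : Q q₁ := by
  have hw : p₁ ≫ g = (q₁ ≫ e) ≫ r₂ := by rw [Category.assoc, he]; exact sq₁.w
  have sq : IsPullback (sq₂.lift p₁ (q₁ ≫ e) hw) q₁ q₂ e := by
    refine IsPullback.of_right ?_ (sq₂.lift_snd _ _ _) sq₂
    rw [sq₂.lift_fst, he]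
    exact sq₁
  exact MorphismProperty.of_isPullback sq h

/-- Lemma D': if the fibre map at `z` of a morphism between the base changes of two families to
`Z` has `Q`, then the relation holds for the fibres at the image of `z`. -/
theorem rel_fibres_of_fibre (Q : MorphismProperty Scheme.{u}) [Q.IsStableUnderBaseChange]
    {X Y S Z XZ YZ : Scheme.{u}} (u : X ⟶ S) (v : Y ⟶ S) (σ : Z ⟶ S)
    {eX : XZ ⟶ X} {eY : YZ ⟶ Y} {gY : YZ ⟶ Z} (g : XZ ⟶ YZ)
    (sqX : IsPullback eX (g ≫ gY) u σ) (sqY : IsPullback eY gY v σ)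
    (z : Z) (hQ : Q (fibMap g gY z)) :
    Rel Q (u.fiberToSpecResidueField (σ z)) (v.fiberToSpecResidueField (σ z)) := by
  let s := σ z
  let h : Spec (Z.residueField z) ⟶ Spec (S.residueField s) := Spec.map (σ.residueFieldMap z)
  let a : Spec (Z.residueField z) ⟶ Z := Z.fromSpecResidueField z
  have ha : h ≫ S.fromSpecResidueField s = a ≫ σ :=
    Scheme.Hom.SpecMap_residueFieldMap_fromSpecResidueField σ z
  have key : ∀ {W WZ : Scheme.{u}} (w : W ⟶ S) {eW : WZ ⟶ W} {gW : WZ ⟶ Z}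
      (sqW : IsPullback eW gW w σ),
      ∃ ρ : pullback (w.fiberToSpecResidueField s) h ⟶ WZ,
        IsPullback ρ (pullback.snd (w.fiberToSpecResidueField s) h) gW a := by
    intro W WZ w eW gW sqW
    have sq1 : IsPullback (pullback.fst (w.fiberToSpecResidueField s) h)
        (pullback.snd (w.fiberToSpecResidueField s) h) (w.fiberToSpecResidueField s) h :=
      IsPullback.of_hasPullback _ _
    have sq2 : IsPullback (w.fiberι s) (w.fiberToSpecResidueField s) w
        (S.fromSpecResidueField s) := IsPullback.of_hasPullback _ _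
    have sq3 := sq1.paste_horiz sq2
    rw [ha] at sq3
    refine ⟨sqW.lift (pullback.fst (w.fiberToSpecResidueField s) h ≫ w.fiberι s)
      (pullback.snd (w.fiberToSpecResidueField s) h ≫ a) (by rw [Category.assoc]; exact sq3.w), ?_⟩
    refine IsPullback.of_right (h₁₂ := eW) (h₂₂ := σ) (v₁₃ := w) ?_ (sqW.lift_snd _ _ _) sqW
    rw [sqW.lift_fst]
    exact sq3
  obtain ⟨ρX, sqX₂⟩ := key u sqX
  obtain ⟨ρY, sqY₂⟩ := key v sqY
  obtain ⟨g₂, hg₂, sqg⟩ := exists_baseChange_hom g rfl sqX₂ sqY₂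
  let e : pullback (v.fiberToSpecResidueField s) h ⟶ pullback gY a :=
    pullback.lift ρY (pullback.snd (v.fiberToSpecResidueField s) h) sqY₂.w
  have he : e ≫ pullback.fst gY a = ρY := pullback.lift_fst _ _ _
  have hQ₂ : Q g₂ := of_isPullback_of_hom Q sqg (isPullback_fibMap g gY z) e he hQ
  refine ⟨Spec (Z.residueField z), _, _, h, _, _, _, _, inferInstance, ?_,
    IsPullback.of_hasPullback _ _, IsPullback.of_hasPullback _ _, g₂, hg₂, hQ₂⟩
  exact inferInstanceAs (Subsingleton (PrimeSpectrum (Z.residueField z)))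

set_option maxHeartbeats 1600000 in
/-- S5904: "after a field extension there is a proper morphism" is an ind-constructible relation
on pairs. -/
theorem isIndConsPair_proper : ConsPropPair.IsIndConsPair.{u} (Rel (@IsProper)) := by
  refine ⟨fieldStable_rel (@IsProper), ?_⟩
  intro X Y S u v _ _ _ _ _ _ hη
  obtain ⟨T', X', Y', h, gX', gY', eX, eY, hTi, hTs, sqX, sqY, g, hg, hQ⟩ := hη
  let η := genericPoint S
  obtain ⟨τ, hτdef⟩ : ∃ τ : T' ⟶ S, τ = h ≫ S.fromSpecResidueField η := ⟨_, rfl⟩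
  have sqX1 : IsPullback (eX ≫ u.fiberι η) gX' u τ := by
    rw [hτdef]
    exact sqX.paste_horiz (IsPullback.of_hasPullback u (S.fromSpecResidueField η))
  have sqY1 : IsPullback (eY ≫ v.fiberι η) gY' v τ := by
    rw [hτdef]
    exact sqY.paste_horiz (IsPullback.of_hasPullback v (S.fromSpecResidueField η))
  have hτ : ∀ t : T', τ t = η := by
    intro t
    rw [hτdef, Scheme.Hom.comp_apply]
    exact Scheme.fromSpecResidueField_apply η _
  -- affine open neighbourhood of the generic point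
  obtain ⟨U, hU, hηU⟩ : ∃ U : S.Opens, IsAffineOpen U ∧ η ∈ U := by
    obtain ⟨_, ⟨U, hU, rfl⟩, hxU, -⟩ :=
      (S.isBasis_affineOpens).exists_subset_of_mem_open (Set.mem_univ η) isOpen_univ
    exact ⟨U, hU, hxU⟩
  let j : Spec Γ(S, U) ⟶ S := hU.fromSpec
  have hjrange : Set.range j = U := hU.range_fromSpec
  have hτrange : Set.range τ ⊆ Set.range j := by
    rintro _ ⟨t, rfl⟩
    rw [hτ, hjrange]
    exact hηU
  obtain ⟨τ', hτ'⟩ : ∃ τ' : T' ⟶ Spec Γ(S, U), τ' ≫ j = τ :=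
    ⟨IsOpenImmersion.lift j τ hτrange, IsOpenImmersion.lift_fac _ _ _⟩
  -- the field
  have : Nonempty ↥T' := inferInstance
  let e₀ : T' ≅ Spec Γ(T', ⊤) := T'.isoSpec
  let φ : Γ(S, U) ⟶ Γ(T', ⊤) := Spec.preimage (e₀.inv ≫ τ')
  have hφ : Spec.map φ = e₀.inv ≫ τ' := Spec.map_preimage _
  letI : Algebra ↑Γ(S, U) ↑Γ(T', ⊤) := φ.hom.toAlgebra
  let e : T' ≅ (cone ↑Γ(S, U) ↑Γ(T', ⊤)).pt := e₀
  have htop : top ↑Γ(S, U) ↑Γ(T', ⊤) ≫ j = e.inv ≫ τ := by
    have h1 : top ↑Γ(S, U) ↑Γ(T', ⊤) = e.inv ≫ τ' := hφ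
    rw [h1, Category.assoc, hτ']
  have sqX2 : IsPullback (eX ≫ u.fiberι η) (gX' ≫ e.hom) u (top ↑Γ(S, U) ↑Γ(T', ⊤) ≫ j) := by
    rw [htop]; exact isPullback_of_iso_bot sqX1 e
  have sqY2 : IsPullback (eY ≫ v.fiberι η) (gY' ≫ e.hom) v (top ↑Γ(S, U) ↑Γ(T', ⊤) ≫ j) := by
    rw [htop]; exact isPullback_of_iso_bot sqY1 e
  have hu : LocallyOfFinitePresentation u :=
    LocallyOfFinitePresentation.iff_locallyOfFiniteType.mpr inferInstance
  have hv : LocallyOfFinitePresentation v :=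
    LocallyOfFinitePresentation.iff_locallyOfFiniteType.mpr inferInstance
  have hXN : IsLocallyNoetherian X := LocallyOfFiniteType.isLocallyNoetherian u
  have hYN : IsLocallyNoetherian Y := LocallyOfFiniteType.isLocallyNoetherian v
  obtain ⟨k, XB, YB, gYB, eXB, eYB, gB, sX, sY, sqXB, sqYB, hsY, hsXg⟩ :=
    exists_fg_model_rel ↑Γ(S, U) ↑Γ(T', ⊤) u v j (gX' ≫ e.hom) (gY' ≫ e.hom) _ _ sqX2 sqY2
      g (by rw [← Category.assoc, hg])
  -- the model over `Spec B`
  let Z : Scheme.{u} := (D ↑Γ(S, U) ↑Γ(T', ⊤)).obj k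
  let σ : Z ⟶ S := str ↑Γ(S, U) ↑Γ(T', ⊤) k ≫ j
  have hdomK : IsDomain ↑Γ(T', ⊤) := inferInstance
  have hdomB : IsDomain ↥k.unop.1 := inferInstance
  have hZint : IsIntegral Z := by
    show IsIntegral (Spec (CommRingCat.of ↥k.unop.1))
    infer_instance
  have hRN : IsNoetherianRing ↑Γ(S, U) := IsLocallyNoetherian.component_noetherian ⟨U, hU⟩
  have hBft : Algebra.FiniteType ↑Γ(S, U) ↥k.unop.1 := (Subalgebra.fg_iff_finiteType _).1 k.unop.2
  have hBN : IsNoetherianRing ↥k.unop.1 := Algebra.FiniteType.isNoetherianRing ↑Γ(S, U) _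
  have hZN : IsNoetherian Z := by
    show IsNoetherian (Spec (CommRingCat.of ↥k.unop.1))
    infer_instance
  have hft : LocallyOfFiniteType (str ↑Γ(S, U) ↑Γ(T', ⊤) k) := by
    show LocallyOfFiniteType (Spec.map (CommRingCat.ofHom (algebraMap ↑Γ(S, U) ↥k.unop.1)))
    rw [HasRingHomProperty.Spec_iff (P := @LocallyOfFiniteType)]
    exact (RingHom.finiteType_algebraMap (A := ↑Γ(S, U)) (B := ↥k.unop.1)).2 hBft
  have hσft : LocallyOfFiniteType σ := inferInstance
  have hσqc : QuasiCompact σ := inferInstance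
  -- finiteness of the models
  have i1 : LocallyOfFiniteType gYB := MorphismProperty.of_isPullback sqYB inferInstance
  have i2 : QuasiCompact gYB := MorphismProperty.of_isPullback sqYB inferInstance
  have i3 : LocallyOfFiniteType (gB ≫ gYB) := MorphismProperty.of_isPullback sqXB inferInstance
  have i4 : QuasiCompact (gB ≫ gYB) := MorphismProperty.of_isPullback sqXB inferInstance
  -- the image of the point of `Spec K'`
  obtain ⟨t₀⟩ := (inferInstance : Nonempty ↥T')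
  let w₀ : ↥(cone ↑Γ(S, U) ↑Γ(T', ⊤)).pt := e.hom t₀
  let z₀ : Z := proj ↑Γ(S, U) ↑Γ(T', ⊤) k w₀
  have hσz₀ : σ z₀ = η := by
    have h1 : proj ↑Γ(S, U) ↑Γ(T', ⊤) k ≫ σ = e.inv ≫ τ := by
      rw [← htop, ← Category.assoc, proj_str]
    show σ (proj ↑Γ(S, U) ↑Γ(T', ⊤) k (e.hom t₀)) = η
    rw [← Scheme.Hom.comp_apply, h1, ← Scheme.Hom.comp_apply, Iso.hom_inv_id_assoc]
    exact hτ t₀
  have hz₀gen : z₀ = genericPoint Z := by
    have hsub : Subsingleton ↥(cone ↑Γ(S, U) ↑Γ(T', ⊤)).pt :=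
      (e.inv.homeomorph.injective).subsingleton
    have hw₀ : w₀ = (⊥ : PrimeSpectrum ↑Γ(T', ⊤)) := Subsingleton.elim _ _
    show (Spec.map (CommRingCat.ofHom k.unop.1.val.toRingHom)) w₀ =
      genericPoint (Spec (CommRingCat.of ↥k.unop.1))
    rw [genericPoint_eq_bot_of_affine, hw₀]
    apply PrimeSpectrum.ext
    show Ideal.comap k.unop.1.val.toRingHom (⊥ : Ideal ↑Γ(T', ⊤)) = ⊥
    exact Ideal.comap_bot_of_injective _ Subtype.val_injective
  -- the fibre map at the generic point is proper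
  have hloc := Groth.Agent.Helper5.ConsLc.locusMor_of_isPullback fieldStable_proper hsY hsXg
  have hw₀ : w₀ ∈ ConsProp.locusMor PProper g (gY' ≫ e.hom) := by
    show IsProper (fibMap g (gY' ≫ e.hom) w₀)
    exact MorphismProperty.of_isPullback (isPullback_fibMap g (gY' ≫ e.hom) w₀) hQ
  rw [hloc] at hw₀
  have hz₀ : z₀ ∈ ConsProp.locusMor PProper gB gYB := hw₀
  have hint : (interior (ConsProp.locusMor PProper gB gYB)).Nonempty := by
    rcases isConsMor_proper.2 gB gYB with h1 | h1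
    · exact h1
    · exfalso
      have := Groth.Agent.Helper5.GenFib.genericPoint_mem_of_isOpen _ isOpen_interior h1
      rw [← hz₀gen] at this
      exact interior_subset this hz₀
  have hz₀int : z₀ ∈ interior (ConsProp.locusMor PProper gB gYB) := by
    rw [hz₀gen]
    exact Groth.Agent.Helper5.GenFib.genericPoint_mem_of_isOpen _ isOpen_interior hint
  obtain ⟨V, hVne, hV⟩ := Groth.Agent.Helper5.GenFib.exists_open_subset_image σ
    (interior (ConsProp.locusMor PProper gB gYB)) isOpen_interior ⟨z₀, hz₀int, hσz₀⟩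
  obtain ⟨v₀, hv₀⟩ := hVne
  refine ⟨v₀, mem_interior.2 ⟨V, ?_, V.2, hv₀⟩⟩
  intro s hs
  obtain ⟨z, hz, rfl⟩ := hV hs
  have hzp : IsProper (fibMap gB gYB z) :=
    interior_subset (s := ConsProp.locusMor PProper gB gYB) hz
  exact rel_fibres_of_fibre (@IsProper) u v σ gB sqXB sqYB z hzp

end Groth.Agent.Helper5.PropPair
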