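import Groth.Agent.Helper5.ProperImg1
import Groth.Agent.Helper4.AlgSpSep
import Groth.Agent.S10192
import Groth.Agent.S10193
import Groth.Agent.S10760
import Groth.Agent.S9925
import Mathlib

set_option autoImplicit false
universe u
open CategoryTheory CategoryTheory.Limits AlgebraicGeometry Opposite

namespace Groth.Agent.Helper5.ProperUnion

open AlgSp

variable {S : Scheme.{u}}

/-- A morphism is universally closed if its restrictions to a finite jointly surjective family are. -/
theorem isUnivClosedMor_of_finite_family {W B : Sp S} (g : W ⟶ B) {n : ℕ} (Z : Fin n → Sp S)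
    (φ : ∀ k, Z k ⟶ W) (hsurj : ∀ w : Points W, ∃ k, w ∈ Set.range (Points.map (φ k)))
    (h : ∀ k, IsUnivClosedMor (φ k ≫ g)) : IsUnivClosedMor g := by
  intro B' W' hB' b a c sq
  -- `a : W' ⟶ W`, `c : W' ⟶ B'`
  intro C hC
  have hpb : ∀ k, IsPullback (pullback.fst (φ k) a) (pullback.snd (φ k) a) (φ k) a :=
    fun k => IsPullback.of_hasPullback _ _
  have hbig : ∀ k, IsPullback (pullback.fst (φ k) a) (pullback.snd (φ k) a ≫ c) (φ k ≫ g) b :=
    fun k => (hpb k).paste_vert sq
  have hcl : ∀ k, IsClosedMap (Points.map (pullback.snd (φ k) a ≫ c)) :=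
    fun k => h k hB' b _ _ (hbig k)
  have heq : Points.map c '' C =
      ⋃ k, Points.map (pullback.snd (φ k) a ≫ c) '' (Points.map (pullback.snd (φ k) a) ⁻¹' C) := by
    ext y
    simp only [Set.mem_image, Set.mem_iUnion, Set.mem_preimage]
    constructor
    · rintro ⟨w', hw', rfl⟩
      obtain ⟨k, z, hz⟩ := hsurj (Points.map a w')
      obtain ⟨p, -, hp⟩ :=
        Groth.Agent.Helper4.AlgSpPtsDesc.exists_point_of_isPullback (hpb k) z w' hz
      exact ⟨k, p, by rw [hp]; exact hw', by rw [Points.map_comp, hp]⟩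
    · rintro ⟨k, p, hp, rfl⟩
      exact ⟨_, hp, (Points.map_comp _ _ _).symm⟩
  rw [heq]
  refine isClosed_iUnion_of_finite fun k => hcl k _ ?_
  exact hC.preimage (Points.continuous_map _)

theorem s10765 {X Y : Space S} (f : X ⟶ Y) (hf : LocP @LocallyOfFiniteType f.hom)
    {n : ℕ} (Z : Fin n → Space S) (i : ∀ k, Z k ⟶ X)
    (hi : ∀ k, RepWith @IsClosedImmersion (i k).hom) (hZ : ∀ k, IsProperMor (i k ≫ f).hom) :
    ∃ (W : Space S) (j : W ⟶ X), RepWith @IsClosedImmersion j.hom ∧
      Set.range (Points.map j.hom) = ⋃ k, Set.range (Points.map (i k).hom) ∧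
      IsProperMor (j ≫ f).hom := by
  have hcl : ∀ k, IsClosed (Set.range (Points.map (i k).hom)) := fun k =>
    Groth.Agent.Helper5.ProperImg.isClosed_range_of_closedImmersion X.property _ (hi k)
  choose Z' i' hi' using fun k => Groth.Agent.S10192.result X _ (hcl k)
  have hZ' : ∀ k, IsProperMor (i' k ≫ f).hom := fun k =>
    Groth.Agent.S10760.result f hf (i k) (i' k) (hi k) (hi' k).1 ((hi' k).2.1.symm) (hZ k)
  have hT : IsClosed (⋃ k, Set.range (Points.map (i k).hom)) := isClosed_iUnion_of_finite hcl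
  obtain ⟨W, j, hj1, hj2, hj3⟩ := Groth.Agent.S10192.result X _ hT
  refine ⟨W, j, hj1, hj2, ?_⟩
  have hfac : ∀ k, ∃ φ : Z' k ⟶ W, φ ≫ j = i' k := fun k =>
    (Groth.Agent.S10193.result j hj1 (hi' k).2.2 (i' k)).2 (by
      rw [(hi' k).2.1, hj2]
      exact Set.subset_iUnion (fun k => Set.range (Points.map (i k).hom)) k)
  choose φ hφ using hfac
  have hφ' : ∀ k, (φ k).hom ≫ j.hom = (i' k).hom := fun k => by rw [← hφ k]; rfl
  have hinj := Groth.Agent.Helper5.ProperImg.points_injective_of_closedImmersion W.property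
    X.property j.hom hj1
  have hsurj : ∀ w : Points W.obj, ∃ k, w ∈ Set.range (Points.map (φ k).hom) := by
    intro w
    have hw : Points.map j.hom w ∈ ⋃ k, Set.range (Points.map (i k).hom) := by
      rw [← hj2]
      exact ⟨w, rfl⟩
    obtain ⟨k, hk⟩ := Set.mem_iUnion.1 hw
    rw [← (hi' k).2.1] at hk
    obtain ⟨z, hz⟩ := hk
    refine ⟨k, z, hinj ?_⟩
    rw [← hz, ← Points.map_comp, hφ' k]
  set g : W.obj ⟶ Y.obj := (j ≫ f).hom with hg
  have hφg : ∀ k, (φ k).hom ≫ g = (i' k ≫ f).hom := fun k => by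
    show (φ k).hom ≫ j.hom ≫ f.hom = (i' k).hom ≫ f.hom
    rw [← Category.assoc, hφ' k]
  -- universally closed
  have huc : IsUnivClosedMor g :=
    isUnivClosedMor_of_finite_family g (fun k => (Z' k).obj) (fun k => (φ k).hom) hsurj
      (fun k => by rw [hφg k]; exact (hZ' k).2.2)
  -- the diagonal is universally closed
  have hjsep : IsSeparatedMor j.hom :=
    Groth.Agent.Helper5.AlgSpProper.isSeparatedMor_of_closedImmersion _ hj1
  have hφc : ∀ k, IsUnivClosedMor (φ k).hom := fun k =>
    Groth.Agent.Helper5.AlgSpProper.isUnivClosedMor_of_comp_separated (Z' k).property W.property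
      X.property.diag (φ k).hom j.hom hjsep (by
        rw [hφ' k]
        exact Groth.Agent.Helper5.AlgSpProper.isUnivClosedMor_of_closedImmersion _ (hi' k).1)
  have hWW : IsAlgSpace (pullback g g) :=
    Groth.Agent.Helper4.AlgSpPB.isAlgSpace_of_isPullback Y.property.diag W.property W.property
      _ _ _ _ (IsPullback.of_hasPullback _ _)
  have hΔ : IsUnivClosedMor (pullback.diagonal g) := by
    refine isUnivClosedMor_of_finite_family (pullback.diagonal g) (fun k => (Z' k).obj)
      (fun k => (φ k).hom) hsurj (fun k => ?_)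
    rw [pullback.comp_diagonal]
    have hZZ : IsAlgSpace (pullback ((φ k).hom ≫ g) ((φ k).hom ≫ g)) :=
      Groth.Agent.Helper4.AlgSpPB.isAlgSpace_of_isPullback Y.property.diag (Z' k).property
        (Z' k).property _ _ _ _ (IsPullback.of_hasPullback _ _)
    have h1 : IsUnivClosedMor (pullback.diagonal ((φ k).hom ≫ g)) := by
      have hs : IsSeparatedMor ((φ k).hom ≫ g) := by rw [hφg k]; exact (hZ' k).1
      exact Groth.Agent.Helper5.AlgSpProper.isUnivClosedMor_of_closedImmersion _ hs
    have h2 := Groth.Agent.Helper4.AlgSpSep.isUnivClosedMor_pullback_map (Z' k).property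
      W.property (φ k).hom g (hφc k)
    exact Groth.Agent.Helper4.AlgSpSrc.isUnivClosedMor_comp hZZ hWW.diag _ _ h1 h2
  have hsep : IsSeparatedMor g :=
    Groth.Agent.Helper5.AlgSpProper.isSeparatedMor_of_diagonal_univClosed W.property g hΔ
  have hjp := Groth.Agent.Helper5.AlgSpProper.isProperMor_of_closedImmersion j.hom hj1
  exact ⟨hsep, ⟨Groth.Agent.Helper4.AlgSpLocPComp.locP_comp _ Groth.Agent.Helper4.SDClasses.good_lft
    X.property j.hom f.hom hjp.2.1.1 hf, Groth.Agent.S9925.result (j ≫ f) huc⟩, huc⟩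

end Groth.Agent.Helper5.ProperUnion
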