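import Groth.Agent.Helper5.GrpLoc2
import Groth.Agent.Helper5.GrpLoc1
import Groth.Agent.Helper4.AlgSpPB
import Mathlib

set_option autoImplicit false
set_option linter.style.haveILetI false
set_option linter.unusedSectionVars false
set_option linter.unusedVariables false
universe u
open CategoryTheory CategoryTheory.Limits AlgebraicGeometry Opposite
open MonoidalCategory CartesianMonoidalCategory MonObj

namespace Groth.Agent.Helper5.PseudoTor

section General

variable {C : Type*} [Category C] [CartesianMonoidalCategory C]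

theorem isPullback_fst_snd (A B : C) : IsPullback (fst A B) (snd A B) (toUnit A) (toUnit B) where
  w := toUnit_unique _ _
  isLimit' := Nonempty.intro <| PullbackCone.IsLimit.mk _
    (fun s => lift s.fst s.snd)
    (by intro s; simp)
    (by intro s; simp)
    (by
      intro s m hm₁ hm₂
      apply CartesianMonoidalCategory.hom_ext
      · rw [lift_fst, hm₁]
      · rw [lift_snd, hm₂])

end General

open AlgSp Groth.Agent.Helper4 Groth.Agent.Helper5.PtLoc Groth.Agent.Helper5.GrpLoc

variable {S : Scheme.{u}}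

/-- `HasAtMor` through an isomorphism of the source -/
theorem hasAtMor_of_iso_comp (Q : ∀ (U V : Scheme.{u}), (U ⟶ V) → ↥U → Prop) {X' X Y : Sp S}
    (τ : X' ⟶ X) [IsIso τ] (f : X ⟶ Y) (v : Points X') (h : HasAtMor Q (τ ≫ f) v) :
    HasAtMor Q f (Points.map τ v) := by
  obtain ⟨U, V, a, b, s, u, ha, hb, comm, hu, hG⟩ := h
  refine ⟨U, V, a ≫ τ, b, s, u, MorphismProperty.RespectsIso.postcomp _ τ a ha, hb, ?_, ?_, hG⟩
  · rw [Category.assoc, comm]
  · rw [← Points.map_ofPt, hu]

set_option backward.isDefEq.respectTransparency.types false in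
/-- the pointwise transfer from the group to a pseudo-torsor -/
theorem transfer (Q : ∀ (U V : Scheme.{u}), (U ⟶ V) → ↥U → Prop) (B : Sp S) (hB : IsAlgSpace B)
    (G X : Over B) [GrpObj G] (hG : IsAlgSpace G.left) (hX : IsAlgSpace X.left)
    (a : GAction G X) (ha : a.IsPseudoTorsor)
    (hGt : LocP @LocallyOfFiniteType G.hom) (hXt : LocP @LocallyOfFiniteType X.hom)
    (hbc : ∀ {X₁ Y₁ X₁' Y₁' : AlgSp.Space S} (f : X₁ ⟶ Y₁) (hf : LocP @LocallyOfFiniteType f.hom)
      (g : Y₁' ⟶ Y₁) (g' : X₁' ⟶ X₁) (f' : X₁' ⟶ Y₁') (sq : IsPullback g'.hom f'.hom f.hom g.hom)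
      (x' : Points X₁'.obj), HasAtMor Q f'.hom x' ↔ HasAtMor Q f.hom (Points.map g'.hom x'))
    (hGall : ∀ g : Points G.left, HasAtMor Q G.hom g) (x : Points X.left) :
    HasAtMor Q X.hom x := by
  haveI : IsIso (lift a.act (snd G X)) := ha
  let φ : G ⊗ X ⟶ X ⊗ X := lift a.act (snd G X)
  haveI : IsIso φ.left := (Over.forget B).map_isIso φ
  have hφ : φ.left ≫ (snd X X).left = (snd G X).left := by
    rw [← Over.comp_left, lift_snd]
  have sq1 : IsPullback (fst G X).left (snd G X).left G.hom X.hom :=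
    (isPullback_fst_snd G X).map (Over.forget B)
  have sq2 : IsPullback (fst X X).left (snd X X).left X.hom X.hom :=
    (isPullback_fst_snd X X).map (Over.forget B)
  have hP1 : IsAlgSpace (G ⊗ X).left :=
    Groth.Agent.Helper4.AlgSpPB.isAlgSpace_of_isPullback hB.diag hG hX _ _ _ _ sq1
  have hP2 : IsAlgSpace (X ⊗ X).left :=
    Groth.Agent.Helper4.AlgSpPB.isAlgSpace_of_isPullback hB.diag hX hX _ _ _ _ sq2
  let Bs : AlgSp.Space S := ⟨B, hB⟩
  let Gs : AlgSp.Space S := ⟨G.left, hG⟩
  let Xs : AlgSp.Space S := ⟨X.left, hX⟩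
  let P1 : AlgSp.Space S := ⟨(G ⊗ X).left, hP1⟩
  let P2 : AlgSp.Space S := ⟨(X ⊗ X).left, hP2⟩
  let fG : Gs ⟶ Bs := ObjectProperty.homMk G.hom
  let fX : Xs ⟶ Bs := ObjectProperty.homMk X.hom
  -- the diagonal point
  let Δ : X ⟶ X ⊗ X := lift (𝟙 X) (𝟙 X)
  let w : Points (X ⊗ X).left := Points.map Δ.left x
  have hw1 : Points.map (fst X X).left w = x := by
    show Points.map (fst X X).left (Points.map Δ.left x) = x
    rw [← Points.map_comp, ← Over.comp_left, lift_fst]
    exact Points.map_id _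
  have h2 := hbc fX hXt fX (ObjectProperty.homMk (fst X X).left : P2 ⟶ Xs)
    (ObjectProperty.homMk (snd X X).left : P2 ⟶ Xs) sq2 w
  have h2' : HasAtMor Q (snd X X).left w ↔ HasAtMor Q X.hom x := by
    have := h2
    rw [show Points.map (ObjectProperty.homMk (fst X X).left : P2 ⟶ Xs).hom w = x from hw1] at this
    exact this
  rw [← h2']
  -- transport along the isomorphism
  let v : Points (G ⊗ X).left := Points.map (inv φ.left) w
  have hv : Points.map φ.left v = w := by
    show Points.map φ.left (Points.map (inv φ.left) w) = w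
    rw [← Points.map_comp, IsIso.inv_hom_id]
    exact Points.map_id _
  rw [← hv]
  apply hasAtMor_of_iso_comp Q φ.left
  rw [hφ]
  have h1 := hbc fG hGt fX (ObjectProperty.homMk (fst G X).left : P1 ⟶ Gs)
    (ObjectProperty.homMk (snd G X).left : P1 ⟶ Xs) sq1 v
  exact h1.2 (hGall _)

end Groth.Agent.Helper5.PseudoTor

namespace Groth.Agent.Helper5.PseudoTor

open AlgSp Groth.Agent.Helper4 Groth.Agent.Helper5.PtLoc Groth.Agent.Helper5.GrpLoc

variable {S : Scheme.{u}}

theorem s10118 (B : AlgSp.Sp S) (hB : AlgSp.IsAlgSpace B)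
    (G X : Over B) [GrpObj G] (hG : AlgSp.IsAlgSpace G.left) (hX : AlgSp.IsAlgSpace X.left)
    (a : AlgSp.GAction G X) (ha : a.IsPseudoTorsor)
    (hGt : AlgSp.LocP @LocallyOfFiniteType G.hom) (hXt : AlgSp.LocP @LocallyOfFiniteType X.hom) :
    (AlgSp.LocP (@LocallyOfFiniteType ⊓ @FormallyUnramified) G.hom →
        AlgSp.LocP (@LocallyOfFiniteType ⊓ @FormallyUnramified) X.hom) ∧
      (AlgSp.LocP (@LocallyQuasiFinite ⊓ @LocallyOfFiniteType) G.hom →
        AlgSp.LocP (@LocallyQuasiFinite ⊓ @LocallyOfFiniteType) X.hom) := by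
  let Bs : AlgSp.Space S := ⟨B, hB⟩
  let Gs : AlgSp.Space S := ⟨G.left, hG⟩
  let Xs : AlgSp.Space S := ⟨X.left, hX⟩
  let fG : Gs ⟶ Bs := ObjectProperty.homMk G.hom
  let fX : Xs ⟶ Bs := ObjectProperty.homMk X.hom
  constructor
  · intro h
    have h1 := (unram_all fG hGt).1 h
    refine (unram_all fX hXt).2 fun x => ?_
    exact transfer QnU B hB G X hG hX a ha hGt hXt
      (fun f hf g g' f' sq x' => unram_bc f hf g g' f' sq x') h1 x
  · intro h
    have h1 := (lqf_all fG hGt).1 h
    refine (lqf_all fX hXt).2 fun x => ?_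
    exact transfer QnQ B hB G X hG hX a ha hGt hXt
      (fun f hf g g' f' sq x' => lqf_bc f hf g g' f' sq x') h1 x

end Groth.Agent.Helper5.PseudoTor
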