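import Groth.Agent.Helper5.PtLoc1
import Mathlib

set_option autoImplicit false
set_option linter.style.haveILetI false
set_option linter.unusedSectionVars false
set_option linter.unusedVariables false
universe u
open CategoryTheory CategoryTheory.Limits AlgebraicGeometry Opposite

namespace Groth.Agent.Helper5.PtLoc

open AlgSp Groth.Agent.Helper4 Groth.Agent.Helper5.GorSp Groth.Agent.Helper5.FlatBC

variable {Q : ∀ (A B : Scheme.{u}), (A ⟶ B) → ↥A → Prop}
variable {S : Scheme.{u}}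

set_option backward.isDefEq.respectTransparency.types false in
/-- two-step base change of the locus of an étale local pointwise property: `X ⟶ Y ⟶ Z` and a base
change along `Z' ⟶ Z`, given the corresponding statement for schemes under a condition `C₂` on the
chart-level pair -/
theorem locus_baseChange₂ (hQ : EtLocal Q)
    (C₂ : ∀ {A B C : Scheme.{u}}, (A ⟶ B) → (B ⟶ C) → Prop)
    (hbc : ∀ {A B C A' B' C' : Scheme.{u}} (s : A ⟶ B) (t : B ⟶ C) (p₀ : C' ⟶ C) (q₁ : B' ⟶ B)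
      (q₂ : B' ⟶ C'), IsPullback q₁ q₂ t p₀ → ∀ (r₁ : A' ⟶ A) (r₂ : A' ⟶ B'),
      IsPullback r₁ r₂ s q₁ → C₂ s t → ∀ x' : A', Q A' B' r₂ x' ↔ Q A B s (r₁ x'))
    {X Y Z : AlgSp.Space S} (f : X ⟶ Y) (h : Y ⟶ Z)
    (hC : ∀ {U V W : Over S} (a : (yon S).obj U ⟶ X.obj) (b : (yon S).obj V ⟶ Y.obj)
      (c : (yon S).obj W ⟶ Z.obj) (s : U ⟶ V) (t : V ⟶ W), RepWith @Etale a → RepWith @Etale b →
      RepWith @Etale c → a ≫ f.hom = (yon S).map s ≫ b → b ≫ h.hom = (yon S).map t ≫ c →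
      C₂ s.left t.left)
    (X' Y' Z' : AlgSp.Space S) (g : Z' ⟶ Z) (f' : X' ⟶ Y') (h' : Y' ⟶ Z') (pX : X' ⟶ X)
    (pY : Y' ⟶ Y) (hY : IsPullback pY.hom h'.hom h.hom g.hom)
    (hX : IsPullback pX.hom f'.hom f.hom pY.hom) :
    {x' : Points X'.obj | HasAtMor Q f'.hom x'} =
      Points.map pX.hom ⁻¹' {x : Points X.obj | HasAtMor Q f.hom x} := by
  ext x'
  simp only [Set.mem_preimage, Set.mem_ofPred_eq]
  obtain ⟨W, c, hce, hcs⟩ := Z.property.atlas
  obtain ⟨W', c', p₀, hc'e, hc's, cc⟩ := exists_chart_surj Z'.property g.hom c hce hcs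
  obtain ⟨V, V', b, b', t, q₁, q₂, hbe, hb'e, hb's, c2, sqV, hb'1, hb'2, -⟩ :=
    exists_cube_over Y.property hY c c' p₀ hce hc'e hc's cc
  obtain ⟨U, U', a, a', s, r₁, r₂, hae, ha'e, ha's, c1, sqU, ha'1, ha'2, -⟩ :=
    exists_cube_over X.property hX b b' q₁ hbe hb'e hb's hb'1
  obtain ⟨u', hu'⟩ := Groth.Agent.Helper5.AlgSpOpen.ofPt_surjective_of_repWith a' ha's x'
  have key := hbc s.left t.left p₀.left q₁.left q₂.left (sqV.map (Over.forget S)) r₁.left r₂.left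
    (sqU.map (Over.forget S)) (hC a b c s t hae hbe hce c1 c2) u'
  have hpt : Points.ofPt a (r₁.left u') = Points.map pX.hom x' := by
    rw [← hu', Points.map_ofPt, ha'1, Groth.Agent.Helper4.AlgSpPtsDesc.ofPt_yon_map_comp]
  rw [← hpt, ← hu', hasAtMor_iff_chart hQ f'.hom a' b' r₂ ha'e hb'e ha'2 u',
    hasAtMor_iff_chart hQ f.hom a b s hae hbe c1 (r₁.left u')]
  exact key

end Groth.Agent.Helper5.PtLoc
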