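import Mathlib
import Groth.Prelude.Def_EGA43
import Groth.Agent.Helper5.PtOpen6

set_option autoImplicit false
universe u

namespace Groth.Agent.Helper5.PtOpen

open CategoryTheory CategoryTheory.Limits AlgebraicGeometry TopologicalSpace Topology

/-- S4930 -/
theorem s4930 {X Y : Scheme.{u}} [IsLocallyNoetherian Y] (f : X ⟶ Y)
    [LocallyOfFiniteType f] (y : Y) :
    (∀ x : X, f.base x = y → EGA43.IsUnivOpenAt f x) ↔
      ∀ (A : Type u) [CommRing A] [IsDomain A] [IsDiscreteValuationRing A] (g : Spec (CommRingCat.of A) ⟶ Y),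
        g.base (IsLocalRing.closedPoint A) = y →
        ∀ Z ∈ irreducibleComponents (↥(pullback f g) : Type u), Dense ((pullback.snd f g).base '' Z) := by
  constructor
  · intro h A _ _ _ g hg Z hZ
    obtain ⟨ζ, hζ⟩ := QuasiSober.sober hZ.1 (isClosed_of_mem_irreducibleComponents Z hZ)
    have hbot : pullback.snd f g ζ = (⟨⊥, Ideal.isPrime_bot⟩ : PrimeSpectrum A) := by
      apply dvr_eq_bot_of_ne_closedPoint
      intro hcl
      have hfx : f (pullback.fst f g ζ) = y := by
        have : f (pullback.fst f g ζ) = g (pullback.snd f g ζ) :=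
          congrArg (fun ψ : pullback f g ⟶ Y => ψ ζ) pullback.condition
        rw [this, hcl]
        exact hg
      have h1 := h _ hfx _ g ζ rfl
      obtain ⟨ζ', hζ', hζ'2⟩ := GenLift.exists_generization_of_isOpenAt (pullback.snd f g) ζ h1
        ⟨⊥, Ideal.isPrime_bot⟩ (dvr_bot_specializes A _)
      have h2 : Z ⊆ closure {ζ'} := by
        rw [← hζ.def]
        exact closure_minimal (Set.singleton_subset_iff.mpr hζ'.mem_closure) isClosed_closure
      have h3 : closure {ζ'} ⊆ Z := hZ.2 isIrreducible_singleton.closure h2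
      have h4 : ζ ⤳ ζ' := by
        rw [specializes_iff_mem_closure, hζ.def]
        exact h3 (subset_closure rfl)
      have h5 : ζ = ζ' := (h4.antisymm hζ').eq
      rw [← h5, hcl] at hζ'2
      exact dvr_bot_ne_closedPoint A hζ'2.symm
    have h4 : (⟨⊥, Ideal.isPrime_bot⟩ : PrimeSpectrum A) ∈ (pullback.snd f g).base '' Z :=
      ⟨ζ, hζ.def ▸ subset_closure rfl, hbot⟩
    intro t
    have : closure {(⟨⊥, Ideal.isPrime_bot⟩ : PrimeSpectrum A)} ⊆
        closure ((pullback.snd f g).base '' Z) :=
      closure_mono (Set.singleton_subset_iff.mpr h4)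
    exact this (GenLift.closure_bot_eq_univ A ▸ Set.mem_univ t)
  · intro h x hx
    refine isUnivOpenAt_of_dvrAt f x ?_
    intro A _ _ _ g hg x' hx' hx'2
    obtain ⟨ζ, hζ⟩ := QuasiSober.sober (isIrreducible_irreducibleComponent (x := x'))
      isClosed_irreducibleComponent
    have hζx' : ζ ⤳ x' := by
      rw [specializes_iff_mem_closure, hζ.def]
      exact mem_irreducibleComponent
    have hd := h A g (hg.trans hx) _ (irreducibleComponent_mem_irreducibleComponents x')
    have h1 : closure {pullback.snd f g ζ} = Set.univ := by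
      rw [Set.eq_univ_iff_forall]
      intro t
      have : t ∈ closure (pullback.snd f g '' irreducibleComponent x') := hd t
      rw [← hζ.def] at this
      have h2 := image_closure_subset_closure_image (s := {ζ})
        (pullback.snd f g).continuous
      rw [Set.image_singleton] at h2
      exact closure_minimal h2 isClosed_closure this
    have h3 : pullback.snd f g ζ = (⟨⊥, Ideal.isPrime_bot⟩ : PrimeSpectrum A) :=
      IsGenericPoint.eq (S := Set.univ) h1 (GenLift.closure_bot_eq_univ A)
    refine ⟨ζ, hζx', ?_⟩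
    change pullback.snd f g ζ ≠ _
    rw [h3]
    exact dvr_bot_ne_closedPoint A

end Groth.Agent.Helper5.PtOpen
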