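import Groth.Prelude.Def_AlgSpGpd
import Groth.Prelude.Def_AlgSpDec
import Mathlib

set_option autoImplicit false
universe u
open CategoryTheory CategoryTheory.Limits AlgebraicGeometry Opposite

namespace Groth.Agent.Helper5.PtsRel

open AlgSp

variable {S : Scheme.{u}}

set_option backward.isDefEq.respectTransparency false

/-- the field-valued point given by a morphism from the spectrum of a field -/
noncomputable def homPt {F : Sp S} {Ω : Type u} [Field Ω] (w : Spec (CommRingCat.of Ω) ⟶ S)
    (r : (yon S).obj (Over.mk w) ⟶ F) : FieldPt F :=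
  ⟨Ω, w, (J S).uliftYonedaEquiv r⟩

theorem homPt_map {F G : Sp S} {Ω : Type u} [Field Ω] (w : Spec (CommRingCat.of Ω) ⟶ S)
    (r : (yon S).obj (Over.mk w) ⟶ F) (f : F ⟶ G) : (homPt w r).map f = homPt w (r ≫ f) := rfl

theorem homPt_toHom {F : Sp S} (p : FieldPt F) : homPt p.str p.toHom = p := by
  unfold homPt
  rw [FieldPt.uliftYonedaEquiv_toHom]
  rfl

theorem ule_restrict {F : Sp S} (p : FieldPt F) {Ω : Type u} [Field Ω]
    (w : Spec (CommRingCat.of Ω) ⟶ S) (a : Over.mk w ⟶ p.pt) :
    (J S).uliftYonedaEquiv ((yon S).map a ≫ p.toHom) = F.obj.map a.op p.val := by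
  have h := (J S).uliftYonedaEquiv_naturality p.toHom a
  rw [FieldPt.uliftYonedaEquiv_toHom] at h
  exact h.symm

theorem homPt_toHom_comp {F G : Sp S} (q : FieldPt F) (f : F ⟶ G) :
    homPt q.str (q.toHom ≫ f) = q.map f := by
  rw [← FieldPt.toHom_map]
  exact homPt_toHom (q.map f)

/-- restricting a field-valued point along a field extension does not change the point -/
theorem mk_homPt_restrict {F : Sp S} (p : FieldPt F) {Ω : Type u} [Field Ω]
    (w : Spec (CommRingCat.of Ω) ⟶ S) (a : Over.mk w ⟶ p.pt) :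
    Points.mk (homPt w ((yon S).map a ≫ p.toHom)) = Points.mk p := by
  apply Points.sound
  refine ⟨Ω, inferInstance, w, 𝟙 _, a, ?_⟩
  show F.obj.map (𝟙 _).op ((J S).uliftYonedaEquiv ((yon S).map a ≫ p.toHom)) = F.obj.map a.op p.val
  rw [op_id, CategoryTheory.Functor.map_id]
  exact ule_restrict p w a

theorem s10121 (R U : Sp S) (s t : R ⟶ U) (h : IsPreEqvRelSp s t) :
    _root_.Equivalence (fun x y : Points U =>
      ∃ r : Points R, Points.map t r = x ∧ Points.map s r = y) := by
  refine ⟨?_, ?_, ?_⟩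
  · intro x
    induction x using Points.ind with
    | h p =>
      obtain ⟨r, hr1, hr2⟩ := (h p.pt).refl p.toHom
      refine ⟨Points.mk (homPt p.str r), ?_, ?_⟩
      · rw [Points.map_mk, homPt_map, hr1, homPt_toHom]
      · rw [Points.map_mk, homPt_map, hr2, homPt_toHom]
  · rintro x y ⟨r, hr1, hr2⟩
    induction r using Points.ind with
    | h q =>
      obtain ⟨r', hr'1, hr'2⟩ := (h q.pt).symm ⟨q.toHom, rfl, rfl⟩
      refine ⟨Points.mk (homPt q.str r'), ?_, ?_⟩
      · rw [Points.map_mk, homPt_map, hr'1, homPt_toHom_comp, ← hr2, Points.map_mk]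
      · rw [Points.map_mk, homPt_map, hr'2, homPt_toHom_comp, ← hr1, Points.map_mk]
  · rintro x y z ⟨r₁, hr11, hr12⟩ ⟨r₂, hr21, hr22⟩
    induction r₁ using Points.ind with
    | h q₁ =>
      induction r₂ using Points.ind with
      | h q₂ =>
        have hy : Points.mk (q₁.map s) = Points.mk (q₂.map t) := by
          rw [← Points.map_mk, ← Points.map_mk, hr12, hr21]
        rw [Points.mk_eq_mk_iff] at hy
        obtain ⟨Ω, _, w, a, b, hab⟩ := hy
        let ρ₁ : (yon S).obj (Over.mk w) ⟶ R := (yon S).map a ≫ q₁.toHom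
        let ρ₂ : (yon S).obj (Over.mk w) ⟶ R := (yon S).map b ≫ q₂.toHom
        have hmid : ρ₁ ≫ s = ρ₂ ≫ t := by
          have e1 : ρ₁ ≫ s = (yon S).map a ≫ (q₁.map s).toHom := by
            simp only [ρ₁, Category.assoc, FieldPt.toHom_map]
          have e2 : ρ₂ ≫ t = (yon S).map b ≫ (q₂.map t).toHom := by
            simp only [ρ₂, Category.assoc, FieldPt.toHom_map]
          rw [e1, e2]
          apply (J S).uliftYonedaEquiv.injective
          rw [ule_restrict (q₁.map s) w a, ule_restrict (q₂.map t) w b]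
          exact hab
        obtain ⟨r₃, hr31, hr32⟩ := (h (Over.mk w)).trans (x := ρ₁ ≫ t) (y := ρ₁ ≫ s) (z := ρ₂ ≫ s)
          ⟨ρ₁, rfl, rfl⟩ ⟨ρ₂, hmid.symm, rfl⟩
        refine ⟨Points.mk (homPt w r₃), ?_, ?_⟩
        · rw [Points.map_mk, homPt_map, hr31]
          simp only [ρ₁, Category.assoc]
          rw [← FieldPt.toHom_map, mk_homPt_restrict (q₁.map t) w a, ← hr11, Points.map_mk]
        · rw [Points.map_mk, homPt_map, hr32]
          simp only [ρ₂, Category.assoc]
          rw [← FieldPt.toHom_map, mk_homPt_restrict (q₂.map s) w b, ← hr22, Points.map_mk]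

end Groth.Agent.Helper5.PtsRel
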