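import Mathlib

set_option autoImplicit false
universe u
open TopologicalSpace

namespace Groth.Agent.Helper5.PureDim

theorem isIrreducible_preimage_val {T : Type*} [TopologicalSpace T] (C s : Set T)
    (hs : IsIrreducible s) (hsC : s ⊆ C) : IsIrreducible (Subtype.val ⁻¹' s : Set ↥C) := by
  obtain ⟨⟨a, ha⟩, hpre⟩ := hs
  refine ⟨⟨⟨a, hsC ha⟩, ha⟩, ?_⟩
  rintro u v hu hv ⟨p, hp, hpu⟩ ⟨q, hq, hqv⟩
  obtain ⟨u', hu', rfl⟩ := isOpen_induced_iff.1 hu
  obtain ⟨v', hv', rfl⟩ := isOpen_induced_iff.1 hv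
  obtain ⟨r, hr, hru, hrv⟩ := hpre u' v' hu' hv' ⟨p.1, hp, hpu⟩ ⟨q.1, hq, hqv⟩
  exact ⟨⟨r, hsC hr⟩, hr, hru, hrv⟩

/-- The dimension of a space is bounded by the dimensions of its irreducible components. -/
theorem dim_le_of_components {T : Type*} [TopologicalSpace T] (d : WithBot ℕ∞)
    (h : ∀ Z ∈ irreducibleComponents T, topologicalKrullDim ↥Z ≤ d) :
    topologicalKrullDim T ≤ d := by
  unfold topologicalKrullDim Order.krullDim
  apply iSup_le
  intro l
  obtain ⟨C, hC, hsub⟩ := exists_mem_irreducibleComponents_subset_of_isIrreducible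
    (l.last : Set T) l.last.isIrreducible
  have hle : ∀ i, ((l i : IrreducibleCloseds T) : Set T) ⊆ C := fun i =>
    (show (l i : Set T) ⊆ l.last from (l.monotone (Fin.le_last i))).trans hsub
  let φ : Fin (l.length + 1) → IrreducibleCloseds ↥C := fun i =>
    ⟨Subtype.val ⁻¹' (l i : Set T), isIrreducible_preimage_val C _ (l i).isIrreducible (hle i),
      (l i).isClosed.preimage continuous_subtype_val⟩
  have hφ : StrictMono φ := by
    intro i j hij
    have h1 : l i < l j := l.strictMono hij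
    refine lt_of_le_of_ne ?_ ?_
    · intro p hp
      exact h1.le hp
    · intro heq
      apply h1.ne
      apply IrreducibleCloseds.ext
      ext t
      constructor
      · exact fun ht => h1.le ht
      · intro ht
        have h2 : (⟨t, hle j ht⟩ : ↥C) ∈ (φ j : Set ↥C) := ht
        rw [← heq] at h2
        exact h2
  let L : LTSeries (IrreducibleCloseds ↥C) := LTSeries.mk l.length φ hφ
  calc ((l.length : ℕ) : WithBot ℕ∞) = (L.length : ℕ) := rfl
    _ ≤ topologicalKrullDim ↥C := Order.LTSeries.length_le_krullDim L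
    _ ≤ d := h C hC

end Groth.Agent.Helper5.PureDim
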