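import Mathlib
import Groth.Agent.Helper5.PureDim1
import Groth.Agent.Helper5.QfAt1
import Groth.Agent.Helper5.MaxPt1
import Groth.Agent.Helper5.ResTr
import Groth.Agent.Helper5.DimFormula8
import Groth.Agent.Helper5.DimIneq2
import Groth.Agent.Helper5.FibCodim
import Groth.Agent.Helper5.FibBound
import Groth.Agent.Helper5.LocDim3

set_option autoImplicit false
universe u
open CategoryTheory CategoryTheory.Limits AlgebraicGeometry TopologicalSpace

namespace Groth.Agent.Helper5.PureDim

open Groth.Agent.Helper5.SubDim Groth.Agent.Helper5.ResTr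

/-- A point isolated in its fibre has local fibre dimension zero. -/
theorem fibreDimAt_eq_zero_of_isolated {X Y : Scheme.{u}} (π : X ⟶ Y) [LocallyOfFiniteType π]
    (x : X) (hx : ∃ U : X.Opens, x ∈ U ∧ ∀ x' ∈ U, π x' = π x → x' = x) :
    FlatMor.fibreDimAt π x = 0 := by
  apply Groth.Agent.Helper5.QfAt.fibreDimAt_eq_zero_of_quasiFiniteAt
  rw [Scheme.Hom.quasiFiniteAt_iff_isOpen_singleton_asFiber]
  rw [← (π.fiberHomeo (π x)).isOpen_image]
  simp only [Set.image_singleton, Scheme.Hom.asFiber, Homeomorph.apply_symm_apply]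
  obtain ⟨U, hxU, hU⟩ := hx
  have : ({⟨x, rfl⟩} : Set ↥(π ⁻¹' {π x})) = Subtype.val ⁻¹' (U : Set X) := by
    ext ⟨p, hp⟩
    simp only [Set.mem_singleton_iff, Subtype.mk.injEq, Set.mem_preimage, SetLike.mem_coe]
    constructor
    · rintro rfl; exact hxU
    · intro h; exact hU p h hp
  rw [this]
  exact U.isOpen.preimage continuous_subtype_val

end Groth.Agent.Helper5.PureDim
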