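import Mathlib
import Groth.Agent.Helper5.PureDim2

set_option autoImplicit false
universe u
open CategoryTheory CategoryTheory.Limits AlgebraicGeometry TopologicalSpace

namespace Groth.Agent.Helper5.PureDim

open Groth.Agent.Helper5.SubDim Groth.Agent.Helper5.ResTr

set_option maxHeartbeats 1000000 in
theorem s17653
    (X Y : Scheme.{u}) [IsLocallyNoetherian X] [IsLocallyNoetherian Y] (π : X ⟶ Y) [IsProper π]
    (d : WithBot ℕ∞) (hX : ∀ Z ∈ irreducibleComponents ↥X, topologicalKrullDim ↥Z = d)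
    (hY : ∀ Z ∈ irreducibleComponents ↥Y, topologicalKrullDim ↥Z = d)
    (x : ↥X) (hx : ∃ U : X.Opens, x ∈ U ∧ ∀ x' ∈ U, π x' = π x → x' = x) :
    topologicalKrullDim ↥(Set.range (fun z : ↥X => π z)) = topologicalKrullDim ↥Y := by
  have h0 : FlatMor.fibreDimAt π x = 0 := fibreDimAt_eq_zero_of_isolated π x hx
  obtain ⟨Z, hZ, hxZ⟩ := Groth.Agent.Helper5.LocDim.exists_component_mem x
  have hZcl : IsClosed Z := isClosed_of_mem_irreducibleComponents Z hZ
  obtain ⟨ξ, hξ⟩ := QuasiSober.sober hZ.1 hZcl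
  have hξcl : closure ({ξ} : Set X) = Z := hξ.def
  have hξx : ξ ⤳ x := by rw [specializes_iff_mem_closure, hξcl]; exact hxZ
  have h1 : FlatMor.fibreDimAt π ξ = 0 := by
    have hle := Groth.Agent.Helper5.MaxPt.fibreDimAt_le_of_specializes π ξ x hξx
    rw [h0] at hle
    obtain ⟨m, hm⟩ := fibreDimAt_nat π ξ
    rw [hm] at hle ⊢
    have h2 : (m : WithBot ℕ∞) ≤ ((0 : ℕ) : WithBot ℕ∞) := hle
    have h3 : m ≤ 0 := by exact_mod_cast h2
    have h4 : m = 0 := by omega
    rw [h4]; rfl
  have h2 : Dual3.resTrdeg π ξ = 0 := by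
    obtain ⟨k, n, -, -, hn, hfd⟩ := fibreDimAt_eq π ξ
    rw [h1] at hfd
    have h3 : ((0 : ℕ) : WithBot ℕ∞) = ((k + n : ℕ) : WithBot ℕ∞) := hfd
    have h4 : 0 = k + n := by exact_mod_cast h3
    have h5 : n = 0 := by omega
    show @Algebra.trdeg (Y.residueField (π ξ)) (X.residueField ξ) _ _
      (π.residueFieldMap ξ).hom.toAlgebra = 0
    rw [hn, h5]; rfl
  -- the component with its reduced structure
  let Zc : Closeds X := ⟨Z, hZcl⟩
  let I := Scheme.IdealSheafData.vanishingIdeal Zc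
  let ιZ : I.subscheme ⟶ X := I.subschemeι
  have hrange : Set.range ιZ = Z := by
    rw [Scheme.IdealSheafData.range_subschemeι]
    rfl
  have hξr : ξ ∈ Set.range ιZ := by rw [hrange, ← hξcl]; exact subset_closure rfl
  obtain ⟨t, ht⟩ := hξr
  have ht' : closure ({t} : Set I.subscheme) = Set.univ := by
    rw [ιZ.isEmbedding.isInducing.closure_eq_preimage_closure_image, Set.image_singleton, ht,
      hξcl, ← hrange]
    exact Set.preimage_range _
  -- the image
  let πZ : I.subscheme ⟶ Y := ιZ ≫ π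
  let T := πZ.image
  let τ : I.subscheme ⟶ T := πZ.toImage
  let ιT : T ⟶ Y := πZ.imageι
  have hfac : τ ≫ ιT = πZ := πZ.toImage_imageι
  haveI : IsLocallyNoetherian T := LocallyOfFiniteType.isLocallyNoetherian ιT
  haveI : LocallyOfFiniteType (τ ≫ ιT) := by rw [hfac]; infer_instance
  haveI : LocallyOfFiniteType τ := locallyOfFiniteType_of_comp τ ιT
  have htr : Dual3.resTrdeg τ t = 0 := by
    have e1 := resTrdeg_comp ιZ π t
    have e2 := resTrdeg_comp τ ιT t
    rw [hfac] at e2
    rw [ht, h2, resTrdeg_eq_zero_of_lqf ιZ t, add_zero] at e1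
    rw [e1, resTrdeg_eq_zero_of_lqf ιT (τ t), zero_add] at e2
    exact e2.symm
  have hstalk : ∀ z : I.subscheme,
      ringKrullDim (I.subscheme.presheaf.stalk z) ≤ topologicalKrullDim T := by
    intro z
    obtain ⟨ξ₀, a, c, hcomp, hsp, ha, hc, hineq⟩ :=
      Groth.Agent.Helper5.DimFormula.scheme_dimension_inequality τ z
    have hξ₀ : ξ₀ = t := by
      have h3 : t ⤳ ξ₀ := by rw [specializes_iff_mem_closure, ht']; trivial
      exact (Groth.Agent.Helper5.EqAt.max_of_closure_mem_irreducibleComponents ξ₀ hcomp _ h3).symm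
    rw [hξ₀] at hineq
    change (a : Cardinal.{u}) + Dual3.resTrdeg τ z ≤ (c : Cardinal.{u}) + Dual3.resTrdeg τ t at hineq
    rw [htr, add_zero] at hineq
    have hac : (a : Cardinal.{u}) ≤ c := le_trans (le_self_add) hineq
    have hac' : a ≤ c := by exact_mod_cast hac
    rw [ha]
    calc ((a : ℕ) : WithBot ℕ∞) ≤ ((c : ℕ) : WithBot ℕ∞) := by exact_mod_cast hac'
      _ = ringKrullDim (T.presheaf.stalk (τ z)) := hc.symm
      _ ≤ topologicalKrullDim T := by
        rw [Groth.Agent.Helper5.DimIneq.dim_eq_iSup_stalk T]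
        exact le_iSup (fun y : T => ringKrullDim (T.presheaf.stalk y)) (τ z)
  have hZT : topologicalKrullDim I.subscheme ≤ topologicalKrullDim T := by
    rw [Groth.Agent.Helper5.DimIneq.dim_eq_iSup_stalk I.subscheme]
    exact iSup_le hstalk
  have hZd : topologicalKrullDim I.subscheme = d := by
    rw [← hX Z hZ, ← hrange]
    exact IsHomeomorph.topologicalKrullDim_eq _ ιZ.isEmbedding.toHomeomorph.isHomeomorph
  have hTr : topologicalKrullDim T = topologicalKrullDim ↥(Set.range ιT) :=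
    IsHomeomorph.topologicalKrullDim_eq _ ιT.isEmbedding.toHomeomorph.isHomeomorph
  have hsub : Set.range ιT ⊆ Set.range (fun z : ↥X => π z) := by
    have e1 : Set.range ιT = closure (Set.range πZ) := by
      rw [Scheme.IdealSheafData.range_subschemeι]
      exact πZ.support_ker
    have e2 : Set.range πZ = π '' Z := by
      rw [← hrange]
      ext y
      constructor
      · rintro ⟨z, rfl⟩
        exact ⟨ιZ z, ⟨z, rfl⟩, rfl⟩
      · rintro ⟨_, ⟨z, rfl⟩, rfl⟩
        exact ⟨z, rfl⟩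
    have e3 : IsClosed (π '' Z) := π.isClosedMap Z hZcl
    rw [e1, e2, e3.closure_eq]
    rintro _ ⟨z, -, rfl⟩
    exact ⟨z, rfl⟩
  have hA : d ≤ topologicalKrullDim ↥(Set.range (fun z : ↥X => π z)) := by
    rw [← hZd]
    refine hZT.trans ?_
    rw [hTr]
    exact Groth.Agent.Helper5.FibDim.dim_subset_le hsub
  have hB : topologicalKrullDim ↥(Set.range (fun z : ↥X => π z)) ≤ topologicalKrullDim ↥Y :=
    topologicalKrullDim_subspace_le _ _
  have hC : topologicalKrullDim ↥Y ≤ d := dim_le_of_components d (fun Z hZ => (hY Z hZ).le)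
  exact le_antisymm hB (hC.trans hA)

end Groth.Agent.Helper5.PureDim
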