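import Mathlib
set_option autoImplicit false
universe u
open CategoryTheory AlgebraicGeometry TopologicalSpace

namespace Groth.Agent.Helper5.QA1

/-- For a qcqs scheme `U` and a global section `r` with affine basic open,
`D(r) ⊆ Spec Γ(U)` is in the range of `U.toSpecΓ`. -/
theorem basicOpen_subset_range_toSpecΓ (U : Scheme.{u}) [CompactSpace U] [QuasiSeparatedSpace U]
    (r : Γ(U, ⊤)) (hr : IsAffineOpen (U.basicOpen r)) :
    (PrimeSpectrum.basicOpen r : Set (PrimeSpectrum Γ(U, ⊤))) ⊆ Set.range U.toSpecΓ := by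
  have hloc := isLocalization_basicOpen_of_qcqs (X := U) (U := ⊤) isCompact_univ
    isQuasiSeparated_univ r
  have e := (U.basicOpen r).toSpecΓ_SpecMap_presheaf_map_top
  have h1 := PrimeSpectrum.localization_away_comap_range (R := Γ(U, ⊤)) Γ(U, U.basicOpen r) r
  intro p hp
  rw [← h1] at hp
  obtain ⟨q, rfl⟩ := hp
  have : IsIso (U.basicOpen r).toSpecΓ := by
    rw [← hr.isoSpec_hom]; infer_instance
  obtain ⟨y, rfl⟩ := (U.basicOpen r).toSpecΓ.surjective q
  refine ⟨(U.basicOpen r).ι y, ?_⟩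
  rw [← Scheme.Hom.comp_apply, ← e]
  rfl

theorem s9804 {U V : Scheme.{u}} (j : U ⟶ V)
    [IsOpenImmersion j] [U.IsQuasiAffine] [V.IsQuasiAffine] :
    IsPullback (𝟙 U) U.toSpecΓ (j ≫ V.toSpecΓ) (Spec.map j.appTop) := by
  refine IsOpenImmersion.isPullback _ _ _ _ (by simp [Scheme.toSpecΓ_naturality]) ?_
  apply le_antisymm
  · intro p hp
    obtain ⟨u, hu⟩ := hp
    obtain ⟨_, ⟨_, ⟨r, rfl⟩, rfl⟩, hur, hrU⟩ :=
      (PrimeSpectrum.isBasis_basic_opens (R := Γ(V, ⊤))).exists_subset_of_mem_open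
        (show (j ≫ V.toSpecΓ) u ∈ ((j ≫ V.toSpecΓ).opensRange : Set _) from ⟨u, rfl⟩)
        (j ≫ V.toSpecΓ).opensRange.2
    have hpre : U.basicOpen (j.appTop r) = (j ≫ V.toSpecΓ) ⁻¹ᵁ (PrimeSpectrum.basicOpen r) := by
      rw [Scheme.Hom.comp_preimage, Scheme.toSpecΓ_preimage_basicOpen,
        Scheme.preimage_basicOpen_top]
    have haff : IsAffineOpen (U.basicOpen (j.appTop r)) := by
      rw [hpre, ← Scheme.Hom.isAffineOpen_iff_of_isOpenImmersion (j ≫ V.toSpecΓ)]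
      convert! IsAffineOpen.Spec_basicOpen r
      exact SetLike.coe_injective (Set.image_preimage_eq_of_subset hrU)
    have hp' : p ∈ (PrimeSpectrum.basicOpen (j.appTop r) : Set (PrimeSpectrum Γ(U, ⊤))) := by
      rw [hu] at hur
      exact hur
    exact basicOpen_subset_range_toSpecΓ U _ haff hp'
  · rintro _ ⟨u, rfl⟩
    refine ⟨u, ?_⟩
    rw [← Scheme.Hom.comp_apply, Scheme.toSpecΓ_naturality]

end Groth.Agent.Helper5.QA1
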