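import Groth.Agent.Helper5.AffDesc4
import Mathlib

/-!
# fpqc descent of quasi-affine schemes, part 1: descent of an affine scheme from an abstract
coaction at the level of spectra

The input is a morphism `qb : Spec (R' ⊗ A') ⟶ Spec A'` (the "second projection" of a descent
datum on `Spec A'` relative to `Spec R' ⟶ Spec R`) satisfying linearity, counit and
coassociativity.
-/

set_option autoImplicit false
universe u
open CategoryTheory CategoryTheory.Limits AlgebraicGeometry Opposite TensorProduct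

namespace Groth.Agent.Helper5.QAff

open AlgSp Groth.Agent.Helper5.GeomFibSp Groth.Agent.Helper5.AffDesc

variable {S : Scheme.{u}} {R R' A' : Type u} [CommRing R] [CommRing R'] [CommRing A']
  [Algebra R R'] [Algebra R' A'] [Algebra R A'] [IsScalarTower R R' A']
  (tS : Spec (CommRingCat.of R) ⟶ S)
  (qb : sp tS (R' ⊗[R] A') ⟶ sp tS A')

/-- the coaction as a ring map -/
noncomputable def rho0 : A' →+* R' ⊗[R] A' := (Spec.preimage qb.left).hom

theorem spec_rho0 : Spec.map (CommRingCat.ofHom (rho0 tS qb)) = qb.left := by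
  unfold rho0
  rw [CommRingCat.ofHom_hom, Spec.map_preimage]

variable (hq1 : qb ≫ gX tS R' A' = pr2 tS R' A')

include hq1 in
theorem rho0_algebraMap (r : R') : rho0 tS qb (algebraMap R' A' r) = r ⊗ₜ 1 := by
  have h0 : qb.left ≫ (gX tS R' A').left = (pr2 tS R' A').left :=
    congrArg (fun m => m.left) hq1
  have h1 : Spec.map (CommRingCat.ofHom (rho0 tS qb)) ≫
      Spec.map (CommRingCat.ofHom (IsScalarTower.toAlgHom R R' A').toRingHom) =
      Spec.map (CommRingCat.ofHom
        (Algebra.TensorProduct.includeLeft : R' →ₐ[R] R' ⊗[R] A').toRingHom) :=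
    (congrArg (fun m => m ≫ Spec.map (CommRingCat.ofHom (IsScalarTower.toAlgHom R R' A').toRingHom))
      (spec_rho0 tS qb)).trans h0
  rw [← Spec.map_comp, ← CommRingCat.ofHom_comp] at h1
  have h2 := congrArg CommRingCat.Hom.hom (Spec.map_injective h1)
  have h3 := congrArg (fun φ : R' →+* R' ⊗[R] A' => φ r) h2
  simpa using h3

/-- the coaction as an `R'`-algebra map -/
noncomputable def rho : A' →ₐ[R'] R' ⊗[R] A' :=
  { rho0 tS qb with
    commutes' := fun r => by
      show rho0 tS qb (algebraMap R' A' r) = algebraMap R' (R' ⊗[R] A') r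
      rw [rho0_algebraMap tS qb hq1, Algebra.TensorProduct.algebraMap_apply]
      rfl }

theorem spMap_rho : spMap tS ((rho tS qb hq1).restrictScalars R) = qb := by
  ext1
  rw [spMap_left, ← spec_rho0]
  rfl

theorem rho_counit (hq2 : dMor tS R' A' ≫ qb = 𝟙 _) (a : A') :
    epsA R R' A' (rho tS qb hq1 a) = a := by
  have h1 : spMap tS (((epsA R R' A').restrictScalars R).comp
      ((rho tS qb hq1).restrictScalars R)) = spMap tS (AlgHom.id R A') := by
    rw [spMap_comp, spMap_rho, hq2, spMap_id]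
  have h2 := spMap_injective tS h1
  exact congrArg (fun φ : A' →ₐ[R] A' => φ a) h2

theorem rho_coassoc
    (hq3 : spMap tS (Algebra.TensorProduct.map (AlgHom.id R R')
        ((rho tS qb hq1).restrictScalars R)) ≫ qb =
      spMap tS (Algebra.TensorProduct.map (AlgHom.id R R')
        (Algebra.TensorProduct.includeRight : A' →ₐ[R] R' ⊗[R] A')) ≫ qb) (a : A') :
    Algebra.TensorProduct.map (AlgHom.id R R') ((rho tS qb hq1).restrictScalars R)
        (rho tS qb hq1 a) =
      Algebra.TensorProduct.map (AlgHom.id R R')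
        (Algebra.TensorProduct.includeRight : A' →ₐ[R] R' ⊗[R] A') (rho tS qb hq1 a) := by
  set ρR := (rho tS qb hq1).restrictScalars R with hρR
  set η : A' →ₐ[R] R' ⊗[R] A' := Algebra.TensorProduct.includeRight with hη
  have hq : spMap tS ρR = qb := spMap_rho tS qb hq1
  have h1 : spMap tS ((Algebra.TensorProduct.map (AlgHom.id R R') ρR).comp ρR) =
      spMap tS ((Algebra.TensorProduct.map (AlgHom.id R R') η).comp ρR) := by
    rw [spMap_comp, spMap_comp, hq]
    exact hq3
  have h2 := spMap_injective tS h1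
  exact congrArg (fun φ : A' →ₐ[R] R' ⊗[R] (R' ⊗[R] A') => φ a) h2

/-- the descended algebra -/
noncomputable abbrev dA : Subalgebra R A' := descA (rho tS qb hq1)

/-- `π : X̄' ⟶ X̄` -/
noncomputable abbrev piX : sp tS A' ⟶ sp tS (dA tS qb hq1) := spMap tS (dA tS qb hq1).val

/-- `X̄ ⟶ T` -/
noncomputable abbrev gA : sp tS (dA tS qb hq1) ⟶ sp tS R :=
  spMap tS (Algebra.ofId R (dA tS qb hq1))

theorem piX_gA : piX tS qb hq1 ≫ gA tS qb hq1 = gX tS R' A' ≫ cT tS R' := by
  rw [← spMap_comp, ← spMap_comp]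
  congr 1
  ext

theorem qb_piX : qb ≫ piX tS qb hq1 = pr1 tS R' A' ≫ piX tS qb hq1 := by
  have h1 : spMap tS ((rho tS qb hq1).restrictScalars R) ≫ piX tS qb hq1 =
      pr1 tS R' A' ≫ piX tS qb hq1 := by
    rw [← spMap_comp, ← spMap_comp]
    congr 1
    ext a
    exact (mem_descA (rho tS qb hq1) a.1).1 a.2
  rwa [spMap_rho tS qb hq1] at h1

variable [Module.Flat R R']
  (hq2 : dMor tS R' A' ≫ qb = 𝟙 _)
  (hq3 : spMap tS (Algebra.TensorProduct.map (AlgHom.id R R')
        ((rho tS qb hq1).restrictScalars R)) ≫ qb =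
      spMap tS (Algebra.TensorProduct.map (AlgHom.id R R')
        (Algebra.TensorProduct.includeRight : A' →ₐ[R] R' ⊗[R] A')) ≫ qb)

include hq2 hq3 in
theorem isPushout_dA :
    IsPushout (CommRingCat.ofHom (algebraMap R (dA tS qb hq1)))
      (CommRingCat.ofHom (algebraMap R R'))
      (CommRingCat.ofHom (dA tS qb hq1).val.toRingHom)
      (CommRingCat.ofHom (IsScalarTower.toAlgHom R R' A').toRingHom) := by
  have hbij := PsiA_bijective (rho tS qb hq1) (rho_counit tS qb hq1 hq2)
    (rho_coassoc tS qb hq1 hq3)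
  let e : R' ⊗[R] (dA tS qb hq1) ≃+* A' :=
    RingEquiv.ofBijective (PsiA (rho tS qb hq1)).toRingHom hbij
  have h0 := CommRingCat.isPushout_tensorProduct R R' (dA tS qb hq1)
  refine (h0.of_iso (Iso.refl _) (Iso.refl _) (Iso.refl _) e.toCommRingCatIso ?_ ?_ ?_ ?_).flip
  · simp
  · simp
  · ext r
    simp [e]
  · ext a
    simp [e]

include hq2 hq3 in
theorem isPullback_piX :
    IsPullback (piX tS qb hq1) (gX tS R' A') (gA tS qb hq1) (cT tS R') :=
  isPullback_spMap tS _ _ (isPushout_dA tS qb hq1 hq2 hq3)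

end Groth.Agent.Helper5.QAff
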