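import Groth.Agent.Helper5.QAff9
import Groth.Agent.Helper5.AffDescQ5
import Mathlib

/-!
# fpqc descent of quasi-affine schemes, part 10: quasi-affine morphisms of algebraic spaces are
fpqc local on the base
-/

set_option autoImplicit false
universe u
open CategoryTheory CategoryTheory.Limits AlgebraicGeometry Opposite TensorProduct

namespace Groth.Agent.Helper5.QAff


theorem compactSpace_sigma {m : ℕ} (X : Fin m → Scheme.{u}) [∀ j, CompactSpace (X j)] :
    CompactSpace ↥(∐ X) := by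
  constructor
  have h : (Set.univ : Set ↥(∐ X)) = ⋃ j, Set.range (Sigma.ι X j) := by
    ext x
    simp only [Set.mem_univ, Set.mem_iUnion, true_iff]
    obtain ⟨j, y, hy⟩ := (sigmaOpenCover X).exists_eq x
    exact ⟨j, y, hy⟩
  rw [h]
  exact isCompact_iUnion fun j => isCompact_range (Sigma.ι X j).continuous

/-- a finite coproduct of quasi-affine schemes is quasi-affine -/
theorem isQuasiAffine_sigma {m : ℕ} (X : Fin m → Scheme.{u}) [∀ j, (X j).IsQuasiAffine] :
    (∐ X).IsQuasiAffine := by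
  let α : ∀ j, X j ⟶ ∐ fun j => Spec Γ(X j, ⊤) := fun j =>
    (X j).toSpecΓ ≫ Sigma.ι (fun j => Spec Γ(X j, ⊤)) j
  haveI : ∀ j, IsOpenImmersion (α j) := fun j => inferInstance
  have hα : Pairwise (Function.onFun Disjoint (fun j => Set.range (α j))) := by
    intro i j hij
    have h1 := disjoint_opensRange_sigmaι (fun j => Spec Γ(X j, ⊤)) i j hij
    rw [Function.onFun, Set.disjoint_left]
    rintro x ⟨a, rfl⟩ ⟨b, hb⟩
    have h2 : (Sigma.ι (fun j => Spec Γ(X j, ⊤)) i) ((X i).toSpecΓ a) ∈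
        (Sigma.ι (fun j => Spec Γ(X j, ⊤)) i).opensRange ⊓
          (Sigma.ι (fun j => Spec Γ(X j, ⊤)) j).opensRange := by
      refine ⟨⟨_, rfl⟩, (X j).toSpecΓ b, ?_⟩
      simpa [α] using hb
    rw [disjoint_iff.mp h1] at h2
    exact h2
  haveI : IsOpenImmersion (Sigma.desc α) := isOpenImmersion_sigmaDesc X α hα
  haveI : CompactSpace ↥(∐ X) := compactSpace_sigma X
  exact Scheme.IsQuasiAffine.of_isImmersion (Sigma.desc α)




theorem range_of_isPullback' {X Y Z P : Scheme.{u}} {fst : P ⟶ X} {snd : P ⟶ Y} {f : X ⟶ Z}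
    {g : Y ⟶ Z} (sq : IsPullback fst snd f g) : Set.range fst = f ⁻¹' Set.range g := by
  rw [← Scheme.Pullback.range_fst f g]
  have e : fst = sq.isoPullback.hom ≫ pullback.fst f g := sq.isoPullback_hom_fst.symm
  rw [e, Scheme.Hom.comp_base, TopCat.coe_comp, Set.range_comp]
  have hs : Function.Surjective sq.isoPullback.hom := by
    intro y
    refine ⟨sq.isoPullback.inv y, ?_⟩
    rw [← Scheme.Hom.comp_apply, Iso.inv_hom_id]
    rfl
  rw [hs.range_eq, Set.image_univ]

/-- a scheme over a finite coproduct whose pieces are quasi-affine is quasi-affine -/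
theorem isQuasiAffine_of_pullback_sigma {m : ℕ} {X₀ : Scheme.{u}} (Y : Fin m → Scheme.{u})
    (τ : X₀ ⟶ ∐ Y) (X' : Fin m → Scheme.{u}) (x : ∀ i, X' i ⟶ X₀) (v : ∀ i, X' i ⟶ Y i)
    (sq : ∀ i, IsPullback (x i) (v i) τ (Sigma.ι Y i)) [∀ i, (X' i).IsQuasiAffine] :
    X₀.IsQuasiAffine := by
  haveI hoi : ∀ i, IsOpenImmersion (x i) := fun i =>
    MorphismProperty.of_isPullback (P := @IsOpenImmersion) (sq i).flip inferInstance
  have hcov : ⨆ i, (x i).opensRange = ⊤ := by
    rw [eq_top_iff]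
    intro p _
    obtain ⟨j, y, hy⟩ := (sigmaOpenCover Y).exists_eq (τ p)
    have hp : p ∈ Set.range (x j) := by
      rw [range_of_isPullback' (sq j)]
      exact ⟨y, hy⟩
    exact TopologicalSpace.Opens.mem_iSup.mpr ⟨j, hp⟩
  have hdisj : Pairwise (Function.onFun Disjoint (fun i => (x i).opensRange)) := by
    intro i j hij
    rw [Function.onFun, disjoint_iff, eq_bot_iff]
    rintro p ⟨⟨a, rfl⟩, ⟨b, hb⟩⟩
    have h1 := disjoint_opensRange_sigmaι Y i j hij
    have h2 : τ (x i a) ∈ (Sigma.ι Y i).opensRange ⊓ (Sigma.ι Y j).opensRange := by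
      refine ⟨⟨v i a, ?_⟩, ⟨v j b, ?_⟩⟩
      · rw [← Scheme.Hom.comp_apply, ← (sq i).w, Scheme.Hom.comp_apply]
      · rw [← Scheme.Hom.comp_apply, ← (sq j).w, Scheme.Hom.comp_apply, hb]
    rw [disjoint_iff.mp h1] at h2
    exact h2
  obtain ⟨hc⟩ := nonempty_isColimit_cofanMk_of x hcov hdisj
  let e : ∐ X' ≅ X₀ := (colimit.isColimit _).coconePointUniqueUpToIso hc
  haveI := isQuasiAffine_sigma X'
  exact Scheme.IsQuasiAffine.of_isAffineHom e.inv


open AlgSp Groth.Agent.Helper5.GeomFibSp Groth.Agent.Helper5.AffDesc Groth.Agent.Helper5.ZarGlue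
  Groth.Agent.Helper5.FpqcCore Groth.Agent.Helper5.AffDescQ

variable {S : Scheme.{u}}

/-- quasi-affine morphisms are stable under base change -/
theorem isQuasiAffineMor_of_isPullback {X Y X' Y' : Sp S} {f : X ⟶ Y} {g : Y' ⟶ Y}
    {f' : X' ⟶ Y'} {g' : X' ⟶ X} (sq : IsPullback g' f' f g) (hf : IsQuasiAffineMor f) :
    IsQuasiAffineMor f' := by
  intro Z hZ h
  obtain ⟨W, i, fstW, sqW, hW⟩ := hf hZ (h ≫ g)
  refine ⟨W, i, sq.lift fstW ((yon S).map i ≫ h) (by rw [sqW.w, Category.assoc]), ?_, hW⟩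
  refine IsPullback.of_right ?_ (sq.lift_snd _ _ _) sq
  rw [sq.lift_fst]
  exact sqW

end Groth.Agent.Helper5.QAff
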