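import Groth.Agent.Helper5.QAff10
import Mathlib

/-!
# fpqc descent of quasi-affine schemes, part 11: the descent step and the main theorem
-/

set_option autoImplicit false
universe u
open CategoryTheory CategoryTheory.Limits AlgebraicGeometry Opposite TensorProduct

namespace Groth.Agent.Helper5.QAff

open AlgSp Groth.Agent.Helper5.GeomFibSp Groth.Agent.Helper5.AffDesc Groth.Agent.Helper5.ZarGlue
  Groth.Agent.Helper5.FpqcCore Groth.Agent.Helper5.AffDescQ

variable {S : Scheme.{u}}

set_option backward.isDefEq.respectTransparency.types false in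
/-- **Descent step**: quasi-affine morphisms descend along flat refinements. -/
theorem isQuasiAffineMor_of_hasFlatRefinement {X Y : Sp S} (f : X ⟶ Y) (hX : IsAlgSpace X)
    (hY : IsAlgSpace Y) (href : HasFlatRefinement IsQuasiAffineMor f) : IsQuasiAffineMor f := by
  intro Z hZ g
  haveI : IsAffine Z.left := hZ
  have hF := IsPullback.of_hasPullback f g
  have hFsp : IsAlgSpace (pullback f g) :=
    Groth.Agent.Helper4.AlgSpPB.isAlgSpace_of_isPullback hY.diag hX (IsAlgSpace.yon_obj Z) f g _ _
      hF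
  obtain ⟨m, W, c, hWa, hcf, hcs, hj⟩ := href Z hZ g _ _ _ hF
  choose Fj aj sj hFj sqj hPj using hj
  -- the representing schemes of the pieces
  choose Xj ij fj sqXj hXj using fun j => hPj j (hWa j) (𝟙 _)
  haveI : ∀ j, (Xj j).left.IsQuasiAffine := hXj
  haveI hfj : ∀ j, IsIso (fj j) := fun j => (sqXj j).isIso_fst_of_isIso
  have hsj : ∀ j, sj j = inv (fj j) ≫ (yon S).map (ij j) := by
    intro j
    rw [IsIso.eq_inv_comp, (sqXj j).w, Category.comp_id]
  -- the covering T' = ∐ W j
  haveI : IsAffine (sigmaOver W).left := isAffine_sigmaOver W hWa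
  haveI : Flat (sigmaDesc c).left := flat_sigmaDesc c hcf
  haveI : Surjective (sigmaDesc c).left := surjective_sigmaDesc c hcs
  -- Q = F ×_Z T'
  have hQ := IsPullback.of_hasPullback (pullback.snd f g) ((yon S).map (sigmaDesc c))
  generalize pullback.fst (pullback.snd f g) ((yon S).map (sigmaDesc c)) = q₁ at hQ
  generalize pullback.snd (pullback.snd f g) ((yon S).map (sigmaDesc c)) = q₂ at hQ
  generalize pullback (pullback.snd f g) ((yon S).map (sigmaDesc c)) = Q at q₁ q₂ hQ
  have hcomm : ∀ j, aj j ≫ pullback.snd f g =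
      (sj j ≫ (yon S).map (sigmaι W j)) ≫ (yon S).map (sigmaDesc c) := by
    intro j
    rw [Category.assoc, ← Functor.map_comp, sigmaι_desc, (sqj j).w]
  have sqp : ∀ j, IsPullback (hQ.lift _ _ (hcomm j)) (sj j) q₂ ((yon S).map (sigmaι W j)) := by
    intro j
    refine IsPullback.of_right ?_ (hQ.lift_snd _ _ _) hQ
    rw [hQ.lift_fst, ← Functor.map_comp, sigmaι_desc]
    exact sqj j
  have hsep : ∀ j, RepWith @IsSeparated (sj j) := by
    intro j
    rw [hsj j]
    exact MorphismProperty.RespectsIso.precomp _ _ _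
      ((repWith_yon_map_iff @IsSeparated _).2 inferInstance)
  have hrep : RepWith @IsSeparated q₂ := by
    refine repWith_of_zarCover @IsSeparated q₂ (ι := ULift.{u} (Fin m))
      (fun i => (yon S).obj (W i.down))
      (fun i => (yon S).map (sigmaι W i.down))
      (fun i => (repWith_yon_map_iff @IsOpenImmersion _).2 inferInstance) ?_
      (fun i => Fj i.down) (fun i => hQ.lift _ _ (hcomm i.down)) (fun i => sj i.down)
      (fun i => sqp i.down) (fun i => hsep i.down)
    intro x
    obtain ⟨t, rfl⟩ := Groth.Agent.Helper5.SmLift.exists_ofScheme_eq (sigmaOver W) x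
    obtain ⟨j, w, rfl⟩ := exists_sigmaι_eq W t
    exact ⟨⟨j⟩, Points.ofScheme (W j) w, Groth.Agent.Helper5.SmLift.map_yon_map_ofScheme _ _⟩
  obtain ⟨X₀, g₀, fstQ, sqQ⟩ := hrep.1 (𝟙 ((yon S).obj (sigmaOver W)))
  haveI : IsIso fstQ := sqQ.isIso_fst_of_isIso
  have hq₂ : q₂ = inv fstQ ≫ (yon S).map g₀ := by
    rw [IsIso.eq_inv_comp, sqQ.w, Category.comp_id]
  -- the pieces of `X₀`
  have hX₀ : X₀.left.IsQuasiAffine := by
    choose o ho using fun j => (yon S).map_surjective (fj j ≫ hQ.lift _ _ (hcomm j) ≫ inv fstQ)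
    have sqo : ∀ j, IsPullback ((yon S).map (o j)) ((yon S).map (ij j)) ((yon S).map g₀)
        ((yon S).map (sigmaι W j)) := by
      intro j
      refine IsPullback.of_iso (sqp j) (asIso (fj j)).symm (asIso fstQ).symm (Iso.refl _)
        (Iso.refl _) ?_ ?_ ?_ ?_
      · simp [ho j]
      · simp [hsj j]
      · simp [hq₂]
      · simp
    have sqo' : ∀ j, IsPullback (o j) (ij j) g₀ (sigmaι W j) := fun j =>
      IsPullback.of_map (yon S) (by
        apply (yon S).map_injective
        simp only [Functor.map_comp]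
        exact (sqo j).w) (sqo j)
    have sqo'' : ∀ j, IsPullback (o j).left (ij j).left g₀.left
        (Sigma.ι (fun j => (W j).left) j) := fun j => (sqo' j).map (Over.forget S)
    exact isQuasiAffine_of_pullback_sigma (fun j => (W j).left) g₀.left (fun j => (Xj j).left)
      (fun j => (o j).left) (fun j => (ij j).left) sqo''
  have sqbig : IsPullback (fstQ ≫ q₁) ((yon S).map g₀) (pullback.snd f g)
      ((yon S).map (sigmaDesc c)) := by
    have := sqQ.paste_horiz hQ
    rwa [Category.id_comp] at this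
  obtain ⟨X₁, g₁, e, hX₁, he⟩ :=
    exists_iso_of_quasiAffine_fpqc (sigmaDesc c) g₀ hFsp (pullback.snd f g) (fstQ ≫ q₁) sqbig
  refine ⟨X₁, g₁, e.hom ≫ pullback.fst f g, ?_, hX₁⟩
  exact IsPullback.of_iso hF e.symm (Iso.refl _) (Iso.refl _) (Iso.refl _)
    (by simp) (by simp [← he]) (by simp) (by simp)

/-- **Quasi-affine morphisms of algebraic spaces are fpqc local on the base.** -/
theorem isLocalOnBase_fpqc_isQuasiAffineMor :
    IsLocalOnBase (IsFpqcCover (S := S)) IsQuasiAffineMor :=
  isLocalOnBase_fpqc IsQuasiAffineMor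
    (fun X Y X' Y' f g f' g' _ _ _ _ sq hf => isQuasiAffineMor_of_isPullback sq hf)
    (fun X Y f hX hY href => isQuasiAffineMor_of_hasFlatRefinement f hX hY href)

end Groth.Agent.Helper5.QAff
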