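import Groth.Agent.Helper5.QAff11
import Groth.Agent.Helper5.FpqcChart
import Mathlib

/-!
# fpqc descent of quasi-affine schemes, part 12: etale charts are fpqc coverings; S9946
-/

set_option autoImplicit false
universe u
open CategoryTheory CategoryTheory.Limits AlgebraicGeometry Opposite

namespace Groth.Agent.Helper5.QAff

open AlgSp

variable {S : Scheme.{u}}

set_option backward.isDefEq.respectTransparency.types false in
/-- a surjective etale chart is an fpqc covering -/
theorem isFpqcCover_chart {X : Sp S} {U : Over S} (p : (yon S).obj U ⟶ X)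
    (hp : RepWith @Etale p) (hps : RepWith @Surjective p) :
    IsFpqcCover (fun _ : PUnit.{u + 1} => (yon S).obj U) (fun _ => p) := by
  refine ⟨fun _ => ?_, fun Z hZ h => ?_⟩
  · exact Groth.Agent.Helper4.AlgSpLocP.locP_of_repWith @Flat @Flat (fun g hg => hg)
      (fun g hg => by have : Etale g := hg; infer_instance) _
      (Groth.Agent.Helper4.AlgSpSrc.repWith_mono (fun g hg => by
        have : Etale g := hg
        infer_instance) hp)
  · obtain ⟨n, V, c, hVa, hce, hcs, hl⟩ :=
      Groth.Agent.Helper5.FpqcChart.exists_etale_affine_refinement p hp hps Z hZ h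
    refine ⟨n, V, c, hVa, fun a => ?_, hcs, fun a => ?_⟩
    · have := hce a
      infer_instance
    · obtain ⟨l, hl⟩ := hl a
      exact ⟨PUnit.unit, l, hl⟩

/-- S9946 -/
theorem s9946 {X Y : AlgSp.Space S} (f : X ⟶ Y)
    (V : Over S) (p : (AlgSp.yon S).obj V ⟶ Y.obj) (hp : AlgSp.RepWith @Etale p)
    (hps : AlgSp.RepWith @Surjective p)
    {P : AlgSp.Sp S} (fst : P ⟶ X.obj) (snd : P ⟶ (AlgSp.yon S).obj V)
    (sq : IsPullback fst snd f.hom p)
    (h : AlgSp.IsQuasiAffineMor snd) :
    AlgSp.Representable f.hom ∧ AlgSp.IsQuasiAffineMor f.hom := by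
  have hP : IsAlgSpace P :=
    Groth.Agent.Helper4.AlgSpPB.isAlgSpace_of_isPullback Y.property.diag X.property
      (IsAlgSpace.yon_obj V) f.hom p fst snd sq
  have hqa : IsQuasiAffineMor f.hom :=
    (isLocalOnBase_fpqc_isQuasiAffineMor (fun _ : PUnit.{u + 1} => (yon S).obj V) (fun _ => p)
      Y.property (fun _ => IsAlgSpace.yon_obj V) (isFpqcCover_chart p hp hps) f.hom X.property
      (fun _ => P) (fun _ => snd) (fun _ => fst) (fun _ => hP) (fun _ => sq)).2 (fun _ => h)
  refine ⟨Groth.Agent.Helper5.ZarGlue.representable_of_affine f.hom (fun Z hZ g => ?_), hqa⟩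
  obtain ⟨W, i, fstW, sqW, -⟩ := hqa hZ g
  exact ⟨W, i, fstW, sqW⟩

end Groth.Agent.Helper5.QAff
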