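import Groth.Agent.Helper5.QAff11
import Groth.Agent.Lead.SchDescent3
import Mathlib

/-!
# fpqc descent of quasi-affine schemes, part 13: quasi-compact immersions of algebraic spaces are
fpqc local on the base (S10538)
-/

set_option autoImplicit false
universe u
open CategoryTheory CategoryTheory.Limits AlgebraicGeometry Opposite TensorProduct

namespace Groth.Agent.Helper5.QAff

open AlgSp Groth.Agent.Helper5.GeomFibSp Groth.Agent.Helper5.AffDesc Groth.Agent.Helper5.ZarGlue
  Groth.Agent.Helper5.FpqcCore Groth.Agent.Helper5.AffDescQ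

variable {S : Scheme.{u}}

/-- a representable quasi-compact immersion is quasi-affine -/
theorem isQuasiAffineMor_of_repWith_qcImmersion {F G : Sp S} (a : F ⟶ G)
    (ha : RepWith (@IsImmersion ⊓ @QuasiCompact) a) : IsQuasiAffineMor a := by
  intro Z hZ g
  haveI : IsAffine Z.left := hZ
  obtain ⟨W, i, fst, sq⟩ := ha.1 g
  have hi : (@IsImmersion ⊓ @QuasiCompact : MorphismProperty Scheme.{u}) i.left := ha.2 _ _ _ sq
  haveI : IsImmersion i.left := hi.1
  haveI : QuasiCompact i.left := hi.2
  haveI : CompactSpace W.left := QuasiCompact.compactSpace_of_compactSpace i.left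
  exact ⟨W, i, fst, sq, Scheme.IsQuasiAffine.of_isImmersion i.left⟩

theorem hasFlatRefinement_mono {PP QQ : MorphismProperty (Sp S)} (hle : ∀ ⦃F G : Sp S⦄ (a : F ⟶ G),
    PP a → QQ a) {X Y : Sp S} {f : X ⟶ Y} (h : HasFlatRefinement PP f) :
    HasFlatRefinement QQ f := by
  intro V hV b F fst snd sq
  obtain ⟨m, W, c, hWa, hcf, hcs, hj⟩ := h V hV b F fst snd sq
  refine ⟨m, W, c, hWa, hcf, hcs, fun j => ?_⟩
  obtain ⟨Fj, a, sj, hFj, sqj, hP⟩ := hj j
  exact ⟨Fj, a, sj, hFj, sqj, hle _ hP⟩

set_option backward.isDefEq.respectTransparency.types false in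
/-- **Descent step** for representable quasi-compact immersions. -/
theorem repWith_qcImmersion_of_hasFlatRefinement {X Y : Sp S} (f : X ⟶ Y) (hX : IsAlgSpace X)
    (hY : IsAlgSpace Y)
    (href : HasFlatRefinement (RepWith (@IsImmersion ⊓ @QuasiCompact)) f) :
    RepWith (@IsImmersion ⊓ @QuasiCompact) f := by
  have hqa : IsQuasiAffineMor f :=
    isQuasiAffineMor_of_hasFlatRefinement f hX hY
      (hasFlatRefinement_mono (fun _ _ a ha => isQuasiAffineMor_of_repWith_qcImmersion a ha) href)
  apply repWith_of_affine_test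
  intro Z hZ g
  haveI : IsAffine Z.left := hZ
  obtain ⟨X₀, g₀, fst₀, sq₀, -⟩ := hqa hZ g
  refine ⟨X₀, g₀, fst₀, sq₀, ?_⟩
  obtain ⟨m, W, c, hWa, hcf, hcs, hj⟩ := href Z hZ g _ _ _ sq₀
  choose Fj aj sj hFj sqj hPj using hj
  haveI : IsAffine (sigmaOver W).left := isAffine_sigmaOver W hWa
  haveI : Flat (sigmaDesc c).left := flat_sigmaDesc c hcf
  haveI : Surjective (sigmaDesc c).left := surjective_sigmaDesc c hcs
  have hQ := IsPullback.of_hasPullback ((yon S).map g₀) ((yon S).map (sigmaDesc c))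
  generalize pullback.fst ((yon S).map g₀) ((yon S).map (sigmaDesc c)) = q₁ at hQ
  generalize pullback.snd ((yon S).map g₀) ((yon S).map (sigmaDesc c)) = q₂ at hQ
  generalize pullback ((yon S).map g₀) ((yon S).map (sigmaDesc c)) = Q at q₁ q₂ hQ
  have hcomm : ∀ j, aj j ≫ (yon S).map g₀ =
      (sj j ≫ (yon S).map (sigmaι W j)) ≫ (yon S).map (sigmaDesc c) := by
    intro j
    rw [Category.assoc, ← Functor.map_comp, sigmaι_desc, (sqj j).w]
  have sqp : ∀ j, IsPullback (hQ.lift _ _ (hcomm j)) (sj j) q₂ ((yon S).map (sigmaι W j)) := by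
    intro j
    refine IsPullback.of_right ?_ (hQ.lift_snd _ _ _) hQ
    rw [hQ.lift_fst, ← Functor.map_comp, sigmaι_desc]
    exact sqj j
  have hrep : RepWith (@IsImmersion ⊓ @QuasiCompact) q₂ := by
    refine repWith_of_zarCover (@IsImmersion ⊓ @QuasiCompact) q₂ (ι := ULift.{u} (Fin m))
      (fun i => (yon S).obj (W i.down))
      (fun i => (yon S).map (sigmaι W i.down))
      (fun i => (repWith_yon_map_iff @IsOpenImmersion _).2 inferInstance) ?_
      (fun i => Fj i.down) (fun i => hQ.lift _ _ (hcomm i.down)) (fun i => sj i.down)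
      (fun i => sqp i.down) (fun i => hPj i.down)
    intro x
    obtain ⟨t, rfl⟩ := Groth.Agent.Helper5.SmLift.exists_ofScheme_eq (sigmaOver W) x
    obtain ⟨j, w, rfl⟩ := exists_sigmaι_eq W t
    exact ⟨⟨j⟩, Points.ofScheme (W j) w, Groth.Agent.Helper5.SmLift.map_yon_map_ofScheme _ _⟩
  obtain ⟨X', g', fstQ, sqQ⟩ := hrep.1 (𝟙 ((yon S).obj (sigmaOver W)))
  have hg' : (@IsImmersion ⊓ @QuasiCompact : MorphismProperty Scheme.{u}) g'.left :=
    hrep.2 _ _ _ sqQ
  have sqbig : IsPullback (fstQ ≫ q₁) ((yon S).map g') ((yon S).map g₀)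
      ((yon S).map (sigmaDesc c)) := by
    have := sqQ.paste_horiz hQ
    rwa [Category.id_comp] at this
  obtain ⟨k, hk⟩ := (yon S).map_surjective (fstQ ≫ q₁)
  rw [← hk] at sqbig
  have sq3 : IsPullback k g' g₀ (sigmaDesc c) := IsPullback.of_map (yon S) (by
    apply (yon S).map_injective
    simp only [Functor.map_comp]
    exact sqbig.w) sqbig
  have sq4 : IsPullback g'.left k.left (sigmaDesc c).left g₀.left :=
    (sq3.map (Over.forget S)).flip
  exact MorphismProperty.of_isPullback_of_descendsAlong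
    (P := (@IsImmersion ⊓ @QuasiCompact : MorphismProperty Scheme.{u}))
    (Q := @Surjective ⊓ @Flat ⊓ @QuasiCompact) sq4
    ⟨⟨inferInstance, inferInstance⟩, inferInstance⟩ hg'

/-- **S10538**: representable quasi-compact immersions are fpqc local on the base. -/
theorem isLocalOnBase_fpqc_repWith_qcImmersion :
    IsLocalOnBase (IsFpqcCover (S := S)) (RepWith (@IsImmersion ⊓ @QuasiCompact)) := by
  have i1 := repWith_isStableUnderBaseChange (S := S) (@IsImmersion ⊓ @QuasiCompact)
  exact isLocalOnBase_fpqc (RepWith (@IsImmersion ⊓ @QuasiCompact))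
    (fun X Y X' Y' f g f' g' _ _ _ _ sq hf =>
      (RepWith (S := S) (@IsImmersion ⊓ @QuasiCompact)).of_isPullback sq hf)
    (fun X Y f hX hY href => repWith_qcImmersion_of_hasFlatRefinement f hX hY href)

end Groth.Agent.Helper5.QAff
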