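import Mathlib

set_option autoImplicit false
universe u
open CategoryTheory CategoryTheory.Limits AlgebraicGeometry Opposite

namespace Groth.Agent.Helper5.QAff

/-- morphisms to an affine scheme are determined after precomposition with a morphism inducing an
isomorphism on global sections -/
theorem eq_of_comp_eq_of_isIso_appTop {Y Yb Z : Scheme.{u}} [IsAffine Z] (k : Y ⟶ Yb)
    [IsIso k.appTop] (m₁ m₂ : Yb ⟶ Z) (h : k ≫ m₁ = k ≫ m₂) : m₁ = m₂ := by
  apply ext_of_isAffine
  have h1 := congrArg Scheme.Hom.appTop h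
  rw [Scheme.Hom.comp_appTop, Scheme.Hom.comp_appTop] at h1
  exact (cancel_mono k.appTop).1 h1

/-- morphisms to an affine scheme extend along a morphism to an affine scheme inducing an
isomorphism on global sections -/
theorem exists_lift_of_isIso_appTop {Y Yb Z : Scheme.{u}} [IsAffine Z] [IsAffine Yb] (k : Y ⟶ Yb)
    [IsIso k.appTop] (n : Y ⟶ Z) : ∃ m : Yb ⟶ Z, k ≫ m = n := by
  refine ⟨Yb.isoSpec.hom ≫ Spec.map (inv k.appTop) ≫ Spec.map n.appTop ≫ Z.isoSpec.inv, ?_⟩
  have h1 : k ≫ Yb.isoSpec.hom = Y.toSpecΓ ≫ Spec.map k.appTop := Scheme.toSpecΓ_naturality k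
  have h2 : n ≫ Z.isoSpec.hom = Y.toSpecΓ ≫ Spec.map n.appTop := Scheme.toSpecΓ_naturality n
  rw [← Category.assoc, h1, Category.assoc, ← Spec.map_comp_assoc, IsIso.inv_hom_id, Spec.map_id,
    Category.id_comp, ← Category.assoc, ← h2, Category.assoc, Iso.hom_inv_id, Category.comp_id]

/-- flat base change of the affine hull -/
theorem isIso_appTop_of_isPullback {Y Yb V Vb : Scheme.{u}} [IsAffine Yb] [IsAffine Vb]
    [CompactSpace Y] [QuasiSeparatedSpace Y]
    (k : Y ⟶ Yb) [IsIso k.appTop] (g : Vb ⟶ Yb) [Flat g] (v : V ⟶ Y) (kV : V ⟶ Vb)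
    (H : IsPullback v kV k g) : IsIso kV.appTop := by
  have h1 := isIso_pushoutSection_of_isQuasiSeparated_of_flat_right H (US := ⊤) (UT := ⊤)
    (UX := ⊤) (UY := ⊤) le_top le_top (by simp) (isAffineOpen_top Yb) (isAffineOpen_top Vb)
    isCompact_univ (isQuasiSeparated_univ)
  rw [isIso_pushoutSection_iff] at h1
  have e1 : k.appLE ⊤ ⊤ le_top = k.appTop := Scheme.Hom.appLE_eq_app k
  have e2 : kV.appLE ⊤ ⊤ le_top = kV.appTop := Scheme.Hom.appLE_eq_app kV
  rw [e1] at h1
  have h2 := h1.isIso_inr_of_isIso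
  rwa [e2] at h2

end Groth.Agent.Helper5.QAff
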