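import Groth.Agent.Helper5.QAff1
import Groth.Agent.Helper5.QAff2
import Groth.Agent.Helper5.AffDescQ2
import Mathlib

/-!
# fpqc descent of quasi-affine schemes, part 3: the coaction on the affine hull

For a quasi-compact quasi-separated scheme `X'` over `T' = Spec R'` with
`h_{X'} = F ×_{h_T} h_{T'}`, the affine hull `Spec Γ(X')` carries a coaction relative to
`R ⟶ R'`, obtained from the second projection `T' ×_T X' ⟶ X'` by flat base change of global
sections.
-/

set_option autoImplicit false
universe u
open CategoryTheory CategoryTheory.Limits AlgebraicGeometry Opposite TensorProduct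

namespace Groth.Agent.Helper5.QAff

open AlgSp Groth.Agent.Helper5.GeomFibSp Groth.Agent.Helper5.AffDesc

variable {S : Scheme.{u}} {R R' : Type u} [CommRing R] [CommRing R'] [Algebra R R']
  (tS : Spec (CommRingCat.of R) ⟶ S) {X' : Over S} (gX' : X' ⟶ sp tS R')

/-- global sections of `X'`, as an algebra over `R'` and `R` -/
def GA (_gX' : X' ⟶ sp tS R') : Type u := Γ(X'.left, ⊤)

noncomputable instance : CommRing (GA tS gX') := inferInstanceAs (CommRing Γ(X'.left, ⊤))

/-- the structure map `R' ⟶ Γ(X')` -/
noncomputable def structHom : R' →+* GA tS gX' :=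
  ((Scheme.ΓSpecIso (CommRingCat.of R')).inv ≫ gX'.left.appTop).hom

noncomputable instance : Algebra R' (GA tS gX') := (structHom tS gX').toAlgebra

noncomputable instance : Algebra R (GA tS gX') :=
  ((structHom tS gX').comp (algebraMap R R')).toAlgebra

instance : IsScalarTower R R' (GA tS gX') := IsScalarTower.of_algebraMap_eq' rfl

theorem toSpecΓ_aux {Y : Scheme.{u}} (Rc : CommRingCat.{u}) (g : Y ⟶ Spec Rc) :
    Y.toSpecΓ ≫ Spec.map ((Scheme.ΓSpecIso Rc).inv ≫ g.appTop) = g := by
  rw [Spec.map_comp, ← Scheme.toSpecΓ_naturality_assoc, toSpecΓ_SpecMap_ΓSpecIso_inv,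
    Category.comp_id]

theorem toSpecΓ_structHom :
    X'.left.toSpecΓ ≫ Spec.map (CommRingCat.ofHom (structHom tS gX')) = gX'.left :=
  toSpecΓ_aux (CommRingCat.of R') gX'.left

/-- the canonical morphism to the affine hull, over `S` -/
noncomputable def jX : X' ⟶ sp tS (GA tS gX') :=
  Over.homMk X'.left.toSpecΓ (by
    show X'.left.toSpecΓ ≫ (Spec.map (CommRingCat.ofHom (algebraMap R R') ≫
      CommRingCat.ofHom (structHom tS gX'))) ≫ tS = X'.hom
    rw [Spec.map_comp, Category.assoc, ← Category.assoc]
    erw [toSpecΓ_structHom]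
    exact Over.w gX')

@[simp] theorem jX_left : (jX tS gX').left = X'.left.toSpecΓ := rfl

theorem jX_gX : jX tS gX' ≫ gX tS R' (GA tS gX') = gX' := by
  ext1
  exact toSpecΓ_structHom tS gX'

instance isIso_jX_appTop : IsIso (jX tS gX').left.appTop := by
  have h : IsIso (X'.left.toSpecΓ).appTop := by
    rw [Scheme.toSpecΓ_appTop]
    infer_instance
  exact h

end Groth.Agent.Helper5.QAff
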