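import Groth.Agent.Helper5.QAff3
import Mathlib

/-!
# fpqc descent of quasi-affine schemes, part 4: `W = T' ×_T X'`, the second projection and the
coaction on the affine hull
-/

set_option autoImplicit false
universe u
open CategoryTheory CategoryTheory.Limits AlgebraicGeometry Opposite TensorProduct

namespace Groth.Agent.Helper5.QAff

open AlgSp Groth.Agent.Helper5.GeomFibSp Groth.Agent.Helper5.AffDesc Groth.Agent.Helper5.AffDescQ

variable {S : Scheme.{u}} {R R' : Type u} [CommRing R] [CommRing R'] [Algebra R R']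
  (tS : Spec (CommRingCat.of R) ⟶ S) {X' : Over S} (gX' : X' ⟶ sp tS R')
  {F : Sp S} {f : F ⟶ (yon S).obj (sp tS R)} {fst : (yon S).obj X' ⟶ F}

local notation "Ax" => GA tS gX'

/-- `W = X' ×_{X̄'} W̄ = T' ×_T X'` -/
noncomputable def Wo : Over S :=
  pullback (jX tS gX') (pr1 tS R' Ax)

/-- first projection `W ⟶ X'` -/
noncomputable def w1 : Wo tS gX' ⟶ X' := pullback.fst (jX tS gX') (pr1 tS R' Ax)

/-- `W ⟶ W̄` -/
noncomputable def jW : Wo tS gX' ⟶ sp tS (R' ⊗[R] Ax) :=
  pullback.snd (jX tS gX') (pr1 tS R' Ax)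

theorem isPullback_Wo : IsPullback (w1 tS gX') (jW tS gX') (jX tS gX') (pr1 tS R' Ax) :=
  IsPullback.of_hasPullback (jX tS gX') (pr1 tS R' Ax)

theorem isPullback_Wo_big :
    IsPullback (jW tS gX' ≫ pr2 tS R' Ax) (w1 tS gX') (cT tS R') (gX' ≫ cT tS R') := by
  have h1 := (isPullback_Wo tS gX').flip.paste_horiz (isPullback_X'' (R' := R') (A' := Ax) tS)
  rwa [← Category.assoc, jX_gX] at h1

variable {tS gX'}
variable (sq : IsPullback fst ((yon S).map gX') f ((yon S).map (cT tS R')))

include sq in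
theorem q_cond : ((yon S).map (w1 tS gX') ≫ fst) ≫ f =
    (yon S).map (jW tS gX' ≫ pr2 tS R' Ax) ≫ (yon S).map (cT tS R') := by
  rw [Category.assoc, sq.w, ← Functor.map_comp, ← Functor.map_comp, ← Functor.map_comp,
    (isPullback_Wo_big tS gX').w]

/-- the second projection `W = X' ×_F X' ⟶ X'` -/
noncomputable def qW : Wo tS gX' ⟶ X' :=
  (yon S).preimage (sq.lift _ _ (q_cond sq))

theorem qW_fst : (yon S).map (qW sq) ≫ fst = (yon S).map (w1 tS gX') ≫ fst := by
  rw [qW, Functor.map_preimage, sq.lift_fst]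

theorem qW_g : qW sq ≫ gX' = jW tS gX' ≫ pr2 tS R' Ax := by
  apply (yon S).map_injective
  rw [Functor.map_comp, qW, Functor.map_preimage, sq.lift_snd]

theorem isKernelPair_fst :
    IsKernelPair fst ((yon S).map (qW sq)) ((yon S).map (w1 tS gX')) := by
  refine IsPullback.of_right ?_ (qW_fst sq) sq.flip
  rw [← Functor.map_comp, qW_g, sq.w, ← Functor.map_comp]
  exact (isPullback_Wo_big tS gX').map (yon S)

/-- two points of `X'` with the same image in `F` come from a point of `W` -/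
theorem exists_point_Wo {Z : Over S} (g₁ g₂ : Z ⟶ X')
    (h : (yon S).map g₁ ≫ fst = (yon S).map g₂ ≫ fst) :
    ∃ w : Z ⟶ Wo tS gX', w ≫ qW sq = g₁ ∧ w ≫ w1 tS gX' = g₂ := by
  have hk := isKernelPair_fst sq
  obtain ⟨w, hw⟩ := (yon S).map_surjective (hk.lift _ _ h)
  refine ⟨w, ?_, ?_⟩
  · apply (yon S).map_injective
    rw [Functor.map_comp, hw]
    exact hk.lift_fst _ _ h
  · apply (yon S).map_injective
    rw [Functor.map_comp, hw]
    exact hk.lift_snd _ _ h

end Groth.Agent.Helper5.QAff
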