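import Groth.Agent.Helper5.QAff4
import Mathlib

/-!
# fpqc descent of quasi-affine schemes, part 5: the coaction on the affine hull
-/

set_option autoImplicit false
universe u
open CategoryTheory CategoryTheory.Limits AlgebraicGeometry Opposite TensorProduct

namespace Groth.Agent.Helper5.QAff

open AlgSp Groth.Agent.Helper5.GeomFibSp Groth.Agent.Helper5.AffDesc Groth.Agent.Helper5.AffDescQ

variable {S : Scheme.{u}} {R R' : Type u} [CommRing R] [CommRing R'] [Algebra R R']
  {tS : Spec (CommRingCat.of R) ⟶ S} {X' : Over S} {gX' : X' ⟶ sp tS R'}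
  {F : Sp S} {f : F ⟶ (yon S).obj (sp tS R)} {fst : (yon S).obj X' ⟶ F}

local notation "Ax" => GA tS gX'

instance isAffine_sp (B : Type u) [CommRing B] [Algebra R B] : IsAffine (sp tS B).left := by
  show IsAffine (Spec (CommRingCat.of B))
  infer_instance

variable [Module.FaithfullyFlat R R']

/-- `pr₁ : T' ×_T Y ⟶ Y` is flat -/
instance flat_pr1 (B : Type u) [CommRing B] [Algebra R' B] [Algebra R B] [IsScalarTower R R' B] :
    Flat (pr1 tS R' B).left := by
  have h : IsPullback (pr2 tS R' B).left (pr1 tS R' B).left (cT tS R').left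
      (gX tS R' B ≫ cT tS R').left := (isPullback_X'' (R' := R') (A' := B) tS).map (Over.forget S)
  exact MorphismProperty.of_isPullback (P := @Flat) h inferInstance

instance isAffineHom_pr1 (B : Type u) [CommRing B] [Algebra R' B] [Algebra R B]
    [IsScalarTower R R' B] : IsAffineHom (pr1 tS R' B).left := by
  show IsAffineHom (Spec.map _)
  infer_instance

variable [CompactSpace X'.left] [QuasiSeparatedSpace X'.left]

theorem isPullback_Wo_left :
    IsPullback (w1 tS gX').left (jW tS gX').left (jX tS gX').left (pr1 tS R' Ax).left :=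
  (isPullback_Wo tS gX').map (Over.forget S)

instance isIso_jW_appTop : IsIso (jW tS gX').left.appTop :=
  isIso_appTop_of_isPullback (jX tS gX').left (pr1 tS R' Ax).left (w1 tS gX').left
    (jW tS gX').left (isPullback_Wo_left (gX' := gX'))

variable (sq : IsPullback fst ((yon S).map gX') f ((yon S).map (cT tS R')))

include sq in
theorem exists_qb : ∃ qb : sp tS (R' ⊗[R] Ax) ⟶ sp tS Ax,
    jW tS gX' ≫ qb = qW sq ≫ jX tS gX' ∧ qb ≫ gX tS R' Ax = pr2 tS R' Ax := by
  obtain ⟨m, hm⟩ := exists_lift_of_isIso_appTop (jW tS gX').left (qW sq ≫ jX tS gX').left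
  have h1 : m ≫ (gX tS R' Ax).left = (pr2 tS R' Ax).left := by
    apply eq_of_comp_eq_of_isIso_appTop (jW tS gX').left
    rw [← Category.assoc, hm, ← Over.comp_left, ← Over.comp_left, Category.assoc, jX_gX, qW_g]
  have h2 : m ≫ (sp tS Ax).hom = (sp tS (R' ⊗[R] Ax)).hom := by
    rw [← Over.w (gX tS R' Ax), ← Category.assoc, h1, Over.w]
  refine ⟨Over.homMk m h2, ?_, ?_⟩
  · ext1
    exact hm
  · ext1
    exact h1

end Groth.Agent.Helper5.QAff
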