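import Groth.Agent.Helper5.QAff5
import Mathlib

/-!
# fpqc descent of quasi-affine schemes, part 6: counit and coassociativity of the coaction on the
affine hull
-/

set_option autoImplicit false
universe u
open CategoryTheory CategoryTheory.Limits AlgebraicGeometry Opposite TensorProduct

namespace Groth.Agent.Helper5.QAff

open AlgSp Groth.Agent.Helper5.GeomFibSp Groth.Agent.Helper5.AffDesc Groth.Agent.Helper5.AffDescQ

variable {S : Scheme.{u}} {R R' : Type u} [CommRing R] [CommRing R'] [Algebra R R']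
  {tS : Spec (CommRingCat.of R) ⟶ S} {X' : Over S} {gX' : X' ⟶ sp tS R'}
  {F : Sp S} {f : F ⟶ (yon S).obj (sp tS R)} {fst : (yon S).obj X' ⟶ F}

local notation "Ax" => GA tS gX'

variable [Module.FaithfullyFlat R R'] [CompactSpace X'.left] [QuasiSeparatedSpace X'.left]
  (sq : IsPullback fst ((yon S).map gX') f ((yon S).map (cT tS R')))
  (qb : sp tS (R' ⊗[R] GA tS gX') ⟶ sp tS (GA tS gX'))
  (hjq : jW tS gX' ≫ qb = qW sq ≫ jX tS gX')

include hjq in
theorem qb_counit : dMor tS R' Ax ≫ qb = 𝟙 _ := by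
  let δ : X' ⟶ Wo tS gX' := pullback.lift (𝟙 X') (jX tS gX' ≫ dMor tS R' Ax)
    (by rw [Category.id_comp, Category.assoc, dMor_pr1, Category.comp_id])
  have hδ1 : δ ≫ w1 tS gX' = 𝟙 X' := pullback.lift_fst _ _ _
  have hδ2 : δ ≫ jW tS gX' = jX tS gX' ≫ dMor tS R' Ax := pullback.lift_snd _ _ _
  have hδq : δ ≫ qW sq = 𝟙 X' := by
    apply (yon S).map_injective
    apply sq.hom_ext
    · rw [Functor.map_comp, Category.assoc, qW_fst, ← Category.assoc, ← Functor.map_comp, hδ1]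
    · have h3 : (δ ≫ qW sq) ≫ gX' = 𝟙 X' ≫ gX' := by
        rw [Category.assoc, qW_g, ← Category.assoc, hδ2, Category.assoc, dMor_pr2, jX_gX,
          Category.id_comp]
      rw [← Functor.map_comp, h3, Functor.map_comp]
  have key : jX tS gX' ≫ dMor tS R' Ax ≫ qb = jX tS gX' ≫ 𝟙 (sp tS Ax) := by
    calc jX tS gX' ≫ dMor tS R' Ax ≫ qb = (δ ≫ jW tS gX') ≫ qb := by
          rw [hδ2, Category.assoc]
      _ = (δ ≫ qW sq) ≫ jX tS gX' := by rw [Category.assoc, hjq, ← Category.assoc]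
      _ = jX tS gX' ≫ 𝟙 (sp tS Ax) := by rw [hδq, Category.id_comp, Category.comp_id]
  ext1
  apply eq_of_comp_eq_of_isIso_appTop (jX tS gX').left
  exact congrArg (fun m => m.left) key


theorem isAffineHom_w1 : IsAffineHom (w1 tS gX').left := by
  have h : IsPullback (jW tS gX').left (w1 tS gX').left (pr1 tS R' (GA tS gX')).left
      (jX tS gX').left := ((isPullback_Wo tS gX').map (Over.forget S)).flip
  have h2 : IsAffineHom (pr1 tS R' (GA tS gX')).left := by
    show IsAffineHom (Spec.map _)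
    infer_instance
  exact MorphismProperty.of_isPullback (P := @IsAffineHom) h h2

theorem compactSpace_Wo : CompactSpace (Wo tS gX').left := by
  haveI := isAffineHom_w1 (tS := tS) (gX' := gX')
  exact QuasiCompact.compactSpace_of_compactSpace (w1 tS gX').left

theorem quasiSeparatedSpace_Wo : QuasiSeparatedSpace (Wo tS gX').left := by
  haveI := isAffineHom_w1 (tS := tS) (gX' := gX')
  exact quasiSeparatedSpace_of_quasiSeparated (w1 tS gX').left

variable (hq1 : qb ≫ gX tS R' (GA tS gX') = pr2 tS R' (GA tS gX'))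

include hjq in
theorem qb_coassoc :
    spMap tS (Algebra.TensorProduct.map (AlgHom.id R R')
        ((rho tS qb hq1).restrictScalars R)) ≫ qb =
      spMap tS (Algebra.TensorProduct.map (AlgHom.id R R')
        (Algebra.TensorProduct.includeRight : GA tS gX' →ₐ[R] R' ⊗[R] GA tS gX')) ≫ qb := by
  set ρR := (rho tS qb hq1).restrictScalars R with hρR
  set η : GA tS gX' →ₐ[R] R' ⊗[R] GA tS gX' := Algebra.TensorProduct.includeRight with hη
  have hq : spMap tS ρR = qb := spMap_rho tS qb hq1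
  have e1 : spMap tS (Algebra.TensorProduct.map (AlgHom.id R R') ρR) ≫ pr1 tS R' (GA tS gX') =
      pr1 tS R' (R' ⊗[R] GA tS gX') ≫ qb := by
    rw [← hq, ← spMap_comp, ← spMap_comp]
    congr 1
  have e2 : spMap tS (Algebra.TensorProduct.map (AlgHom.id R R') η) ≫ pr1 tS R' (GA tS gX') =
      pr1 tS R' (R' ⊗[R] GA tS gX') ≫ pr1 tS R' (GA tS gX') := by
    rw [← spMap_comp, ← spMap_comp]
    congr 1
  have e3 : spMap tS (Algebra.TensorProduct.map (AlgHom.id R R') ρR) ≫ pr2 tS R' (GA tS gX') =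
      spMap tS (Algebra.TensorProduct.map (AlgHom.id R R') η) ≫ pr2 tS R' (GA tS gX') := by
    rw [← spMap_comp, ← spMap_comp]
    congr 1
    ext x
    simp
  -- `W₂ = W ×_{W̄} W̄₂`
  have hW₂ := IsPullback.of_hasPullback (jW tS gX') (pr1 tS R' (R' ⊗[R] GA tS gX'))
  generalize pullback.fst (jW tS gX') (pr1 tS R' (R' ⊗[R] GA tS gX')) = w₂ at hW₂
  generalize pullback.snd (jW tS gX') (pr1 tS R' (R' ⊗[R] GA tS gX')) = jW₂ at hW₂
  generalize pullback (jW tS gX') (pr1 tS R' (R' ⊗[R] GA tS gX')) = W₂ at w₂ jW₂ hW₂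
  haveI := compactSpace_Wo (tS := tS) (gX' := gX')
  haveI := quasiSeparatedSpace_Wo (tS := tS) (gX' := gX')
  haveI : IsIso jW₂.left.appTop :=
    isIso_appTop_of_isPullback (jW tS gX').left (pr1 tS R' (R' ⊗[R] GA tS gX')).left w₂.left
      jW₂.left (hW₂.map (Over.forget S))
  have c1 : (w₂ ≫ qW sq) ≫ jX tS gX' =
      (jW₂ ≫ spMap tS (Algebra.TensorProduct.map (AlgHom.id R R') ρR)) ≫
        pr1 tS R' (GA tS gX') := by
    calc (w₂ ≫ qW sq) ≫ jX tS gX' = w₂ ≫ jW tS gX' ≫ qb := by rw [Category.assoc, hjq]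
      _ = (jW₂ ≫ pr1 tS R' (R' ⊗[R] GA tS gX')) ≫ qb := by rw [← Category.assoc, hW₂.w]
      _ = (jW₂ ≫ spMap tS (Algebra.TensorProduct.map (AlgHom.id R R') ρR)) ≫
          pr1 tS R' (GA tS gX') := by rw [Category.assoc, ← e1, Category.assoc]
  have c2 : (w₂ ≫ w1 tS gX') ≫ jX tS gX' =
      (jW₂ ≫ spMap tS (Algebra.TensorProduct.map (AlgHom.id R R') η)) ≫
        pr1 tS R' (GA tS gX') := by
    calc (w₂ ≫ w1 tS gX') ≫ jX tS gX' = w₂ ≫ jW tS gX' ≫ pr1 tS R' (GA tS gX') := by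
          rw [Category.assoc, (isPullback_Wo tS gX').w]
      _ = (jW₂ ≫ pr1 tS R' (R' ⊗[R] GA tS gX')) ≫ pr1 tS R' (GA tS gX') := by
          rw [← Category.assoc, hW₂.w]
      _ = (jW₂ ≫ spMap tS (Algebra.TensorProduct.map (AlgHom.id R R') η)) ≫
          pr1 tS R' (GA tS gX') := by rw [Category.assoc, ← e2, Category.assoc]
  have hb₁1 := (isPullback_Wo tS gX').lift_fst _ _ c1
  have hb₁2 := (isPullback_Wo tS gX').lift_snd _ _ c1
  have hb₂1 := (isPullback_Wo tS gX').lift_fst _ _ c2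
  have hb₂2 := (isPullback_Wo tS gX').lift_snd _ _ c2
  generalize (isPullback_Wo tS gX').lift _ _ c1 = b₁ at hb₁1 hb₁2
  generalize (isPullback_Wo tS gX').lift _ _ c2 = b₂ at hb₂1 hb₂2
  have hbq : b₁ ≫ qW sq = b₂ ≫ qW sq := by
    apply (yon S).map_injective
    apply sq.hom_ext
    · have h5 : ∀ b : W₂ ⟶ Wo tS gX', (yon S).map (b ≫ qW sq) ≫ fst =
          (yon S).map (b ≫ w1 tS gX') ≫ fst := by
        intro b
        rw [Functor.map_comp, Category.assoc, qW_fst, ← Category.assoc, ← Functor.map_comp]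
      rw [h5, h5, hb₁1, hb₂1, Functor.map_comp, Category.assoc, qW_fst, ← Category.assoc,
        ← Functor.map_comp]
    · have h6 : (b₁ ≫ qW sq) ≫ gX' = (b₂ ≫ qW sq) ≫ gX' := by
        rw [Category.assoc, Category.assoc, qW_g, ← Category.assoc, ← Category.assoc, hb₁2, hb₂2,
          Category.assoc, Category.assoc, e3]
      rw [← Functor.map_comp, ← Functor.map_comp, h6]
  have key : jW₂ ≫ spMap tS (Algebra.TensorProduct.map (AlgHom.id R R') ρR) ≫ qb =
      jW₂ ≫ spMap tS (Algebra.TensorProduct.map (AlgHom.id R R') η) ≫ qb := by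
    calc jW₂ ≫ spMap tS (Algebra.TensorProduct.map (AlgHom.id R R') ρR) ≫ qb
        = (b₁ ≫ jW tS gX') ≫ qb := by rw [hb₁2, Category.assoc]
      _ = (b₁ ≫ qW sq) ≫ jX tS gX' := by rw [Category.assoc, hjq, ← Category.assoc]
      _ = (b₂ ≫ qW sq) ≫ jX tS gX' := by rw [hbq]
      _ = (b₂ ≫ jW tS gX') ≫ qb := by rw [Category.assoc, ← hjq, ← Category.assoc]
      _ = jW₂ ≫ spMap tS (Algebra.TensorProduct.map (AlgHom.id R R') η) ≫ qb := by
          rw [hb₂2, Category.assoc]
  ext1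
  apply eq_of_comp_eq_of_isIso_appTop jW₂.left
  exact congrArg (fun m => m.left) key

end Groth.Agent.Helper5.QAff
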