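import Groth.Agent.Helper5.EtGlue1
import Groth.Prelude.Def_AlgSpCov
import Mathlib

/-!
# fpqc descent of quasi-affine schemes, part 7: descending a morphism to a target scheme

Given a cartesian square `h_{X'} = F ×_{h_T} h_{T'}` of fppf sheaves with `c : T' ⟶ T` an fpqc
covering of schemes, and a morphism of schemes `π : X' ⟶ Q` which identifies any two points of
`X'` with the same image in `F`, there is a unique `φ : F ⟶ h_Q` with `fst ≫ φ = h_π`.
-/

set_option autoImplicit false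
universe u
open CategoryTheory CategoryTheory.Limits AlgebraicGeometry Opposite

namespace Groth.Agent.Helper5.QAff.Desc

open AlgSp

variable {S : Scheme.{u}} {T T' X' Q : Over S} {c : T' ⟶ T}
  {F : Sp S} {f : F ⟶ (yon S).obj T} {gX' : X' ⟶ T'} {fst : (yon S).obj X' ⟶ F}
  (sq : IsPullback fst ((yon S).map gX') f ((yon S).map c))
  (π : X' ⟶ Q)
  (hπ : ∀ {Z : Over S} (g₁ g₂ : Z ⟶ X'),
    (yon S).map g₁ ≫ fst = (yon S).map g₂ ≫ fst → g₁ ≫ π = g₂ ≫ π)

include hπ in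
/-- descent of a morphism to `Q` along an fpqc covering `p : V' ⟶ V`. -/
theorem exists_desc_aux {V V' : Over S} (p : V' ⟶ V) [Flat p.left] [Surjective p.left]
    [QuasiCompact p.left] (ξ : (yon S).obj V ⟶ F) (a : V' ⟶ X')
    (ha : (yon S).map a ≫ fst = (yon S).map p ≫ ξ) :
    ∃ m : V ⟶ Q, p ≫ m = a ≫ π := by
  have hcoeq : ∀ {Z : Scheme.{u}} (g₁ g₂ : Z ⟶ V'.left), g₁ ≫ p.left = g₂ ≫ p.left →
      g₁ ≫ (a ≫ π).left = g₂ ≫ (a ≫ π).left := by
    intro Z g₁ g₂ hg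
    let Z' : Over S := Over.mk (g₁ ≫ V'.hom)
    let G₁ : Z' ⟶ V' := Over.homMk g₁ rfl
    let G₂ : Z' ⟶ V' := Over.homMk g₂ (by
      show g₂ ≫ V'.hom = g₁ ≫ V'.hom
      rw [← Over.w p, ← Category.assoc, ← hg, Category.assoc])
    have hG : G₁ ≫ p = G₂ ≫ p := by
      ext1
      exact hg
    have key := hπ (G₁ ≫ a) (G₂ ≫ a) (by
      rw [Functor.map_comp, Functor.map_comp, Category.assoc, Category.assoc, ha,
        ← Category.assoc, ← Category.assoc, ← Functor.map_comp, ← Functor.map_comp, hG])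
    have key' := congrArg (fun k => k.left) key
    simpa [G₁, G₂] using key'
  have hm₀ : p.left ≫ EffectiveEpi.desc p.left (a ≫ π).left hcoeq =
      (a ≫ π).left := EffectiveEpi.fac _ _ _
  refine ⟨Over.homMk (EffectiveEpi.desc p.left (a ≫ π).left hcoeq) ?_, ?_⟩
  · rw [← cancel_epi p.left, ← Category.assoc, hm₀, Over.w, Over.w]
  · ext1
    exact hm₀

/-- the structure map of a `V`-valued point of `F` -/
noncomputable def tOf {V : Over S} (ξ : (yon S).obj V ⟶ F) (f : F ⟶ (yon S).obj T) : V ⟶ T :=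
  (yon S).preimage (ξ ≫ f)

theorem map_tOf {V : Over S} (ξ : (yon S).obj V ⟶ F) : (yon S).map (tOf ξ f) = ξ ≫ f :=
  Functor.map_preimage _ _

/-- `V' = V ×_T T'` -/
noncomputable def Vp {V : Over S} (ξ : (yon S).obj V ⟶ F) (f : F ⟶ (yon S).obj T) (c : T' ⟶ T) :
    Over S := pullback (tOf ξ f) c

noncomputable def piV {V : Over S} (ξ : (yon S).obj V ⟶ F) (f : F ⟶ (yon S).obj T) (c : T' ⟶ T) :
    Vp ξ f c ⟶ V := pullback.fst (tOf ξ f) c

noncomputable def tauV {V : Over S} (ξ : (yon S).obj V ⟶ F) (f : F ⟶ (yon S).obj T)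
    (c : T' ⟶ T) : Vp ξ f c ⟶ T' := pullback.snd (tOf ξ f) c

theorem isPullback_Vp {V : Over S} (ξ : (yon S).obj V ⟶ F) :
    IsPullback (piV ξ f c) (tauV ξ f c) (tOf ξ f) c := IsPullback.of_hasPullback _ _

include sq in
theorem aV_cond {V : Over S} (ξ : (yon S).obj V ⟶ F) :
    ((yon S).map (piV ξ f c) ≫ ξ) ≫ f = (yon S).map (tauV ξ f c) ≫ (yon S).map c := by
  have h1 : ξ ≫ f = (yon S).map (tOf ξ f) := (map_tOf ξ).symm
  rw [Category.assoc, h1, ← Functor.map_comp, ← Functor.map_comp, (isPullback_Vp ξ).w]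

/-- `V' ⟶ X'` -/
noncomputable def aV {V : Over S} (ξ : (yon S).obj V ⟶ F) : Vp ξ f c ⟶ X' :=
  (yon S).preimage (sq.lift _ _ (aV_cond sq ξ))

theorem aV_fst {V : Over S} (ξ : (yon S).obj V ⟶ F) :
    (yon S).map (aV sq ξ) ≫ fst = (yon S).map (piV ξ f c) ≫ ξ := by
  rw [aV, Functor.map_preimage, sq.lift_fst]

theorem aV_gX {V : Over S} (ξ : (yon S).obj V ⟶ F) : aV sq ξ ≫ gX' = tauV ξ f c := by
  apply (yon S).map_injective
  rw [Functor.map_comp, aV, Functor.map_preimage, sq.lift_snd]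

variable [Flat c.left] [Surjective c.left] [QuasiCompact c.left]

theorem isPullback_Vp_left {V : Over S} (ξ : (yon S).obj V ⟶ F) :
    IsPullback (tauV ξ f c).left (piV ξ f c).left c.left (tOf ξ f).left :=
  ((isPullback_Vp ξ).map (Over.forget S)).flip

instance flat_piV {V : Over S} (ξ : (yon S).obj V ⟶ F) : Flat (piV ξ f c).left :=
  MorphismProperty.of_isPullback (P := @Flat) (isPullback_Vp_left ξ) inferInstance

instance surjective_piV {V : Over S} (ξ : (yon S).obj V ⟶ F) : Surjective (piV ξ f c).left :=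
  MorphismProperty.of_isPullback (P := @Surjective) (isPullback_Vp_left ξ) inferInstance

instance quasiCompact_piV {V : Over S} (ξ : (yon S).obj V ⟶ F) : QuasiCompact (piV ξ f c).left :=
  MorphismProperty.of_isPullback (P := @QuasiCompact) (isPullback_Vp_left ξ) inferInstance

instance epi_piV {V : Over S} (ξ : (yon S).obj V ⟶ F) : Epi (piV ξ f c) := by
  have : Epi ((Over.forget S).map (piV ξ f c)) := by
    show Epi (piV ξ f c).left
    infer_instance
  exact (Over.forget S).epi_of_epi_map this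

/-- the image of a `V`-valued point of `F` in `Q` -/
noncomputable def mOf {V : Over S} (ξ : (yon S).obj V ⟶ F) : V ⟶ Q :=
  (exists_desc_aux π hπ (piV ξ f c) ξ (aV sq ξ) (aV_fst sq ξ)).choose

theorem mOf_spec {V : Over S} (ξ : (yon S).obj V ⟶ F) :
    piV ξ f c ≫ mOf sq π hπ ξ = aV sq ξ ≫ π :=
  (exists_desc_aux π hπ (piV ξ f c) ξ (aV sq ξ) (aV_fst sq ξ)).choose_spec

theorem mOf_natural {V V₁ : Over S} (g : V₁ ⟶ V) (ξ : (yon S).obj V ⟶ F) :
    mOf sq π hπ ((yon S).map g ≫ ξ) = g ≫ mOf sq π hπ ξ := by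
  set ξ₁ := (yon S).map g ≫ ξ with hξ₁
  rw [← cancel_epi (piV ξ₁ f c), mOf_spec]
  have ht : tOf ξ₁ f = g ≫ tOf ξ f := by
    apply (yon S).map_injective
    rw [map_tOf, Functor.map_comp, map_tOf, hξ₁, Category.assoc]
  have hc : (piV ξ₁ f c ≫ g) ≫ tOf ξ f = tauV ξ₁ f c ≫ c := by
    rw [Category.assoc, ← ht, (isPullback_Vp ξ₁).w]
  let k : Vp ξ₁ f c ⟶ Vp ξ f c := (isPullback_Vp ξ).lift _ _ hc
  have hk1 : k ≫ piV ξ f c = piV ξ₁ f c ≫ g := (isPullback_Vp ξ).lift_fst _ _ hc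
  have hk2 : k ≫ tauV ξ f c = tauV ξ₁ f c := (isPullback_Vp ξ).lift_snd _ _ hc
  have ha : aV sq ξ₁ = k ≫ aV sq ξ := by
    apply (yon S).map_injective
    apply sq.hom_ext
    · have e1 : (yon S).map (aV sq ξ₁) ≫ fst = (yon S).map (piV ξ₁ f c) ≫ ξ₁ := aV_fst sq ξ₁
      have e2 : (yon S).map (k ≫ aV sq ξ) ≫ fst = (yon S).map (k ≫ piV ξ f c) ≫ ξ := by
        rw [Functor.map_comp, Category.assoc, aV_fst, ← Category.assoc, ← Functor.map_comp]
      rw [e1, e2, hk1, hξ₁, Functor.map_comp, Category.assoc]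
    · rw [← Functor.map_comp, aV_gX, ← Functor.map_comp, Category.assoc, aV_gX, hk2]
  rw [ha, Category.assoc, ← mOf_spec sq π hπ ξ, ← Category.assoc, hk1, Category.assoc]

theorem mOf_fst : mOf sq π hπ fst = π := by
  rw [← cancel_epi (piV fst f c), mOf_spec]
  exact (hπ _ _ (aV_fst sq fst).symm).symm

theorem mOf_comp {V : Over S} (ξ : (yon S).obj V ⟶ F) (g : Q ⟶ T) (hg : π ≫ g = gX' ≫ c) :
    mOf sq π hπ ξ ≫ g = tOf ξ f := by
  rw [← cancel_epi (piV ξ f c), ← Category.assoc, mOf_spec, Category.assoc, hg,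
    ← Category.assoc, aV_gX, (isPullback_Vp ξ).w]

include sq hπ in
/-- the morphism `F ⟶ h_Q` -/
theorem exists_phi :
    ∃ φ : F ⟶ (yon S).obj Q, fst ≫ φ = (yon S).map π ∧
      ∀ (g : Q ⟶ T), π ≫ g = gX' ≫ c → φ ≫ (yon S).map g = f := by
  obtain ⟨φ, hφ⟩ := Groth.Agent.Helper5.EtGlue.exists_hom_of_points
    (fun V ξ => (yon S).map (mOf sq π hπ ξ))
    (fun V V₁ g ξ => by rw [mOf_natural, Functor.map_comp])
  refine ⟨φ, ?_, ?_⟩
  · rw [hφ, mOf_fst]
  · intro g hg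
    apply Groth.Agent.Helper5.EtGlue.hom_ext_points
    intro V ξ
    rw [← Category.assoc, hφ, ← Functor.map_comp, mOf_comp sq π hπ ξ g hg, map_tOf]

end Groth.Agent.Helper5.QAff.Desc
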