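import Groth.Agent.Helper5.QAff6
import Groth.Agent.Helper5.QAff7
import Groth.Agent.Helper5.FpqcSingle
import Groth.Agent.Helper5.FpqcIso
import Mathlib

/-!
# fpqc descent of quasi-affine schemes, part 8: the main theorem over `Spec R' ⟶ Spec R`
-/

set_option autoImplicit false
universe u
open CategoryTheory CategoryTheory.Limits AlgebraicGeometry Opposite TensorProduct

namespace Groth.Agent.Helper5.QAff

open AlgSp Groth.Agent.Helper5.GeomFibSp Groth.Agent.Helper5.AffDesc Groth.Agent.Helper5.AffDescQ

variable {S : Scheme.{u}} {R R' : Type u} [CommRing R] [CommRing R'] [Algebra R R']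
  {tS : Spec (CommRingCat.of R) ⟶ S} {X' : Over S} {gX' : X' ⟶ sp tS R'}
  {F : Sp S} {f : F ⟶ (yon S).obj (sp tS R)} {fst : (yon S).obj X' ⟶ F}

set_option backward.isDefEq.respectTransparency.types false in
/-- **fpqc descent of quasi-affine schemes** (sheaf form): if `F` is an algebraic space over `h_T`,
`T = Spec R`, whose base change along the faithfully flat `T' = Spec R' ⟶ T` is representable by
a quasi-affine scheme, then `F` is representable by a quasi-affine scheme. -/
theorem exists_iso_fpqc [Module.FaithfullyFlat R R'] [X'.left.IsQuasiAffine] (hF : IsAlgSpace F)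
    (sq : IsPullback fst ((yon S).map gX') f ((yon S).map (cT tS R'))) :
    ∃ (X : Over S) (g : X ⟶ sp tS R) (e : (yon S).obj X ≅ F), X.left.IsQuasiAffine ∧
      e.hom ≫ f = (yon S).map g := by
  haveI : QuasiSeparatedSpace X'.left := inferInstance
  obtain ⟨qb, hjq, hq1⟩ := exists_qb sq
  have hq2 := qb_counit sq qb hjq
  have hq3 := qb_coassoc sq qb hjq hq1
  -- the target and the morphism `π`
  set π : X' ⟶ sp tS (dA tS qb hq1) := jX tS gX' ≫ piX tS qb hq1 with hπdef
  have hπ : ∀ {Z : Over S} (g₁ g₂ : Z ⟶ X'),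
      (yon S).map g₁ ≫ fst = (yon S).map g₂ ≫ fst → g₁ ≫ π = g₂ ≫ π := by
    intro Z g₁ g₂ h
    obtain ⟨w, hw1, hw2⟩ := exists_point_Wo sq g₁ g₂ h
    calc g₁ ≫ π = w ≫ (qW sq ≫ jX tS gX') ≫ piX tS qb hq1 := by
          rw [← hw1, hπdef, Category.assoc, Category.assoc]
      _ = w ≫ jW tS gX' ≫ qb ≫ piX tS qb hq1 := by rw [← hjq, Category.assoc]
      _ = w ≫ (jW tS gX' ≫ pr1 tS R' (GA tS gX')) ≫ piX tS qb hq1 := by
          rw [qb_piX, Category.assoc]
      _ = g₂ ≫ π := by
          rw [← (isPullback_Wo tS gX').w, ← hw2, hπdef, Category.assoc, Category.assoc]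
  have hπg : π ≫ gA tS qb hq1 = gX' ≫ cT tS R' := by
    rw [hπdef, Category.assoc, piX_gA, ← Category.assoc, jX_gX]
  obtain ⟨φ, hφ1, hφ2⟩ := Desc.exists_phi sq π hπ
  have h2 : φ ≫ (yon S).map (gA tS qb hq1) = f := hφ2 _ hπg
  have hpb := isPullback_piX tS qb hq1 hq2 hq3
  have hbot : IsPullback ((yon S).map (piX tS qb hq1)) ((yon S).map (gX tS R' (GA tS gX')))
      ((yon S).map (gA tS qb hq1)) ((yon S).map (cT tS R')) := hpb.map (yon S)
  have htop : IsPullback fst ((yon S).map (jX tS gX')) φ ((yon S).map (piX tS qb hq1)) := by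
    refine IsPullback.of_bot ?_ (by rw [hφ1, hπdef, Functor.map_comp]) hbot
    rw [← Functor.map_comp, jX_gX, h2]
    exact sq
  have sql : IsPullback (gX tS R' (GA tS gX')).left (piX tS qb hq1).left (cT tS R').left
      (gA tS qb hq1).left := (hpb.map (Over.forget S)).flip
  have : Flat (piX tS qb hq1).left :=
    MorphismProperty.of_isPullback (P := @Flat) sql inferInstance
  have : Surjective (piX tS qb hq1).left :=
    MorphismProperty.of_isPullback (P := @Surjective) sql inferInstance
  have : IsAffineHom (piX tS qb hq1).left :=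
    MorphismProperty.of_isPullback (P := @IsAffineHom) sql inferInstance
  have hcov := Groth.Agent.Helper5.FpqcSingle.isFpqcCover_single (piX tS qb hq1)
  have hjo : IsOpenImmersion (jX tS gX').left := by
    have h : IsOpenImmersion X'.left.toSpecΓ := inferInstance
    exact h
  have hφo : RepWith @IsOpenImmersion φ :=
    (Groth.Agent.Helper5.FpqcIso.isLocalOnBase_repWith_openImmersion
      (fun _ : PUnit.{u + 1} => (yon S).obj (sp tS (GA tS gX')))
      (fun _ => (yon S).map (piX tS qb hq1))
      (IsAlgSpace.yon_obj _) (fun _ => IsAlgSpace.yon_obj _) hcov φ hF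
      (fun _ => (yon S).obj X') (fun _ => (yon S).map (jX tS gX')) (fun _ => fst)
      (fun _ => IsAlgSpace.yon_obj _) (fun _ => htop)).2
      (fun _ => (repWith_yon_map_iff @IsOpenImmersion _).2 hjo)
  obtain ⟨X, e', fstQ, sqQ⟩ := hφo.1 (𝟙 ((yon S).obj (sp tS (dA tS qb hq1))))
  have he' : IsOpenImmersion e'.left := hφo.2 _ _ _ sqQ
  haveI : IsIso fstQ := sqQ.isIso_fst_of_isIso
  refine ⟨X, e' ≫ gA tS qb hq1, asIso fstQ, ?_, ?_⟩
  · -- `X` is quasi-affine
    obtain ⟨k, hk⟩ := (yon S).map_surjective (fst ≫ inv fstQ)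
    have hQ : fstQ ≫ φ = (yon S).map e' := by rw [sqQ.w, Category.comp_id]
    have sqk : IsPullback ((yon S).map k) ((yon S).map (jX tS gX')) ((yon S).map e')
        ((yon S).map (piX tS qb hq1)) := by
      refine IsPullback.of_iso htop (Iso.refl _) (asIso fstQ).symm (Iso.refl _) (Iso.refl _)
        ?_ ?_ ?_ ?_
      · simp [hk]
      · simp
      · simp [← hQ]
      · simp
    have sqk' : IsPullback k (jX tS gX') e' (piX tS qb hq1) :=
      IsPullback.of_map (yon S) (by
        apply (yon S).map_injective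
        simp only [Functor.map_comp]
        exact sqk.w) sqk
    have sqk'' : IsPullback (jX tS gX').left k.left (piX tS qb hq1).left e'.left :=
      (sqk'.map (Over.forget S)).flip
    have hks : Surjective k.left :=
      MorphismProperty.of_isPullback (P := @Surjective) sqk'' inferInstance
    haveI : CompactSpace X.left := by
      constructor
      rw [← Set.range_eq_univ.2 k.left.surjective]
      exact isCompact_range k.left.continuous
    haveI : IsImmersion e'.left := inferInstance
    exact Scheme.IsQuasiAffine.of_isImmersion e'.left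
  · show fstQ ≫ f = _
    rw [← h2, ← Category.assoc, sqQ.w, Category.comp_id, Functor.map_comp]

end Groth.Agent.Helper5.QAff
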