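import Mathlib
import Groth.Prelude.Def_Mor2

set_option autoImplicit false
universe u

open CategoryTheory CategoryTheory.Limits AlgebraicGeometry

namespace Groth.Agent.Helper5.QAffFin

variable {X Y : Scheme.{u}}

/-- a quasi-affine scheme proper over an affine scheme is affine -/
theorem isAffine_of_isProper_of_isQuasiAffine (g : X ⟶ Y) [IsAffine Y] [X.IsQuasiAffine]
    [IsProper g] : IsAffine X := by
  have h1 : g ≫ Y.toSpecΓ = X.toSpecΓ ≫ Spec.map g.appTop := Scheme.toSpecΓ_naturality g
  have : IsProper (X.toSpecΓ ≫ Spec.map g.appTop) := by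
    rw [← h1]; infer_instance
  have hp : IsProper X.toSpecΓ := IsProper.of_comp X.toSpecΓ (Spec.map g.appTop)
  have hcl : IsClosed (Set.range X.toSpecΓ) := X.toSpecΓ.isClosedMap.isClosed_range
  have hd : DenseRange X.toSpecΓ := X.toSpecΓ.denseRange
  have hs : Function.Surjective X.toSpecΓ := by
    rw [← Set.range_eq_univ, ← hcl.closure_eq]
    exact hd.closure_range
  have : Surjective X.toSpecΓ := ⟨hs⟩
  have : IsIso X.toSpecΓ := (isIso_iff_isOpenImmersion_and_surjective _).mpr ⟨inferInstance, this⟩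
  exact IsAffine.of_isIso X.toSpecΓ

theorem s10868 (f : X ⟶ Y) : IsFinite f ↔ IsProper f ∧ Mor2.IsQuasiAffine f := by
  constructor
  · intro h
    refine ⟨inferInstance, inferInstance, fun V hV => ?_⟩
    have : IsAffine (f ⁻¹ᵁ V).toScheme := hV.preimage f
    infer_instance
  · rintro ⟨hp, hqc, hqa⟩
    rw [IsFinite.iff_isProper_and_isAffineHom]
    refine ⟨hp, ⟨fun V hV => ?_⟩⟩
    have : IsAffine V.toScheme := hV
    have : (f ⁻¹ᵁ V).toScheme.IsQuasiAffine := hqa V hV
    exact isAffine_of_isProper_of_isQuasiAffine (f ∣_ V)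

end Groth.Agent.Helper5.QAffFin
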