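import Mathlib
import Groth.Agent.Helper5.LciS6

set_option autoImplicit false
set_option linter.style.haveILetI false
universe u
open TensorProduct MvPolynomial

namespace Groth.Agent.Helper5.QF

open Groth.Agent.Helper5.RelGCI Groth.Agent.Helper5.SM Groth.Agent.Helper5.LciS

theorem dim_le_zero_of_isArtinianRing (X : Type*) [CommRing X] [IsArtinianRing X] :
    ringKrullDim X ≤ 0 := by
  have : Ring.KrullDimLE 0 X := isArtinianRing_iff_krullDimLE_zero.1 inferInstance
  exact_mod_cast Ring.krullDimLE_iff.1 this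

/-- a nontrivial quasi-finite relative global complete intersection has as many relations as
variables -/
theorem eq_of_quasiFinite (A : Type u) [CommRing A] (n c : ℕ)
    (F : Fin c → MvPolynomial (Fin n) A) (hF : Synt.IsRelGCI A n c F)
    [Nontrivial (Synt.RelGCIRing A n c F)] [Algebra.QuasiFinite A (Synt.RelGCIRing A n c F)] :
    c = n := by
  obtain ⟨m, hm⟩ := Ideal.exists_maximal (Synt.RelGCIRing A n c F)
  let q : PrimeSpectrum (Synt.RelGCIRing A n c F) := ⟨m, hm.isPrime⟩
  obtain ⟨Q, hQ⟩ := Groth.Agent.Helper5.SpecFib.exists_over A (Synt.RelGCIRing A n c F) q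
  let p : PrimeSpectrum A := ⟨q.asIdeal.under A, inferInstance⟩
  haveI : Nontrivial (p.asIdeal.Fiber (Synt.RelGCIRing A n c F)) :=
    ⟨⟨0, 1, fun h => Q.isPrime.ne_top ((Ideal.eq_top_iff_one _).2 (h ▸ Q.asIdeal.zero_mem))⟩⟩
  obtain ⟨hcn, hdim⟩ := hF p inferInstance
  haveI : IsArtinianRing (p.asIdeal.Fiber (Synt.RelGCIRing A n c F)) := inferInstance
  have h0 : ringKrullDim (p.asIdeal.Fiber (Synt.RelGCIRing A n c F)) ≤ 0 :=
    dim_le_zero_of_isArtinianRing (p.asIdeal.Fiber (Synt.RelGCIRing A n c F))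
  rw [hdim] at h0
  have h1 : n - c ≤ 0 := by exact_mod_cast h0
  omega

theorem s2237 {A B : Type u} [CommRing A] [CommRing B] [Algebra A B] [Module.Flat A B]
    [Algebra.QuasiFinite A B] (hlci : LCI.IsLCI A B) (q : Ideal B) [q.IsPrime] :
    ∃ g : B, g ∉ q ∧ ∃ (n : ℕ) (f : Fin n → MvPolynomial (Fin n) A),
      Nonempty (Localization.Away g ≃ₐ[A]
        (MvPolynomial (Fin n) A ⧸ Ideal.span (Set.range f))) := by
  have hsynt := isSyntomic_of_flat_isLCI A B inferInstance hlci
  obtain ⟨g, hg, n, c, F, hF, ⟨e⟩⟩ := Groth.Agent.Helper5.LST.lst A B hsynt q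
  haveI : Nontrivial (Localization.Away g) := by
    have hdisj : Disjoint (Submonoid.powers g : Set B) (q : Set B) := by
      rw [Ideal.disjoint_powers_iff_notMem_of_isPrime]
      exact hg
    have hprime : (q.map (algebraMap B (Localization.Away g))).IsPrime :=
      IsLocalization.isPrime_of_isPrime_disjoint (.powers g) _ _ inferInstance hdisj
    exact ⟨⟨0, 1, fun h => hprime.ne_top ((Ideal.eq_top_iff_one _).2 (h ▸ Ideal.zero_mem _))⟩⟩
  haveI : Nontrivial (Synt.RelGCIRing A n c F) := e.symm.toEquiv.nontrivial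
  haveI : Algebra.QuasiFinite A (Synt.RelGCIRing A n c F) :=
    Algebra.QuasiFinite.of_surjective_algHom e.toAlgHom e.surjective
  have hcn := eq_of_quasiFinite A n c F hF
  subst hcn
  exact ⟨g, hg, c, F, ⟨e⟩⟩

end Groth.Agent.Helper5.QF
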