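import Mathlib
import Groth.Agent.Lead.FD14

set_option autoImplicit false
universe u
open CategoryTheory CategoryTheory.Limits AlgebraicGeometry

namespace Groth.Agent.Helper5.QcDesc

theorem quasiCompact_of_comp_surjective {X Y Z : Scheme.{u}} (p : X ⟶ Y) (q : Y ⟶ Z)
    [Surjective p] [QuasiCompact (p ≫ q)] : QuasiCompact q := by
  refine ⟨fun U hU hUc => ?_⟩
  have h1 : IsCompact ((p ≫ q) ⁻¹' U) := QuasiCompact.isCompact_preimage U hU hUc
  have h2 : p '' ((p ≫ q) ⁻¹' U) = q ⁻¹' U := by
    ext y
    constructor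
    · rintro ⟨x, hx, rfl⟩
      simpa using hx
    · intro hy
      obtain ⟨x, rfl⟩ := p.surjective y
      exact ⟨x, by simpa using hy, rfl⟩
  rw [← h2]
  exact h1.image p.continuous

theorem quasiSeparated_of_comp_surjective {X Y Z : Scheme.{u}} (p : X ⟶ Y) (q : Y ⟶ Z)
    [Surjective p] [QuasiCompact p] [QuasiSeparated (p ≫ q)] : QuasiSeparated q := by
  refine ⟨?_⟩
  let pp : pullback (p ≫ q) (p ≫ q) ⟶ pullback q q :=
    pullback.map (p ≫ q) (p ≫ q) q q p p (𝟙 _) ((Category.comp_id _).trans rfl)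
      ((Category.comp_id _).trans rfl)
  have hpp : QuasiCompact pp :=
    MorphismProperty.pullbackMap (P := @QuasiCompact) inferInstance inferInstance rfl rfl
  have hw : pullback.diagonal (p ≫ q) ≫ pp = p ≫ pullback.diagonal q := by
    apply pullback.hom_ext
    · simp only [pp, Category.assoc, pullback.lift_fst, pullback.diagonal_fst, Category.comp_id]
      rw [pullback.diagonal_fst_assoc]
    · simp only [pp, Category.assoc, pullback.lift_snd, pullback.diagonal_snd, Category.comp_id]
      rw [pullback.diagonal_snd_assoc]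
  have : QuasiCompact (p ≫ pullback.diagonal q) := by
    rw [← hw]; infer_instance
  exact quasiCompact_of_comp_surjective p (pullback.diagonal q)

theorem s4091 {X Y S : Scheme.{u}} (p : X ⟶ Y) (q : Y ⟶ S)
    [Surjective p] [Flat p] [LocallyOfFinitePresentation p] [QuasiCompact p] [QuasiSeparated p] :
    ((LocallyOfFiniteType (p ≫ q) ∧ QuasiCompact (p ≫ q)) → (LocallyOfFiniteType q ∧ QuasiCompact q)) ∧
    ((LocallyOfFinitePresentation (p ≫ q) ∧ QuasiCompact (p ≫ q) ∧ QuasiSeparated (p ≫ q)) →
      (LocallyOfFinitePresentation q ∧ QuasiCompact q ∧ QuasiSeparated q)) := by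
  constructor
  · rintro ⟨h1, h2⟩
    exact ⟨Groth.Agent.Lead.FD14.locallyOfFiniteType_of_fppf_comp p q,
      quasiCompact_of_comp_surjective p q⟩
  · rintro ⟨h1, h2, h3⟩
    exact ⟨Groth.Agent.Lead.FD14.locallyOfFinitePresentation_of_fppf_comp p q,
      quasiCompact_of_comp_surjective p q, quasiSeparated_of_comp_surjective p q⟩

end Groth.Agent.Helper5.QcDesc
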