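import Groth.Agent.Helper5.FpqcIso
import Groth.Agent.Helper4.AlgSpQC2
import Groth.Agent.Helper4.AlgSpPB
import Mathlib

set_option autoImplicit false
universe u
open CategoryTheory CategoryTheory.Limits AlgebraicGeometry
open AlgSp

namespace Groth.Agent.Helper5.QcFlatMono

open Groth.Agent.Helper4 Groth.Agent.Helper4.AlgSpQC Groth.Agent.Helper4.AlgSpQC2
  Groth.Agent.Helper4.AlgSpPtsDesc

variable {S : Scheme.{u}}

set_option backward.isDefEq.respectTransparency.types false in
/-- A quasi-compact flat surjective morphism of algebraic spaces is (as a one-member family) an fpqc covering. -/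
theorem isFpqcCover_of_qc_flat_surjective {X Y : Sp S} (hX : IsAlgSpace X) (hY : IsAlgSpace Y) (f : X ⟶ Y)
    (hqc : IsQuasiCompactMor f) (hflat : LocP @Flat f) (hsurj : IsSurjectiveMor f) :
    IsFpqcCover (fun _ : PUnit.{u+1} => X) (fun _ => f) := by
  refine ⟨fun _ => hflat, ?_⟩
  intro Z hZ h
  have sq : IsPullback (pullback.fst f h) (pullback.snd f h) f h := IsPullback.of_hasPullback _ _
  have hP : IsAlgSpace (pullback f h) :=
    AlgSpPB.isAlgSpace_of_isPullback hY.diag hX (IsAlgSpace.yon_obj Z) f h _ _ sq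
  have hPqc : IsQuasiCompactSp (pullback f h) :=
    (isQuasiCompactMor_iff_affine f).1 hqc Z hZ h _ _ _ sq
  obtain ⟨U, p, hpe, hps, hU⟩ := exists_affine_chart hPqc
  obtain ⟨c, hc⟩ := (yon S).map_surjective (p ≫ pullback.snd f h)
  have hG := SDClasses.good_flat.{u}
  have := hG.bc
  have := hG.comp
  have hflat' : LocP @Flat (pullback.snd f h) :=
    AlgSpLocPBC.locP_of_isPullback @Flat (fun g hg => hG.etale_le g hg)
      (fun e h he hs hP => hG.sd e h he hs hP) hX hY f h _ _ sq hflat
  refine ⟨1, fun _ => U, fun _ => c, fun _ => hU, fun _ => ?_, ?_, fun _ => ⟨PUnit.unit, p ≫ pullback.fst f h, ?_⟩⟩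
  · exact hflat' p (𝟙 _) c hpe (repWith_id (@Etale.{u}) Z) (by rw [hc, Category.comp_id])
  · intro z
    obtain ⟨x, hx⟩ := hsurj (Points.map h (Points.schemeHomeo Z z))
    obtain ⟨w, hw1, hw2⟩ := exists_point_of_isPullback sq x (Points.schemeHomeo Z z) hx
    obtain ⟨v, hv⟩ := AlgSpPts.isSurjectiveMor_of_repWith p hps w
    obtain ⟨u, rfl⟩ := (Points.schemeHomeo U).surjective v
    refine ⟨0, u, ?_⟩
    apply (Points.schemeHomeo Z).injective
    rw [← Points.map_yon_map_apply, hc, Points.map_comp]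
    show Points.map _ (Points.map p _) = _
    rw [hv, hw2]
  · rw [Category.assoc, sq.w, ← Category.assoc, hc]

/-- A quasi-compact flat surjective monomorphism of algebraic spaces is an isomorphism. -/
theorem isIso_of_qc_flat_surjective_mono {X Y : Sp S} (hX : IsAlgSpace X) (hY : IsAlgSpace Y) (f : X ⟶ Y)
    (hqc : IsQuasiCompactMor f) (hflat : LocP @Flat f) (hsurj : IsSurjectiveMor f) [Mono f] : IsIso f := by
  have hcov := isFpqcCover_of_qc_flat_surjective hX hY f hqc hflat hsurj
  have key := Groth.Agent.Helper5.FpqcIso.isLocalOnBase_isomorphisms (S := S)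
    (fun _ : PUnit.{u+1} => X) (fun _ => f) hY (fun _ => hX) hcov f hX (fun _ => X) (fun _ => 𝟙 X)
    (fun _ => 𝟙 X) (fun _ => hX) (fun _ => (IsKernelPair.id_of_mono f))
  exact key.2 fun _ => (inferInstance : IsIso (𝟙 X))

end Groth.Agent.Helper5.QcFlatMono
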