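import Groth.Agent.Helper5.StalkRed
import Mathlib

set_option autoImplicit false
universe u
open CategoryTheory CategoryTheory.Limits AlgebraicGeometry Opposite

namespace Groth.Agent.Helper5.QcPt

/-- A morphism from a reduced scheme to an affine scheme whose image is a single point `u` factors
through `Spec κ(u)`. -/
theorem exists_factor_residueField {W U : Scheme.{u}} [IsAffine U] [IsReduced W] (g : W ⟶ U)
    (u : ↥U) (hg : ∀ w : ↥W, g w = u) :
    ∃ g' : W ⟶ Spec (U.residueField u), g' ≫ U.fromSpecResidueField u = g := by
  let j := U.fromSpecStalk u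
  have hj : Flat j := Groth.Agent.Helper5.StalkRed.flat_fromSpecStalk U u
  have : IsAffineHom j := isAffineHom_of_isAffine j
  have : QuasiCompact j := inferInstance
  have hs1 : Surjective (pullback.fst g j) := by
    refine ⟨fun w => ?_⟩
    obtain ⟨z, hz1, -⟩ := Scheme.Pullback.exists_preimage_pullback (f := g) (g := j) w
      (IsLocalRing.closedPoint _) (by rw [hg w]; exact (Scheme.fromSpecStalk_closedPoint).symm)
    exact ⟨z, hz1⟩
  have : IsIso (pullback.fst g j) := Flat.isIso_of_surjective_of_mono _
  let g₁ : W ⟶ Spec (U.presheaf.stalk u) := inv (pullback.fst g j) ≫ pullback.snd g j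
  have hg₁ : g₁ ≫ j = g := by
    show (inv (pullback.fst g j) ≫ pullback.snd g j) ≫ j = g
    rw [Category.assoc, ← pullback.condition, IsIso.inv_hom_id_assoc]
  have hg₁pt : ∀ w : ↥W, g₁ w = IsLocalRing.closedPoint _ := by
    intro w
    have hinj : Function.Injective j := (Scheme.Hom.isEmbedding j).injective
    apply hinj
    have : j (g₁ w) = g w := by
      rw [← hg₁]; rfl
    rw [this, hg w]
    exact (Scheme.fromSpecStalk_closedPoint).symm
  let c : Spec (U.residueField u) ⟶ Spec (U.presheaf.stalk u) := Spec.map (U.residue u)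
  have : IsClosedImmersion c :=
    IsClosedImmersion.spec_of_surjective _ (Scheme.residue_surjective U u)
  have : IsLocalHom (U.residue u).hom :=
    inferInstanceAs (IsLocalHom (IsLocalRing.residue (U.presheaf.stalk u)))
  have hs2 : Surjective (pullback.fst g₁ c) := by
    refine ⟨fun w => ?_⟩
    obtain ⟨z, hz1, -⟩ := Scheme.Pullback.exists_preimage_pullback (f := g₁) (g := c) w
      (IsLocalRing.closedPoint (U.residueField u) : PrimeSpectrum (U.residueField u)) (by
        rw [hg₁pt w]
        exact (IsLocalRing.comap_closedPoint (U.residue u).hom).symm)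
    exact ⟨z, hz1⟩
  have : IsIso (pullback.fst g₁ c) := isIso_of_isClosedImmersion_of_surjective _
  refine ⟨inv (pullback.fst g₁ c) ≫ pullback.snd g₁ c, ?_⟩
  have hc : c ≫ j = U.fromSpecResidueField u := rfl
  rw [← hc, Category.assoc, ← Category.assoc (pullback.snd g₁ c), ← pullback.condition,
    Category.assoc, IsIso.inv_hom_id_assoc, hg₁]

end Groth.Agent.Helper5.QcPt
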