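import Groth.Agent.Helper5.QcPt1
import Groth.Agent.Helper5.MonoQuot14
import Groth.Agent.Helper5.AlgSpMonoPt
import Groth.Agent.Helper5.EtGlue
import Groth.Agent.Helper5.RedDesc
import Mathlib

set_option autoImplicit false
universe u

namespace Groth.Agent.Helper5.QcPt

open CategoryTheory CategoryTheory.Limits AlgebraicGeometry Opposite AlgSp
open Groth.Agent.Helper4.AlgSpPtsDesc Groth.Agent.Helper4.AlgSpQC2

variable {S : Scheme.{u}}

/-- an affine etale chart through the class of a quasi-compact mono point whose fibre over that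
class is a single point -/
theorem exists_isolating_chart {X : Sp S} (hX : IsAlgSpace X) (p : FieldPt X)
    (hq : RepWith @QuasiCompact p.toHom) :
    ∃ (U : Over S) (φ : (yon S).obj U ⟶ X) (u : ↥U.left), IsAffine U.left ∧ RepWith @Etale φ ∧
      Points.ofPt φ u = Points.mk p ∧ ∀ u' : ↥U.left, Points.ofPt φ u' = Points.mk p → u' = u := by
  have hx : ∀ (V : Over S) (b : (yon S).obj V ⟶ X), IsAffine V.left → RepWith @Etale b →
      (Points.ofPt b ⁻¹' {Points.mk p}).Finite := by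
    intro V b hV hb
    haveI : CompactSpace ↥V.left := inferInstance
    exact Groth.Agent.Helper5.Decent2.finite_fibre_of_qc_point p hq b hb
  obtain ⟨U₀, φ₀, hφ₀, hφ₀s⟩ := hX.atlas
  obtain ⟨u₀, hu₀⟩ := Groth.Agent.Helper5.AlgSpOpen.ofPt_surjective_of_repWith φ₀ hφ₀s (Points.mk p)
  obtain ⟨O, hu₀O, hO⟩ :=
    Groth.Agent.Helper5.MonoQuot.exists_open_isolating (Points.mk p) hx φ₀ hφ₀ u₀ hu₀
  obtain ⟨_, ⟨(U₁ : U₀.left.Opens), hU₁, rfl⟩, hu₀U₁, hU₁O⟩ :=
    (U₀.left.isBasis_affineOpens).exists_subset_of_mem_open hu₀O O.isOpen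
  refine ⟨Over.mk (U₁.ι ≫ U₀.hom),
    (yon S).map (Over.homMk U₁.ι rfl : Over.mk (U₁.ι ≫ U₀.hom) ⟶ U₀) ≫ φ₀, ⟨u₀, hu₀U₁⟩, hU₁,
    Groth.Agent.Helper5.MonoQuot.repWith_etale_restrict φ₀ hφ₀ U₁, ?_, ?_⟩
  · rw [ofPt_yon_map_comp]
    exact hu₀
  · intro u' hu'
    rw [ofPt_yon_map_comp] at hu'
    have h1 := hO _ (hU₁O u'.2) hu'
    exact Subtype.ext h1

end Groth.Agent.Helper5.QcPt
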