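import Groth.Agent.Helper5.QcPt2
import Mathlib

set_option autoImplicit false
universe u

namespace Groth.Agent.Helper5.QcPt

open CategoryTheory CategoryTheory.Limits AlgebraicGeometry Opposite AlgSp
open Groth.Agent.Helper4.AlgSpPtsDesc Groth.Agent.Helper4.AlgSpQC2

variable {S : Scheme.{u}}

/-- a morphism from a reduced scheme to an algebraic space all of whose points map to the class of
a quasi-compact mono point factors through that point, after passing to an etale cover -/
theorem exists_cover_factor {X : Sp S} (hX : IsAlgSpace X) (p : FieldPt X) [Mono p.toHom]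
    (hq : RepWith @QuasiCompact p.toHom) {V : Over S} [IsReduced V.left]
    (h : (yon S).obj V ⟶ X) (hall : ∀ v : ↥V.left, Points.ofPt h v = Points.mk p) :
    ∃ (W : Over S) (c : W ⟶ V) (σ : (yon S).obj W ⟶ (yon S).obj p.pt), Etale c.left ∧
      Surjective c.left ∧ (yon S).map c ≫ h = σ ≫ p.toHom := by
  obtain ⟨U, φ, u, hUaff, hφ, hu, hfib⟩ := exists_isolating_chart hX p hq
  have sq := hφ.rep.isPullback h
  obtain ⟨e, he⟩ := (yon S).map_surjective (hφ.rep.fst h)
  rw [← he] at sq
  have het : Etale (hφ.rep.snd h).left := hφ.property h _ _ sq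
  clear he
  generalize hφ.rep.snd h = c at sq het
  generalize hφ.rep.pullback h = W at e c sq het
  have hsurj : Surjective c.left := by
    refine ⟨fun v => ?_⟩
    obtain ⟨r, -, hr⟩ := Groth.Agent.Helper5.Decent2.exists_scheme_point_of_isPullback sq u v
      (by rw [hu, hall])
    exact ⟨r, hr⟩
  have hW : IsReduced W.left := Groth.Agent.Helper5.RedDesc.isReduced_of_smooth c.left
  have hept : ∀ w : ↥W.left, e.left w = u := by
    intro w
    apply hfib
    rw [← ofPt_yon_map_comp, sq.w, ofPt_yon_map_comp]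
    exact hall _
  obtain ⟨g', hg'⟩ := exists_factor_residueField e.left u hept
  obtain ⟨k, hk, -⟩ := Groth.Agent.Helper5.AlgSpMonoPt.existsUnique_factor hX p (FieldPt.ofPt φ u)
    hu.symm
  rw [FieldPt.toHom_ofPt] at hk
  let g'' : W ⟶ (FieldPt.ofPt φ u).pt := Over.homMk g' (by
    show g' ≫ U.left.fromSpecResidueField u ≫ U.hom = W.hom
    rw [← Category.assoc, hg']
    exact Over.w e)
  have hg'' : g'' ≫ (Over.homMk (U.left.fromSpecResidueField u) rfl :
      (FieldPt.ofPt φ u).pt ⟶ U) = e := by
    ext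
    exact hg'
  refine ⟨W, c, (yon S).map (g'' ≫ k), het, hsurj, ?_⟩
  rw [← sq.w, Functor.map_comp, Category.assoc, hk, ← Category.assoc, ← Functor.map_comp, hg'']

/-- S10373 -/
theorem s10373 {Y X : Space S} (f : Y ⟶ X) (x : Points X.obj) (p : FieldPt X.obj)
    (hp : Points.mk p = x) (hm : Mono p.toHom) (hq : RepWith @QuasiCompact p.toHom)
    (hY : EtaleLocally (fun U => IsReduced U) Y.obj)
    (hf : ∀ y : Points Y.obj, Points.map f.hom y = x) :
    ∃ g : Y.obj ⟶ (yon S).obj p.pt, g ≫ p.toHom = f.hom := by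
  subst hp
  obtain ⟨V, q, hqe, hqs, hVred⟩ := hY
  haveI : IsReduced V.left := hVred
  obtain ⟨W, c, σ, hce, hcs, hσ⟩ := exists_cover_factor X.property p hq (q ≫ f.hom) (by
    intro v
    rw [← Points.map_ofPt]
    exact hf _)
  haveI : Epi q := Groth.Agent.Helper5.EtGlue.epi_of_etale_surjective q hqe hqs
  haveI : Epi ((yon S).map c) := Groth.Agent.Helper5.EtGlue.epi_of_etale_surjective _
    ((repWith_yon_map_iff _ _).2 hce) ((repWith_yon_map_iff _ _).2 hcs)
  let j : pullback f.hom p.toHom ⟶ Y.obj := pullback.fst f.hom p.toHom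
  haveI : Mono j := inferInstance
  let τ : (yon S).obj W ⟶ pullback f.hom p.toHom :=
    pullback.lift ((yon S).map c ≫ q) σ (by rw [Category.assoc, hσ])
  have hτ : τ ≫ j = (yon S).map c ≫ q := pullback.lift_fst _ _ _
  haveI : Epi (τ ≫ j) := by rw [hτ]; infer_instance
  haveI : Epi j := epi_of_epi τ j
  haveI : IsIso j := isIso_of_mono_of_epi j
  refine ⟨inv j ≫ pullback.snd f.hom p.toHom, ?_⟩
  rw [Category.assoc, ← pullback.condition, IsIso.inv_hom_id_assoc]

end Groth.Agent.Helper5.QcPt
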