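import Groth.Agent.Helper5.QcPt2
import Groth.Agent.Helper5.Decent3
import Groth.Agent.Helper4.UB1
import Groth.Agent.Helper4.AlgSpInj
import Mathlib

set_option autoImplicit false
universe u

namespace Groth.Agent.Helper5.QcPt

open CategoryTheory CategoryTheory.Limits AlgebraicGeometry Opposite AlgSp Topology
open Groth.Agent.Helper4.AlgSpPtsDesc Groth.Agent.Helper4.AlgSpQC2

/-- descent of the inducing property along a square that is cartesian on points, with an open
map on the base and a continuous surjection on the source -/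
theorem isInducing_of_cartesian {T' U' T U : Type*} [TopologicalSpace T'] [TopologicalSpace U']
    [TopologicalSpace T] [TopologicalSpace U] (e' : T' → U') (e : T → U) (πT : T' → T)
    (π : U' → U) (he' : IsInducing e') (hec : Continuous e) (hπo : IsOpenMap π)
    (hπTc : Continuous πT) (hπTs : Function.Surjective πT)
    (hcomm : ∀ t', e (πT t') = π (e' t'))
    (hcart : ∀ t u', e t = π u' → ∃ t', πT t' = t ∧ e' t' = u') : IsInducing e := by
  refine ⟨le_antisymm hec.le_induced ?_⟩
  intro O hO
  rw [isOpen_induced_iff]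
  have hO' : IsOpen (πT ⁻¹' O) := hO.preimage hπTc
  obtain ⟨G, hG, hGO⟩ := he'.isOpen_iff.1 hO'
  refine ⟨π '' G, hπo G hG, ?_⟩
  ext z
  constructor
  · rintro ⟨g, hg, hgz⟩
    obtain ⟨t', ht1, ht2⟩ := hcart z g hgz.symm
    have : t' ∈ πT ⁻¹' O := by
      rw [← hGO]; show e' t' ∈ G; rw [ht2]; exact hg
    rw [← ht1]; exact this
  · intro hz
    obtain ⟨t', rfl⟩ := hπTs z
    have ht : t' ∈ e' ⁻¹' G := by rw [hGO]; exact hz
    exact ⟨e' t', ht, (hcomm t').symm⟩

/-- a monomorphism from a reduced one-point scheme is a preimmersion -/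
theorem isPreimmersion_of_mono_point {T V : Scheme.{u}} (e : T ⟶ V) [Mono e] [Subsingleton ↥T]
    [Nonempty ↥T] [IsReduced T] : IsPreimmersion e := by
  obtain ⟨t⟩ := ‹Nonempty ↥T›
  let g := V.fromSpecResidueField (e t)
  let s₀ : ↥(Spec (V.residueField (e t))) :=
    (IsLocalRing.closedPoint (V.residueField (e t)) : PrimeSpectrum (V.residueField (e t)))
  obtain ⟨w, -, -⟩ := Scheme.Pullback.exists_preimage_pullback (f := g) (g := e) s₀ t
    (Scheme.fromSpecResidueField_apply _ _)
  haveI : Nonempty ↥(pullback g e) := ⟨w⟩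
  haveI : Subsingleton ↥(Spec (V.residueField (e t))) :=
    (inferInstance : Subsingleton (PrimeSpectrum (V.residueField (e t))))
  haveI : IsIso (pullback.fst g e) := Groth.Agent.Helper5.MonoQuot.isIso_of_mono_to_point _
  let ρ := inv (pullback.fst g e) ≫ pullback.snd g e
  have hρ : ρ ≫ e = g := by
    show (inv (pullback.fst g e) ≫ pullback.snd g e) ≫ e = g
    rw [Category.assoc, ← pullback.condition, IsIso.inv_hom_id_assoc]
  haveI : Mono ρ := mono_of_mono_fac hρ
  haveI : Nonempty ↥(Spec (V.residueField (e t))) := ⟨s₀⟩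
  haveI : IsIso ρ := Groth.Agent.Helper5.MonoQuot.isIso_of_mono_to_point ρ
  have h : e = inv ρ ≫ g := by rw [← hρ, IsIso.inv_hom_id_assoc]
  rw [h]
  infer_instance

end Groth.Agent.Helper5.QcPt
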