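import Groth.Agent.Helper5.QcPt4
import Groth.Agent.Helper5.MonoQuot20
import Mathlib

set_option autoImplicit false
universe u

namespace Groth.Agent.Helper5.QcPt

open CategoryTheory CategoryTheory.Limits AlgebraicGeometry Opposite AlgSp Topology
open Groth.Agent.Helper4.AlgSpPtsDesc Groth.Agent.Helper4.AlgSpQC2

variable {S : Scheme.{u}}

/-- the base change of a quasi-compact mono point along a morphism from a scheme which factors
through an isolating chart is a topological embedding -/
theorem isInducing_of_isolating {Y : Sp S} (r : FieldPt Y) [Mono r.toHom]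
    (hq : RepWith @QuasiCompact r.toHom) {V : Over S} (ψ : (yon S).obj V ⟶ Y)
    (hψ : RepWith @Etale ψ) (v : ↥V.left) (hv : Points.ofPt ψ v = Points.mk r)
    (hfib : ∀ v' : ↥V.left, Points.ofPt ψ v' = Points.mk r → v' = v)
    {U' T' : Over S} (g : U' ⟶ V) (t' : T' ⟶ r.pt) (e' : T' ⟶ U')
    (sq₄ : IsPullback ((yon S).map t') ((yon S).map e') r.toHom ((yon S).map g ≫ ψ)) :
    IsInducing e'.left := by
  have sq₃ := hq.rep.isPullback ψ
  obtain ⟨tV, htV⟩ := (yon S).map_surjective (hq.rep.fst ψ)
  rw [← htV] at sq₃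
  have het : Etale tV.left := hψ.property r.toHom _ _ sq₃.flip
  clear htV
  generalize hq.rep.snd ψ = eV at sq₃
  generalize hq.rep.pullback ψ = TV at tV eV sq₃ het
  have hm1 : Mono ((yon S).map eV) := sq₃.mono_snd_of_mono
  have hm2 : Mono eV := (yon S).mono_of_mono_map hm1
  haveI hm3 : Mono eV.left := inferInstance
  haveI hred : IsReduced TV.left :=
    Groth.Agent.Helper5.MonoQuot.isReduced_of_etale_field (k := r.K) tV.left
  let s₀ : ↥r.pt.left := (IsLocalRing.closedPoint r.K : ↥(Spec (CommRingCat.of r.K)))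
  have hrange : ∀ w : ↥TV.left, eV.left w = v := by
    intro w
    apply hfib
    rw [← ofPt_yon_map_comp, ← sq₃.w, ofPt_yon_map_comp]
    exact Points.ofPt_toHom r _
  haveI : Subsingleton ↥TV.left := by
    refine ⟨fun w w' => ?_⟩
    apply (Scheme.Hom.injective eV.left)
    rw [hrange w, hrange w']
  haveI : Nonempty ↥TV.left := by
    obtain ⟨w, -, -⟩ := Groth.Agent.Helper5.Decent2.exists_scheme_point_of_isPullback sq₃ s₀ v
      (by rw [Points.ofPt_toHom, hv])
    exact ⟨w⟩
  have hpre : IsPreimmersion eV.left := isPreimmersion_of_mono_point eV.left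
  -- the comparison T' ⟶ TV
  obtain ⟨gT, hgT⟩ := (yon S).map_surjective
    (sq₃.lift ((yon S).map t') ((yon S).map e' ≫ (yon S).map g) (by rw [sq₄.w, Category.assoc]))
  have h1 : (yon S).map gT ≫ (yon S).map tV = (yon S).map t' := by
    rw [hgT]; exact sq₃.lift_fst _ _ _
  have h2 : (yon S).map gT ≫ (yon S).map eV = (yon S).map e' ≫ (yon S).map g := by
    rw [hgT]; exact sq₃.lift_snd _ _ _
  have sqL : IsPullback ((yon S).map e') ((yon S).map gT) ((yon S).map g) ((yon S).map eV) := by
    refine IsPullback.of_bot ?_ h2.symm sq₃.flip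
    rw [h1]
    exact sq₄.flip
  have sqS : IsPullback e'.left gT.left g.left eV.left :=
    Groth.Agent.Helper4.UB1.isPullback_left (Groth.Agent.Helper4.UB1.isPullback_of_yon_map sqL)
  have hpre' : IsPreimmersion e'.left := MorphismProperty.of_isPullback (P := @IsPreimmersion) sqS.flip hpre
  exact (Scheme.Hom.isEmbedding e'.left).isInducing

end Groth.Agent.Helper5.QcPt
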