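import Mathlib
import Groth.Agent.Helper5.ComplDVR

set_option autoImplicit false
universe u
open TensorProduct

namespace Groth.Agent.Helper5.QfCompl

open Groth.Agent.Helper5.ComplDVR

/-- The localisation at a prime over the closed point of a quasi-finite algebra of finite type over
a complete Noetherian local ring is finite. -/
theorem finite_localization_of_quasiFinite {A B : Type u} [CommRing A] [IsNoetherianRing A]
    [IsLocalRing A] [IsAdicComplete (IsLocalRing.maximalIdeal A) A] [CommRing B] [Algebra A B]
    [Algebra.FiniteType A B] [Algebra.QuasiFinite A B] (q : Ideal B) [q.IsPrime]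
    (hq : q.comap (algebraMap A B) = IsLocalRing.maximalIdeal A) :
    Module.Finite A (Localization.AtPrime q) := by
  set m := IsLocalRing.maximalIdeal A with hm
  have hBN : IsNoetherianRing B := Algebra.FiniteType.isNoetherianRing A B
  have hCN : IsNoetherianRing (Localization.AtPrime q) :=
    IsLocalization.isNoetherianRing q.primeCompl _ hBN
  have hle : m.map (algebraMap A (Localization.AtPrime q)) ≤
      IsLocalRing.maximalIdeal (Localization.AtPrime q) := by
    have h0 : (IsLocalRing.maximalIdeal (Localization.AtPrime q)).comap
        (algebraMap B (Localization.AtPrime q)) = q :=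
      IsLocalization.AtPrime.under_maximalIdeal (Localization.AtPrime q) q
    rw [Ideal.map_le_iff_le_comap, IsScalarTower.algebraMap_eq A B (Localization.AtPrime q),
      ← Ideal.comap_comap, h0, hq]
  have hne : m.map (algebraMap A (Localization.AtPrime q)) ≠ ⊤ := by
    intro h
    rw [h] at hle
    exact (IsLocalRing.maximalIdeal.isMaximal (Localization.AtPrime q)).ne_top (top_le_iff.1 hle)
  have hH' : IsHausdorff (m.map (algebraMap A (Localization.AtPrime q))) (Localization.AtPrime q) :=
    IsHausdorff.of_isLocalRing _ _ hne
  have hH : IsHausdorff m (Localization.AtPrime q) := IsHausdorff.map_algebraMap_iff.mp hH'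
  let _ : Field (A ⧸ m) := Ideal.Quotient.field m
  have h1 : Module.Finite (A ⧸ m) ((A ⧸ m) ⊗[A] Localization.AtPrime q) :=
    Module.Finite.of_quasiFinite
  have h2 : Module.Finite A ((A ⧸ m) ⊗[A] Localization.AtPrime q) :=
    Module.Finite.trans (A ⧸ m) _
  have h3 : Module.Finite A (Localization.AtPrime q ⧸ (m • ⊤ : Submodule A (Localization.AtPrime q))) :=
    Module.Finite.equiv (TensorProduct.quotTensorEquivQuotSMul (Localization.AtPrime q) m)
  obtain ⟨n, s, hs⟩ := Module.Finite.exists_fin (R := A)
    (M := Localization.AtPrime q ⧸ (m • ⊤ : Submodule A (Localization.AtPrime q)))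
  choose c hc using fun i => Submodule.mkQ_surjective _ (s i)
  let f : (Fin n → A) →ₗ[A] Localization.AtPrime q := Fintype.linearCombination A c
  have hsurj : Function.Surjective
      ((m • ⊤ : Submodule A (Localization.AtPrime q)).mkQ ∘ₗ f) := by
    rw [← LinearMap.range_eq_top, LinearMap.range_comp, Fintype.range_linearCombination,
      Submodule.map_span, ← Set.range_comp]
    have hcs : (⇑(m • ⊤ : Submodule A (Localization.AtPrime q)).mkQ ∘ c) = s := by
      funext i
      exact hc i
    rw [hcs]
    exact hs
  have hpre : IsPrecomplete m (Fin n → A) := isPrecomplete_of_finite m _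
  have hf := surjective_of_mkQ_comp_surjective hsurj
  exact Module.Finite.of_surjective f hf

/-- A quasi-finite domain of finite type over a complete Noetherian local ring, having a prime over
the closed point, is finite and local. -/
theorem finite_and_local_of_quasiFinite {A B : Type u} [CommRing A] [IsNoetherianRing A]
    [IsLocalRing A] [IsAdicComplete (IsLocalRing.maximalIdeal A) A] [CommRing B] [IsDomain B]
    [Algebra A B] [Algebra.FiniteType A B] [Algebra.QuasiFinite A B] (q : Ideal B) [q.IsPrime]
    (hq : q.comap (algebraMap A B) = IsLocalRing.maximalIdeal A) :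
    Module.Finite A B ∧ IsLocalRing B := by
  have hC := finite_localization_of_quasiFinite q hq
  have hinj : Function.Injective (algebraMap B (Localization.AtPrime q)) :=
    IsLocalization.injective _ q.primeCompl_le_nonZeroDivisors
  have hfin : Module.Finite A B := by
    have : IsNoetherian A (Localization.AtPrime q) := isNoetherian_of_isNoetherianRing_of_finite A _
    exact Module.Finite.of_injective (IsScalarTower.toAlgHom A B (Localization.AtPrime q)).toLinearMap
      hinj
  refine ⟨hfin, ?_⟩
  obtain ⟨M, hM, huniq⟩ := existsUnique_isMaximal_of_finite_of_complete A B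
  exact IsLocalRing.of_unique_max_ideal ⟨M, hM, huniq⟩

end Groth.Agent.Helper5.QfCompl
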