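import Mathlib
import Groth.Agent.Helper5.QfCompl
import Groth.Agent.Helper5.CutSec9

set_option autoImplicit false
universe u
open CategoryTheory CategoryTheory.Limits AlgebraicGeometry

namespace Groth.Agent.Helper5.QfCompl

open Groth.Agent.Helper5.CutSec

set_option maxHeartbeats 1000000 in
theorem exists_finite_local_immersion {A : Type u} [CommRing A] [IsDomain A]
    [IsNoetherianRing A] [IsLocalRing A] [IsAdicComplete (IsLocalRing.maximalIdeal A) A]
    {X : Scheme.{u}} (f : X ⟶ Spec (CommRingCat.of A)) [LocallyOfFiniteType f] (x : X)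
    (hx : f.base x = IsLocalRing.closedPoint A) (hf : EGA43.IsEquidimAt f x)
    (hcl : ∀ x' : X, f.base x' = f.base x → x ⤳ x' → x' = x) :
    ∃ (A' : Type u) (_ : CommRing A') (_ : IsDomain A') (_ : IsLocalRing A') (_ : Algebra A A')
      (_ : Module.Finite A A'),
      Function.Injective (algebraMap A A') ∧
      ∃ h : Spec (CommRingCat.of A') ⟶ X,
        h ≫ f = Spec.map (CommRingCat.ofHom (algebraMap A A')) ∧
        IsImmersion h ∧ x ∈ Set.range h.base := by
  have hYirr : IrreducibleSpace ↥(Spec (CommRingCat.of A)) :=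
    inferInstanceAs (IrreducibleSpace (PrimeSpectrum A))
  obtain ⟨e, he⟩ := Groth.Agent.Helper5.SubDim.fibreDimAt_nat f x
  obtain ⟨T, i, hTa, hi, hTirr, hTred, ⟨t, ht⟩, hlft, hlqf, hqc, hdom⟩ :=
    exists_qf_aux' e X f x hf hcl he
  have hTint : IsIntegral T := isIntegral_of_irreducibleSpace_of_isReduced T
  let hT := isAffineOpen_top T
  let ρ : CommRingCat.of A ⟶ Γ(T, ⊤) :=
    (Scheme.ΓSpecIso (CommRingCat.of A)).inv ≫ (i ≫ f).appLE ⊤ ⊤ le_top
  have hcomp : hT.fromSpec ≫ (i ≫ f) = Spec.map ρ := by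
    rw [Spec.map_comp, ← Scheme.isoSpec_Spec_inv, ← IsAffineOpen.fromSpec_top,
      IsAffineOpen.SpecMap_appLE_fromSpec]
  have hjiso : IsIso hT.fromSpec := by
    rw [IsAffineOpen.fromSpec_top]; infer_instance
  let _ : Algebra A Γ(T, ⊤) := ρ.hom.toAlgebra
  have hft : LocallyOfFiniteType (Spec.map ρ) := by rw [← hcomp]; infer_instance
  have hqf : LocallyQuasiFinite (Spec.map ρ) := by rw [← hcomp]; infer_instance
  have hdm : IsDominant (Spec.map ρ) := by rw [← hcomp]; infer_instance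
  have hft' : ρ.hom.FiniteType := (HasRingHomProperty.Spec_iff (P := @LocallyOfFiniteType)).1 hft
  have hqf' : ρ.hom.QuasiFinite := (HasRingHomProperty.Spec_iff (P := @LocallyQuasiFinite)).1 hqf
  have hAft : Algebra.FiniteType A Γ(T, ⊤) := hft'
  have hAqf : Algebra.QuasiFinite A Γ(T, ⊤) := hqf'
  have hBdom : IsDomain Γ(T, ⊤) := inferInstance
  let t' : Spec Γ(T, ⊤) := (inv hT.fromSpec) t
  have ht' : hT.fromSpec t' = t := by
    show (inv hT.fromSpec ≫ hT.fromSpec) t = t
    rw [IsIso.inv_hom_id]; rfl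
  have hq : t'.asIdeal.comap (algebraMap A Γ(T, ⊤)) = IsLocalRing.maximalIdeal A := by
    have h1 : (Spec.map ρ) t' = IsLocalRing.closedPoint A := by
      rw [← hcomp]
      show f (i (hT.fromSpec t')) = _
      rw [ht', ht, hx]
    have h2 := congrArg PrimeSpectrum.asIdeal h1
    exact h2
  obtain ⟨hfin, hloc⟩ := finite_and_local_of_quasiFinite (A := A) (B := Γ(T, ⊤)) t'.asIdeal hq
  have hinj : Function.Injective (algebraMap A Γ(T, ⊤)) := by
    have h1 : DenseRange (Spec.map ρ) := hdm.denseRange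
    have h2 : RingHom.ker ρ.hom ≤ nilradical A :=
      (PrimeSpectrum.denseRange_comap_iff_ker_le_nilRadical ρ.hom).1 h1
    rw [nilradical_eq_zero] at h2
    exact (RingHom.injective_iff_ker_eq_bot _).2 (le_bot_iff.1 h2)
  refine ⟨Γ(T, ⊤), inferInstance, hBdom, hloc, inferInstance, hfin, hinj, hT.fromSpec ≫ i, ?_,
    inferInstance, ⟨t', ?_⟩⟩
  · rw [Category.assoc, hcomp]; rfl
  · show i (hT.fromSpec t') = x
    rw [ht', ht]

end Groth.Agent.Helper5.QfCompl
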