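import Groth.Agent.Helper5.RelDimSp2
import Groth.Agent.Helper5.GorSp3
import Groth.Agent.Helper5.UnrLoc2
import Groth.Agent.Helper4.AlgSpQC
import Groth.Agent.Helper4.AlgSpQC2
import Groth.Agent.S9335
import Mathlib

set_option autoImplicit false
set_option linter.style.haveILetI false
set_option linter.unusedSectionVars false
set_option linter.unusedVariables false
universe u
open CategoryTheory CategoryTheory.Limits AlgebraicGeometry Opposite

namespace Groth.Agent.Helper5.QfFin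

open AlgSp Groth.Agent.Helper4 Groth.Agent.Helper5.PtLoc Groth.Agent.Helper5.RelDimSp

/-- the neighbourhood form of quasi-finiteness at a point implies Mathlib's stalk form -/
theorem quasiFiniteAt_of_nbhd {U V : Scheme.{u}} (h : U ⟶ V) (u : U)
    (hq : ∃ W : U.Opens, u ∈ W ∧ LocallyQuasiFinite (W.ι ≫ h) ∧ LocallyOfFiniteType (W.ι ≫ h)) :
    h.QuasiFiniteAt u := by
  obtain ⟨W, hu, hq, -⟩ := hq
  have h1 : (W.ι ≫ h).QuasiFiniteAt ⟨u, hu⟩ := Scheme.Hom.quasiFiniteAt _ _
  rw [Scheme.Hom.quasiFiniteAt_comp_iff_of_isOpenImmersion] at h1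
  exact h1

/-- finitely many points of a fibre of a morphism of finite type where it is quasi-finite -/
theorem finite_nbhd_lqf {U V : Scheme.{u}} (h : U ⟶ V) [LocallyOfFiniteType h] [QuasiCompact h]
    (v : V) :
    {u : U | h u = v ∧
      ∃ W : U.Opens, u ∈ W ∧ LocallyQuasiFinite (W.ι ≫ h) ∧ LocallyOfFiniteType (W.ι ≫ h)}.Finite := by
  refine (Groth.Agent.S9335.result h v).subset ?_
  rintro u ⟨hu, hq⟩
  exact ⟨hu, quasiFiniteAt_of_nbhd h u hq⟩

variable {S : Scheme.{u}}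

set_option backward.isDefEq.respectTransparency.types false in
theorem s9995 {X Y : AlgSp.Space S} (f : X ⟶ Y)
    (hf : AlgSp.IsFiniteTypeMor f.hom) (y : AlgSp.Points Y.obj) :
    {x : AlgSp.Points X.obj | AlgSp.Points.map f.hom x = y ∧
      AlgSp.HasAtMor (fun U _ h u => ∃ W : U.Opens, u ∈ W ∧ LocallyQuasiFinite (W.ι ≫ h) ∧
        LocallyOfFiniteType (W.ι ≫ h)) f.hom x}.Finite := by
  obtain ⟨hlft, hqc⟩ := hf
  obtain ⟨V₁, b₁, hb₁e, hb₁s⟩ := Y.property.atlas
  obtain ⟨v₁, rfl⟩ := Groth.Agent.Helper5.AlgSpOpen.ofPt_surjective_of_repWith b₁ hb₁s y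
  obtain ⟨O, hO, hvO, -⟩ :=
    Groth.Agent.Helper5.UnrLoc.exists_affineOpen_mem (⊤ : V₁.left.Opens) v₁ trivial
  let V : Over S := Over.mk (O.ι ≫ V₁.hom)
  let r : V ⟶ V₁ := Over.homMk O.ι rfl
  have hre : Etale r.left := by
    show Etale O.ι
    infer_instance
  obtain ⟨b, hb⟩ : ∃ b : (yon S).obj V ⟶ Y.obj, b = (yon S).map r ≫ b₁ := ⟨_, rfl⟩
  have hbe : RepWith @Etale b := by
    rw [hb]; exact Groth.Agent.Helper5.GorSp.repWith_etale_yon_comp r hre b₁ hb₁e
  let v : ↥V.left := ⟨v₁, hvO⟩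
  have hbv : Points.ofPt b v = Points.ofPt b₁ v₁ := by
    rw [hb, Groth.Agent.Helper4.AlgSpPtsDesc.ofPt_yon_map_comp]
    rfl
  haveI : IsAffine V.left := hO
  haveI : CompactSpace V.left := inferInstance
  have sqP : IsPullback (pullback.fst f.hom b) (pullback.snd f.hom b) f.hom b :=
    IsPullback.of_hasPullback _ _
  have hP : IsQuasiCompactSp (pullback f.hom b) :=
    hqc (IsAlgSpace.yon_obj V) (Groth.Agent.Helper4.AlgSpQC2.isQuasiCompactSp_yon V) b _ _ sqP
  obtain ⟨U, p, hpe, hps, hU⟩ := Groth.Agent.Helper4.AlgSpQC.exists_affine_chart hP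
  have i1 := repWith_isStableUnderBaseChange (S := S) @Etale
  have hfe : RepWith @Etale (pullback.fst f.hom b) :=
    MorphismProperty.of_isPullback (P := RepWith @Etale) sqP.flip hbe
  have i2 : (RepWith (S := S) @Etale).IsStableUnderComposition :=
    (repWith_isMultiplicative (S := S) @Etale).toIsStableUnderComposition
  obtain ⟨a, ha⟩ : ∃ a : (yon S).obj U ⟶ X.obj, a = p ≫ pullback.fst f.hom b := ⟨_, rfl⟩
  have hae : RepWith @Etale a := by
    rw [ha]; exact MorphismProperty.comp_mem _ _ _ hpe hfe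
  obtain ⟨s, hs⟩ := (yon S).map_surjective (X := U) (Y := V) (p ≫ pullback.snd f.hom b)
  have comm : a ≫ f.hom = (yon S).map s ≫ b := by
    rw [ha, Category.assoc, sqP.w, ← Category.assoc, hs]
  haveI : LocallyOfFiniteType s.left := hlft a b s hae hbe comm
  haveI : IsAffine U.left := hU
  haveI : QuasiCompact s.left := inferInstance
  have hfin := finite_nbhd_lqf s.left v
  refine (hfin.image (Points.ofPt a)).subset ?_
  rintro x ⟨hx, hq⟩
  have hx' : Points.map f.hom x = Points.map b (Points.schemeHomeo V v) := by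
    rw [hx, ← hbv]; exact Points.ofPt_eq_map_ofScheme b v
  obtain ⟨q, hq1, hq2⟩ := Groth.Agent.Helper4.AlgSpPtsDesc.exists_point_of_isPullback sqP x _ hx'
  obtain ⟨w, hw⟩ := Groth.Agent.Helper4.AlgSpPts.isSurjectiveMor_of_repWith _ hps q
  obtain ⟨u, rfl⟩ := (Points.schemeHomeo U).surjective w
  have hu1 : Points.ofPt a u = x := by
    rw [Points.ofPt_eq_map_ofScheme, ← hq1, ← hw, ← Points.map_comp, ha]
    rfl
  have hu2 : s.left u = v := by
    apply (Points.schemeHomeo V).injective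
    rw [← Points.map_yon_map_apply, ← hq2, ← hw, ← Points.map_comp, hs]
  refine ⟨u, ⟨hu2, ?_⟩, hu1⟩
  have hq' := (hasAtMor_nbhd_lqf_iff f.hom hlft x).1 hq
  rw [← hu1] at hq'
  have h0 := (hasAtMor_iff_chart_on (etLocalOn_QD _) f.hom hlft a b s hae hbe comm u).1 hq'
  exact (nbhd_lqf_iff s.left u).2 h0

end Groth.Agent.Helper5.QfFin
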