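import Groth.Agent.Helper5.QfFin1
import Groth.Agent.Helper5.RelDimSp6
import Mathlib

set_option autoImplicit false
set_option linter.style.haveILetI false
set_option linter.unusedSectionVars false
set_option linter.unusedVariables false
universe u
open CategoryTheory CategoryTheory.Limits AlgebraicGeometry Opposite

namespace Groth.Agent.Helper5.QfFin

open AlgSp Groth.Agent.Helper4 Groth.Agent.Helper5.PtLoc Groth.Agent.Helper5.RelDimSp
  Groth.Agent.Helper5.UnivInj

variable {S : Scheme.{u}}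

set_option backward.isDefEq.respectTransparency.types false in
theorem s10417 {X Y Z W : AlgSp.Space S} (f : X ⟶ Y)
    (g : Z ⟶ Y) (p : W ⟶ X) (q : W ⟶ Z) (hW : IsPullback p.hom q.hom f.hom g.hom) (x : AlgSp.Points X.obj)
    (z : AlgSp.Points Z.obj) (hxz : AlgSp.Points.map f.hom x = AlgSp.Points.map g.hom z)
    (hft : AlgSp.IsFiniteTypeMor f.hom) (hf : AlgSp.HasAtMor (fun U _ h u => ∃ W : U.Opens, u ∈ W ∧ LocallyQuasiFinite (W.ι ≫ h) ∧ LocallyOfFiniteType (W.ι ≫ h)) f.hom x) :
    {w : AlgSp.Points W.obj | AlgSp.Points.map p.hom w = x ∧ AlgSp.Points.map q.hom w = z}.Finite := by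
  obtain ⟨hlft, hqc⟩ := hft
  induction z using Points.ind with
  | h k =>
    have sqK : IsPullback (pullback.fst q.hom k.toHom) (pullback.snd q.hom k.toHom) q.hom k.toHom :=
      IsPullback.of_hasPullback _ _
    have hWK : IsAlgSpace (pullback q.hom k.toHom) :=
      Groth.Agent.Helper4.AlgSpPB.isAlgSpace_of_isPullback Z.property.diag W.property
        (IsAlgSpace.yon_obj _) q.hom k.toHom _ _ sqK
    let Yk : AlgSp.Space S := (AlgSp.ofScheme S).obj k.pt
    let WK : AlgSp.Space S := ⟨pullback q.hom k.toHom, hWK⟩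
    let y' : Yk ⟶ Y := ObjectProperty.homMk (k.toHom ≫ g.hom)
    let p' : WK ⟶ X := ObjectProperty.homMk (pullback.fst q.hom k.toHom ≫ p.hom)
    let q' : WK ⟶ Yk := ObjectProperty.homMk (pullback.snd q.hom k.toHom)
    have sq' : IsPullback p'.hom q'.hom f.hom y'.hom := sqK.paste_horiz hW
    have hlft' : AlgSp.LocP @LocallyOfFiniteType q'.hom := locP_lft_of_isPullback f y' p' q' sq' hlft
    have hqc' : IsQuasiCompactMor q'.hom :=
      Groth.Agent.Helper4.AlgSpQC.isQuasiCompactMor_of_isPullback sq' hqc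
    obtain ⟨t₀, -⟩ : ∃ t : Points ((yon S).obj k.pt), True := ⟨ptOf (𝟙 _), trivial⟩
    have hfin := s9995 q' ⟨hlft', hqc'⟩ t₀
    refine (hfin.image (Points.map (pullback.fst q.hom k.toHom))).subset ?_
    rintro w ⟨hw1, hw2⟩
    obtain ⟨w', hw'1, hw'2⟩ := Groth.Agent.Helper4.AlgSpPtsDesc.exists_point_of_isPullback sqK w t₀
      (by rw [hw2, map_toHom_eq])
    refine ⟨w', ⟨?_, ?_⟩, hw'1⟩
    · exact hw'2
    · rw [hasAtMor_nbhd_lqf_iff q'.hom hlft' w']
      have hbc := qd_locus_baseChange (fun r => r = 0) f y' p' q' sq' hlft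
      refine (Set.ext_iff.1 hbc w').2 ?_
      show HasAtMor _ f.hom (Points.map (pullback.fst q.hom k.toHom ≫ p.hom) w')
      rw [Points.map_comp, hw'1, hw1]
      exact (hasAtMor_nbhd_lqf_iff f.hom hlft x).1 hf

end Groth.Agent.Helper5.QfFin
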