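import Mathlib
import Groth.Agent.Helper5.QfSch12
import Groth.Agent.Helper4.AlgSpQC2

/-!
# Helper5: the image of a quasi-compact étale scheme chart of a representable space is a
quasi-compact open subscheme
-/

set_option autoImplicit false
set_option linter.style.haveILetI false
universe u
open CategoryTheory CategoryTheory.Limits AlgebraicGeometry Opposite

namespace Groth.Agent.Helper5.QfOpen

open AlgSp Groth.Agent.Helper4.AlgSpQC2

variable {S : Scheme.{u}}

theorem range_points_map_yon_map {A B : Over S} (g : A ⟶ B) :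
    Set.range (Points.map ((yon S).map g)) = Points.schemeHomeo B '' Set.range g.left := by
  ext x
  constructor
  · rintro ⟨y, rfl⟩
    obtain ⟨a, rfl⟩ := (Points.schemeHomeo A).surjective y
    exact ⟨g.left a, ⟨a, rfl⟩, (Points.map_yon_map_apply g a).symm⟩
  · rintro ⟨_, ⟨a, rfl⟩, rfl⟩
    exact ⟨Points.schemeHomeo A a, Points.map_yon_map_apply g a⟩

set_option backward.isDefEq.respectTransparency.types false in
/-- For a representable sheaf `X` and an étale map from a quasi-compact scheme, the image is a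
quasi-compact open subscheme. -/
theorem exists_open_subscheme_of_etale_chart {X : Sp S} (hX : X.obj.IsRepresentable)
    {V : Over S} [CompactSpace V.left] (v : (yon S).obj V ⟶ X) (hv : RepWith @Etale v) :
    ∃ (W : Over S) (i : (yon S).obj W ⟶ X), RepWith @IsOpenImmersion i ∧ CompactSpace ↥W.left ∧
      Set.range (Points.map i) = Set.range (Points.map v) := by
  obtain ⟨X₀, ⟨r⟩⟩ := hX.has_representation
  let e : (yon S).obj X₀ ≅ X := isoOfRepresentableBy r
  obtain ⟨v₀, hv₀⟩ := (yon S).map_surjective (v ≫ e.inv)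
  have hv' : v = (yon S).map v₀ ≫ e.hom := by rw [hv₀, Category.assoc, e.inv_hom_id, Category.comp_id]
  have h1 : RepWith @Etale ((yon S).map v₀) := by
    rw [hv₀]
    exact (MorphismProperty.cancel_right_of_respectsIso _ v e.inv).2 hv
  haveI : Etale v₀.left := (repWith_yon_map_iff _ v₀).1 h1
  let O : X₀.left.Opens := ⟨Set.range v₀.left, v₀.left.isOpenMap.isOpen_range⟩
  have hOc : IsCompact (O : Set X₀.left) := isCompact_range v₀.left.continuous
  have hoi : RepWith @IsOpenImmersion ((yon S).map (opι X₀ O)) :=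
    (repWith_yon_map_iff _ _).2 (by show IsOpenImmersion O.ι; infer_instance)
  refine ⟨opOver X₀ O, (yon S).map (opι X₀ O) ≫ e.hom,
    (MorphismProperty.cancel_right_of_respectsIso _ _ e.hom).2 hoi,
    isCompact_iff_compactSpace.1 hOc, ?_⟩
  rw [hv']
  have hc : ∀ {A : Over S} (g : A ⟶ X₀), Set.range (Points.map ((yon S).map g ≫ e.hom)) =
      Points.map e.hom '' Set.range (Points.map ((yon S).map g)) := by
    intro A g
    ext x
    constructor
    · rintro ⟨y, rfl⟩
      exact ⟨_, ⟨y, rfl⟩, (Points.map_comp _ _ y).symm⟩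
    · rintro ⟨_, ⟨y, rfl⟩, rfl⟩
      exact ⟨y, Points.map_comp _ _ y⟩
  rw [hc, hc, range_points_map_yon_map, range_points_map_yon_map]
  congr 2
  show Set.range O.ι = Set.range v₀.left
  rw [Scheme.Opens.range_ι]
  rfl

set_option backward.isDefEq.respectTransparency.types false in
theorem s10321 {T T' : Over S} [IsAffine T.left]
    [IsAffine T'.left] (e : T' ⟶ T) [Etale e.left] {X P V' : AlgSp.Space S}
    (f : X ⟶ (AlgSp.ofScheme S).obj T)
    (hsep : AlgSp.IsSeparatedMor f.hom)
    (hqf : AlgSp.LocP (@LocallyQuasiFinite ⊓ @LocallyOfFiniteType) f.hom)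
    (p1 : P ⟶ (AlgSp.ofScheme S).obj T') (p2 : P ⟶ X)
    (sq : IsPullback p2.hom p1.hom f.hom ((AlgSp.yon S).map e)) (j : V' ⟶ P)
    (hj : AlgSp.RepWith @IsOpenImmersion j.hom) (hqa : AlgSp.IsQuasiAffineMor (j ≫ p1).hom) :
    ∃ (W : Over S) (i : (AlgSp.yon S).obj W ⟶ X.obj), AlgSp.RepWith @IsOpenImmersion i ∧
      CompactSpace ↥W.left ∧
      Set.range (AlgSp.Points.map i) = Set.range (AlgSp.Points.map (j ≫ p2).hom) := by
  have hrepX : X.obj.obj.IsRepresentable :=
    Groth.Agent.Helper5.QfSch.isRepresentable_of_separated_lqf X.property f.hom hqf hsep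
  obtain ⟨W', i', fst, sqW, hW'⟩ := hqa (inferInstance : IsAffine T'.left) (𝟙 _)
  haveI : IsIso fst := sqW.isIso_fst_of_isIso (IsIso.id _)
  haveI : CompactSpace W'.left := hW'.toCompactSpace
  have hp2 : RepWith @Etale p2.hom :=
    (repWith_isStableUnderBaseChange (S := S) @Etale).of_isPullback sq.flip
      ((repWith_yon_map_iff _ e).2 ‹Etale e.left›)
  have hj' : RepWith @Etale j.hom :=
    Groth.Agent.Helper4.AlgSpSrc.repWith_mono (fun g hg => by
      haveI : IsOpenImmersion g := hg
      infer_instance) hj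
  have hv : RepWith @Etale (fst ≫ (j ≫ p2).hom) :=
    (MorphismProperty.cancel_left_of_respectsIso _ fst _).2
      (Groth.Agent.Helper4.AlgSpSrc.repWith_comp _ hj' hp2)
  obtain ⟨W, i, hi, hWc, hr⟩ :=
    exists_open_subscheme_of_etale_chart hrepX (fst ≫ (j ≫ p2).hom) hv
  refine ⟨W, i, hi, hWc, hr.trans ?_⟩
  ext x
  constructor
  · rintro ⟨y, rfl⟩
    exact ⟨Points.map fst y, (Points.map_comp _ _ y).symm⟩
  · rintro ⟨y, rfl⟩
    refine ⟨Points.map (inv fst) y, ?_⟩
    rw [← Points.map_comp, IsIso.inv_hom_id_assoc]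

end Groth.Agent.Helper5.QfOpen
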