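import Mathlib
import Groth.Prelude.Def_AlgSpGpd

set_option autoImplicit false
universe u
open CategoryTheory CategoryTheory.Limits AlgebraicGeometry Opposite

namespace Groth.Agent.Helper5.QuotEff

open AlgSp

variable {S : Scheme.{u}} {R U : Sp S} (s t : R ⟶ U)

/-- The relation on sections of `U` over `T` induced by `R`. -/
def rel (T : (Over S)ᵒᵖ) (a b : U.obj.obj T) : Prop :=
  ∃ r : R.obj.obj T, t.hom.app T r = a ∧ s.hom.app T r = b

theorem rel_map {T T' : (Over S)ᵒᵖ} (f : T ⟶ T') {a b : U.obj.obj T} (h : rel s t T a b) :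
    rel s t T' (U.obj.map f a) (U.obj.map f b) := by
  obtain ⟨r, h1, h2⟩ := h
  refine ⟨R.obj.map f r, ?_, ?_⟩
  · rw [← h1]; exact NatTrans.naturality_apply t.hom f r
  · rw [← h2]; exact NatTrans.naturality_apply s.hom f r

/-- The presheaf quotient. -/
def quotPre : (Over S)ᵒᵖ ⥤ Type (u + 1) where
  obj T := Quot (rel s t T)
  map {T T'} f := ↾(Quot.map (U.obj.map f) (fun _ _ h => rel_map s t f h))
  map_id T := by
    apply ConcreteCategory.hom_ext
    intro x
    induction x using Quot.ind with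
    | mk a =>
      show Quot.mk _ (U.obj.map (𝟙 T) a) = Quot.mk _ a
      rw [U.obj.map_id]; rfl
  map_comp f g := by
    apply ConcreteCategory.hom_ext
    intro x
    induction x using Quot.ind with
    | mk a =>
      show Quot.mk _ (U.obj.map (f ≫ g) a) = Quot.mk _ (U.obj.map g (U.obj.map f a))
      rw [U.obj.map_comp]; rfl

/-- The projection to the presheaf quotient. -/
def toQuotPre : U.obj ⟶ quotPre s t where
  app T := ↾(fun a => Quot.mk _ a)
  naturality _ _ _ := rfl

theorem toQuotPre_app (T : (Over S)ᵒᵖ) (a : U.obj.obj T) :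
    (toQuotPre s t).app T a = Quot.mk (rel s t T) a := rfl

theorem s_toQuotPre : s.hom ≫ toQuotPre s t = t.hom ≫ toQuotPre s t := by
  ext T r
  exact (Quot.sound ⟨r, rfl, rfl⟩ : Quot.mk (rel s t T) (t.hom.app T r) = Quot.mk _ (s.hom.app T r)).symm

/-- The explicit quotient sheaf. -/
noncomputable def Q' : Sp S := (presheafToSheaf (J S) (Type (u + 1))).obj (quotPre s t)

/-- The explicit quotient map. -/
noncomputable def π' : U ⟶ Q' s t := ⟨toQuotPre s t ≫ toSheafify (J S) (quotPre s t)⟩

theorem cond' : s ≫ π' s t = t ≫ π' s t := by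
  apply Sheaf.hom_ext
  change s.hom ≫ toQuotPre s t ≫ toSheafify (J S) (quotPre s t) =
    t.hom ≫ toQuotPre s t ≫ toSheafify (J S) (quotPre s t)
  rw [← Category.assoc, s_toQuotPre, Category.assoc]

/-- descent of a map out of `U` coequalizing `s, t` to the presheaf quotient -/
def descPre {M : Sp S} (q : U ⟶ M) (w : s ≫ q = t ≫ q) : quotPre s t ⟶ M.obj where
  app T := ↾(Quot.lift (q.hom.app T) (by
    rintro a b ⟨r, rfl, rfl⟩
    have := congrArg (fun k => k.hom.app T r) w
    exact this.symm))
  naturality T T' f := by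
    apply ConcreteCategory.hom_ext
    intro x
    induction x using Quot.ind with
    | mk a => exact NatTrans.naturality_apply q.hom f a

theorem toQuotPre_descPre {M : Sp S} (q : U ⟶ M) (w : s ≫ q = t ≫ q) :
    toQuotPre s t ≫ descPre s t q w = q.hom := rfl

noncomputable def desc' {M : Sp S} (q : U ⟶ M) (w : s ≫ q = t ≫ q) : Q' s t ⟶ M :=
  ⟨sheafifyLift (J S) (descPre s t q w) M.property⟩

theorem π'_desc' {M : Sp S} (q : U ⟶ M) (w : s ≫ q = t ≫ q) : π' s t ≫ desc' s t q w = q := by
  apply Sheaf.hom_ext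
  change (toQuotPre s t ≫ toSheafify (J S) (quotPre s t)) ≫ sheafifyLift (J S) (descPre s t q w) M.property
    = q.hom
  rw [Category.assoc, toSheafify_sheafifyLift, toQuotPre_descPre]

theorem toQuotPre_epi_like {M : (Over S)ᵒᵖ ⥤ Type (u + 1)} (a b : quotPre s t ⟶ M)
    (h : toQuotPre s t ≫ a = toQuotPre s t ≫ b) : a = b := by
  ext T x
  induction x using Quot.ind with
  | mk y => exact congrArg (fun k => k.app T y) h

theorem hom_ext' {M : Sp S} (a b : Q' s t ⟶ M) (h : π' s t ≫ a = π' s t ≫ b) : a = b := by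
  apply Sheaf.hom_ext
  apply sheafify_hom_ext (J S) _ _ M.property
  apply toQuotPre_epi_like
  have h1 : (π' s t ≫ a).hom = (π' s t ≫ b).hom := congrArg (fun k => k.hom) h
  have h2 : ∀ c : Q' s t ⟶ M, (π' s t ≫ c).hom =
      toQuotPre s t ≫ toSheafify (J S) (quotPre s t) ≫ c.hom := fun c => Category.assoc _ _ _
  rw [h2, h2] at h1
  exact h1

/-- `Q'` is a coequalizer of `s, t`. -/
noncomputable def isColimit' : IsColimit (Cofork.ofπ (π' s t) (cond' s t)) :=
  Cofork.IsColimit.mk _ (fun c => desc' s t c.π c.condition)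
    (fun c => π'_desc' s t c.π c.condition)
    (fun c m hm => hom_ext' s t _ _ (by rw [π'_desc' s t c.π c.condition]; exact hm))

/-- Comparison iso with the abstract coequalizer. -/
noncomputable def isoQ : quotSp s t ≅ Q' s t :=
  (quotSpIsCoequalizer s t).coconePointUniqueUpToIso (isColimit' s t)

theorem quotSpπ_isoQ : quotSpπ s t ≫ (isoQ s t).hom = π' s t :=
  (quotSpIsCoequalizer s t).comp_coconePointUniqueUpToIso_hom (isColimit' s t) WalkingParallelPair.one

theorem π'_app (T : (Over S)ᵒᵖ) (a : U.obj.obj T) :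
    (π' s t).hom.app T a = (toSheafify (J S) (quotPre s t)).app T (Quot.mk (rel s t T) a) := rfl

/-- Sections of `U` identified in the quotient sheaf are locally related by the equivalence relation generated
by `R`. -/
theorem exists_cover_eqvGen (T : Over S) (a b : U.obj.obj (op T))
    (h : (quotSpπ s t).hom.app (op T) a = (quotSpπ s t).hom.app (op T) b) :
    ∃ R' : Sieve T, R' ∈ J S T ∧ ∀ ⦃T' : Over S⦄ (f : T' ⟶ T), R' f →
      Relation.EqvGen (rel s t (op T')) (U.obj.map f.op a) (U.obj.map f.op b) := by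
  have h1 : (π' s t).hom.app (op T) a = (π' s t).hom.app (op T) b := by
    have e : ∀ x, (π' s t).hom.app (op T) x =
        (isoQ s t).hom.hom.app (op T) ((quotSpπ s t).hom.app (op T) x) := by
      intro x
      rw [← quotSpπ_isoQ]; rfl
    rw [e, e, h]
  rw [π'_app, π'_app] at h1
  have h2 := Presheaf.equalizerSieve_mem (J S) (toSheafify (J S) (quotPre s t)) _ _ h1
  refine ⟨_, h2, ?_⟩
  intro T' f hf
  have h3 : (quotPre s t).map f.op (Quot.mk _ a) = (quotPre s t).map f.op (Quot.mk _ b) := hf
  exact Quot.eqvGen_exact h3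

/-- The relation on `T`-valued points (morphism form). -/
def relM (T : Over S) (a b : (yon S).obj T ⟶ U) : Prop :=
  ∃ r : (yon S).obj T ⟶ R, r ≫ t = a ∧ r ≫ s = b

theorem rel_iff_relM (T : Over S) (a b : (yon S).obj T ⟶ U) :
    rel s t (op T) ((J S).uliftYonedaEquiv a) ((J S).uliftYonedaEquiv b) ↔ relM s t T a b := by
  constructor
  · rintro ⟨r, h1, h2⟩
    refine ⟨(J S).uliftYonedaEquiv.symm r, ?_, ?_⟩
    · apply (J S).uliftYonedaEquiv.injective
      rw [GrothendieckTopology.uliftYonedaEquiv_comp, Equiv.apply_symm_apply, h1]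
    · apply (J S).uliftYonedaEquiv.injective
      rw [GrothendieckTopology.uliftYonedaEquiv_comp, Equiv.apply_symm_apply, h2]
  · rintro ⟨r, rfl, rfl⟩
    exact ⟨(J S).uliftYonedaEquiv r, (GrothendieckTopology.uliftYonedaEquiv_comp _ _ _).symm,
      (GrothendieckTopology.uliftYonedaEquiv_comp _ _ _).symm⟩

theorem eqvGen_rel_imp (hpre : IsPreEqvRelSp s t) (T : Over S) (x y : U.obj.obj (op T))
    (h : Relation.EqvGen (rel s t (op T)) x y) : rel s t (op T) x y := by
  have hE := hpre T
  have key : ∀ x y, Relation.EqvGen (rel s t (op T)) x y →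
      relM s t T ((J S).uliftYonedaEquiv.symm x) ((J S).uliftYonedaEquiv.symm y) := by
    intro x y h
    induction h with
    | rel x y hxy =>
      rw [← rel_iff_relM, Equiv.apply_symm_apply, Equiv.apply_symm_apply]
      exact hxy
    | refl x => exact hE.refl _
    | symm x y _ ih => exact hE.symm ih
    | trans x y z _ _ ih1 ih2 => exact hE.trans ih1 ih2
  have := key x y h
  rw [← rel_iff_relM, Equiv.apply_symm_apply, Equiv.apply_symm_apply] at this
  exact this

/-- Effectivity: two `T`-points of `U` with the same image in `U/R` are locally related by `R`. -/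
theorem exists_cover_relM (hpre : IsPreEqvRelSp s t) (T : Over S) (a b : (yon S).obj T ⟶ U)
    (h : a ≫ quotSpπ s t = b ≫ quotSpπ s t) :
    ∃ R' : Sieve T, R' ∈ J S T ∧ ∀ ⦃T' : Over S⦄ (f : T' ⟶ T), R' f →
      relM s t T' ((yon S).map f ≫ a) ((yon S).map f ≫ b) := by
  have h0 : (quotSpπ s t).hom.app (op T) ((J S).uliftYonedaEquiv a) =
      (quotSpπ s t).hom.app (op T) ((J S).uliftYonedaEquiv b) := by
    rw [← GrothendieckTopology.uliftYonedaEquiv_comp, ← GrothendieckTopology.uliftYonedaEquiv_comp, h]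
  obtain ⟨R', hR', hrel⟩ := exists_cover_eqvGen s t T _ _ h0
  refine ⟨R', hR', ?_⟩
  intro T' f hf
  have h1 := eqvGen_rel_imp s t hpre T' _ _ (hrel f hf)
  rw [← rel_iff_relM]
  rw [← GrothendieckTopology.uliftYonedaEquiv_naturality,
    ← GrothendieckTopology.uliftYonedaEquiv_naturality]
  exact h1

end Groth.Agent.Helper5.QuotEff
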