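import Groth.Agent.Helper5.QuotEff2
import Groth.Agent.Helper5.Gpd2

set_option autoImplicit false
universe u
open CategoryTheory CategoryTheory.Limits AlgebraicGeometry Opposite

namespace Groth.Agent.Helper5.QuotEff

open AlgSp Groth.Agent.Helper4 Groth.Agent.Helper5.Gpd1

variable {S : Scheme.{u}} {B : Sp S}

theorem isPreEqvRelSp_groupoid (G : GroupoidSp B) : IsPreEqvRelSp G.s G.t := by
  intro T
  refine ⟨?_, ?_, ?_⟩
  · intro a
    exact ⟨a ≫ G.e, by rw [Category.assoc, G.e_t, Category.comp_id],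
      by rw [Category.assoc, G.e_s, Category.comp_id]⟩
  · rintro a b ⟨r, h1, h2⟩
    exact ⟨r ≫ G.i, by rw [Category.assoc, G.i_t, h2], by rw [Category.assoc, G.i_s, h1]⟩
  · rintro a b c ⟨r1, h1, h2⟩ ⟨r2, h3, h4⟩
    exact ⟨comp G r1 r2 (by rw [h2, h3]), by rw [comp_t, h1], by rw [comp_s, h4]⟩

theorem s10115 (G G' : GroupoidSp B) (φ : GroupoidSp.Hom G' G) (hφ : φ.IsRestriction)
    (ψ : quotSp G'.s G'.t ⟶ quotSp G.s G.t) (hψ : quotSpπ G'.s G'.t ≫ ψ = φ.fU ≫ quotSpπ G.s G.t) :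
    Mono ψ ∧ (Epi (pullback.snd φ.fU G.t ≫ G.s) → IsIso ψ) := by
  have hmono : Mono ψ := by
    refine mono_of_restriction G.s G.t (isPreEqvRelSp_groupoid G) φ.fU G'.s G'.t ?_ ψ hψ
    intro T a' b' ρ h1 h2
    have hab : a' ≫ G'.pU = b' ≫ G'.pU := by
      rw [← φ.fU_over, ← Category.assoc, ← Category.assoc, ← h1, ← h2, Category.assoc,
        Category.assoc, G.t_over, G.s_over]
    have hc : ρ ≫ G.j = pullback.lift a' b' hab ≫ φ.prodMap := by
      apply pullback.hom_ext
      · rw [Category.assoc, GroupoidSp.j_fst, h1, Category.assoc]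
        unfold GroupoidSp.Hom.prodMap
        rw [pullback.lift_fst, pullback.lift_fst_assoc]
      · rw [Category.assoc, GroupoidSp.j_snd, h2, Category.assoc]
        unfold GroupoidSp.Hom.prodMap
        rw [pullback.lift_snd, pullback.lift_snd_assoc]
    have hφ' : IsPullback φ.fR G'.j G.j φ.prodMap := hφ
    refine ⟨hφ'.lift ρ (pullback.lift a' b' hab) hc, ?_, ?_⟩
    · have := hφ'.lift_snd ρ (pullback.lift a' b' hab) hc =≫ pullback.fst G'.pU G'.pU
      simpa only [Category.assoc, GroupoidSp.j_fst, pullback.lift_fst] using this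
    · have := hφ'.lift_snd ρ (pullback.lift a' b' hab) hc =≫ pullback.snd G'.pU G'.pU
      simpa only [Category.assoc, GroupoidSp.j_snd, pullback.lift_snd] using this
  refine ⟨hmono, fun hepi => ?_⟩
  have : Epi ((pullback.snd φ.fU G.t ≫ G.s) ≫ quotSpπ G.s G.t) := inferInstance
  have hψ' : quotSpπ G'.s G'.t ≫ ψ = φ.fU ≫ quotSpπ G.s G.t := hψ
  exact @isIso_of_mono_of_epi_comp _ _ _ _ _ G.s G.t G'.s G'.t ψ hmono _
    (pullback.fst φ.fU G.t ≫ quotSpπ G'.s G'.t)
    ((pullback.snd φ.fU G.t ≫ G.s) ≫ quotSpπ G.s G.t) this (by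
      rw [Category.assoc, hψ', ← Category.assoc, pullback.condition, Category.assoc, Category.assoc,
        quotSp_condition])

end Groth.Agent.Helper5.QuotEff
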