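import Mathlib
import Groth.Prelude
import Groth.Agent.Helper5.KerShear
import Groth.Agent.Helper5.FlatOrbit2
import Groth.Agent.Helper5.ProdDom
import Groth.Agent.Lead.FD14

set_option autoImplicit false
set_option linter.unusedSectionVars false
set_option linter.style.haveILetI false
universe u v

open AlgebraicGeometry CategoryTheory CategoryTheory.Limits
open MonoidalCategory CartesianMonoidalCategory MonObj GrpObj

namespace Groth.Agent.Helper5.QuotEt

section Cat
variable {C : Type u} [Category.{v} C] [CartesianMonoidalCategory C]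

/-- the kernel pair of `p` is the pullback of the diagonal along `p × p` -/
theorem isPullback_diag {P G H : C} (p : G ⟶ H) (a b : P ⟶ G) (h : IsPullback a b p p) :
    IsPullback (a ≫ p) (lift a b) (lift (𝟙 H) (𝟙 H)) (p ⊗ₘ p) := by
  have w : (a ≫ p) ≫ lift (𝟙 H) (𝟙 H) = lift a b ≫ (p ⊗ₘ p) := by
    apply CartesianMonoidalCategory.hom_ext
    · simp
    · simp [h.w]
  refine IsPullback.of_isLimit (c := PullbackCone.mk _ _ w) ?_
  have key : ∀ s : PullbackCone (lift (𝟙 H) (𝟙 H)) (p ⊗ₘ p),
      (s.snd ≫ fst G G) ≫ p = (s.snd ≫ snd G G) ≫ p := by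
    intro s
    have h1 := congrArg (fun f => f ≫ fst H H) s.condition
    have h2 := congrArg (fun f => f ≫ snd H H) s.condition
    simp only [Category.assoc, lift_fst, lift_snd, tensorHom_fst, tensorHom_snd,
      Category.comp_id] at h1 h2
    rw [Category.assoc, Category.assoc, ← h1, ← h2]
  refine PullbackCone.IsLimit.mk w
    (fun s => h.lift (s.snd ≫ fst G G) (s.snd ≫ snd G G) (key s)) ?_ ?_ ?_
  · intro s
    have h1 := congrArg (fun f => f ≫ fst H H) s.condition
    simp only [Category.assoc, lift_fst, tensorHom_fst, Category.comp_id] at h1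
    rw [← Category.assoc, h.lift_fst, Category.assoc, ← h1]
  · intro s
    apply CartesianMonoidalCategory.hom_ext
    · simp
    · simp
  · intro s m h1 h2
    apply h.hom_ext
    · rw [h.lift_fst, ← h2]; simp
    · rw [h.lift_snd, ← h2]; simp

end Cat

section Sch
open Groth.Agent.Helper5.GrpDense Groth.Agent.Helper5.FlatOrbit

variable {S : Scheme.{u}} {G0 G Q : Over S} [GrpObj G0] [GrpObj G] [GrpObj Q]
  (i : G0 ⟶ G) [IsMonHom i] (p : G ⟶ Q) [IsMonHom p] (hK : AlgGrp.IsKernel i p)

theorem diag_left (Q : Over S) :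
    (lift (𝟙 Q) (𝟙 Q) : Q ⟶ Q ⊗ Q).left = pullback.diagonal Q.hom := by
  apply pullback.hom_ext
  · have : (lift (𝟙 Q) (𝟙 Q) : Q ⟶ Q ⊗ Q).left ≫ (fst Q Q).left = 𝟙 _ := by
      rw [← Over.comp_left, lift_fst]; rfl
    simpa using this
  · have : (lift (𝟙 Q) (𝟙 Q) : Q ⟶ Q ⊗ Q).left ≫ (snd Q Q).left = 𝟙 _ := by
      rw [← Over.comp_left, lift_snd]; rfl
    simpa using this

theorem isOpenImmersion_psi [IsOpenImmersion i.left] :
    IsOpenImmersion (lift (fst G G0) ((G ◁ i) ≫ μ[G])).left := by
  have h : lift (fst G G0) ((G ◁ i) ≫ μ[G]) = (G ◁ i) ≫ shear (regular G) := by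
    apply CartesianMonoidalCategory.hom_ext
    · simp [shear]
    · simp [shear, regular]
  rw [h, Over.comp_left]
  haveI : IsOpenImmersion (G ◁ i).left :=
    MorphismProperty.of_isPullback (P := @IsOpenImmersion) (isPullback_whiskerLeft G i).flip
      inferInstance
  haveI : IsIso (shear (regular G)).left := (Over.forget _).map_isIso (shear (regular G))
  infer_instance

theorem fppf_tensorHom [Surjective p.left] [Flat p.left] [LocallyOfFinitePresentation p.left] :
    (@Surjective ⊓ @Flat ⊓ @LocallyOfFinitePresentation : MorphismProperty Scheme.{u})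
      (p ⊗ₘ p).left := by
  rw [MonoidalCategory.tensorHom_def, Over.comp_left]
  have h1 : (@Surjective ⊓ @Flat ⊓ @LocallyOfFinitePresentation : MorphismProperty Scheme.{u})
      p.left := ⟨⟨inferInstance, inferInstance⟩, inferInstance⟩
  have h2 := MorphismProperty.of_isPullback
    (P := (@Surjective ⊓ @Flat ⊓ @LocallyOfFinitePresentation : MorphismProperty Scheme.{u}))
    (isPullback_whiskerRight p G).flip h1
  have h3 := MorphismProperty.of_isPullback
    (P := (@Surjective ⊓ @Flat ⊓ @LocallyOfFinitePresentation : MorphismProperty Scheme.{u}))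
    (isPullback_whiskerLeft Q p).flip h1
  exact MorphismProperty.comp_mem _ _ _ h2 h3

include hK in
theorem isOpenImmersion_diagonal [IsOpenImmersion i.left] [Surjective p.left] [Flat p.left]
    [LocallyOfFinitePresentation p.left] : IsOpenImmersion (pullback.diagonal Q.hom) := by
  have h1 : IsPullback (fst G G0 ≫ p).left (lift (fst G G0) ((G ◁ i) ≫ μ[G])).left
      (lift (𝟙 Q) (𝟙 Q) : Q ⟶ Q ⊗ Q).left (p ⊗ₘ p).left :=
    (isPullback_diag p _ _ (KerShear.isPullback_shear p i hK)).map (Over.forget _)
  rw [← diag_left]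
  exact MorphismProperty.of_isPullback_of_descendsAlong (P := @IsOpenImmersion)
    (Q := (@Surjective ⊓ @Flat ⊓ @LocallyOfFinitePresentation : MorphismProperty Scheme.{u}))
    h1.flip (fppf_tensorHom p) (isOpenImmersion_psi i)

end Sch

theorem s5353 (A : Type u) [CommRing A] [IsArtinianRing A] [IsLocalRing A]
    (G0 G Q : Over (Spec (CommRingCat.of A))) [GrpObj G0] [GrpObj G] [GrpObj Q]
    [Flat G.hom] [LocallyOfFiniteType G.hom] (i : G0 ⟶ G) [IsMonHom i] [IsOpenImmersion i.left]
    (p : G ⟶ Q) [IsMonHom p] [Surjective p.left] [Flat p.left]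
    [LocallyOfFinitePresentation p.left]
    (hK : AlgGrp.IsKernel i p) : Etale Q.hom := by
  haveI hfl : Flat Q.hom := by
    rw [Flat.iff_flat_stalkMap]
    intro y
    obtain ⟨x, rfl⟩ := p.left.surjective y
    haveI : Flat (p.left ≫ Q.hom) := by rw [Over.w p]; infer_instance
    exact Groth.Agent.Helper5.FlatOrbit.flat_stalkMap_of_comp p.left Q.hom x
  haveI hlfp : LocallyOfFinitePresentation Q.hom := by
    haveI : LocallyOfFinitePresentation (p.left ≫ Q.hom) := by
      rw [Over.w p]
      exact LocallyOfFinitePresentation.iff_locallyOfFiniteType.mpr inferInstance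
    exact Groth.Agent.Lead.FD14.locallyOfFinitePresentation_of_fppf_comp p.left Q.hom
  haveI := isOpenImmersion_diagonal i p hK
  haveI : FormallyUnramified Q.hom := inferInstance
  exact Etale.of_formallyUnramified_of_flat Q.hom

end Groth.Agent.Helper5.QuotEt
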