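import Groth.Agent.Helper5.OpenDesc1
import Groth.Agent.Helper5.QuotPres1
import Groth.Agent.Helper5.QuotEff5
import Mathlib

/-! The map of fppf quotient sheaves induced by a flat lfp restriction is an open immersion. -/

set_option autoImplicit false
universe u
open CategoryTheory CategoryTheory.Limits AlgebraicGeometry Opposite MorphismProperty

namespace Groth.Agent.Helper5.QuotOpen

open AlgSp Groth.Agent.Helper4 Groth.Agent.Helper5.QuotEff Groth.Agent.Helper5.QuotPres
  Groth.Agent.Helper4.AlgSpOpenImage Groth.Agent.Helper4.AlgSpBasic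
  Groth.Agent.Helper5.FppfImg Groth.Agent.Helper5.OpenDesc

variable {S : Scheme.{u}} {R U R' U' : Over S} (s t : R ⟶ U) (g : U' ⟶ U) (s' t' : R' ⟶ U')
  (r : R' ⟶ R)

theorem epi_p : Epi (p s t) := by
  rw [← π_ψ]
  infer_instance

theorem p_comp (φ : QuotSh.quot Scheme.fppfPrecoverage s' t' ⟶ QuotSh.quot Scheme.fppfPrecoverage s t)
    (hφ : QuotSh.quotπ Scheme.fppfPrecoverage s' t' ≫ φ =
      QuotSh.repMap Scheme.fppfPrecoverage g ≫ QuotSh.quotπ Scheme.fppfPrecoverage s t) :
    p s' t' ≫ φ = (yon S).map g ≫ p s t := by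
  unfold p
  rw [Category.assoc, hφ, ← Category.assoc, ← Category.assoc]
  congr 1
  rw [← cancel_epi (eY U').hom, ← cancel_mono (eY U).hom]
  simp only [Category.assoc, Iso.hom_inv_id_assoc, Iso.inv_hom_id, Category.comp_id]
  exact eY_natural g

theorem mono_phi (hsq : IsPullback (prod.lift t' s') r (prod.map g g) (prod.lift t s))
    (hR : IsEqvRel s t)
    (φ : QuotSh.quot Scheme.fppfPrecoverage s' t' ⟶ QuotSh.quot Scheme.fppfPrecoverage s t)
    (hφ : p s' t' ≫ φ = (yon S).map g ≫ p s t) : Mono φ := by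
  let ψ₀ : quotSp ((yon S).map s') ((yon S).map t') ⟶ quotSp ((yon S).map s) ((yon S).map t) :=
    (ψ s' t').hom ≫ φ ≫ (ψ s t).inv
  have hψ₀ : quotSpπ ((yon S).map s') ((yon S).map t') ≫ ψ₀ =
      (yon S).map g ≫ quotSpπ ((yon S).map s) ((yon S).map t) := by
    show _ ≫ (ψ s' t').hom ≫ φ ≫ (ψ s t).inv = _
    rw [← Category.assoc, π_ψ, ← Category.assoc, hφ, Category.assoc, ← π_ψ, Category.assoc,
      Iso.hom_inv_id, Category.comp_id]
  have hmono : Mono ψ₀ := by
    refine mono_of_restriction _ _ (isEqvRelSp_of_isEqvRel s t hR).equivalence _ _ _ ?_ ψ₀ hψ₀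
    intro T a' b' ρ h1 h2
    obtain ⟨a', rfl⟩ := (yon S).map_surjective a'
    obtain ⟨b', rfl⟩ := (yon S).map_surjective b'
    obtain ⟨ρ, rfl⟩ := (yon S).map_surjective ρ
    rw [← Functor.map_comp, ← Functor.map_comp] at h1 h2
    have h1' := (yon S).map_injective h1
    have h2' := (yon S).map_injective h2
    have hw : prod.lift a' b' ≫ prod.map g g = ρ ≫ prod.lift t s := by
      rw [prod.lift_map, prod.comp_lift, h1', h2']
    refine ⟨(yon S).map (hsq.lift _ _ hw), ?_, ?_⟩
    · rw [← Functor.map_comp]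
      congr 1
      have := congrArg (· ≫ prod.fst) (hsq.lift_fst _ _ hw)
      rw [Category.assoc, prod.lift_fst, prod.lift_fst] at this
      exact this
    · rw [← Functor.map_comp]
      congr 1
      have := congrArg (· ≫ prod.snd) (hsq.lift_fst _ _ hw)
      rw [Category.assoc, prod.lift_snd, prod.lift_snd] at this
      exact this
  have e : φ = (ψ s' t').inv ≫ ψ₀ ≫ (ψ s t).hom := by
    show φ = (ψ s' t').inv ≫ ((ψ s' t').hom ≫ φ ≫ (ψ s t).inv) ≫ (ψ s t).hom
    simp
  rw [e]
  infer_instance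

section Core

variable [Flat s.left] [LocallyOfFinitePresentation s.left]
  [Flat g.left] [LocallyOfFinitePresentation g.left]

/-- `R ×_{t,U,g} U' ⟶ U`, the map whose image is the saturation of the image of `g` -/
noncomputable abbrev σ : pullback t g ⟶ U := pullback.fst t g ≫ s

theorem flat_fst : Flat (pullback.fst t g).left := by
  have sq := Groth.Agent.Helper5.GeomFibSp.isPullback_left (IsPullback.of_hasPullback t g)
  exact MorphismProperty.of_isPullback (P := @Flat) sq.flip inferInstance

theorem lfp_fst : LocallyOfFinitePresentation (pullback.fst t g).left := by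
  have sq := Groth.Agent.Helper5.GeomFibSp.isPullback_left (IsPullback.of_hasPullback t g)
  exact MorphismProperty.of_isPullback (P := @LocallyOfFinitePresentation) sq.flip inferInstance

theorem flat_σ : Flat (σ s t g).left := by
  have := flat_fst t g
  show Flat ((pullback.fst t g).left ≫ s.left)
  infer_instance

theorem lfp_σ : LocallyOfFinitePresentation (σ s t g).left := by
  have := lfp_fst t g
  show LocallyOfFinitePresentation ((pullback.fst t g).left ≫ s.left)
  infer_instance

/-- the saturation of the image of `g`, an open of `U` -/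
noncomputable def W : U.left.Opens :=
  ⟨Set.range (σ s t g).left.base,
    (haveI := flat_σ s t g; haveI := lfp_σ s t g; (σ s t g).left.isOpenMap.isOpen_range)⟩

set_option backward.isDefEq.respectTransparency.types false in
/-- the universal case: over `h_U`, the map `φ` is the inclusion of the open `W` -/
theorem exists_isPullback_W (hR : IsEqvRel s t)
    (φ : QuotSh.quot Scheme.fppfPrecoverage s' t' ⟶ QuotSh.quot Scheme.fppfPrecoverage s t)
    [Mono φ] (hφ : p s' t' ≫ φ = (yon S).map g ≫ p s t) :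
    ∃ aW : (yon S).obj (opensOver U (W s t g)) ⟶ QuotSh.quot Scheme.fppfPrecoverage s' t',
      IsPullback aW ((yon S).map (opensι U (W s t g))) φ (p s t) := by
  have hσf := flat_σ s t g
  have hσl := lfp_σ s t g
  have sqP : IsPullback ((yon S).map (pullback.fst t g)) ((yon S).map (pullback.snd t g))
      ((yon S).map t) ((yon S).map g) := (IsPullback.of_hasPullback t g).map (yon S)
  have sqQ : IsPullback ((yon S).map t) ((yon S).map s) (p s t) (p s t) := isPullback_p s t hR
  have big : IsPullback ((yon S).map (pullback.snd t g))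
      ((yon S).map (pullback.fst t g) ≫ (yon S).map s) ((yon S).map g ≫ p s t) (p s t) :=
    sqP.flip.paste_vert sqQ
  rw [← Functor.map_comp] at big
  have hmono' : Mono ((yon S).map (opensι U (W s t g))) := mono_yon_opensι U _
  -- the corestriction of `σ`
  obtain ⟨σ', hσ'⟩ := exists_factor_opens (W s t g) (σ s t g) (fun v => ⟨v, rfl⟩)
  have hσ'pb := isPullback_corestrict (W s t g) (σ s t g) σ' hσ'
  have hσ'f : Flat σ'.left := MorphismProperty.of_isPullback (P := @Flat) hσ'pb hσf
  have hσ'l : LocallyOfFinitePresentation σ'.left :=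
    MorphismProperty.of_isPullback (P := @LocallyOfFinitePresentation) hσ'pb hσl
  have hσ's : Surjective σ'.left := by
    refine ⟨fun o => ?_⟩
    obtain ⟨v, hv⟩ : ((W s t g).ι o) ∈ Set.range (σ s t g).left.base := o.2
    refine ⟨v, ?_⟩
    apply (W s t g).ι.isOpenEmbedding.injective
    rw [← hv, ← hσ']
    rfl
  obtain ⟨aW, haW⟩ : ∃ aW : (yon S).obj (opensOver U (W s t g)) ⟶
      QuotSh.quot Scheme.fppfPrecoverage s' t',
      aW ≫ φ = (yon S).map (opensι U (W s t g)) ≫ p s t := by
    apply Groth.Agent.Helper5.SpCoprod.exists_lift_of_local_lift φ _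
      (Sieve.generate (Presieve.singleton σ')) (generate_singleton_mem_J σ')
    rintro V' γ ⟨Z, γ', _, ⟨⟩, rfl⟩
    refine ⟨(yon S).map γ' ≫ (yon S).map (pullback.snd t g) ≫ p s' t', ?_⟩
    have e1 : (yon S).map σ' ≫ (yon S).map (opensι U (W s t g)) = (yon S).map (σ s t g) := by
      rw [← Functor.map_comp, hσ']
    rw [Category.assoc, Category.assoc, hφ, big.w, (yon S).map_comp γ' σ', Category.assoc,
      ← Category.assoc ((yon S).map σ'), e1]
  refine ⟨aW, ⟨⟨haW⟩, ⟨?_⟩⟩⟩
  have hepi : Epi (p s' t') := epi_p s' t'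
  have hlift : ∀ c₀ : PullbackCone φ (p s t), ∃ l : c₀.pt ⟶ (yon S).obj (opensOver U (W s t g)),
      l ≫ (yon S).map (opensι U (W s t g)) = c₀.snd := by
    intro c₀
    refine exists_lift_of_mono ((yon S).map (opensι U (W s t g))) c₀.snd fun T s₀ => ?_
    obtain ⟨τ, hτ⟩ := (yon S).map_surjective (s₀ ≫ c₀.snd)
    have hrange : ∀ x : T.left, τ.left x ∈ W s t g := by
      intro x
      obtain ⟨R₁, hR₁, hl₁⟩ := loc_lift (p s' t') (s₀ ≫ c₀.fst)
      obtain ⟨T', γ, hγ, ⟨x', hx'⟩⟩ := exists_mem_range_of_mem_J R₁ hR₁ x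
      obtain ⟨u', hu'⟩ := hl₁ γ hγ
      have hcone : u' ≫ (yon S).map g ≫ p s t = ((yon S).map γ ≫ (yon S).map τ) ≫ p s t := by
        rw [← hφ, ← Category.assoc, hu', hτ]
        simp only [Category.assoc]
        rw [c₀.condition]
      obtain ⟨m, hm⟩ := (yon S).map_surjective (big.lift _ _ hcone)
      have hm2 : m ≫ σ s t g = γ ≫ τ := by
        apply (yon S).map_injective
        rw [Functor.map_comp, hm, big.lift_snd, Functor.map_comp]
      refine ⟨m.left x', ?_⟩
      rw [← hx']
      show (m ≫ σ s t g).left x' = (γ ≫ τ).left x'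
      rw [hm2]
    obtain ⟨g₀, hg₀⟩ := exists_factor_opens (W s t g) τ hrange
    exact ⟨(yon S).map g₀, by rw [← Functor.map_comp, hg₀, hτ]⟩
  choose l hl using hlift
  refine PullbackCone.IsLimit.mk _ l ?_ hl ?_
  · intro c₀
    rw [← cancel_mono φ, Category.assoc, haW, ← Category.assoc, hl, c₀.condition]
  · intro c₀ m _ h2
    rw [← cancel_mono ((yon S).map (opensι U (W s t g))), h2, hl]

set_option backward.isDefEq.respectTransparency.types false in
/-- S9870 -/
theorem s9870 (hsq : IsPullback (prod.lift t' s') r (prod.map g g) (prod.lift t s))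
    (hR : IsEqvRel s t)
    (φ : QuotSh.quot Scheme.fppfPrecoverage s' t' ⟶ QuotSh.quot Scheme.fppfPrecoverage s t)
    (hφ0 : QuotSh.quotπ Scheme.fppfPrecoverage s' t' ≫ φ =
      QuotSh.repMap Scheme.fppfPrecoverage g ≫ QuotSh.quotπ Scheme.fppfPrecoverage s t) :
    RepWith @IsOpenImmersion φ := by
  have hφ := p_comp s t g s' t' φ hφ0
  have hmono : Mono φ := mono_phi s t g s' t' r hsq hR φ hφ
  obtain ⟨aW, sqW⟩ := exists_isPullback_W s t g s' t' hR φ hφ
  have hepi : Epi (p s t) := epi_p s t
  apply openImmersion_of_fppf_local φ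
  intro T ξ
  obtain ⟨R₁, hR₁, hl₁⟩ := loc_lift (p s t) ξ
  have H : ∀ z : T.left, ∃ (T' : Over S) (c : T' ⟶ T) (u : T' ⟶ U),
      z ∈ Set.range c.left.base ∧ Flat c.left ∧ LocallyOfFinitePresentation c.left ∧
      (yon S).map u ≫ p s t = (yon S).map c ≫ ξ := by
    intro z
    obtain ⟨T', c, hc, hz, hcf, hcl⟩ := exists_fppf_of_mem_J R₁ hR₁ z
    obtain ⟨u', hu'⟩ := hl₁ c hc
    obtain ⟨u, rfl⟩ := (yon S).map_surjective u'
    exact ⟨T', c, u, hz, hcf, hcl, hu'⟩
  choose T' c u hz hcf hcl hu using H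
  refine ⟨T.left, T', c, hcf, hcl, fun z => ⟨z, hz z⟩, fun z => ?_⟩
  let O₁ : (T' z).left.Opens := (u z).left ⁻¹ᵁ (W s t g)
  let res : opensOver (T' z) O₁ ⟶ opensOver U (W s t g) :=
    Over.homMk ((u z).left ∣_ (W s t g)) (by
      show ((u z).left ∣_ W s t g) ≫ (W s t g).ι ≫ U.hom = O₁.ι ≫ (T' z).hom
      rw [← Category.assoc, morphismRestrict_ι, Category.assoc, CategoryTheory.Over.w])
  have sq0 : IsPullback res (opensι (T' z) O₁) (opensι U (W s t g)) (u z) := by
    apply Groth.Agent.Helper5.GeomFibSp.isPullback_of_left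
    · ext
      exact morphismRestrict_ι _ _
    · exact isPullback_morphismRestrict (u z).left (W s t g)
  refine ⟨O₁, (yon S).map res ≫ aW, ?_⟩
  have := (sq0.map (yon S)).paste_horiz sqW
  rw [hu z] at this
  exact this

end Core

end Groth.Agent.Helper5.QuotOpen
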