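import Groth.Prelude.Def_AlgSpGpd
import Groth.Agent.Helper5.EtGlue
import Mathlib

set_option autoImplicit false
universe u
open CategoryTheory CategoryTheory.Limits AlgebraicGeometry Opposite

namespace Groth.Agent.Helper5.QuotSp1

open AlgSp

variable {S : Scheme.{u}}

/-- if `q` is epi and `(t, s) : R ⟶ U ×_M U` is epi, then `q` is a coequalizer of `s, t` -/
noncomputable def isColimitOfEpi {R U M : Sp S} (s t : R ⟶ U) (q : U ⟶ M) (w : s ≫ q = t ≫ q)
    [Epi q] [Epi (pullback.lift t s w.symm : R ⟶ pullback q q)] :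
    IsColimit (Cofork.ofπ q w) := by
  have hreg : IsRegularEpi q := IsRegularEpiCategory.regularEpiOfEpi q
  have hk : IsKernelPair q (pullback.fst q q) (pullback.snd q q) := IsPullback.of_hasPullback q q
  let hc := hk.toCoequalizer'
  refine Cofork.IsColimit.mk _
    (fun c => Cofork.IsColimit.desc hc c.π ?_)
    (fun c => Cofork.IsColimit.π_desc' hc _ _)
    (fun c m hm => Cofork.IsColimit.hom_ext hc (hm.trans (Cofork.IsColimit.π_desc' hc _ _).symm))
  rw [← cancel_epi (pullback.lift t s w.symm : R ⟶ pullback q q)]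
  rw [pullback.lift_fst_assoc, pullback.lift_snd_assoc]
  exact c.condition.symm

theorem isIso_quotSpDesc {R U M : Sp S} (s t : R ⟶ U) (q : U ⟶ M) (w : s ≫ q = t ≫ q)
    [Epi q] [Epi (pullback.lift t s w.symm : R ⟶ pullback q q)] :
    IsIso (quotSpDesc q w) := by
  have hcol := isColimitOfEpi s t q w
  have : quotSpDesc q w =
      ((coequalizerIsCoequalizer s t).coconePointUniqueUpToIso hcol).hom := by
    apply coequalizer.hom_ext
    rw [quotSpDesc, coequalizer.π_desc]
    exact ((coequalizerIsCoequalizer s t).comp_coconePointUniqueUpToIso_hom hcol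
      WalkingParallelPair.one).symm
  rw [this]
  exact Iso.isIso_hom _

end Groth.Agent.Helper5.QuotSp1
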