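import Groth.Agent.Helper5.SliceEqv1
import Groth.Agent.Helper5.SpCoprod1
import Groth.Agent.Helper5.QuotSp1
import Mathlib

/-!
# Helper5: the map of fppf quotient sheaves induced by restricting a pre-equivalence relation
along `g : U' ⟶ U` is an open immersion when `U' ×_U R ⟶ U` covers an open `W` of `U`
-/

set_option autoImplicit false
set_option linter.style.haveILetI false
set_option linter.unusedSectionVars false
set_option linter.unusedVariables false
universe u
open CategoryTheory CategoryTheory.Limits AlgebraicGeometry Opposite MorphismProperty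

namespace Groth.Agent.Helper5.QuotOpenG

open AlgSp Groth.Agent.Helper4 Groth.Agent.Helper5.QuotEff Groth.Agent.Helper5.QuotPres
  Groth.Agent.Helper4.AlgSpOpenImage Groth.Agent.Helper4.AlgSpBasic
  Groth.Agent.Helper5.OpenDesc

variable {S : Scheme.{u}}

/-- descent of a morphism along an epimorphism of sheaves -/
theorem exists_desc_of_epi {F G H : Sp S} (q : F ⟶ G) [Epi q] (f : F ⟶ H)
    (h : ∀ (T : Over S) (a b : (yon S).obj T ⟶ F), a ≫ q = b ≫ q → a ≫ f = b ≫ f) :
    ∃ d : G ⟶ H, q ≫ d = f := by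
  have hreg : IsRegularEpi q := IsRegularEpiCategory.regularEpiOfEpi q
  have hk : IsKernelPair q (pullback.fst q q) (pullback.snd q q) := IsPullback.of_hasPullback q q
  let hc := hk.toCoequalizer'
  have hf : pullback.fst q q ≫ f = pullback.snd q q ≫ f := by
    apply hom_ext_yon
    intro T z
    rw [← Category.assoc, ← Category.assoc]
    apply h
    rw [Category.assoc, Category.assoc, pullback.condition]
  exact ⟨Cofork.IsColimit.desc hc f hf, Cofork.IsColimit.π_desc' hc _ _⟩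

variable {R U R' U' : Over S} {s t : R ⟶ U} {g : U' ⟶ U} {s' t' : R' ⟶ U'}

theorem mono_of_lift (hpre : IsPreEqvRelSp ((yon S).map s) ((yon S).map t))
    (hlift : ∀ (T : Over S) (a' b' : T ⟶ U') (ρ : T ⟶ R), ρ ≫ t = a' ≫ g → ρ ≫ s = b' ≫ g →
      ∃ ρ' : T ⟶ R', ρ' ≫ t' = a' ∧ ρ' ≫ s' = b')
    (φ : QuotSh.quot Scheme.fppfPrecoverage s' t' ⟶ QuotSh.quot Scheme.fppfPrecoverage s t)
    (hφ : p s' t' ≫ φ = (yon S).map g ≫ p s t) : Mono φ := by
  let ψ₀ : quotSp ((yon S).map s') ((yon S).map t') ⟶ quotSp ((yon S).map s) ((yon S).map t) :=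
    (ψ s' t').hom ≫ φ ≫ (ψ s t).inv
  have hψ₀ : quotSpπ ((yon S).map s') ((yon S).map t') ≫ ψ₀ =
      (yon S).map g ≫ quotSpπ ((yon S).map s) ((yon S).map t) := by
    show _ ≫ (ψ s' t').hom ≫ φ ≫ (ψ s t).inv = _
    rw [← Category.assoc, π_ψ, ← Category.assoc, hφ, Category.assoc, ← π_ψ, Category.assoc,
      Iso.hom_inv_id, Category.comp_id]
  have hmono : Mono ψ₀ := by
    refine mono_of_restriction _ _ hpre _ _ _ ?_ ψ₀ hψ₀
    intro T a' b' ρ h1 h2
    obtain ⟨a', rfl⟩ := (yon S).map_surjective a'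
    obtain ⟨b', rfl⟩ := (yon S).map_surjective b'
    obtain ⟨ρ, rfl⟩ := (yon S).map_surjective ρ
    rw [← Functor.map_comp, ← Functor.map_comp] at h1 h2
    have h1' := (yon S).map_injective h1
    have h2' := (yon S).map_injective h2
    obtain ⟨ρ', e1, e2⟩ := hlift T a' b' ρ h1' h2'
    exact ⟨(yon S).map ρ', by rw [← Functor.map_comp, e1], by rw [← Functor.map_comp, e2]⟩
  have e : φ = (ψ s' t').inv ≫ ψ₀ ≫ (ψ s t).hom := by
    show φ = (ψ s' t').inv ≫ ((ψ s' t').hom ≫ φ ≫ (ψ s t).inv) ≫ (ψ s t).hom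
    simp
  rw [e]
  infer_instance

/-- two points of `U` with the same image in `U/R` are locally related -/
theorem exists_cover_rel (hpre : IsPreEqvRelSp ((yon S).map s) ((yon S).map t)) (T : Over S)
    (a b : T ⟶ U) (h : (yon S).map a ≫ p s t = (yon S).map b ≫ p s t) :
    ∃ R₁ : Sieve T, R₁ ∈ J S T ∧ ∀ ⦃T' : Over S⦄ (f : T' ⟶ T), R₁ f →
      ∃ ρ : T' ⟶ R, ρ ≫ t = f ≫ a ∧ ρ ≫ s = f ≫ b := by
  have h' : (yon S).map a ≫ quotSpπ ((yon S).map s) ((yon S).map t) =
      (yon S).map b ≫ quotSpπ ((yon S).map s) ((yon S).map t) := by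
    rw [← cancel_mono (ψ s t).hom, Category.assoc, Category.assoc, π_ψ]
    exact h
  obtain ⟨R₁, hR₁, hrel⟩ := exists_cover_relM _ _ hpre T _ _ h'
  refine ⟨R₁, hR₁, fun T' f hf => ?_⟩
  obtain ⟨ρ, h1, h2⟩ := hrel f hf
  obtain ⟨ρ, rfl⟩ := (yon S).map_surjective ρ
  rw [← Functor.map_comp, ← Functor.map_comp] at h1 h2
  exact ⟨ρ, (yon S).map_injective h1, (yon S).map_injective h2⟩

end Groth.Agent.Helper5.QuotOpenG
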