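import Groth.Agent.Helper5.QuotOpenG1
import Mathlib

/-!
# Helper5: the pullback square over `h_U` for the map of quotient sheaves of a restriction
-/

set_option autoImplicit false
set_option linter.style.haveILetI false
set_option linter.unusedSectionVars false
set_option linter.unusedVariables false
universe u
open CategoryTheory CategoryTheory.Limits AlgebraicGeometry Opposite MorphismProperty

namespace Groth.Agent.Helper5.QuotOpenG

open AlgSp Groth.Agent.Helper4 Groth.Agent.Helper5.QuotEff Groth.Agent.Helper5.QuotPres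
  Groth.Agent.Helper4.AlgSpOpenImage Groth.Agent.Helper4.AlgSpBasic
  Groth.Agent.Helper5.OpenDesc

variable {S : Scheme.{u}} {R U R' U' : Over S} {s t : R ⟶ U} {g : U' ⟶ U} {s' t' : R' ⟶ U'}
  {P₀ : Over S} (a : P₀ ⟶ U') (ρ₀ : P₀ ⟶ R) (hcomm : a ≫ g = ρ₀ ≫ t)
  (huniv : ∀ (T : Over S) (a' : T ⟶ U') (ρ : T ⟶ R), a' ≫ g = ρ ≫ t →
    ∃ π : T ⟶ P₀, π ≫ a = a' ∧ π ≫ ρ₀ = ρ)
  (W : U.left.Opens) (hl : P₀ ⟶ opensOver U W) (hhl : hl ≫ opensι U W = ρ₀ ≫ s)
  [Epi ((yon S).map hl)]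
  (hpre : IsPreEqvRelSp ((yon S).map s) ((yon S).map t))
  (hlift : ∀ (T : Over S) (a' b' : T ⟶ U') (ρ : T ⟶ R), ρ ≫ t = a' ≫ g → ρ ≫ s = b' ≫ g →
    ∃ ρ' : T ⟶ R', ρ' ≫ t' = a' ∧ ρ' ≫ s' = b')
  (φ : QuotSh.quot Scheme.fppfPrecoverage s' t' ⟶ QuotSh.quot Scheme.fppfPrecoverage s t)
  (hφ : p s' t' ≫ φ = (yon S).map g ≫ p s t)

include hcomm hhl hpre hlift in
theorem exists_aW : ∃ aW : (yon S).obj (opensOver U W) ⟶ QuotSh.quot Scheme.fppfPrecoverage s' t',
    (yon S).map hl ≫ aW = (yon S).map a ≫ p s' t' := by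
  refine exists_desc_of_epi ((yon S).map hl) ((yon S).map a ≫ p s' t') fun T x y hxy => ?_
  obtain ⟨π₁, rfl⟩ := (yon S).map_surjective x
  obtain ⟨π₂, rfl⟩ := (yon S).map_surjective y
  rw [← Functor.map_comp, ← Functor.map_comp] at hxy
  have hxy' : π₁ ≫ hl = π₂ ≫ hl := (yon S).map_injective hxy
  have hs12 : (π₁ ≫ ρ₀) ≫ s = (π₂ ≫ ρ₀) ≫ s := by
    rw [Category.assoc, Category.assoc, ← hhl, ← Category.assoc, ← Category.assoc, hxy']
  have E := hpre T
  have r1 : ∃ r : (yon S).obj T ⟶ (yon S).obj R, r ≫ (yon S).map t = (yon S).map ((π₁ ≫ a) ≫ g) ∧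
      r ≫ (yon S).map s = (yon S).map ((π₁ ≫ ρ₀) ≫ s) :=
    ⟨(yon S).map (π₁ ≫ ρ₀), by
      rw [← Functor.map_comp, Category.assoc, Category.assoc, hcomm],
      by rw [← Functor.map_comp]⟩
  have r2 : ∃ r : (yon S).obj T ⟶ (yon S).obj R, r ≫ (yon S).map t = (yon S).map ((π₂ ≫ a) ≫ g) ∧
      r ≫ (yon S).map s = (yon S).map ((π₁ ≫ ρ₀) ≫ s) :=
    ⟨(yon S).map (π₂ ≫ ρ₀), by
      rw [← Functor.map_comp, Category.assoc, Category.assoc, hcomm],
      by rw [← Functor.map_comp, hs12]⟩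
  obtain ⟨ρ₃, h1, h2⟩ := E.trans r1 (E.symm r2)
  obtain ⟨ρ₃, rfl⟩ := (yon S).map_surjective ρ₃
  rw [← Functor.map_comp] at h1 h2
  obtain ⟨ρ', e1, e2⟩ := hlift T (π₁ ≫ a) (π₂ ≫ a) ρ₃ ((yon S).map_injective h1)
    ((yon S).map_injective h2)
  rw [← Category.assoc, ← Category.assoc, ← Functor.map_comp, ← Functor.map_comp, ← e1, ← e2,
    Functor.map_comp, Functor.map_comp, Category.assoc, Category.assoc, p_cond]

include hcomm huniv hhl hpre hlift hφ in
theorem isPullback_W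
    (aW : (yon S).obj (opensOver U W) ⟶ QuotSh.quot Scheme.fppfPrecoverage s' t')
    (haW : (yon S).map hl ≫ aW = (yon S).map a ≫ p s' t') :
    IsPullback aW ((yon S).map (opensι U W)) φ (p s t) := by
  haveI hmono := mono_of_lift hpre hlift φ hφ
  haveI : Epi (p s' t') := QuotOpen.epi_p s' t'
  have comm : aW ≫ φ = (yon S).map (opensι U W) ≫ p s t := by
    rw [← cancel_epi ((yon S).map hl), ← Category.assoc, haW, Category.assoc, hφ,
      ← Category.assoc, ← Functor.map_comp, hcomm, Functor.map_comp, Category.assoc, ← p_cond,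
      ← Category.assoc, ← Functor.map_comp, ← hhl, Functor.map_comp, Category.assoc]
  refine ⟨⟨comm⟩, ⟨?_⟩⟩
  haveI hm := mono_yon_opensι U W
  have hlift' : ∀ c : PullbackCone φ (p s t), ∃ l : c.pt ⟶ (yon S).obj (opensOver U W),
      l ≫ (yon S).map (opensι U W) = c.snd := by
    intro c
    refine exists_lift_of_mono ((yon S).map (opensι U W)) c.snd fun T z => ?_
    obtain ⟨u, hu⟩ := (yon S).map_surjective (z ≫ c.snd)
    rw [← hu]
    obtain ⟨R₁, hR₁, h1⟩ := loc_lift (p s' t') (z ≫ c.fst)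
    apply Groth.Agent.Helper5.SpCoprod.exists_lift_of_local_lift ((yon S).map (opensι U W)) _ R₁ hR₁
    intro T' f hf
    obtain ⟨u', hu'⟩ := h1 f hf
    obtain ⟨u', rfl⟩ := (yon S).map_surjective u'
    have hrel : (yon S).map (u' ≫ g) ≫ p s t = (yon S).map (f ≫ u) ≫ p s t := by
      rw [Functor.map_comp, Category.assoc, ← hφ, ← Category.assoc, hu', Functor.map_comp, hu,
        Category.assoc, Category.assoc, Category.assoc, c.condition]
      simp only [Category.assoc]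
    obtain ⟨R₂, hR₂, h2⟩ := exists_cover_rel hpre T' (u' ≫ g) (f ≫ u) hrel
    rw [← Functor.map_comp]
    apply Groth.Agent.Helper5.SpCoprod.exists_lift_of_local_lift ((yon S).map (opensι U W)) _ R₂ hR₂
    intro T'' f' hf'
    obtain ⟨ρ, hρ1, hρ2⟩ := h2 f' hf'
    obtain ⟨π, hπ1, hπ2⟩ := huniv T'' (f' ≫ u') ρ (by rw [hρ1, Category.assoc])
    refine ⟨(yon S).map (π ≫ hl), ?_⟩
    rw [← Functor.map_comp, ← Functor.map_comp, Category.assoc, hhl, ← Category.assoc, hπ2, hρ2]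
  choose l hl' using hlift'
  refine PullbackCone.IsLimit.mk _ l ?_ hl' ?_
  · intro c
    rw [← cancel_mono φ, Category.assoc, comm, ← Category.assoc, hl', c.condition]
  · intro c m _ h2
    rw [← cancel_mono ((yon S).map (opensι U W)), h2, hl']

end Groth.Agent.Helper5.QuotOpenG
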