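import Groth.Agent.Helper5.QuotOpenG2
import Groth.Prelude.Def_Grpd
import Mathlib

/-!
# Helper5: restriction of a groupoid scheme with open saturation: the map of quotient sheaves is an
open immersion (S10141)
-/

set_option autoImplicit false
set_option linter.style.haveILetI false
set_option linter.unusedSectionVars false
set_option linter.unusedVariables false
universe u
open CategoryTheory CategoryTheory.Limits AlgebraicGeometry Opposite MorphismProperty

namespace Groth.Agent.Helper5.QuotOpenG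

open AlgSp Groth.Agent.Helper4 Groth.Agent.Helper5.QuotEff Groth.Agent.Helper5.QuotPres
  Groth.Agent.Helper4.AlgSpOpenImage Groth.Agent.Helper4.AlgSpBasic
  Groth.Agent.Helper5.OpenDesc Groth.Agent.Helper5.FppfImg

variable {S : Scheme.{u}}

set_option backward.isDefEq.respectTransparency.types false in
theorem repWith_of_isPullback_W {R U R' U' : Over S} {s t : R ⟶ U} {s' t' : R' ⟶ U'}
    (φ : QuotSh.quot Scheme.fppfPrecoverage s' t' ⟶ QuotSh.quot Scheme.fppfPrecoverage s t)
    [Mono φ] (W : U.left.Opens)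
    (aW : (yon S).obj (opensOver U W) ⟶ QuotSh.quot Scheme.fppfPrecoverage s' t')
    (sqW : IsPullback aW ((yon S).map (opensι U W)) φ (p s t)) :
    RepWith @IsOpenImmersion φ := by
  have hepi : Epi (p s t) := QuotOpen.epi_p s t
  apply openImmersion_of_fppf_local φ
  intro T ξ
  obtain ⟨R₁, hR₁, hl₁⟩ := loc_lift (p s t) ξ
  have H : ∀ z : T.left, ∃ (T' : Over S) (c : T' ⟶ T) (u : T' ⟶ U),
      z ∈ Set.range c.left.base ∧ Flat c.left ∧ LocallyOfFinitePresentation c.left ∧
      (yon S).map u ≫ p s t = (yon S).map c ≫ ξ := by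
    intro z
    obtain ⟨T', c, hc, hz, hcf, hcl⟩ := exists_fppf_of_mem_J R₁ hR₁ z
    obtain ⟨u', hu'⟩ := hl₁ c hc
    obtain ⟨u, rfl⟩ := (yon S).map_surjective u'
    exact ⟨T', c, u, hz, hcf, hcl, hu'⟩
  choose T' c u hz hcf hcl hu using H
  refine ⟨T.left, T', c, hcf, hcl, fun z => ⟨z, hz z⟩, fun z => ?_⟩
  let O₁ : (T' z).left.Opens := (u z).left ⁻¹ᵁ W
  let res : opensOver (T' z) O₁ ⟶ opensOver U W :=
    Over.homMk ((u z).left ∣_ W) (by
      show ((u z).left ∣_ W) ≫ W.ι ≫ U.hom = O₁.ι ≫ (T' z).hom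
      rw [← Category.assoc, morphismRestrict_ι, Category.assoc, CategoryTheory.Over.w])
  have sq0 : IsPullback res (opensι (T' z) O₁) (opensι U W) (u z) := by
    apply Groth.Agent.Helper5.GeomFibSp.isPullback_of_left
    · ext
      exact morphismRestrict_ι _ _
    · exact isPullback_morphismRestrict (u z).left W
  refine ⟨O₁, (yon S).map res ≫ aW, ?_⟩
  have := (sq0.map (yon S)).paste_horiz sqW
  rw [hu z] at this
  exact this

/-- the pre-equivalence relation of a groupoid scheme -/
theorem isPreEqvRelSp_groupoidScheme (G : Grpd.GroupoidScheme S) :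
    IsPreEqvRelSp
      ((yon S).map (Over.homMk G.s G.s_over : Over.mk G.pR ⟶ Over.mk G.pU))
      ((yon S).map (Over.homMk G.t G.t_over : Over.mk G.pR ⟶ Over.mk G.pU)) := by
  intro T
  let s : Over.mk G.pR ⟶ Over.mk G.pU := Over.homMk G.s G.s_over
  let t : Over.mk G.pR ⟶ Over.mk G.pU := Over.homMk G.t G.t_over
  have key : ∀ a b : (yon S).obj T ⟶ (yon S).obj (Over.mk G.pU),
      (∃ r : (yon S).obj T ⟶ (yon S).obj (Over.mk G.pR), r ≫ (yon S).map t = a ∧
        r ≫ (yon S).map s = b) ↔
      ∃ r : T.left ⟶ G.R, r ≫ G.t = ((yon S).preimage a).left ∧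
        r ≫ G.s = ((yon S).preimage b).left := by
    intro a b
    constructor
    · rintro ⟨r, rfl, rfl⟩
      obtain ⟨r, rfl⟩ := (yon S).map_surjective r
      refine ⟨r.left, ?_, ?_⟩
      · rw [← Functor.map_comp, Functor.preimage_map]
        rfl
      · rw [← Functor.map_comp, Functor.preimage_map]
        rfl
    · rintro ⟨r, h1, h2⟩
      have hr : r ≫ G.pR = T.hom := by
        rw [← G.t_over, ← Category.assoc, h1]
        exact Over.w ((yon S).preimage a)
      refine ⟨(yon S).map (Over.homMk r hr), ?_, ?_⟩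
      · rw [← Functor.map_comp]
        conv_rhs => rw [← (yon S).map_preimage a]
        congr 1
        exact Over.OverMorphism.ext h1
      · rw [← Functor.map_comp]
        conv_rhs => rw [← (yon S).map_preimage b]
        congr 1
        exact Over.OverMorphism.ext h2
  refine ⟨fun a => ?_, fun {a b} hab => ?_, fun {a b c} hab hbc => ?_⟩
  · rw [key]
    refine ⟨((yon S).preimage a).left ≫ G.e, ?_, ?_⟩
    · rw [Category.assoc, G.e_t]
      exact Category.comp_id _
    · rw [Category.assoc, G.e_s]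
      exact Category.comp_id _
  · rw [key] at hab ⊢
    obtain ⟨r, h1, h2⟩ := hab
    exact ⟨r ≫ G.i, by rw [Category.assoc, G.i_t, h2], by rw [Category.assoc, G.i_s, h1]⟩
  · rw [key] at hab hbc ⊢
    obtain ⟨r₁, h1, h2⟩ := hab
    obtain ⟨r₂, h3, h4⟩ := hbc
    have hc : r₁ ≫ G.s = r₂ ≫ G.t := h2.trans h3.symm
    exact ⟨pullback.lift r₁ r₂ hc ≫ G.c, (G.comp_t r₁ r₂ hc).trans h1,
      (G.comp_s r₁ r₂ hc).trans h4⟩

end Groth.Agent.Helper5.QuotOpenG
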