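import Groth.Agent.Helper5.QuotOpenG3
import Mathlib

/-!
# Helper5: S10141
-/

set_option autoImplicit false
set_option linter.style.haveILetI false
set_option linter.unusedSectionVars false
set_option linter.unusedVariables false
universe u
open CategoryTheory CategoryTheory.Limits AlgebraicGeometry Opposite MorphismProperty

namespace Groth.Agent.Helper5.QuotOpenG

open AlgSp Groth.Agent.Helper4 Groth.Agent.Helper5.QuotEff Groth.Agent.Helper5.QuotPres
  Groth.Agent.Helper4.AlgSpOpenImage Groth.Agent.Helper4.AlgSpBasic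
  Groth.Agent.Helper5.OpenDesc

theorem s10141 (S : Scheme.{u}) (G : Grpd.GroupoidScheme S)
    (U' : Scheme.{u}) (g : U' ⟶ G.U) (W : G.U.Opens)
    (hW : (W : Set ↥G.U) = Set.range ⇑(pullback.snd g G.t ≫ G.s))
    (hlift : pullback g G.t ⟶ ↑W) (hh : hlift ≫ W.ι = pullback.snd g G.t ≫ G.s)
    (hsurj : Sheaf.IsLocallySurjective ((AlgSp.yon S).map
      (Over.homMk hlift ((Category.assoc _ _ _).symm.trans (congrArg (· ≫ G.pU) hh)) :
        Over.mk ((pullback.snd g G.t ≫ G.s) ≫ G.pU) ⟶ Over.mk (W.ι ≫ G.pU))))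
    (R' : Over S) (s' t' : R' ⟶ Over.mk (g ≫ G.pU)) (r : R' ⟶ Over.mk G.pR)
    (hsq : IsPullback (prod.lift t' s') r
      (prod.map (Over.homMk g rfl : Over.mk (g ≫ G.pU) ⟶ Over.mk G.pU)
        (Over.homMk g rfl : Over.mk (g ≫ G.pU) ⟶ Over.mk G.pU))
      (prod.lift (Over.homMk G.t G.t_over : Over.mk G.pR ⟶ Over.mk G.pU)
        (Over.homMk G.s G.s_over : Over.mk G.pR ⟶ Over.mk G.pU)))
    (ψ : QuotSh.quot Scheme.fppfPrecoverage s' t' ⟶
      QuotSh.quot Scheme.fppfPrecoverage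
        (Over.homMk G.s G.s_over : Over.mk G.pR ⟶ Over.mk G.pU)
        (Over.homMk G.t G.t_over : Over.mk G.pR ⟶ Over.mk G.pU))
    (hψ : QuotSh.quotπ Scheme.fppfPrecoverage s' t' ≫ ψ =
      QuotSh.repMap Scheme.fppfPrecoverage
        (Over.homMk g rfl : Over.mk (g ≫ G.pU) ⟶ Over.mk G.pU) ≫
        QuotSh.quotπ Scheme.fppfPrecoverage _ _) :
    AlgSp.RepWith @IsOpenImmersion ψ := by
  let U₀ : Over S := Over.mk G.pU
  let R₀ : Over S := Over.mk G.pR
  let s : R₀ ⟶ U₀ := Over.homMk G.s G.s_over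
  let t : R₀ ⟶ U₀ := Over.homMk G.t G.t_over
  let U'₀ : Over S := Over.mk (g ≫ G.pU)
  let g₀ : U'₀ ⟶ U₀ := Over.homMk g rfl
  let P₀ : Over S := Over.mk ((pullback.snd g G.t ≫ G.s) ≫ G.pU)
  have ha : pullback.fst g G.t ≫ g ≫ G.pU = (pullback.snd g G.t ≫ G.s) ≫ G.pU := by
    rw [← Category.assoc, pullback.condition, Category.assoc, G.t_over, Category.assoc, G.s_over]
  let a : P₀ ⟶ U'₀ := Over.homMk (pullback.fst g G.t) ha
  have hρ : pullback.snd g G.t ≫ G.pR = (pullback.snd g G.t ≫ G.s) ≫ G.pU := by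
    rw [Category.assoc, G.s_over]
  let ρ₀ : P₀ ⟶ R₀ := Over.homMk (pullback.snd g G.t) hρ
  have hcomm : a ≫ g₀ = ρ₀ ≫ t := Over.OverMorphism.ext pullback.condition
  have huniv : ∀ (T : Over S) (a' : T ⟶ U'₀) (ρ : T ⟶ R₀), a' ≫ g₀ = ρ ≫ t →
      ∃ π : T ⟶ P₀, π ≫ a = a' ∧ π ≫ ρ₀ = ρ := by
    intro T a' ρ h
    have h' : a'.left ≫ g = ρ.left ≫ G.t := congrArg CommaMorphism.left h
    have hw : pullback.lift a'.left ρ.left h' ≫ (pullback.snd g G.t ≫ G.s) ≫ G.pU = T.hom := by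
      rw [Category.assoc, G.s_over, pullback.lift_snd_assoc]
      exact Over.w ρ
    refine ⟨Over.homMk (pullback.lift a'.left ρ.left h') hw, ?_, ?_⟩
    · exact Over.OverMorphism.ext (pullback.lift_fst _ _ _)
    · exact Over.OverMorphism.ext (pullback.lift_snd _ _ _)
  let hl : P₀ ⟶ opensOver U₀ W :=
    Over.homMk hlift ((Category.assoc _ _ _).symm.trans (congrArg (· ≫ G.pU) hh))
  have hhl : hl ≫ opensι U₀ W = ρ₀ ≫ s := Over.OverMorphism.ext hh
  haveI : Epi ((yon S).map hl) :=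
    (Sheaf.isLocallySurjective_iff_epi' (Type (u + 1)) ((yon S).map hl)).1 hsurj
  have hpre := isPreEqvRelSp_groupoidScheme G
  have hlift' : ∀ (T : Over S) (a' b' : T ⟶ U'₀) (ρ : T ⟶ R₀), ρ ≫ t = a' ≫ g₀ →
      ρ ≫ s = b' ≫ g₀ → ∃ ρ' : T ⟶ R', ρ' ≫ t' = a' ∧ ρ' ≫ s' = b' := by
    intro T a' b' ρ h1 h2
    have hw : prod.lift a' b' ≫ prod.map g₀ g₀ = ρ ≫ prod.lift t s := by
      rw [prod.lift_map, prod.comp_lift, h1, h2]
    refine ⟨hsq.lift _ _ hw, ?_, ?_⟩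
    · have := congrArg (· ≫ prod.fst) (hsq.lift_fst _ _ hw)
      rw [Category.assoc, prod.lift_fst, prod.lift_fst] at this
      exact this
    · have := congrArg (· ≫ prod.snd) (hsq.lift_fst _ _ hw)
      rw [Category.assoc, prod.lift_snd, prod.lift_snd] at this
      exact this
  have hφ := QuotOpen.p_comp s t g₀ s' t' ψ hψ
  haveI := mono_of_lift hpre hlift' ψ hφ
  obtain ⟨aW, haW⟩ := exists_aW a ρ₀ hcomm W hl hhl hpre hlift'
  have sqW := isPullback_W a ρ₀ hcomm huniv W hl hhl hpre hlift' ψ hφ aW haW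
  exact repWith_of_isPullback_W ψ W aW sqW

end Groth.Agent.Helper5.QuotOpenG
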