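import Mathlib
import Groth.Prelude
import Groth.Agent.S0593

set_option autoImplicit false
set_option linter.unusedSectionVars false
set_option linter.style.haveILetI false
universe u

open AlgebraicGeometry CategoryTheory CategoryTheory.Limits

namespace Groth.Agent.Helper5.QuotRed

variable {P G : Scheme.{u}} (p : P ⟶ G) (s : G ⟶ P) (hs : s ≫ p = 𝟙 G)

include hs in
/-- a morphism with a surjective section is universally closed -/
theorem universallyClosed_of_surjective_section [Surjective s] : UniversallyClosed p := by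
  rw [universallyClosed_eq]
  intro P' T i₁ i₂ f' hpb
  let sT : T ⟶ P' := hpb.lift (𝟙 T) (i₂ ≫ s) (by rw [Category.id_comp, Category.assoc, hs,
    Category.comp_id])
  have hsT : sT ≫ f' = 𝟙 T := hpb.lift_fst _ _ _
  have hsT2 : sT ≫ i₁ = i₂ ≫ s := hpb.lift_snd _ _ _
  have hpbs : IsPullback sT i₂ i₁ s := by
    have hout : IsPullback (sT ≫ f') i₂ i₂ (s ≫ p) := by
      rw [hsT, hs]
      exact IsPullback.of_horiz_isIso ⟨by rw [Category.id_comp, Category.comp_id]⟩
    exact IsPullback.of_right hout hsT2 hpb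
  haveI : Surjective sT := MorphismProperty.of_isPullback (P := @Surjective) hpbs.flip inferInstance
  intro Z hZ
  have : f' '' Z = sT ⁻¹' Z := by
    ext t
    constructor
    · rintro ⟨z, hz, rfl⟩
      obtain ⟨t', rfl⟩ := sT.surjective z
      have : f' (sT t') = t' := by
        rw [← Scheme.Hom.comp_apply, hsT]; rfl
      rw [this]
      exact hz
    · intro ht
      refine ⟨sT t, ht, ?_⟩
      rw [← Scheme.Hom.comp_apply, hsT]; rfl
  rw [this]
  exact hZ.preimage sT.continuous

include hs in
/-- a morphism with a section which is a surjective closed immersion is affine -/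
theorem isAffineHom_of_section [Surjective s] [IsClosedImmersion s] : IsAffineHom p := by
  rw [isAffineHom_iff]
  intro U hU
  have e : s ⁻¹ᵁ (p ⁻¹ᵁ U) = U := by
    rw [← Scheme.Hom.comp_preimage, hs]
    rfl
  haveI : IsAffine (s ⁻¹ᵁ (p ⁻¹ᵁ U)).toScheme := (e.symm ▸ hU : IsAffineOpen (s ⁻¹ᵁ (p ⁻¹ᵁ U)))
  haveI : Surjective (s ∣_ (p ⁻¹ᵁ U)) :=
    MorphismProperty.of_isPullback (P := @Surjective) (isPullback_morphismRestrict s (p ⁻¹ᵁ U)).flip
      inferInstance
  haveI : UniversallyClosed (s ∣_ (p ⁻¹ᵁ U)) := inferInstance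
  exact Groth.Agent.S0593.result _ _ (s ∣_ (p ⁻¹ᵁ U))

end Groth.Agent.Helper5.QuotRed
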