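import Mathlib
import Groth.Prelude
import Groth.Agent.Helper5.QuotRed1
import Groth.Agent.Helper5.QuotCmp3
import Groth.Agent.S0082
import Groth.Agent.S0083

set_option autoImplicit false
set_option linter.unusedSectionVars false
set_option linter.style.haveILetI false
universe u

open AlgebraicGeometry CategoryTheory CategoryTheory.Limits
open MonoidalCategory CartesianMonoidalCategory MonObj

namespace Groth.Agent.Helper5.QuotRed

open Groth.Agent.Helper5.FlatOrbit Groth.Agent.Helper5.OrbQ Groth.Agent.Helper5.GrpDense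
open Groth.Agent.Helper5.QuotCmp

section Gen

variable {S : Scheme.{u}} {G H H' X X' : Over S} [GrpObj G] [GrpObj H] [GrpObj H']
  {i : H ⟶ G} {i' : H' ⟶ G} [IsMonHom i'] [Mono i'] {l : H ⟶ H'} [Mono l] (hl : l ≫ i' = i)
  {a : AlgGrp.Action G X} {o : 𝟙_ (Over S) ⟶ X}
  (hX : IsPullback (fst G H) ((G ◁ i) ≫ μ[G]) (a.orbitMap o) (a.orbitMap o))
  {a' : AlgGrp.Action G X'} {o' : 𝟙_ (Over S) ⟶ X'}
  (hX' : IsPullback (fst G H') ((G ◁ i') ≫ μ[G]) (a'.orbitMap o') (a'.orbitMap o'))
  {qbar : X ⟶ X'} (hq : a.orbitMap o ≫ qbar = a'.orbitMap o')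

/-- the section `g ↦ (g, g·o)` of `G ×_{G/H'} G/H → G` -/
noncomputable def sec : G ⟶ pullback (a'.orbitMap o') qbar :=
  pullback.lift (𝟙 G) (a.orbitMap o) (by rw [Category.id_comp, hq])

theorem sec_fst : sec hq ≫ pullback.fst _ _ = 𝟙 G := pullback.lift_fst _ _ _

theorem sec_snd : sec hq ≫ pullback.snd _ _ = a.orbitMap o := pullback.lift_snd _ _ _

include hl hX in
/-- the section is the base change of `G × H → G × H'` along the fppf cover `r₂` -/
theorem isPullback_sec : IsPullback (fst G H) (G ◁ l) (sec hq) (r₂ hX' hq) := by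
  have hw : fst G H ≫ sec hq = (G ◁ l) ≫ r₂ hX' hq := by
    apply pullback.hom_ext
    · rw [Category.assoc, sec_fst, Category.comp_id, Category.assoc, r₂_fst, whiskerLeft_fst]
    · rw [Category.assoc, sec_snd, Category.assoc, r₂_snd, ← Category.assoc, ← Category.assoc,
        ← MonoidalCategory.whiskerLeft_comp, hl]
      exact hX.w
  have key1 : ∀ c : PullbackCone (sec hq) (r₂ hX' hq), c.fst = c.snd ≫ fst G H' := by
    intro c
    have := c.condition =≫ pullback.fst _ _
    simpa only [Category.assoc, sec_fst, r₂_fst, Category.comp_id] using this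
  have key : ∀ c : PullbackCone (sec hq) (r₂ hX' hq),
      ∃ h₀ : c.pt ⟶ H, c.snd ≫ snd G H' = h₀ ≫ l := by
    intro c
    have h1 := key1 c
    have h2 : c.fst ≫ a.orbitMap o = (c.snd ≫ (G ◁ i') ≫ μ[G]) ≫ a.orbitMap o := by
      have := c.condition =≫ pullback.snd _ _
      simpa only [Category.assoc, sec_snd, r₂_snd] using this
    obtain ⟨h₀, hh⟩ := (orbit_eq_iff hX _ _).1 h2
    refine ⟨h₀, ?_⟩
    rw [comp_whiskerLeft_mul, ← h1, mul_right_inj, ← hl, ← Category.assoc,
      ← Category.assoc] at hh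
    exact (cancel_mono i').1 hh
  refine ⟨⟨hw⟩, ⟨PullbackCone.IsLimit.mk _
    (fun c => lift c.fst (Classical.choose (key c))) ?_ ?_ ?_⟩⟩
  · intro c
    rw [lift_fst]
  · intro c
    have h4 := Classical.choose_spec (key c)
    apply CartesianMonoidalCategory.hom_ext
    · rw [Category.assoc, whiskerLeft_fst, lift_fst, key1 c]
    · rw [Category.assoc, whiskerLeft_snd, ← Category.assoc, lift_snd]
      exact h4.symm
  · intro c m hm1 hm2
    have h4 := Classical.choose_spec (key c)
    apply CartesianMonoidalCategory.hom_ext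
    · rw [lift_fst]; exact hm1
    · rw [lift_snd, ← cancel_mono l]
      refine Eq.trans ?_ h4
      rw [← hm2, Category.assoc, Category.assoc, whiskerLeft_snd]

end Gen

end Groth.Agent.Helper5.QuotRed
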