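import Mathlib
import Groth.Prelude
import Groth.Agent.Helper5.QuotRed2

set_option autoImplicit false
set_option linter.unusedSectionVars false
set_option linter.style.haveILetI false
universe u

open AlgebraicGeometry CategoryTheory CategoryTheory.Limits
open MonoidalCategory CartesianMonoidalCategory MonObj

namespace Groth.Agent.Helper5.QuotRed

open Groth.Agent.Helper5.FlatOrbit Groth.Agent.Helper5.OrbQ Groth.Agent.Helper5.GrpDense
open Groth.Agent.Helper5.QuotCmp

set_option backward.isDefEq.respectTransparency.types false in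
/-- `G/H` is affine iff `G/H'` is, for `H' ⊆ H` a closed subgroup with the same underlying space. -/
theorem s12540 (k : Type u) [Field k]
    (G : Over (Spec (CommRingCat.of k))) [GrpObj G] [LocallyOfFiniteType G.hom] [QuasiCompact G.hom]
    (H : Over (Spec (CommRingCat.of k))) [GrpObj H] (h : H ⟶ G) [IsMonHom h]
    [IsClosedImmersion h.left]
    (H' : Over (Spec (CommRingCat.of k))) [GrpObj H'] (h' : H' ⟶ H) [IsMonHom h']
    [IsClosedImmersion h'.left] [Surjective h'.left]
    (X : Over (Spec (CommRingCat.of k))) (a : AlgGrp.Action G X) (o : 𝟙_ _ ⟶ X)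
    (hX : AGF.IsQuotient h X a o)
    (X' : Over (Spec (CommRingCat.of k))) (a' : AlgGrp.Action G X') (o' : 𝟙_ _ ⟶ X')
    (hX' : AGF.IsQuotient (h' ≫ h) X' a' o') :
    IsAffine X.left ↔ IsAffine X'.left := by
  obtain ⟨hXl, hXf, hXs, hXp⟩ := hX
  obtain ⟨hX'l, hX'f, hX's, hX'p⟩ := hX'
  haveI := hXl; haveI := hXf; haveI := hXs; haveI := hX'l; haveI := hX'f; haveI := hX's
  haveI : Mono h.left := inferInstance
  haveI : Mono h := Over.mono_of_mono_left _
  haveI : Mono h'.left := inferInstance
  haveI : Mono h' := Over.mono_of_mono_left _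
  haveI : LocallyOfFinitePresentation (a.orbitMap o).left := effectiveEpi_of_field k _
  haveI : LocallyOfFinitePresentation (a'.orbitMap o').left := effectiveEpi_of_field k _
  -- the map `G/H' → G/H`
  obtain ⟨qbar, hq⟩ := exists_desc (a'.orbitMap o') (a.orbitMap o) (by
    intro T g₁ g₂ hg
    obtain ⟨t, ht⟩ := (orbit_eq_iff hX'p g₁ g₂).1 hg
    exact (orbit_eq_iff hXp g₁ g₂).2 ⟨t ≫ h', by rw [ht, Category.assoc]⟩)
  -- the fppf cover `r₂` of `P = G ×_{G/H} G/H'`
  have hpb2 : IsPullback ((G ◁ h) ≫ μ[G]).left (r₂ hXp hq).left (a'.orbitMap o').left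
      (pullback.snd (a.orbitMap o) qbar).left :=
    (isPullback_r₂ hXp hq).map (Over.forget _)
  have hQ2 : (@Surjective ⊓ @Flat ⊓ @LocallyOfFinitePresentation : MorphismProperty Scheme.{u})
      (r₂ hXp hq).left :=
    ⟨⟨MorphismProperty.of_isPullback (P := @Surjective) hpb2 inferInstance,
      MorphismProperty.of_isPullback (P := @Flat) hpb2 inferInstance⟩,
      MorphismProperty.of_isPullback (P := @LocallyOfFinitePresentation) hpb2 inferInstance⟩
  -- the section is a surjective closed immersion
  have hpbs : IsPullback (G ◁ h').left (fst G H').left (r₂ hXp hq).left (sec hq).left :=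
    ((isPullback_sec (l := h') rfl hX'p hXp hq).map (Over.forget _)).flip
  have hpbl : IsPullback (G ◁ h').left (snd G H').left (snd G H).left h'.left :=
    isPullback_whiskerLeft G h'
  have hcl : IsClosedImmersion (G ◁ h').left :=
    MorphismProperty.of_isPullback (P := @IsClosedImmersion) hpbl.flip inferInstance
  have hsu : Surjective (G ◁ h').left :=
    MorphismProperty.of_isPullback (P := @Surjective) hpbl.flip inferInstance
  haveI := Groth.Agent.S0083.result.{u}
  haveI : IsClosedImmersion (sec hq).left :=
    MorphismProperty.of_isPullback_of_descendsAlong (P := @IsClosedImmersion)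
      (Q := @Surjective ⊓ @Flat ⊓ @LocallyOfFinitePresentation) hpbs hQ2 hcl
  haveI : Surjective (sec hq).left :=
    MorphismProperty.of_isPullback_of_descendsAlong (P := @Surjective)
      (Q := @Surjective ⊓ @Flat ⊓ @LocallyOfFinitePresentation) hpbs hQ2 hsu
  -- the projection `P → G` is affine and universally closed
  have hsp : (sec hq).left ≫ (pullback.fst (a.orbitMap o) qbar).left = 𝟙 G.left := by
    rw [← Over.comp_left, sec_fst]; rfl
  have haff : IsAffineHom (pullback.fst (a.orbitMap o) qbar).left :=
    isAffineHom_of_section _ _ hsp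
  have huc : UniversallyClosed (pullback.fst (a.orbitMap o) qbar).left :=
    universallyClosed_of_surjective_section _ _ hsp
  -- descent to `qbar`
  have hpb : IsPullback (pullback.fst (a.orbitMap o) qbar).left
      (pullback.snd (a.orbitMap o) qbar).left (a.orbitMap o).left qbar.left :=
    (IsPullback.of_hasPullback (a.orbitMap o) qbar).map (Over.forget _)
  haveI : QuasiCompact (a.orbitMap o).left := Groth.Agent.Helper5.GrQuot.quasiCompact_of_field k _
  have hQ : (@Surjective ⊓ @Flat ⊓ @QuasiCompact : MorphismProperty Scheme.{u})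
      (a.orbitMap o).left := ⟨⟨inferInstance, inferInstance⟩, inferInstance⟩
  haveI := Groth.Agent.S0082.result.{u}
  haveI : IsAffineHom qbar.left :=
    MorphismProperty.of_isPullback_of_descendsAlong (P := @IsAffineHom)
      (Q := @Surjective ⊓ @Flat ⊓ @QuasiCompact) hpb hQ haff
  haveI : UniversallyClosed qbar.left :=
    MorphismProperty.of_isPullback_of_descendsAlong (P := @UniversallyClosed)
      (Q := @Surjective ⊓ @Flat ⊓ @QuasiCompact) hpb hQ huc
  haveI : Surjective qbar.left := by
    have : Surjective ((a'.orbitMap o').left ≫ qbar.left) := by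
      rw [← Over.comp_left, hq]; infer_instance
    exact Surjective.of_comp (a'.orbitMap o').left qbar.left
  constructor
  · intro hA
    exact isAffine_of_isAffineHom qbar.left
  · intro hA
    exact Groth.Agent.S0593.result _ _ qbar.left

end Groth.Agent.Helper5.QuotRed
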