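import Mathlib
import Groth.Agent.Helper5.RF1

set_option autoImplicit false
open CategoryTheory Limits AlgebraicGeometry TopologicalSpace Opposite
universe u

namespace Groth.Agent.Helper5.RF2
open Groth.Agent.Helper5.RF1

theorem s4349 (X : Scheme.{u}) [IsReduced X]
    (V : X.Opens) (hV : Dense (V : Set X)) :
    Function.Injective (RatFun.toRing X V hV) := by
  rw [injective_iff_map_eq_zero]
  intro s hs
  rw [toRing_eq_zero_iff] at hs
  obtain ⟨W, hW, h1, h0⟩ := hs
  rw [← basicOpen_eq_bot_iff]
  by_contra hne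
  have hne' : ((X.basicOpen s : X.Opens) : Set X).Nonempty := by
    rw [Set.nonempty_iff_ne_empty]
    intro h
    exact hne (TopologicalSpace.Opens.ext h)
  obtain ⟨x, hxs, hxW⟩ := hW.inter_open_nonempty _ (X.basicOpen s).isOpen hne'
  have hx : x ∈ X.basicOpen (X.presheaf.map (homOfLE h1).op s) := by
    rw [Scheme.basicOpen_res]
    exact ⟨hxW, hxs⟩
  rw [h0, Scheme.basicOpen_zero] at hx
  exact hx

end Groth.Agent.Helper5.RF2
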