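import Mathlib
import Groth.Agent.Helper5.RedFib
import Groth.Agent.Helper5.RedDvr
import Groth.Agent.Helper5.RedDvr2

set_option autoImplicit false
universe u
open CategoryTheory CategoryTheory.Limits AlgebraicGeometry TensorProduct

namespace Groth.Agent.Helper5.RedDvr

open Groth.Agent.Helper5.RedFib

theorem isReduced_stalk_closedFibre {R : Type u} [CommRing R] [IsDomain R]
    [IsDiscreteValuationRing R] {X : Scheme.{u}}
    (f : X ⟶ Spec (CommRingCat.of R)) [LocallyOfFiniteType f] [Flat f]
    (hred : IsReduced (f.fiber (IsLocalRing.closedPoint R)))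
    (x₀ : X) (hx₀ : f x₀ = IsLocalRing.closedPoint R) :
    _root_.IsReduced (X.presheaf.stalk x₀) := by
  have hN : IsLocallyNoetherian X := LocallyOfFiniteType.isLocallyNoetherian f
  let ψ := Spec.preimage (X.fromSpecStalk x₀ ≫ f)
  let alg : Algebra R (X.presheaf.stalk x₀) := ψ.hom.toAlgebra
  have hψ : Spec.map ψ = X.fromSpecStalk x₀ ≫ f := Spec.map_preimage _
  obtain ⟨π, hπ⟩ := IsDiscreteValuationRing.exists_irreducible R
  have hm : IsLocalRing.maximalIdeal R = Ideal.span {π} := hπ.maximalIdeal_eq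
  have hfx : (f x₀).asIdeal = IsLocalRing.maximalIdeal R := by rw [hx₀]; rfl
  have hmax : (f x₀).asIdeal.IsMaximal := by rw [hfx]; infer_instance
  have hred' : IsReduced (f.fiber (f x₀)) := by rw [hx₀]; exact hred
  have hT := isReduced_tensor_residueField f x₀ hred'
  set ϖ : X.presheaf.stalk x₀ := algebraMap R (X.presheaf.stalk x₀) π with hϖdef
  -- `ϖ` lies in the maximal ideal
  have hϖ : ϖ ∈ IsLocalRing.maximalIdeal (X.presheaf.stalk x₀) := by
    have h1 : Spec.map ψ (IsLocalRing.closedPoint (X.presheaf.stalk x₀)) =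
        IsLocalRing.closedPoint R := by
      rw [hψ, Scheme.Hom.comp_apply, Scheme.fromSpecStalk_closedPoint, hx₀]
    have h2 : π ∈ (Spec.map ψ (IsLocalRing.closedPoint (X.presheaf.stalk x₀))).asIdeal := by
      rw [h1]
      show π ∈ IsLocalRing.maximalIdeal R
      rw [hm]
      exact Ideal.mem_span_singleton_self π
    exact h2
  -- `ϖ` is regular
  have hflat : Module.Flat R (X.presheaf.stalk x₀) := by
    have h1 : Flat (Spec.map ψ) := by rw [hψ]; infer_instance
    exact (Flat.SpecMap_iff).1 h1
  have hreg : IsSMulRegular (X.presheaf.stalk x₀) ϖ := by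
    have : IsSMulRegular R π := (IsRegular.of_ne_zero hπ.ne_zero).left.isSMulRegular
    exact this.of_flat
  -- nilpotents are divisible by `ϖ`
  have hdvd : ∀ b : X.presheaf.stalk x₀, IsNilpotent b → ϖ ∣ b := by
    intro b hb
    have := mem_map_of_isNilpotent (f x₀).asIdeal hT b hb
    rw [hfx, hm, Ideal.map_span, Set.image_singleton] at this
    exact Ideal.mem_span_singleton.1 this
  exact isReduced_of_forall_nilpotent_dvd ϖ hϖ hreg hdvd

theorem main {R : Type u} [CommRing R] [IsDomain R] [IsDiscreteValuationRing R] {X : Scheme.{u}}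
    (f : X ⟶ Spec (CommRingCat.of R)) [IsProper f] [Flat f]
    (hred : IsReduced (f.fiber (IsLocalRing.closedPoint R))) :
    IsReduced X ∧ IsReduced (f.fiber (⟨⊥, Ideal.isPrime_bot⟩ : PrimeSpectrum R)) := by
  have hcpt : CompactSpace X := QuasiCompact.compactSpace_of_compactSpace f
  have hstalk : ∀ x : X, _root_.IsReduced (X.presheaf.stalk x) := by
    intro x
    obtain ⟨x₀, hx₀mem, hx₀cl⟩ := IsClosed.exists_closed_singleton
      (isClosed_closure (s := ({x} : Set X))) ⟨x, subset_closure rfl⟩
    have hcl : IsClosed ({f x₀} : Set (Spec (CommRingCat.of R))) := by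
      have := f.isClosedMap _ hx₀cl
      rwa [Set.image_singleton] at this
    have hmax : (f x₀).asIdeal.IsMaximal :=
      (PrimeSpectrum.isClosed_singleton_iff_isMaximal _).1 hcl
    have hfx : f x₀ = IsLocalRing.closedPoint R :=
      PrimeSpectrum.ext (IsLocalRing.eq_maximalIdeal hmax)
    have := isReduced_stalk_closedFibre f hred x₀ hfx
    exact isReduced_stalk_of_specializes (specializes_iff_mem_closure.2 hx₀mem)
  have hX : IsReduced X := isReduced_of_isReduced_stalk X
  refine ⟨hX, ?_⟩
  apply isReduced_fiber f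
  intro η' h
  have h1 : η'.asIdeal ≤ (⊥ : Ideal R) :=
    (PrimeSpectrum.le_iff_specializes (R := R) η' ⟨⊥, Ideal.isPrime_bot⟩).2 h
  exact PrimeSpectrum.ext (le_bot_iff.1 h1)

end Groth.Agent.Helper5.RedDvr
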