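import Groth.Agent.Helper5.RedDvr3
import Groth.Agent.Helper5.HasAtChart
import Groth.Agent.Helper5.SecNbG
import Groth.Agent.Helper5.GeomFibSp1
import Groth.Agent.Helper5.ProperImg1
import Groth.Agent.Helper5.RelDimSp5
import Groth.Agent.Helper5.AlgSpNoeth
import Groth.Agent.Helper4.GeomRedSp
import Groth.Agent.Helper2.RedNhd
import Mathlib

set_option autoImplicit false
set_option linter.style.haveILetI false
set_option linter.unusedSectionVars false
set_option linter.unusedVariables false
universe u
open CategoryTheory CategoryTheory.Limits AlgebraicGeometry Opposite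

namespace Groth.Agent.Helper5.RedDvrSp

open AlgSp Groth.Agent.Helper4

/-- the reduced locus of a locally Noetherian scheme is open -/
theorem isOpen_reducedLocus (X : Scheme.{u}) [IsLocallyNoetherian X] :
    IsOpen {x : X | _root_.IsReduced (X.presheaf.stalk x)} := by
  rw [isOpen_iff_forall_mem_open]
  intro x hx
  haveI : _root_.IsReduced (X.presheaf.stalk x) := hx
  obtain ⟨U, hxU, hU⟩ := Groth.Agent.Helper2.RedNhd.exists_isReduced_nhd x
  refine ⟨U, ?_, U.isOpen, hxU⟩
  intro y hy
  have h1 : _root_.IsReduced ((U : Scheme).presheaf.stalk ⟨y, hy⟩) := inferInstance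
  have h2 := Groth.Agent.Helper5.StalkRed.isReduced_stalk_of_flat U.ι ⟨y, hy⟩ h1
  exact h2

set_option backward.isDefEq.respectTransparency.types false in
/-- the fibre over the image of a field point is reduced if the base change to the field is -/
theorem isReduced_fiber_of_field_point {X Y : Scheme.{u}} (f : X ⟶ Y) {k : Type u} [Field k]
    (j : Spec (CommRingCat.of k) ⟶ Y) [IsReduced (pullback f j)] :
    IsReduced (f.fiber (j (IsLocalRing.closedPoint k))) := by
  set y := j (IsLocalRing.closedPoint k) with hy
  let φ := Scheme.descResidueField (Scheme.stalkClosedPointTo j)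
  have hfac : Spec.map φ ≫ Y.fromSpecResidueField y = j :=
    Scheme.descResidueField_stalkClosedPointTo_fromSpecResidueField k Y j
  let m : pullback f j ⟶ f.fiber y :=
    pullback.lift (pullback.fst f j) (pullback.snd f j ≫ Spec.map φ)
      (by rw [Category.assoc, hfac, pullback.condition])
  have hm1 : m ≫ f.fiberι y = pullback.fst f j := pullback.lift_fst _ _ _
  have hm2 : m ≫ f.fiberToSpecResidueField y = pullback.snd f j ≫ Spec.map φ :=
    pullback.lift_snd _ _ _
  have sq : IsPullback m (pullback.snd f j) (f.fiberToSpecResidueField y) (Spec.map φ) := by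
    refine IsPullback.of_right ?_ hm2
      (IsPullback.of_hasPullback f (Y.fromSpecResidueField y))
    rw [hfac]
    show IsPullback (m ≫ f.fiberι y) _ _ _
    rw [hm1]
    exact IsPullback.of_hasPullback f j
  haveI hflat : Flat (Spec.map φ) := by
    rw [Flat.SpecMap_iff]
    letI := φ.hom.toAlgebra
    show Module.Flat (Y.residueField y) k
    infer_instance
  haveI hsurj : Surjective (Spec.map φ) := by
    refine ⟨fun z => ⟨IsLocalRing.closedPoint k, ?_⟩⟩
    exact Subsingleton.elim (α := PrimeSpectrum (Y.residueField y)) _ _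
  haveI hmflat : Flat m := MorphismProperty.of_isPullback (P := @Flat) sq.flip hflat
  haveI hmsurj : Surjective m := MorphismProperty.of_isPullback (P := @Surjective) sq.flip hsurj
  have : ∀ w : f.fiber y, _root_.IsReduced ((f.fiber y).presheaf.stalk w) := by
    intro w
    obtain ⟨v, rfl⟩ := hmsurj.surj w
    exact Groth.Agent.Helper5.StalkRed.isReduced_stalk_of_flat m v inferInstance
  exact isReduced_of_isReduced_stalk _

variable {S : Scheme.{u}}

/-- the scheme-level base change of a chart, over `S` -/
noncomputable abbrev bcOver {U T T' : Over S} (h : U ⟶ T) (j : T' ⟶ T) : Over S :=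
  Over.mk (pullback.fst h.left j.left ≫ U.hom)

noncomputable abbrev bcFst {U T T' : Over S} (h : U ⟶ T) (j : T' ⟶ T) : bcOver h j ⟶ U :=
  Over.homMk (pullback.fst h.left j.left) rfl

noncomputable abbrev bcSnd {U T T' : Over S} (h : U ⟶ T) (j : T' ⟶ T) : bcOver h j ⟶ T' :=
  Over.homMk (pullback.snd h.left j.left) (by
    show pullback.snd _ _ ≫ T'.hom = pullback.fst _ _ ≫ U.hom
    rw [← CategoryTheory.Over.w j, ← Category.assoc, ← pullback.condition, Category.assoc,
      CategoryTheory.Over.w h])

theorem isPullback_bc {U T T' : Over S} (h : U ⟶ T) (j : T' ⟶ T) :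
    IsPullback (bcFst h j) (bcSnd h j) h j := by
  apply Groth.Agent.Helper5.GeomFibSp.isPullback_of_left
  · ext
    exact pullback.condition
  · exact IsPullback.of_hasPullback h.left j.left

theorem exists_chart_bc {X P : Sp S} {U T T' : Over S} (s : X ⟶ (yon S).obj T)
    (a : (yon S).obj U ⟶ X) (h : U ⟶ T)
    (hh : a ≫ s = (yon S).map h) (j : T' ⟶ T) (fst : P ⟶ X) (snd : P ⟶ (yon S).obj T')
    (sq : IsPullback fst snd s ((yon S).map j)) :
    ∃ b : (yon S).obj (bcOver h j) ⟶ P, IsPullback b ((yon S).map (bcFst h j)) fst a := by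
  have sqV := (isPullback_bc h j).map (yon S)
  let b := sq.lift ((yon S).map (bcFst h j) ≫ a) ((yon S).map (bcSnd h j))
    (by rw [Category.assoc, hh]; exact sqV.w)
  refine ⟨b, ?_⟩
  refine IsPullback.of_right ?_ (sq.lift_fst _ _ _) sq.flip
  rw [sq.lift_snd, hh]
  exact sqV.flip

end Groth.Agent.Helper5.RedDvrSp
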