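import Groth.Agent.Helper5.RedDvrSp1
import Mathlib

set_option autoImplicit false
set_option linter.style.haveILetI false
set_option linter.unusedSectionVars false
set_option linter.unusedVariables false
universe u
open CategoryTheory CategoryTheory.Limits AlgebraicGeometry Opposite

namespace Groth.Agent.Helper5.RedDvrSp

open AlgSp Groth.Agent.Helper4

set_option backward.isDefEq.respectTransparency.types false in
theorem s10669 (R : Type u) [CommRing R] [IsDomain R] [IsDiscreteValuationRing R]
    {X : AlgSp.Space (Spec (CommRingCat.of R))}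
    (s : X.obj ⟶ (AlgSp.yon (Spec (CommRingCat.of R))).obj (Over.mk (𝟙 _)))
    (hs1 : AlgSp.IsProperMor s) (hs2 : AlgSp.LocP @Flat s)
    (h0 : ∀ (X0 : AlgSp.Sp (Spec (CommRingCat.of R))) (fst : X0 ⟶ X.obj)
      (snd : X0 ⟶ (AlgSp.yon (Spec (CommRingCat.of R))).obj
        (Over.mk (Spec.map (CommRingCat.ofHom (IsLocalRing.residue R))))),
      IsPullback fst snd s ((AlgSp.yon (Spec (CommRingCat.of R))).map
        (Over.homMk (Spec.map (CommRingCat.ofHom (IsLocalRing.residue R))) (Category.comp_id _) :
          Over.mk (Spec.map (CommRingCat.ofHom (IsLocalRing.residue R))) ⟶ Over.mk (𝟙 _))) →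
      AlgSp.EtaleLocally (fun U => IsReduced U) X0) :
    AlgSp.EtaleLocally (fun U => IsReduced U) X.obj ∧
      ∀ (Xη : AlgSp.Sp (Spec (CommRingCat.of R))) (fst : Xη ⟶ X.obj)
        (snd : Xη ⟶ (AlgSp.yon (Spec (CommRingCat.of R))).obj
          (Over.mk (Spec.map (CommRingCat.ofHom (algebraMap R (FractionRing R)))))),
        IsPullback fst snd s ((AlgSp.yon (Spec (CommRingCat.of R))).map
          (Over.homMk (Spec.map (CommRingCat.ofHom (algebraMap R (FractionRing R)))) (Category.comp_id _) :
            Over.mk (Spec.map (CommRingCat.ofHom (algebraMap R (FractionRing R)))) ⟶ Over.mk (𝟙 _))) →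
        AlgSp.EtaleLocally (fun U => IsReduced U) Xη := by
  let S := Spec (CommRingCat.of R)
  let T : Over S := Over.mk (𝟙 _)
  obtain ⟨U, a, hae, has⟩ := X.property.atlas
  obtain ⟨h, hh⟩ := (yon S).map_surjective (a ≫ s)
  have hTid := Groth.Agent.Helper5.RelDimSp.repWith_etale_id T
  have hcomm : a ≫ s = (yon S).map h ≫ 𝟙 _ := by rw [hh, Category.comp_id]
  haveI hflat : Flat h.left := hs2 a (𝟙 _) h hae hTid hcomm
  haveI hlft : LocallyOfFiniteType h.left := hs1.2.1.1 a (𝟙 _) h hae hTid hcomm
  haveI : IsLocallyNoetherian T.left := by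
    show IsLocallyNoetherian (Spec (CommRingCat.of R))
    infer_instance
  haveI hUN : IsLocallyNoetherian U.left := LocallyOfFiniteType.isLocallyNoetherian h.left
  have iE := repWith_isStableUnderBaseChange (S := S) @Etale
  have iS := repWith_isStableUnderBaseChange (S := S) @Surjective
  -- the special fibre of the chart is reduced
  have hfib : IsReduced (h.left.fiber (IsLocalRing.closedPoint R)) := by
    let jκ : Over.mk (Spec.map (CommRingCat.ofHom (IsLocalRing.residue R))) ⟶ T :=
      Over.homMk (Spec.map (CommRingCat.ofHom (IsLocalRing.residue R))) (Category.comp_id _)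
    have sq0 := IsPullback.of_hasPullback s ((yon S).map jκ)
    have hX0 := h0 _ _ _ sq0
    obtain ⟨b, sqb⟩ := exists_chart_bc s a h hh.symm jκ _ _ sq0
    have hbe : RepWith @Etale b := MorphismProperty.of_isPullback (P := RepWith @Etale) sqb.flip hae
    haveI : IsReduced (bcOver h jκ).left :=
      GeomRedSp.isReduced_chart_of_etaleLocally hX0 b hbe
    haveI : IsReduced (pullback h.left (Spec.map (CommRingCat.ofHom (IsLocalRing.residue R)))) :=
      ‹IsReduced (bcOver h jκ).left›
    have hpt : (Spec.map (CommRingCat.ofHom (IsLocalRing.residue R)))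
        (IsLocalRing.closedPoint (IsLocalRing.ResidueField R)) = IsLocalRing.closedPoint R := by
      exact IsLocalRing.comap_closedPoint (IsLocalRing.residue R)
    have := isReduced_fiber_of_field_point h.left
      (Spec.map (CommRingCat.ofHom (IsLocalRing.residue R)))
    rw [hpt] at this
    exact this
  -- the reduced locus
  let M : Set ↥U.left := {u | ¬ _root_.IsReduced (U.left.presheaf.stalk u)}
  have hMcl : IsClosed M := by
    have := isOpen_reducedLocus U.left
    exact ⟨by simpa [M, Set.compl_setOf] using this⟩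
  have hsat : ∀ u v : ↥U.left, Points.ofPt a u = Points.ofPt a v → u ∈ M → v ∈ M := by
    intro u v huv hu hv
    exact hu (Groth.Agent.Helper5.HasAtChart.chart_indep
      (fun U u => _root_.IsReduced ↥(U.presheaf.stalk u))
      (fun g _ x => Groth.Agent.Helper5.HasAtChart.isReduced_stalk_iff_of_etale g x) a a hae hae v u
      huv.symm hv)
  have hopen := Groth.Agent.Helper5.AlgSpNoeth.isOpenMap_ofPt X.property a hae
  have hsurj := Groth.Agent.Helper5.AlgSpOpen.ofPt_surjective_of_repWith a has
  have hM'cl : IsClosed (Points.ofPt a '' M) := by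
    have h1 : (Points.ofPt a '' M)ᶜ = Points.ofPt a '' Mᶜ := by
      ext y
      constructor
      · intro hy
        obtain ⟨v, rfl⟩ := hsurj y
        exact ⟨v, fun hv => hy ⟨v, hv, rfl⟩, rfl⟩
      · rintro ⟨v, hv, rfl⟩ ⟨m, hm, hmv⟩
        exact hv (hsat m v hmv hm)
    exact ⟨by rw [h1]; exact hopen _ hMcl.isOpen_compl⟩
  have hMempty : M = ∅ := by
    by_contra hne
    obtain ⟨m₀, hm₀⟩ := Set.nonempty_iff_ne_empty.2 hne
    have hcl : IsClosedMap (Points.map s) :=
      Groth.Agent.Helper5.ProperImg.isClosedMap_of_isUnivClosedMor (IsAlgSpace.yon_obj _) s hs1.2.2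
    have hC := hcl _ hM'cl
    let ψ := Points.schemeHomeo T
    have hC' : IsClosed (ψ ⁻¹' (Points.map s '' (Points.ofPt a '' M))) := hC.preimage ψ.continuous
    have key : ∀ m : ↥U.left, Points.map s (Points.ofPt a m) = ψ (h.left m) := by
      intro m
      rw [Points.map_ofPt, ← hh, ← AlgSpQC2.ofPt_eq_map_schemeHomeo, Points.map_yon_map_apply]
    have hmem : h.left m₀ ∈ ψ ⁻¹' (Points.map s '' (Points.ofPt a '' M)) :=
      ⟨Points.ofPt a m₀, ⟨m₀, hm₀, rfl⟩, key m₀⟩
    have hcp : IsLocalRing.closedPoint R ∈ ψ ⁻¹' (Points.map s '' (Points.ofPt a '' M)) :=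
      (IsLocalRing.specializes_closedPoint (R := R) (h.left m₀)).mem_closed hC' hmem
    obtain ⟨_, ⟨m, hm, rfl⟩, hm2⟩ := hcp
    rw [key] at hm2
    have hm3 : h.left m = IsLocalRing.closedPoint R := ψ.injective hm2
    exact hm (Groth.Agent.Helper5.RedDvr.isReduced_stalk_closedFibre h.left hfib m hm3)
  haveI hUred : IsReduced U.left := by
    have : ∀ u : ↥U.left, _root_.IsReduced (U.left.presheaf.stalk u) := by
      intro u
      by_contra hu
      have : u ∈ M := hu
      rw [hMempty] at this
      exact this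
    exact isReduced_of_isReduced_stalk _
  refine ⟨⟨U, a, hae, has, hUred⟩, ?_⟩
  intro Xη fst snd sq
  let jK : Over.mk (Spec.map (CommRingCat.ofHom (algebraMap R (FractionRing R)))) ⟶ T :=
    Over.homMk (Spec.map (CommRingCat.ofHom (algebraMap R (FractionRing R)))) (Category.comp_id _)
  obtain ⟨b, sqb⟩ := exists_chart_bc s a h hh.symm jK fst snd sq
  have hbe : RepWith @Etale b := MorphismProperty.of_isPullback (P := RepWith @Etale) sqb.flip hae
  have hbs : RepWith @Surjective b :=
    MorphismProperty.of_isPullback (P := RepWith @Surjective) sqb.flip has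
  refine ⟨bcOver h jK, b, hbe, hbs, ?_⟩
  show IsReduced (pullback h.left (Spec.map (CommRingCat.ofHom (algebraMap R (FractionRing R)))))
  haveI : IsPreimmersion (Spec.map (CommRingCat.ofHom (algebraMap R (FractionRing R)))) :=
    IsPreimmersion.of_isLocalization (nonZeroDivisors R)
  haveI : Flat (Spec.map (CommRingCat.ofHom (algebraMap R (FractionRing R)))) := by
    rw [Flat.SpecMap_iff, CommRingCat.hom_ofHom, RingHom.flat_algebraMap_iff]
    exact IsLocalization.flat _ (nonZeroDivisors R)
  exact Groth.Agent.Helper5.RedFib.isReduced_of_flat_preimmersion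
    (pullback.fst h.left (Spec.map (CommRingCat.ofHom (algebraMap R (FractionRing R)))))

end Groth.Agent.Helper5.RedDvrSp
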