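import Mathlib

set_option autoImplicit false
open TensorProduct
universe u

namespace Groth.Agent.Helper5.RedFree1

section Local
variable {A : Type*} [CommRing A] [IsLocalRing A] {N : Type*} [AddCommGroup N] [Module A N]
  [Module.Finite A N]

/-- Nakayama: a finite module over a local ring is generated by (fibre rank) many elements. -/
theorem exists_span_eq_top :
    ∃ v : Fin (Module.finrank (IsLocalRing.ResidueField A) (IsLocalRing.ResidueField A ⊗[A] N)) → N,
      Submodule.span A (Set.range v) = ⊤ := by
  let b := Module.finBasis (IsLocalRing.ResidueField A) (IsLocalRing.ResidueField A ⊗[A] N)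
  have hs : Function.Surjective (TensorProduct.mk A (IsLocalRing.ResidueField A) N 1) :=
    TensorProduct.mk_surjective A N (IsLocalRing.ResidueField A) IsLocalRing.residue_surjective
  choose f hf using fun i => hs (b i)
  exact ⟨f, IsLocalRing.span_eq_top_of_tmul_eq_basis f b hf⟩

theorem mem_maximalIdeal_of_sum_eq_zero {r : ℕ}
    (hr : Module.finrank (IsLocalRing.ResidueField A) (IsLocalRing.ResidueField A ⊗[A] N) = r)
    (v : Fin r → N) (hv : Submodule.span A (Set.range v) = ⊤) (c : Fin r → A)
    (hc : ∑ i, c i • v i = 0) (i : Fin r) : c i ∈ IsLocalRing.maximalIdeal A := by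
  have hspan : Submodule.span (IsLocalRing.ResidueField A)
      (Set.range fun i => (1 : IsLocalRing.ResidueField A) ⊗ₜ[A] v i) = ⊤ := by
    have h1 := Submodule.baseChange_span (R := A) (A := IsLocalRing.ResidueField A) (Set.range v)
    rw [hv, Submodule.baseChange_top] at h1
    rw [h1, ← Set.range_comp]
    rfl
  have hli : LinearIndependent (IsLocalRing.ResidueField A)
      (fun i => (1 : IsLocalRing.ResidueField A) ⊗ₜ[A] v i) :=
    linearIndependent_of_top_le_span_of_card_eq_finrank hspan.ge (by simp [hr])
  have h0 : ∑ i, (IsLocalRing.residue A (c i)) • ((1 : IsLocalRing.ResidueField A) ⊗ₜ[A] v i) = 0 := by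
    have := congrArg (TensorProduct.mk A (IsLocalRing.ResidueField A) N 1) hc
    rw [map_sum, map_zero] at this
    rw [← this]
    refine Finset.sum_congr rfl fun i _ => ?_
    rw [map_smul, TensorProduct.mk_apply, TensorProduct.smul_tmul', TensorProduct.smul_tmul',
      smul_eq_mul, mul_one, Algebra.smul_def, mul_one]
    rfl
  have := Fintype.linearIndependent_iff.mp hli _ h0 i
  exact (IsLocalRing.residue_eq_zero_iff _).mp this

end Local

section Global
variable {B : Type u} [CommRing B] {N : Type u} [AddCommGroup N] [Module B N]

/-- uniform denominator on a finite module -/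
theorem exists_smul_mem_of_finite [Module.Finite B N] (S : Submonoid B) (M' : Submodule B N)
    (h : ∀ n : N, ∃ t ∈ S, t • n ∈ M') : ∃ a ∈ S, ∀ n : N, a • n ∈ M' := by
  classical
  obtain ⟨T, hT⟩ := (Module.Finite.fg_top : (⊤ : Submodule B N).FG)
  choose t ht htn using h
  refine ⟨∏ n ∈ T, t n, Submonoid.prod_mem _ fun n _ => ht n, fun n => ?_⟩
  have hn : n ∈ Submodule.span B (T : Set N) := hT ▸ Submodule.mem_top
  induction hn using Submodule.span_induction with
  | mem x hx =>
    rw [← Finset.mul_prod_erase T t hx, mul_comm, mul_smul]
    exact M'.smul_mem _ (htn x)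
  | zero => simp
  | add x y _ _ hx hy => rw [smul_add]; exact M'.add_mem hx hy
  | smul b x _ hx => rw [smul_comm]; exact M'.smul_mem _ hx

theorem exists_equiv_away [IsReduced B] {r : ℕ} (m : Fin r → N) (a : B)
    (hspan : ∀ n : N, a • n ∈ Submodule.span B (Set.range m))
    (hind : ∀ q : Ideal B, q.IsPrime → a ∉ q → ∀ c : Fin r → B,
      (∃ t, t ∉ q ∧ t • ∑ i, c i • m i = 0) → ∀ i, c i ∈ q) :
    Nonempty (LocalizedModule.Away a N ≃ₗ[Localization.Away a] (Fin r →₀ Localization.Away a)) := by
  classical
  let g : N →ₗ[B] LocalizedModule.Away a N := LocalizedModule.mkLinearMap (Submonoid.powers a) N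
  let φ : (Fin r →₀ Localization.Away a) →ₗ[Localization.Away a] LocalizedModule.Away a N :=
    Finsupp.linearCombination (Localization.Away a) (fun i => g (m i))
  have ha : IsUnit (algebraMap B (Localization.Away a) a) :=
    IsLocalization.map_units (Localization.Away a) (⟨a, Submonoid.mem_powers a⟩ : Submonoid.powers a)
  have hsurj : Function.Surjective φ := by
    rw [← LinearMap.range_eq_top, Finsupp.range_linearCombination, eq_top_iff]
    rintro x -
    obtain ⟨⟨n, s⟩, rfl⟩ := IsLocalizedModule.mk'_surjective (Submonoid.powers a) g x
    have h1 : g (a • n) ∈ Submodule.span (Localization.Away a) (Set.range fun i => g (m i)) := by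
      have h2 := hspan n
      have h3 : Submodule.span B (Set.range m) ≤
          Submodule.comap g ((Submodule.span (Localization.Away a)
            (Set.range fun i => g (m i))).restrictScalars B) := by
        rw [Submodule.span_le]
        rintro _ ⟨i, rfl⟩
        exact Submodule.subset_span ⟨i, rfl⟩
      exact h3 h2
    have h4 : IsLocalizedModule.mk' g n s =
        (ha.unit⁻¹ : (Localization.Away a)ˣ).1 • IsLocalization.mk' (Localization.Away a) 1 s •
          g (a • n) := by
      rw [IsLocalizedModule.mk'_eq_iff]
      have e1 : (s : B) • ((ha.unit⁻¹ : (Localization.Away a)ˣ).1 •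
          IsLocalization.mk' (Localization.Away a) (1 : B) s • g (a • n)) =
          ((algebraMap B (Localization.Away a) (s : B)) * (ha.unit⁻¹ : (Localization.Away a)ˣ).1 *
            IsLocalization.mk' (Localization.Away a) (1 : B) s *
              algebraMap B (Localization.Away a) a) • g n := by
        rw [map_smul, ← algebraMap_smul (Localization.Away a) (s : B),
          ← algebraMap_smul (Localization.Away a) a (g n)]
        simp only [smul_smul, mul_assoc]
      rw [Submonoid.smul_def, e1]
      have e2 : (algebraMap B (Localization.Away a) (s : B)) *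
          (ha.unit⁻¹ : (Localization.Away a)ˣ).1 *
            IsLocalization.mk' (Localization.Away a) (1 : B) s *
              algebraMap B (Localization.Away a) a = 1 := by
        have h5 : algebraMap B (Localization.Away a) (s : B) *
            IsLocalization.mk' (Localization.Away a) (1 : B) s = 1 := by
          rw [IsLocalization.mk'_spec', map_one]
        have h6 : (ha.unit⁻¹ : (Localization.Away a)ˣ).1 * algebraMap B (Localization.Away a) a = 1 :=
          ha.val_inv_mul
        calc _ = (algebraMap B (Localization.Away a) (s : B) *
            IsLocalization.mk' (Localization.Away a) (1 : B) s) *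
              ((ha.unit⁻¹ : (Localization.Away a)ˣ).1 * algebraMap B (Localization.Away a) a) := by
              ring
          _ = 1 := by rw [h5, h6, one_mul]
      rw [e2, one_smul]
    rw [Function.uncurry_apply_pair, h4]
    exact Submodule.smul_mem _ _ (Submodule.smul_mem _ _ h1)
  have hinj : Function.Injective φ := by
    rw [← LinearMap.ker_eq_bot, LinearMap.ker_eq_bot']
    intro x hx
    obtain ⟨b, hb⟩ := IsLocalization.exist_integer_multiples_of_finite (Submonoid.powers a)
      (fun i => x i)
    choose c hc using hb
    have h1 : g (∑ i, c i • m i) = 0 := by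
      have h0 : φ (algebraMap B (Localization.Away a) (b : B) • x) = 0 := by
        rw [map_smul, hx, smul_zero]
      rw [← h0, map_sum, Finsupp.linearCombination_apply, Finsupp.sum_fintype _ _ (by simp)]
      refine Finset.sum_congr rfl fun i _ => ?_
      rw [map_smul, ← algebraMap_smul (Localization.Away a) (c i), hc i, Algebra.smul_def]
      rfl
    obtain ⟨t, ht⟩ := (IsLocalizedModule.eq_zero_iff (Submonoid.powers a) g).mp h1
    have hc0 : ∀ i, a * c i = 0 := by
      intro i
      apply IsReduced.eq_zero
      rw [nilpotent_iff_mem_prime]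
      intro q hq
      by_cases haq : a ∈ q
      · exact q.mul_mem_right _ haq
      · refine q.mul_mem_left _ (hind q hq haq c ⟨t, ?_, ht⟩ i)
        obtain ⟨k, hk⟩ := t.2
        rw [← hk]
        exact fun h => haq (hq.mem_of_pow_mem _ h)
    ext i
    have h2 : algebraMap B (Localization.Away a) (c i) = 0 := by
      have h2 := congrArg (algebraMap B (Localization.Away a)) (hc0 i)
      rw [map_mul, map_zero] at h2
      exact (ha.mul_right_eq_zero).mp h2
    have h3 := hc i
    rw [h2, Algebra.smul_def] at h3
    have hb' : IsUnit (algebraMap B (Localization.Away a) (b : B)) :=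
      IsLocalization.map_units _ b
    exact (hb'.mul_right_eq_zero.mp h3.symm)
  exact ⟨(LinearEquiv.ofBijective φ ⟨hinj, hsurj⟩).symm⟩

end Global

end Groth.Agent.Helper5.RedFree1
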