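import Mathlib
import Groth.Agent.Helper5.RedFree1

set_option autoImplicit false
open TensorProduct
universe u

namespace Groth.Agent.Helper5.RedFree2
open Groth.Agent.Helper5.RedFree1

variable {B : Type u} [CommRing B] {N : Type u} [AddCommGroup N] [Module B N]
  (q : Ideal B) [q.IsPrime] (A : Type u) [CommRing A] [Algebra B A] [IsLocalization.AtPrime A q]
  [IsLocalRing A]
  {N' : Type u} [AddCommGroup N'] [Module B N'] [Module A N'] [IsScalarTower B A N']
  (g : N →ₗ[B] N') [IsLocalizedModule q.primeCompl g]

include q in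
theorem span_germ_eq_top {r : ℕ} (m : Fin r → N) (a : B) (ha : a ∉ q)
    (hspan : ∀ n : N, a • n ∈ Submodule.span B (Set.range m)) :
    Submodule.span A (Set.range fun i => g (m i)) = ⊤ := by
  rw [eq_top_iff]
  rintro x -
  obtain ⟨⟨n, s⟩, rfl⟩ := IsLocalizedModule.mk'_surjective q.primeCompl g x
  have h1 : g (a • n) ∈ Submodule.span A (Set.range fun i => g (m i)) := by
    have h3 : Submodule.span B (Set.range m) ≤
        Submodule.comap g ((Submodule.span A (Set.range fun i => g (m i))).restrictScalars B) := by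
      rw [Submodule.span_le]
      rintro _ ⟨i, rfl⟩
      exact Submodule.subset_span ⟨i, rfl⟩
    exact h3 (hspan n)
  have hu : IsUnit (algebraMap B A ((s : B) * a)) :=
    IsLocalization.map_units A (⟨(s : B) * a, q.primeCompl.mul_mem s.2 ha⟩ : q.primeCompl)
  have h4 : IsLocalizedModule.mk' g n s = (hu.unit⁻¹ : Aˣ).1 • g (a • n) := by
    have h5 : algebraMap B A ((s : B) * a) • IsLocalizedModule.mk' g n s = g (a • n) := by
      rw [algebraMap_smul, mul_comm, mul_smul, ← Submonoid.smul_def, IsLocalizedModule.mk'_cancel',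
        map_smul]
    rw [← h5, smul_smul, IsUnit.val_inv_mul, one_smul]
  rw [Function.uncurry_apply_pair, h4]
  exact Submodule.smul_mem _ _ h1

include q in
theorem mem_of_relation [Module.Finite A N'] {r : ℕ}
    (hr : Module.finrank (IsLocalRing.ResidueField A) (IsLocalRing.ResidueField A ⊗[A] N') = r)
    (m : Fin r → N) (hsp : Submodule.span A (Set.range fun i => g (m i)) = ⊤)
    (c : Fin r → B) (t : B) (htq : t ∉ q) (ht : t • ∑ i, c i • m i = 0) (i : Fin r) : c i ∈ q := by
  have h1 : ∑ i, algebraMap B A (c i) • g (m i) = 0 := by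
    have h2 := congrArg g ht
    rw [map_smul, map_zero, map_sum] at h2
    have hu := IsLocalizedModule.map_units g (⟨t, htq⟩ : q.primeCompl)
    have h3 := ((Module.End.isUnit_iff _).mp hu).1
    have h4 : ∑ i, g (c i • m i) = 0 := by
      apply h3
      simp only [Module.algebraMap_end_apply, smul_zero]
      exact h2
    rw [← h4]
    refine Finset.sum_congr rfl fun i _ => ?_
    rw [map_smul, algebraMap_smul]
  have h5 := mem_maximalIdeal_of_sum_eq_zero hr (fun i => g (m i)) hsp _ h1 i
  exact (IsLocalization.AtPrime.to_map_mem_maximal_iff A q (c i)).mp h5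

include q g in
theorem exists_generators [Module.Finite B N] {r : ℕ}
    (hr : Module.finrank (IsLocalRing.ResidueField A) (IsLocalRing.ResidueField A ⊗[A] N') = r) :
    ∃ (m : Fin r → N) (a : B), a ∉ q ∧ ∀ n : N, a • n ∈ Submodule.span B (Set.range m) := by
  haveI : Module.Finite A N' := Module.Finite.of_isLocalizedModule q.primeCompl g
  subst hr
  obtain ⟨v, hv⟩ := exists_span_eq_top (A := A) (N := N')
  choose ms hms using fun i => IsLocalizedModule.surj q.primeCompl g (v i)
  let m := fun i => (ms i).1
  have hsp : Submodule.span A (g '' Set.range m) = ⊤ := by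
    rw [eq_top_iff, ← hv, Submodule.span_le]
    rintro _ ⟨i, rfl⟩
    have hu : IsUnit (algebraMap B A ((ms i).2 : B)) := IsLocalization.map_units A (ms i).2
    have h1 : v i = (hu.unit⁻¹ : Aˣ).1 • g (m i) := by
      have h0 : g (m i) = algebraMap B A ((ms i).2 : B) • v i := by
        rw [algebraMap_smul]
        exact (hms i).symm
      rw [h0, smul_smul, IsUnit.val_inv_mul, one_smul]
    rw [h1]
    exact Submodule.smul_mem _ _ (Submodule.subset_span ⟨m i, ⟨i, rfl⟩, rfl⟩)
  have hloc : ∀ n : N, ∃ t ∈ q.primeCompl, t • n ∈ Submodule.span B (Set.range m) := by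
    intro n
    have h2 : g n ∈ (Submodule.span B (Set.range m)).localized' A q.primeCompl g := by
      rw [Submodule.localized'_span, hsp]
      exact Submodule.mem_top
    obtain ⟨m', hm', s, hs⟩ := (Submodule.mem_localized' _ _ _ _ _).mp h2
    rw [IsLocalizedModule.mk'_eq_iff, Submonoid.smul_def, ← map_smul] at hs
    obtain ⟨t, ht⟩ := (IsLocalizedModule.eq_iff_exists q.primeCompl g).mp hs
    refine ⟨(t : B) * (s : B), q.primeCompl.mul_mem t.2 s.2, ?_⟩
    rw [mul_smul]
    have : (t : B) • (s : B) • n = (t : B) • m' := ht.symm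
    rw [this]
    exact Submodule.smul_mem _ _ hm'
  obtain ⟨a, ha, han⟩ := exists_smul_mem_of_finite q.primeCompl _ hloc
  exact ⟨m, a, ha, han⟩

end Groth.Agent.Helper5.RedFree2
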