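import Mathlib
import Groth.Agent.Helper5.RedFree2
import Groth.Agent.Helper4.FinLocFree7
import Groth.Statements.S9824

set_option autoImplicit false
open CategoryTheory Limits AlgebraicGeometry TopologicalSpace Opposite TensorProduct
universe u

namespace Groth.Agent.Helper5.RedFree3
open Groth.Agent.Helper5.RedFree1 Groth.Agent.Helper5.RedFree2
open Scheme.Modules Groth.Agent.Helper4.StalkDict Groth.Agent.Helper4.FinLocFree
  Groth.Agent.Helper4.FinLocFree2 Groth.Agent.Helper4.FinLocFree5 Groth.Agent.Helper4.FinLocFree7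
  Groth.Agent.Helper4

variable {X : Scheme.{u}} (F : X.Modules)

set_option backward.isDefEq.respectTransparency false in
theorem exists_isFreeAlong [IsReduced X] [F.IsQuasicoherent]
    (hft : SheafOfModules.IsFiniteType (R := X.ringCatSheaf) F)
    (x : X) (W : X.Opens) (hxW : x ∈ W) (r : ℕ)
    (hW : ∀ y ∈ W, Module.finrank (IsLocalRing.ResidueField (X.presheaf.stalk y))
      (IsLocalRing.ResidueField (X.presheaf.stalk y) ⊗[X.presheaf.stalk y] (F.presheaf.stalk y)) = r) :
    ∃ (V : X.Opens) (n : ℕ), x ∈ V ∧ IsFreeAlong F V.ι n := by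
  obtain ⟨U, hU, hxU, hUW⟩ := exists_affine_nhd_le x W hxW
  haveI : Module.Finite Γ(X, U) Γ(F, U) := SecDict.finite_sections hU F inferInstance hft
  obtain ⟨m, a, ha, hspan⟩ : ∃ (m : Fin r → Γ(F, U)) (a : Γ(X, U)),
      a ∉ (hU.primeIdealOf ⟨x, hxU⟩).asIdeal ∧
        ∀ n : Γ(F, U), a • n ∈ Submodule.span Γ(X, U) (Set.range m) := by
    letI := sectionModStalk F x hxU
    letI := X.presheaf.algebra_section_stalk ⟨x, hxU⟩
    haveI := hU.isLocalization_stalk ⟨x, hxU⟩
    haveI := isLocalizedModule_germ hU F x hxU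
    haveI : IsScalarTower Γ(X, U) (X.presheaf.stalk x) (F.presheaf.stalk x) :=
      IsScalarTower.of_algebraMap_smul (fun r m => rfl)
    exact exists_generators (hU.primeIdealOf ⟨x, hxU⟩).asIdeal (X.presheaf.stalk x)
      (germLin F x hxU) (hW x hxW)
  have hind : ∀ q : Ideal Γ(X, U), q.IsPrime → a ∉ q → ∀ c : Fin r → Γ(X, U),
      (∃ t, t ∉ q ∧ t • ∑ i, c i • m i = 0) → ∀ i, c i ∈ q := by
    intro q hq haq c ⟨t, htq, ht⟩ i
    obtain ⟨y, hy, hyq⟩ := exists_point_of_prime hU ⟨q, hq⟩
    have hyq' : (hU.primeIdealOf ⟨y, hy⟩).asIdeal = q := by rw [hyq]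
    subst hyq'
    letI := sectionModStalk F y hy
    letI := X.presheaf.algebra_section_stalk ⟨y, hy⟩
    haveI := hU.isLocalization_stalk ⟨y, hy⟩
    haveI := isLocalizedModule_germ hU F y hy
    haveI : IsScalarTower Γ(X, U) (X.presheaf.stalk y) (F.presheaf.stalk y) :=
      IsScalarTower.of_algebraMap_smul (fun r m => rfl)
    haveI := finite_stalk F hft y
    have hsp := span_germ_eq_top (hU.primeIdealOf ⟨y, hy⟩).asIdeal (X.presheaf.stalk y)
      (germLin F y hy) m a haq hspan
    exact mem_of_relation (hU.primeIdealOf ⟨y, hy⟩).asIdeal (X.presheaf.stalk y)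
      (germLin F y hy) (hW y (hUW hy)) m hsp c t htq ht i
  haveI : _root_.IsReduced Γ(X, U) := inferInstance
  obtain ⟨e⟩ := exists_equiv_away m a hspan hind
  exact ⟨X.basicOpen a, r, (mem_basicOpen_iff_notMem_primeIdealOf hU x hxU a).mpr ha,
    isFreeAlong_basicOpen_of_free_away F hU a r e⟩

end Groth.Agent.Helper5.RedFree3

namespace Groth.Agent.Helper5.RedFree3
open Groth.Agent.Helper5.RedFree1 Groth.Agent.Helper5.RedFree2
open Scheme.Modules Groth.Agent.Helper4.StalkDict Groth.Agent.Helper4.FinLocFree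
  Groth.Agent.Helper4.FinLocFree2 Groth.Agent.Helper4.FinLocFree5 Groth.Agent.Helper4.FinLocFree7
  Groth.Agent.Helper4

theorem s9824 (X : Scheme.{u}) [IsReduced X]
    (M : X.Modules) [Coh.IsQCoh M] :
    FlatMod.IsFinLocFree M ↔ CohB1.IsFT M ∧
      IsLocallyConstant (fun x : X => Module.finrank (IsLocalRing.ResidueField (X.presheaf.stalk x))
          (TensorProduct (X.presheaf.stalk x) (IsLocalRing.ResidueField (X.presheaf.stalk x)) (M.presheaf.stalk x))) := by
  constructor
  · intro h
    refine ⟨isFiniteType_of_isFinitePresentation M (isFinitePresentation_of_isFinLocFree M h), ?_⟩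
    rw [IsLocallyConstant.iff_exists_open]
    intro x
    obtain ⟨V, n, hxV, hV⟩ := h x
    have key : ∀ y ∈ V, Module.finrank (IsLocalRing.ResidueField (X.presheaf.stalk y))
          (TensorProduct (X.presheaf.stalk y) (IsLocalRing.ResidueField (X.presheaf.stalk y))
            (M.presheaf.stalk y)) = n := by
      intro y hy
      obtain ⟨b⟩ := nonempty_basis_stalk_of_isFreeAlong M hV y hy
      haveI := Module.Free.of_basis b
      rw [Module.finrank_baseChange, Module.finrank_eq_card_basis b, Fintype.card_fin]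
    exact ⟨V.1, V.2, hxV, fun y hy => (key y hy).trans (key x hxV).symm⟩
  · rintro ⟨hft, hlc⟩
    intro x
    let W : X.Opens := ⟨{y | Module.finrank (IsLocalRing.ResidueField (X.presheaf.stalk y))
          (TensorProduct (X.presheaf.stalk y) (IsLocalRing.ResidueField (X.presheaf.stalk y))
            (M.presheaf.stalk y)) = Module.finrank (IsLocalRing.ResidueField (X.presheaf.stalk x))
          (TensorProduct (X.presheaf.stalk x) (IsLocalRing.ResidueField (X.presheaf.stalk x))
            (M.presheaf.stalk x))}, hlc.isOpen_fiber _⟩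
    exact exists_isFreeAlong M hft x W rfl _ (fun y hy => hy)

end Groth.Agent.Helper5.RedFree3
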