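import Mathlib
import Groth.Prelude
import Groth.Agent.Helper5.RedGrp7

set_option autoImplicit false
set_option linter.unusedSectionVars false
set_option linter.style.haveILetI false
universe u

open AlgebraicGeometry CategoryTheory CategoryTheory.Limits TopologicalSpace
open MonoidalCategory CartesianMonoidalCategory MonObj GrpObj

namespace Groth.Agent.Helper5.RedGrp

section
variable {S : Scheme.{u}} (G H : Over S) [GrpObj G] [GrpObj H] (u : G ⟶ H) [IsMonHom u]
  (N : Over S) (i : N ⟶ G) (hN : AlgGrp.IsKernel i u)

include hN in
/-- the kernel of a monomorphism is trivial -/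
theorem isIso_toUnit_of_mono [Mono u] : IsIso (toUnit N) := by
  haveI : Mono (toUnit N) :=
    (MorphismProperty.monomorphisms _).of_isPullback hN (MorphismProperty.monomorphisms.infer_property u)
  let e := Groth.Agent.Helper5.IsogInj.e u i hN
  have he : e ≫ toUnit N = 𝟙 _ := toUnit_unique _ _
  refine ⟨e, ?_, he⟩
  rw [← cancel_mono (toUnit N), Category.assoc, he, Category.comp_id, Category.id_comp]

include hN in
theorem isIso_kernel_hom_of_mono [Mono u] : IsIso N.hom := by
  haveI := isIso_toUnit_of_mono G H u N i hN
  rw [← Groth.Agent.Helper5.FibGrp.toUnit_left]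
  exact (Over.forget S).map_isIso (toUnit N)

end

theorem s3036 (A : Type u) [CommRing A] [IsArtinianRing A] [IsLocalRing A]
    (G H : Over (Spec (CommRingCat.of A))) [GrpObj G] [GrpObj H] [LocallyOfFiniteType G.hom]
    (u : G ⟶ H) [IsMonHom u] [Mono u] [QuasiCompact u.left] : IsClosedImmersion u.left := by
  obtain ⟨N, i, hN⟩ := Groth.Agent.Helper5.FibGrp.exists_kernel G H u
  haveI := isIso_kernel_hom_of_mono G H u N i hN
  haveI : Mono u.left := (Over.forget _).map_mono u
  rw [IsClosedImmersion.iff_isProper_and_mono]
  exact ⟨isProper_of_kernel A G H u N i hN inferInstance, inferInstance⟩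

end Groth.Agent.Helper5.RedGrp
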