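import Mathlib
import Groth.Prelude
import Groth.Agent.Helper5.RedGrp8

set_option autoImplicit false
set_option linter.unusedSectionVars false
set_option linter.style.haveILetI false
universe u

open AlgebraicGeometry CategoryTheory CategoryTheory.Limits TopologicalSpace
open MonoidalCategory CartesianMonoidalCategory MonObj GrpObj

namespace Groth.Agent.Helper5.RedGrp

section
variable (A : Type u) [CommRing A] [IsArtinianRing A] [IsLocalRing A]

/-- a quasi-compact scheme locally of finite type over a local artinian ring with discrete
underlying space is universally closed over it -/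
theorem universallyClosed_of_discrete {X : Scheme.{u}} (f : X ⟶ Spec (CommRingCat.of A))
    [QuasiCompact f] [LocallyOfFiniteType f] [DiscreteTopology X] :
    LocallyQuasiFinite f ∧ UniversallyClosed f := by
  haveI : CompactSpace X := QuasiCompact.compactSpace_of_compactSpace f
  haveI : Finite X := finite_of_compact_of_discrete
  haveI hq : LocallyQuasiFinite f :=
    locallyQuasiFinite_iff_finite_preimage_singleton.2 fun x => Set.toFinite _
  refine ⟨hq, ?_⟩
  haveI : Subsingleton (Spec (CommRingCat.of A)) := by
    show Subsingleton (PrimeSpectrum A)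
    infer_instance
  haveI : DiscreteTopology (Spec (CommRingCat.of A)) := by
    show DiscreteTopology (PrimeSpectrum A)
    infer_instance
  let x : Spec (CommRingCat.of A) := IsLocalRing.closedPoint A
  haveI : IsClosedImmersion ((Spec (CommRingCat.of A)).fromSpecResidueField x) :=
    isClosed_singleton_iff_isClosedImmersion.1 (isClosed_discrete _)
  haveI : Surjective ((Spec (CommRingCat.of A)).fromSpecResidueField x) := by
    constructor
    intro y
    exact ⟨IsLocalRing.closedPoint _, Subsingleton.elim _ _⟩
  haveI : Surjective (f.fiberι x) :=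
    MorphismProperty.pullback_fst (P := @Surjective) _ _ ‹_›
  haveI : UniversallyClosed (f.fiberι x ≫ f) := by
    rw [Scheme.Hom.fiber_fac]
    infer_instance
  exact UniversallyClosed.of_comp_surjective (f.fiberι x) f

theorem discrete_of_isFinite {X : Scheme.{u}} (f : X ⟶ Spec (CommRingCat.of A))
    [IsFinite f] : DiscreteTopology X := by
  haveI : Subsingleton (Spec (CommRingCat.of A)) := by
    show Subsingleton (PrimeSpectrum A)
    infer_instance
  let x : Spec (CommRingCat.of A) := IsLocalRing.closedPoint A
  have h := f.isDiscrete_preimage_singleton x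
  have : f ⁻¹' {x} = Set.univ := by
    ext y
    simp only [Set.mem_preimage, Set.mem_singleton_iff, Set.mem_univ, iff_true]
    exact Subsingleton.elim _ _
  rw [this] at h
  exact isDiscrete_univ_iff.1 h

variable (G H : Over (Spec (CommRingCat.of A))) [GrpObj G] [GrpObj H] (u : G ⟶ H) [IsMonHom u]
  [QuasiCompact u.left] [LocallyOfFiniteType G.hom]
  (N : Over (Spec (CommRingCat.of A))) (i : N ⟶ G) (hN : AlgGrp.IsKernel i u)

include hN in
theorem isFinite_iff_discrete_kernel : IsFinite u.left ↔ DiscreteTopology N.left := by
  haveI : DiscreteTopology (Spec (CommRingCat.of A)) := by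
    show DiscreteTopology (PrimeSpectrum A)
    infer_instance
  haveI : IsSeparated G.hom := Groth.Agent.S5331.result _ G
  haveI : IsSeparated u.left := by
    haveI : IsSeparated (u.left ≫ H.hom) := by rw [Over.w u]; infer_instance
    exact IsSeparated.of_comp u.left H.hom
  haveI : LocallyOfFiniteType u.left := by
    haveI : LocallyOfFiniteType (u.left ≫ H.hom) := by rw [Over.w u]; infer_instance
    exact locallyOfFiniteType_of_comp u.left H.hom
  constructor
  · intro h
    haveI : IsFinite N.hom := Groth.Agent.Helper5.FibGrp.kernel_of G H u N i hN @IsFinite h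
    exact discrete_of_isFinite A N.hom
  · intro h
    haveI : QuasiCompact N.hom :=
      Groth.Agent.Helper5.FibGrp.kernel_of G H u N i hN @QuasiCompact inferInstance
    haveI : LocallyOfFiniteType N.hom :=
      Groth.Agent.Helper5.FibGrp.kernel_of G H u N i hN @LocallyOfFiniteType inferInstance
    haveI : IsSeparated N.hom :=
      Groth.Agent.Helper5.FibGrp.kernel_of G H u N i hN @IsSeparated inferInstance
    obtain ⟨hq, huc⟩ := universallyClosed_of_discrete A N.hom
    have hp : IsProper N.hom := { }
    rw [IsFinite.iff_isProper_and_locallyQuasiFinite]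
    exact ⟨isProper_of_kernel A G H u N i hN hp,
      Groth.Agent.Helper5.FibGrp.lqf_of_kernel G H u N i hN hq⟩

end

theorem s3037 (A : Type u) [CommRing A] [IsArtinianRing A] [IsLocalRing A]
    (G H : Over (Spec (CommRingCat.of A))) [GrpObj G] [GrpObj H] [LocallyOfFiniteType G.hom]
    (u : G ⟶ H) [IsMonHom u] [QuasiCompact u.left] :
    IsFinite u.left ↔ DiscreteTopology ↥(pullback u.left
      (η[H] : 𝟙_ (Over (Spec (CommRingCat.of A))) ⟶ H).left) := by
  obtain ⟨N, i, hN⟩ := Groth.Agent.Helper5.FibGrp.exists_kernel G H u
  rw [isFinite_iff_discrete_kernel A G H u N i hN]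
  obtain ⟨e, -, -⟩ := kernel_hom_eq G H u N i hN
  let φ := Scheme.homeoOfIso e
  exact ⟨fun _ => φ.symm.isEmbedding.discreteTopology, fun _ => φ.isEmbedding.discreteTopology⟩

end Groth.Agent.Helper5.RedGrp
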