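import Groth.Agent.Helper5.ProperImg1
import Groth.Agent.Helper5.SchImg3
import Groth.Agent.S10192
import Groth.Agent.S10193
import Mathlib

set_option autoImplicit false
universe u
open CategoryTheory CategoryTheory.Limits AlgebraicGeometry Opposite

namespace Groth.Agent.Helper5.RedImg

open AlgSp

variable {S : Scheme.{u}}

theorem isReducedSp_of_iso {Z W : Sp S} (e : W ≅ Z) (hW : IsReducedSp W) : IsReducedSp Z := by
  obtain ⟨U, p, h1, h2, h3⟩ := hW
  exact ⟨U, p ≫ e.hom, MorphismProperty.RespectsIso.postcomp _ _ _ h1,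
    MorphismProperty.RespectsIso.postcomp _ _ _ h2, h3⟩

/-- The reduced induced structure on the closure of the image of a morphism from a reduced space is
its scheme theoretic image. -/
theorem isSchImage_of_isRedInduced {X Y Z : Space S} (f : X ⟶ Y) (i : Z ⟶ Y)
    (hX : IsReducedSp X.obj)
    (hi : IsRedInduced (closure (Set.range (Points.map f.hom))) i.hom) :
    IsSchImage f.hom i.hom := by
  obtain ⟨h1, h2, h3⟩ := hi
  refine ⟨h1, ?_, ?_⟩
  · obtain ⟨g, hg⟩ := (Groth.Agent.S10193.result i h1 hX f).2 (by rw [h2]; exact subset_closure)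
    exact ⟨g.hom, by rw [← hg]; rfl⟩
  · intro Z' i' hZ' hi' ⟨f'', hf''⟩
    let Z'' : Space S := ⟨Z', hZ'⟩
    let j : Z'' ⟶ Y := ObjectProperty.homMk i'
    have hcl : IsClosed (Set.range (Points.map i')) :=
      Groth.Agent.Helper5.ProperImg.isClosed_range_of_closedImmersion Y.property i' hi'
    have hsub : Set.range (Points.map i.hom) ⊆ Set.range (Points.map j.hom) := by
      rw [h2]
      refine closure_minimal ?_ hcl
      rw [← hf'', Groth.Agent.Helper5.ProperImg.range_comp]
      exact Set.image_subset_range _ _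
    obtain ⟨k, hk⟩ := (Groth.Agent.S10193.result j hi' h3 i).2 hsub
    exact ⟨k.hom, by rw [← hk]; rfl⟩

theorem s9966 {X Y Z : Space S} (f : X ⟶ Y) (i : Z ⟶ Y)
    (hX : IsReducedSp X.obj) (hZ : IsSchImage f.hom i.hom) :
    IsRedInduced (closure (Set.range (Points.map f.hom))) i.hom := by
  obtain ⟨W, w, hw⟩ := Groth.Agent.S10192.result Y (closure (Set.range (Points.map f.hom)))
    isClosed_closure
  have hW := isSchImage_of_isRedInduced f w hX hw
  obtain ⟨e, he⟩ := Groth.Agent.Helper5.SchImg.isSchImage_unique W.property Z.property f.hom w.hom i.hom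
    hW hZ
  refine ⟨hZ.1, ?_, isReducedSp_of_iso e hw.2.2⟩
  rw [← hw.2.1, ← he, Groth.Agent.Helper5.ProperImg.range_comp]
  have hs : Function.Surjective (Points.map e.hom) := by
    intro z
    refine ⟨Points.map e.inv z, ?_⟩
    rw [← Points.map_comp, e.inv_hom_id, Points.map_id]
  rw [hs.range_eq, Set.image_univ]

end Groth.Agent.Helper5.RedImg
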