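import Groth.Agent.Helper5.RedImg1
import Groth.Agent.Helper5.AlgSpEt
import Groth.Agent.Helper4.AlgSpPtsDesc
import Groth.Agent.Helper4.AlgSpSrc
import Groth.Agent.S10564
import Mathlib

set_option autoImplicit false
universe u
open CategoryTheory CategoryTheory.Limits AlgebraicGeometry Opposite

namespace Groth.Agent.Helper5.RedImg

open AlgSp

variable {S : Scheme.{u}}

theorem isUnivOpenMor_of_isEtaleMor {V Y : Sp S} (hV : IsAlgSpace V) (b : V ⟶ Y)
    (hb : IsEtaleMor b) : IsUnivOpenMor b := by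
  obtain ⟨U, u, hue, hus⟩ := hV.atlas
  have h1 : RepWith @Etale (u ≫ b) := hb u hue
  have h2 : IsUnivOpenMor (u ≫ b) :=
    Groth.Agent.Helper4.AlgSpPtsDesc.isUnivOpenMor_of_repWith _
      (Groth.Agent.Helper4.AlgSpSrc.repWith_mono (fun g hg => by
        have : Etale g := hg
        infer_instance) h1)
  exact Groth.Agent.Helper4.AlgSpSrc.univOpen_of_precomp_surjective u b hus h2

theorem isOpenMap_of_isEtaleMor {V Y : Sp S} (hV : IsAlgSpace V) (hY : IsAlgSpace Y) (b : V ⟶ Y)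
    (hb : IsEtaleMor b) : IsOpenMap (Points.map b) :=
  isUnivOpenMor_of_isEtaleMor hV b hb hY (𝟙 _) (𝟙 _) b (IsPullback.of_horiz_isIso ⟨by simp⟩)

theorem locP_smooth_of_isEtaleMor {V Y : Sp S} (b : V ⟶ Y) (hb : IsEtaleMor b) :
    LocP @Smooth b := by
  intro U W a c h ha hc hcomm
  let EU : EtOver Y := EtOver.mk (a ≫ b) (hb a ha)
  let EW : EtOver Y := EtOver.mk c hc
  let m : EU ⟶ EW := EtOver.homMk h hcomm.symm
  haveI : Etale h.left := EtOver.etale_left m
  infer_instance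

theorem isReducedSp_of_isEtaleMor {V Y : Space S} (b : V ⟶ Y) (hb : IsEtaleMor b.hom)
    (hY : IsReducedSp Y.obj) : IsReducedSp V.obj :=
  (Groth.Agent.S10564.result b (locP_smooth_of_isEtaleMor b.hom hb)).1 hY

theorem range_eq_preimage_of_isPullback {P X Y V : Sp S} {fst : P ⟶ X} {snd : P ⟶ V} {f : X ⟶ Y}
    {b : V ⟶ Y} (sq : IsPullback fst snd f b) :
    Set.range (Points.map snd) = Points.map b ⁻¹' Set.range (Points.map f) := by
  ext v
  constructor
  · rintro ⟨p, rfl⟩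
    refine ⟨Points.map fst p, ?_⟩
    rw [← Points.map_comp, ← Points.map_comp, sq.w]
  · rintro ⟨x, hx⟩
    obtain ⟨p, -, hp⟩ := Groth.Agent.Helper4.AlgSpPtsDesc.exists_point_of_isPullback sq x v hx
    exact ⟨p, hp⟩

theorem s12193 {X Y Z V XV ZV : Space S} (f : X ⟶ Y)
    (i : Z ⟶ Y) (hX : IsReducedSp X.obj) (hZ : IsSchImage f.hom i.hom) (b : V ⟶ Y)
    (hb : IsEtaleMor b.hom) (f₁ : XV ⟶ X) (fV : XV ⟶ V) (i₁ : ZV ⟶ Z) (iV : ZV ⟶ V)
    (sqX : IsPullback f₁.hom fV.hom f.hom b.hom) (sqZ : IsPullback i₁.hom iV.hom i.hom b.hom) :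
    IsSchImage fV.hom iV.hom := by
  have hZr := s9966 f i hX hZ
  have hf₁ : IsEtaleMor f₁.hom :=
    Groth.Agent.Helper5.AlgSpEt.isEtaleMor_of_isPullback V.property X.property sqX hb
  have hi₁ : IsEtaleMor i₁.hom :=
    Groth.Agent.Helper5.AlgSpEt.isEtaleMor_of_isPullback V.property Z.property sqZ hb
  have hXV : IsReducedSp XV.obj := isReducedSp_of_isEtaleMor f₁ hf₁ hX
  have hZV : IsReducedSp ZV.obj := isReducedSp_of_isEtaleMor i₁ hi₁ hZr.2.2
  have hiV : RepWith @IsClosedImmersion iV.hom :=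
    (RepWith (S := S) @IsClosedImmersion).of_isPullback sqZ hZ.1
  apply isSchImage_of_isRedInduced fV iV hXV
  refine ⟨hiV, ?_, hZV⟩
  rw [range_eq_preimage_of_isPullback sqZ, range_eq_preimage_of_isPullback sqX, hZr.2.1]
  exact (isOpenMap_of_isEtaleMor V.property Y.property b.hom hb).preimage_closure_eq_closure_preimage
    (Points.continuous_map b.hom) _

end Groth.Agent.Helper5.RedImg
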