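import Mathlib

/-!
# Helper5: a field-valued point of a fibre product of prime spectra
-/

set_option autoImplicit false
universe u
open CategoryTheory CategoryTheory.Limits AlgebraicGeometry

namespace Groth.Agent.Helper5.RefVC

/-- the kernel of a ring map to a field is the image of the point of its spectrum -/
theorem specMap_point_asIdeal {P : Type u} [CommRing P] {κ : CommRingCat.{u}}
    (hκ : ∀ s : PrimeSpectrum κ, s.asIdeal = ⊥)
    (θ : CommRingCat.of P ⟶ κ) (s : Spec κ) :
    (Spec.map θ s).asIdeal = RingHom.ker θ.hom := by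
  change (PrimeSpectrum.comap θ.hom s).asIdeal = _
  rw [PrimeSpectrum.comap_asIdeal, hκ s]
  rfl

/-- Two primes with the same contraction come from a point of the fibre product. -/
theorem exists_field_point {R R' P : Type u} [CommRing R] [CommRing R'] [CommRing P]
    (g : R →+* R') (c : R →+* P) (q' : Ideal R') [hq' : q'.IsPrime] (𝔮 : Ideal P)
    [h𝔮 : 𝔮.IsPrime] (h : q'.comap g = 𝔮.comap c) :
    ∃ (κ : Type u) (_ : Field κ) (δ : R' →+* κ) (θ : P →+* κ),
      δ.comp g = θ.comp c ∧ RingHom.ker θ = 𝔮 ∧ RingHom.ker δ = q' := by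
  let f₁ : Spec (.of R') ⟶ Spec (.of R) := Spec.map (CommRingCat.ofHom g)
  let f₂ : Spec (.of P) ⟶ Spec (.of R) := Spec.map (CommRingCat.ofHom c)
  let x : Spec (.of R') := (⟨q', hq'⟩ : PrimeSpectrum R')
  let y : Spec (.of P) := (⟨𝔮, h𝔮⟩ : PrimeSpectrum P)
  have hxy : f₁ x = f₂ y := by
    apply PrimeSpectrum.ext
    exact h
  obtain ⟨z, hz₁, hz₂⟩ := Scheme.Pullback.exists_preimage_pullback (f := f₁) (g := f₂) x y hxy
  let Z := pullback f₁ f₂
  let ζ : Spec (Z.residueField z) ⟶ Z := Z.fromSpecResidueField z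
  let δ₀ : CommRingCat.of R' ⟶ Z.residueField z := Spec.preimage (ζ ≫ pullback.fst f₁ f₂)
  let θ₀ : CommRingCat.of P ⟶ Z.residueField z := Spec.preimage (ζ ≫ pullback.snd f₁ f₂)
  have hδ₀ : Spec.map δ₀ = ζ ≫ pullback.fst f₁ f₂ := Spec.map_preimage _
  have hθ₀ : Spec.map θ₀ = ζ ≫ pullback.snd f₁ f₂ := Spec.map_preimage _
  have hκ : ∀ s : PrimeSpectrum (Z.residueField z), s.asIdeal = ⊥ := fun s =>
    Ideal.eq_bot_of_prime s.asIdeal
  refine ⟨Z.residueField z, inferInstance, δ₀.hom, θ₀.hom, ?_, ?_, ?_⟩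
  · have h1 : Spec.map (CommRingCat.ofHom g ≫ δ₀) = Spec.map (CommRingCat.ofHom c ≫ θ₀) := by
      rw [Spec.map_comp, Spec.map_comp, hδ₀, hθ₀, Category.assoc, Category.assoc]
      congr 1
      exact pullback.condition
    have h2 := Spec.map_injective h1
    have h3 := congrArg (fun t => t.hom) h2
    simpa using h3
  · have s : Spec (Z.residueField z) := (⊥ : PrimeSpectrum (Z.residueField z))
    rw [← specMap_point_asIdeal hκ θ₀ s, hθ₀]
    change ((ζ ≫ pullback.snd f₁ f₂) s).asIdeal = _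
    rw [Scheme.Hom.comp_apply, Scheme.fromSpecResidueField_apply, hz₂]
  · have s : Spec (Z.residueField z) := (⊥ : PrimeSpectrum (Z.residueField z))
    rw [← specMap_point_asIdeal hκ δ₀ s, hδ₀]
    change ((ζ ≫ pullback.fst f₁ f₂) s).asIdeal = _
    rw [Scheme.Hom.comp_apply, Scheme.fromSpecResidueField_apply, hz₁]

end Groth.Agent.Helper5.RefVC
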