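import Groth.Agent.Helper5.RefVC9

/-!
# Helper5: the geometric core of the refined valuative criterion, II
-/

set_option autoImplicit false
universe u
open CategoryTheory CategoryTheory.Limits AlgebraicGeometry Opposite IsLocalRing

namespace Groth.Agent.Helper5.RefVC

open AlgSp

variable {S : Scheme.{u}}

section loc

variable {F G : Sp S} {f : F ⟶ G} {sq : ValSq f} (e : sq.DomExt) (P₂ : Ideal e.A')
  [hP₂p : P₂.IsPrime]

theorem hχ_loc :
    letI : Algebra (Localization.AtPrime P₂) e.K' := (locToFrac (K' := e.K') P₂).toAlgebra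
    (algebraMap (Localization.AtPrime P₂) e.K').comp (algebraMap e.A' (Localization.AtPrime P₂)) =
      algebraMap e.A' e.K' := by
  ext x
  exact locToFrac_algebraMap P₂ x

/-- the second square: over the localisation of `e.A'` at `P₂` -/
noncomputable def sqLoc : ValSq f :=
  letI : Algebra (Localization.AtPrime P₂) e.K' := (locToFrac (K' := e.K') P₂).toAlgebra
  haveI : IsFractionRing (Localization.AtPrime P₂) e.K' := isFractionRing_loc P₂
  haveI : ValuationRing (Localization.AtPrime P₂) := valuationRing_localization P₂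
  ext sq ((algebraMap e.A' (Localization.AtPrime P₂)).comp e.φ) e.ψ
    (hc_of e (algebraMap e.A' (Localization.AtPrime P₂)) (hχ_loc e P₂))

theorem sqLoc_top_factor {H : Sp S} (h : H ⟶ F)
    (ht : ∃ t : (yon S).obj sq.ptK ⟶ H, t ≫ h = sq.top) :
    ∃ t : (yon S).obj (sqLoc e P₂).ptK ⟶ H, t ≫ h = (sqLoc e P₂).top :=
  letI : Algebra (Localization.AtPrime P₂) e.K' := (locToFrac (K' := e.K') P₂).toAlgebra
  haveI : IsFractionRing (Localization.AtPrime P₂) e.K' := isFractionRing_loc P₂
  haveI : ValuationRing (Localization.AtPrime P₂) := valuationRing_localization P₂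
  ext_top_factor sq _ _ _ h ht

/-- the morphism `Spec (e.A')_{P₂} ⟶ Spec e.A'` over `S` -/
noncomputable def locK : (sqLoc e P₂).ptA ⟶ e.ptA' :=
  letI : Algebra (Localization.AtPrime P₂) e.K' := (locToFrac (K' := e.K') P₂).toAlgebra
  haveI : IsFractionRing (Localization.AtPrime P₂) e.K' := isFractionRing_loc P₂
  haveI : ValuationRing (Localization.AtPrime P₂) := valuationRing_localization P₂
  extK e (algebraMap e.A' (Localization.AtPrime P₂)) (hχ_loc e P₂)

theorem locK_left : (locK e P₂).left =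
    Spec.map (CommRingCat.ofHom (algebraMap e.A' (Localization.AtPrime P₂))) := rfl

/-- the restriction of a lift over `e.A'` to the localisation -/
noncomputable def locLift (l₀ : (yon S).obj e.ptA' ⟶ F) : (yon S).obj (sqLoc e P₂).ptA ⟶ F :=
  (yon S).map (locK e P₂) ≫ l₀

theorem map_locLift (l₀ : (yon S).obj e.ptA' ⟶ F) {Z : Over S} (m : Z ⟶ (sqLoc e P₂).ptA) :
    (yon S).map m ≫ locLift e P₂ l₀ = (yon S).map (m ≫ locK e P₂) ≫ l₀ := by
  unfold locLift
  rw [Functor.map_comp, Category.assoc]

theorem locLift_top (l₀ : (yon S).obj e.ptA' ⟶ F)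
    (h1 : (yon S).map (Over.homMk (Spec.map (CommRingCat.ofHom (algebraMap e.A' e.K'))) rfl :
        e.ptK' ⟶ e.ptA') ≫ l₀ =
        (yon S).map (Over.homMk (Spec.map (CommRingCat.ofHom e.ψ)) (domExt_aux e) :
          e.ptK' ⟶ sq.ptK) ≫ sq.top) :
    (yon S).map (sqLoc e P₂).j ≫ locLift e P₂ l₀ = (sqLoc e P₂).top :=
  letI : Algebra (Localization.AtPrime P₂) e.K' := (locToFrac (K' := e.K') P₂).toAlgebra
  haveI : IsFractionRing (Localization.AtPrime P₂) e.K' := isFractionRing_loc P₂
  haveI : ValuationRing (Localization.AtPrime P₂) := valuationRing_localization P₂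
  extLift_top e (algebraMap e.A' (Localization.AtPrime P₂)) (hχ_loc e P₂) l₀ h1

theorem locLift_bot (l₀ : (yon S).obj e.ptA' ⟶ F)
    (h2 : l₀ ≫ f = (yon S).map (Over.homMk (Spec.map (CommRingCat.ofHom e.φ)) rfl :
        e.ptA' ⟶ sq.ptA) ≫ sq.bot) :
    locLift e P₂ l₀ ≫ f = (sqLoc e P₂).bot :=
  letI : Algebra (Localization.AtPrime P₂) e.K' := (locToFrac (K' := e.K') P₂).toAlgebra
  haveI : IsFractionRing (Localization.AtPrime P₂) e.K' := isFractionRing_loc P₂
  haveI : ValuationRing (Localization.AtPrime P₂) := valuationRing_localization P₂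
  extLift_bot e (algebraMap e.A' (Localization.AtPrime P₂)) (hχ_loc e P₂) l₀ h2

end loc

end Groth.Agent.Helper5.RefVC
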