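import Groth.Agent.Helper5.RefVC10

/-!
# Helper5: the geometric core of the refined valuative criterion, III
-/

set_option autoImplicit false
universe u
open CategoryTheory CategoryTheory.Limits AlgebraicGeometry Opposite IsLocalRing

namespace Groth.Agent.Helper5.RefVC

open AlgSp

variable {S : Scheme.{u}}

section ext2

variable {F G : Sp S} {f : F ⟶ G} (sq : ValSq f)
  {A₂ K₂ : Type u} [CommRing A₂] [IsDomain A₂] [ValuationRing A₂] [Field K₂] [Algebra A₂ K₂]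
  [IsFractionRing A₂ K₂]
  (φ₂ : sq.A →+* A₂) (ψ₂ : sq.K →+* K₂)
  (hc : (algebraMap A₂ K₂).comp φ₂ = ψ₂.comp (algebraMap sq.A sq.K))

theorem ext_top_of {Z : Over S} (q : sq.ptK ⟶ Z) (r : (yon S).obj Z ⟶ F)
    (hq : sq.top = (yon S).map q ≫ r) (n : (ext sq φ₂ ψ₂ hc).ptA ⟶ Z)
    (hn : Spec.map (CommRingCat.ofHom (algebraMap A₂ K₂)) ≫ n.left =
      Spec.map (CommRingCat.ofHom ψ₂) ≫ q.left) :
    (yon S).map (ext sq φ₂ ψ₂ hc).j ≫ (yon S).map n ≫ r = (ext sq φ₂ ψ₂ hc).top := by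
  change _ = (yon S).map (Over.homMk (Spec.map (CommRingCat.ofHom ψ₂)) (ext_aux sq φ₂ ψ₂ hc) :
    Over.mk (Spec.map (CommRingCat.ofHom (algebraMap A₂ K₂)) ≫
      Spec.map (CommRingCat.ofHom φ₂) ≫ sq.str) ⟶ sq.ptK) ≫ sq.top
  rw [hq, ← Functor.map_comp_assoc, ← Functor.map_comp_assoc]
  congr 1
  apply yon_map_congr
  exact hn

end ext2

section loc2

variable {F G : Sp S} {f : F ⟶ G} {sq : ValSq f} (e : sq.DomExt) (P₂ : Ideal e.A')
  [hP₂p : P₂.IsPrime]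

theorem sqLoc_top_of {Z : Over S} (q : sq.ptK ⟶ Z) (r : (yon S).obj Z ⟶ F)
    (hq : sq.top = (yon S).map q ≫ r) (n : (sqLoc e P₂).ptA ⟶ Z)
    (hn : Spec.map (CommRingCat.ofHom (locToFrac (K' := e.K') P₂)) ≫ n.left =
      Spec.map (CommRingCat.ofHom e.ψ) ≫ q.left) :
    (yon S).map (sqLoc e P₂).j ≫ (yon S).map n ≫ r = (sqLoc e P₂).top :=
  letI : Algebra (Localization.AtPrime P₂) e.K' := (locToFrac (K' := e.K') P₂).toAlgebra
  haveI : IsFractionRing (Localization.AtPrime P₂) e.K' := isFractionRing_loc P₂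
  haveI : ValuationRing (Localization.AtPrime P₂) := valuationRing_localization P₂
  ext_top_of sq _ _ (hc_of e (algebraMap e.A' (Localization.AtPrime P₂)) (hχ_loc e P₂)) q r hq n hn

end loc2

section core

variable {U X Y : Sp S} (f : X ⟶ Y) (h : U ⟶ X)
  {R_V R_W R' : Type u} [CommRing R_V] [CommRing R_W] [CommRing R']
  (σ_V : Spec (CommRingCat.of R_V) ⟶ S) (v : (yon S).obj (Over.mk σ_V) ⟶ Y)
  (σ_W : Spec (CommRingCat.of R_W) ⟶ S) (ρ : R_V →+* R_W)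
  (hσ : Spec.map (CommRingCat.ofHom ρ) ≫ σ_V = σ_W)
  (aW : (yon S).obj (Over.mk σ_W) ⟶ X)
  (haW : aW ≫ f = (yon S).map (Over.homMk (Spec.map (CommRingCat.ofHom ρ)) hσ :
    Over.mk σ_W ⟶ Over.mk σ_V) ≫ v)
  {T : Over S} (gT : T ⟶ Over.mk σ_W) (tU : (yon S).obj T ⟶ U)
  (htU : tU ≫ h = (yon S).map gT ≫ aW)
  (a : Spec (CommRingCat.of R') ⟶ T.left) (g' : R_W →+* R')
  (hag : a ≫ gT.left = Spec.map (CommRingCat.ofHom g'))
  {L : Type u} [Field L] (B : ValuationSubring L) (γ : R_W →+* B) (δ : R' →+* L)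
  (hδ : δ.comp g' = (algebraMap B L).comp γ)
  (A₃ : ValuationSubring (ResidueField B)) (hA₃ : ∀ r : R_V, residue B (γ (ρ r)) ∈ A₃)

theorem sq₁_top_factor :
    ∃ t : (yon S).obj (sq₁ f h σ_V v σ_W ρ hσ aW haW gT tU htU a g' hag B γ δ hδ A₃ hA₃).ptK ⟶ U,
      t ≫ h = (sq₁ f h σ_V v σ_W ρ hσ aW haW gT tU htU a g' hag B γ δ hδ A₃ hA₃).top :=
  ⟨(yon S).map (Over.homMk (Spec.map (CommRingCat.ofHom δ) ≫ a)
    (hmT σ_V σ_W ρ hσ gT a g' hag B γ δ hδ A₃ hA₃) :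
      Over.mk (Spec.map (CommRingCat.ofHom (algebraMap (comp B A₃) L)) ≫
        Spec.map (CommRingCat.ofHom (ρC ρ B γ A₃ hA₃)) ≫ σ_V) ⟶ T) ≫ tU, by
    rw [Category.assoc]; rfl⟩

theorem sq₁_top_eq :
    (sq₁ f h σ_V v σ_W ρ hσ aW haW gT tU htU a g' hag B γ δ hδ A₃ hA₃).top =
      (yon S).map ((Over.homMk (Spec.map (CommRingCat.ofHom δ) ≫ a)
        (hmT σ_V σ_W ρ hσ gT a g' hag B γ δ hδ A₃ hA₃) :
      Over.mk (Spec.map (CommRingCat.ofHom (algebraMap (comp B A₃) L)) ≫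
        Spec.map (CommRingCat.ofHom (ρC ρ B γ A₃ hA₃)) ≫ σ_V) ⟶ T) ≫ gT) ≫ aW := by
  change (yon S).map _ ≫ tU ≫ h = _
  rw [htU, Functor.map_comp, Category.assoc]


theorem ring_id₂ {C₂ : Type u} [CommRing C₂] [IsDomain C₂] [ValuationRing C₂]
    (φ : comp B A₃ →+* C₂) [hφ : IsLocalHom φ] (P₂ : Ideal C₂) [hP₂p : P₂.IsPrime]
    (hP₂ : P₂.comap φ = RingHom.ker (compπ B A₃)) :
    (((β₂ B A₃ φ P₂ hP₂).comp γ).comp ρ) =
      ((algebraMap C₂ (Localization.AtPrime P₂)).comp φ).comp (ρC ρ B γ A₃ hA₃) := by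
  ext r
  change β₂ B A₃ φ P₂ hP₂ (γ (ρ r)) = algebraMap C₂ (Localization.AtPrime P₂) (φ (ρC ρ B γ A₃ hA₃ r))
  rw [← β₂_compι, compι_ρC]


include hσ haW htU hag hδ in
set_option maxHeartbeats 1600000 in
theorem core
    (hv : ∀ sq : ValSq f, (∃ t : (yon S).obj sq.ptK ⟶ U, t ≫ h = sq.top) →
      sq.HasUniq ∧ sq.HasLiftExt) :
    ∃ (A₄ : Type u) (_ : CommRing A₄) (_ : IsDomain A₄) (_ : ValuationRing A₄)
      (K₄ : Type u) (_ : Field K₄) (_ : Algebra A₄ K₄) (_ : IsFractionRing A₄ K₄)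
      (α : A₃ →+* A₄) (_ : IsLocalHom α) (ω : ResidueField B →+* K₄)
      (_ : ∀ x : A₃, ω (x : ResidueField B) = algebraMap A₄ K₄ (α x))
      (ρ₄ : R_V →+* A₄) (_ : ∀ r, ρ₄ r = α ⟨residue B (γ (ρ r)), hA₃ r⟩)
      (l : (yon S).obj (Over.mk (Spec.map (CommRingCat.ofHom ρ₄) ≫ σ_V)) ⟶ X),
      l ≫ f = (yon S).map (Over.homMk (Spec.map (CommRingCat.ofHom ρ₄)) rfl :
        Over.mk (Spec.map (CommRingCat.ofHom ρ₄) ≫ σ_V) ⟶ Over.mk σ_V) ≫ v ∧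
      ∀ hw : Spec.map (CommRingCat.ofHom ((ω.comp (residue B)).comp γ)) ≫ σ_W =
          Spec.map (CommRingCat.ofHom (algebraMap A₄ K₄)) ≫
            Spec.map (CommRingCat.ofHom ρ₄) ≫ σ_V,
        (yon S).map (Over.homMk (Spec.map (CommRingCat.ofHom (algebraMap A₄ K₄))) rfl :
          Over.mk (Spec.map (CommRingCat.ofHom (algebraMap A₄ K₄)) ≫
            Spec.map (CommRingCat.ofHom ρ₄) ≫ σ_V) ⟶
            Over.mk (Spec.map (CommRingCat.ofHom ρ₄) ≫ σ_V)) ≫ l =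
        (yon S).map (Over.homMk (Spec.map (CommRingCat.ofHom ((ω.comp (residue B)).comp γ))) hw :
          Over.mk (Spec.map (CommRingCat.ofHom (algebraMap A₄ K₄)) ≫
            Spec.map (CommRingCat.ofHom ρ₄) ≫ σ_V) ⟶ Over.mk σ_W) ≫ aW := by
  classical
  have hfac := sq₁_top_factor f h σ_V v σ_W ρ hσ aW haW gT tU htU a g' hag B γ δ hδ A₃ hA₃
  have htop := sq₁_top_eq f h σ_V v σ_W ρ hσ aW haW gT tU htU a g' hag B γ δ hδ A₃ hA₃
  obtain ⟨e, he⟩ := (hv _ hfac).2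
  obtain ⟨l₀, hl₀t, hl₀b⟩ := (hasLift_iff e).mp he
  let φ : comp B A₃ →+* e.A' := e.φ
  let ψ : L →+* e.K' := e.ψ
  have hcomm : (algebraMap e.A' e.K').comp φ = ψ.comp (algebraMap (comp B A₃) L) := e.comm
  haveI hφ : IsLocalHom φ := e.isLocalHom
  have hinj := injective_of_comm B A₃ φ ψ hcomm
  obtain ⟨P₂, hP₂p, hP₂⟩ := exists_prime_over φ hinj (RingHom.ker (compπ B A₃))
  obtain ⟨huniq, -⟩ := hv (sqLoc e P₂) (sqLoc_top_factor e P₂ h hfac)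
  have hl₁t := locLift_top e P₂ l₀ hl₀t
  have hl₁b := locLift_bot e P₂ l₀ hl₀b
  have hm₂ : Spec.map (CommRingCat.ofHom ((β₂ B A₃ φ P₂ hP₂).comp γ)) ≫ σ_W =
      (sqLoc e P₂).ptA.hom := by
    change _ = Spec.map (CommRingCat.ofHom ((algebraMap e.A' (Localization.AtPrime P₂)).comp φ)) ≫
      Spec.map (CommRingCat.ofHom (ρC ρ B γ A₃ hA₃)) ≫ σ_V
    refine (congrArg (fun z => Spec.map (CommRingCat.ofHom ((β₂ B A₃ φ P₂ hP₂).comp γ)) ≫ z)
      hσ.symm).trans ?_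
    change Spec.map (CommRingCat.ofHom ((β₂ B A₃ φ P₂ hP₂).comp γ)) ≫
      Spec.map (CommRingCat.ofHom ρ) ≫ σ_V = _
    rw [spc_assoc, spc_assoc, ring_id₂]
  let m₂ : (sqLoc e P₂).ptA ⟶ Over.mk σ_W :=
    Over.homMk (Spec.map (CommRingCat.ofHom ((β₂ B A₃ φ P₂ hP₂).comp γ))) hm₂
  have hl₂b : ((yon S).map m₂ ≫ aW) ≫ f = (sqLoc e P₂).bot := by
    rw [Category.assoc, haW, ← Functor.map_comp_assoc]
    change _ = (yon S).map (Over.homMk (Spec.map (CommRingCat.ofHom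
      ((algebraMap e.A' (Localization.AtPrime P₂)).comp φ))) rfl : (sqLoc e P₂).ptA ⟶
        Over.mk (Spec.map (CommRingCat.ofHom (ρC ρ B γ A₃ hA₃)) ≫ σ_V)) ≫
      (yon S).map (Over.homMk (Spec.map (CommRingCat.ofHom (ρC ρ B γ A₃ hA₃))) rfl :
        Over.mk (Spec.map (CommRingCat.ofHom (ρC ρ B γ A₃ hA₃)) ≫ σ_V) ⟶ Over.mk σ_V) ≫ v
    rw [← Functor.map_comp_assoc]
    congr 1
    apply yon_map_congr
    change Spec.map (CommRingCat.ofHom ((β₂ B A₃ φ P₂ hP₂).comp γ)) ≫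
        Spec.map (CommRingCat.ofHom ρ) =
      Spec.map (CommRingCat.ofHom ((algebraMap e.A' (Localization.AtPrime P₂)).comp φ)) ≫
        Spec.map (CommRingCat.ofHom (ρC ρ B γ A₃ hA₃))
    rw [spc, spc, ring_id₂]
  have hl₂t : (yon S).map (sqLoc e P₂).j ≫ ((yon S).map m₂ ≫ aW) = (sqLoc e P₂).top := by
    refine sqLoc_top_of e P₂ _ aW htop m₂ ?_
    change Spec.map (CommRingCat.ofHom (locToFrac (K' := e.K') P₂)) ≫
        Spec.map (CommRingCat.ofHom ((β₂ B A₃ φ P₂ hP₂).comp γ)) =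
      Spec.map (CommRingCat.ofHom ψ) ≫ (Spec.map (CommRingCat.ofHom δ) ≫ a) ≫ gT.left
    rw [Category.assoc, hag, spc, spc, spc]
    congr 2
    ext r
    change locToFrac (K' := e.K') P₂ (β₂ B A₃ φ P₂ hP₂ (γ r)) = ψ (δ (g' r))
    rw [locToFrac_β₂ B A₃ φ ψ hcomm P₂ hP₂]
    have h1 := congrArg (fun t => t r) hδ
    simp only [RingHom.comp_apply] at h1
    rw [h1]
    rfl
  have h12 : locLift e P₂ l₀ = (yon S).map m₂ ≫ aW := huniq _ _ hl₁t hl₁b hl₂t hl₂b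
  have hρ₄S : Spec.map (CommRingCat.ofHom (Ideal.Quotient.mk P₂)) ≫ e.ptA'.hom =
      Spec.map (CommRingCat.ofHom ((Ideal.Quotient.mk P₂).comp
        (φ.comp (ρC ρ B γ A₃ hA₃)))) ≫ σ_V := by
    change Spec.map _ ≫ Spec.map (CommRingCat.ofHom φ) ≫
      Spec.map (CommRingCat.ofHom (ρC ρ B γ A₃ hA₃)) ≫ σ_V = _
    rw [spc_assoc, spc_assoc, RingHom.comp_assoc]
  let mq : Over.mk (Spec.map (CommRingCat.ofHom ((Ideal.Quotient.mk P₂).comp
      (φ.comp (ρC ρ B γ A₃ hA₃)))) ≫ σ_V) ⟶ e.ptA' :=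
    Over.homMk (Spec.map (CommRingCat.ofHom (Ideal.Quotient.mk P₂))) hρ₄S
  refine ⟨e.A' ⧸ P₂, inferInstance, inferInstance, valuationRing_quotient P₂, P₂.ResidueField,
    inferInstance, inferInstance, inferInstance, α B A₃ φ P₂ hP₂, isLocalHom_α B A₃ φ P₂ hP₂,
    ω B A₃ φ P₂ hP₂, ω_coe B A₃ φ P₂ hP₂,
    (Ideal.Quotient.mk P₂).comp (φ.comp (ρC ρ B γ A₃ hA₃)), ?_, (yon S).map mq ≫ l₀, ?_, ?_⟩
  · intro r
    change Ideal.Quotient.mk P₂ (φ (ρC ρ B γ A₃ hA₃ r)) = _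
    rw [← α_compπ B A₃ φ P₂ hP₂]
    congr 1
  · rw [Category.assoc, hl₀b]
    change (yon S).map mq ≫ (yon S).map (Over.homMk (Spec.map (CommRingCat.ofHom φ)) rfl :
        e.ptA' ⟶ Over.mk (Spec.map (CommRingCat.ofHom (ρC ρ B γ A₃ hA₃)) ≫ σ_V)) ≫
      (yon S).map (Over.homMk (Spec.map (CommRingCat.ofHom (ρC ρ B γ A₃ hA₃))) rfl :
        Over.mk (Spec.map (CommRingCat.ofHom (ρC ρ B γ A₃ hA₃)) ≫ σ_V) ⟶ Over.mk σ_V) ≫ v = _
    rw [← Functor.map_comp_assoc, ← Functor.map_comp_assoc]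
    congr 1
    apply yon_map_congr
    change (Spec.map (CommRingCat.ofHom (Ideal.Quotient.mk P₂)) ≫
      Spec.map (CommRingCat.ofHom φ)) ≫ Spec.map (CommRingCat.ofHom (ρC ρ B γ A₃ hA₃)) =
      Spec.map (CommRingCat.ofHom ((Ideal.Quotient.mk P₂).comp (φ.comp (ρC ρ B γ A₃ hA₃))))
    rw [spc, spc, RingHom.comp_assoc]
  · intro hw
    have hmres : Spec.map (CommRingCat.ofHom (residue (Localization.AtPrime P₂))) ≫
        (sqLoc e P₂).ptA.hom =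
        Spec.map (CommRingCat.ofHom (algebraMap (e.A' ⧸ P₂) P₂.ResidueField)) ≫
          Spec.map (CommRingCat.ofHom ((Ideal.Quotient.mk P₂).comp
            (φ.comp (ρC ρ B γ A₃ hA₃)))) ≫ σ_V := by
      change Spec.map _ ≫
        Spec.map (CommRingCat.ofHom ((algebraMap e.A' (Localization.AtPrime P₂)).comp φ)) ≫
        Spec.map (CommRingCat.ofHom (ρC ρ B γ A₃ hA₃)) ≫ σ_V = _
      rw [spc_assoc, spc_assoc, spc_assoc]
      rfl
    let mres : Over.mk (Spec.map (CommRingCat.ofHom (algebraMap (e.A' ⧸ P₂) P₂.ResidueField)) ≫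
        Spec.map (CommRingCat.ofHom ((Ideal.Quotient.mk P₂).comp
          (φ.comp (ρC ρ B γ A₃ hA₃)))) ≫ σ_V) ⟶ (sqLoc e P₂).ptA :=
      Over.homMk (Spec.map (CommRingCat.ofHom (residue (Localization.AtPrime P₂)))) hmres
    have e1 : (Over.homMk (Spec.map (CommRingCat.ofHom
        (algebraMap (e.A' ⧸ P₂) P₂.ResidueField))) rfl :
        Over.mk (Spec.map (CommRingCat.ofHom (algebraMap (e.A' ⧸ P₂) P₂.ResidueField)) ≫
          Spec.map (CommRingCat.ofHom ((Ideal.Quotient.mk P₂).comp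
            (φ.comp (ρC ρ B γ A₃ hA₃)))) ≫ σ_V) ⟶
          Over.mk (Spec.map (CommRingCat.ofHom ((Ideal.Quotient.mk P₂).comp
            (φ.comp (ρC ρ B γ A₃ hA₃)))) ≫ σ_V)) ≫ mq = mres ≫ locK e P₂ := by
      apply Over.OverMorphism.ext
      change Spec.map (CommRingCat.ofHom (algebraMap (e.A' ⧸ P₂) P₂.ResidueField)) ≫
          Spec.map (CommRingCat.ofHom (Ideal.Quotient.mk P₂)) =
        Spec.map (CommRingCat.ofHom (residue (Localization.AtPrime P₂))) ≫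
          Spec.map (CommRingCat.ofHom (algebraMap e.A' (Localization.AtPrime P₂)))
      rw [spc, spc]
      rfl
    rw [← Functor.map_comp_assoc, e1, ← map_locLift, h12, ← Functor.map_comp_assoc]
    congr 1
    apply yon_map_congr
    change Spec.map (CommRingCat.ofHom (residue (Localization.AtPrime P₂))) ≫
        Spec.map (CommRingCat.ofHom ((β₂ B A₃ φ P₂ hP₂).comp γ)) =
      Spec.map (CommRingCat.ofHom (((ω B A₃ φ P₂ hP₂).comp (residue B)).comp γ))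
    rw [spc]
    rfl

end core

end Groth.Agent.Helper5.RefVC
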