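import Groth.Prelude.Def_AlgSp4
import Groth.Agent.Helper4.AlgSpPts
import Groth.Agent.Helper4.AlgSpPtsDesc
import Groth.Agent.Helper4.AlgSpQC2
import Mathlib

/-!
# Helper5: density passes to an étale chart
-/

set_option autoImplicit false
universe u
open CategoryTheory CategoryTheory.Limits AlgebraicGeometry Opposite

namespace Groth.Agent.Helper5.RefVC

open AlgSp

variable {S : Scheme.{u}}

/-- If `U ⟶ X` has dense image on points, `W ⟶ X` is an étale chart and `T` is a scheme surjecting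
onto `U ×_X W`, then `T ⟶ W` has dense image. -/
theorem denseRange_chart {U X : Sp S} (hX : IsAlgSpace X) (h : U ⟶ X)
    (hd : DenseRange (Points.map h)) {W : Over S} (a : (yon S).obj W ⟶ X) (ha : RepWith @Etale a)
    {UW : Sp S} (p₁ : UW ⟶ U) (p₂ : UW ⟶ (yon S).obj W) (sq : IsPullback p₁ p₂ h a)
    {T : Over S} (t : (yon S).obj T ⟶ UW) (ht : RepWith @Surjective t)
    (gT : T ⟶ W) (hgT : (yon S).map gT = t ≫ p₂) : DenseRange gT.left.base := by
  have hopen : IsOpenMap (Points.map a) :=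
    Groth.Agent.Helper4.AlgSpQC2.isOpenMor_of_repWith_etale hX a ha
  have hsurj : Function.Surjective (Points.map t) :=
    Groth.Agent.Helper4.AlgSpPts.isSurjectiveMor_of_repWith t ht
  change Dense (Set.range gT.left.base)
  rw [dense_iff_inter_open]
  intro O hO hOne
  obtain ⟨o, ho⟩ := hOne
  let O' : Set (Points ((yon S).obj W)) := (Points.schemeHomeo W) '' O
  have hO' : IsOpen O' := (Points.schemeHomeo W).isOpenMap O hO
  have hO'' : IsOpen (Points.map a '' O') := hopen O' hO'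
  have hne : (Points.map a '' O').Nonempty := ⟨_, ⟨_, ⟨o, ho, rfl⟩, rfl⟩⟩
  obtain ⟨_, ⟨_, ⟨o₁, ho₁, rfl⟩, rfl⟩, ⟨u, hu⟩⟩ := hd.inter_open_nonempty _ hO'' hne
  obtain ⟨p, -, hp₂⟩ := Groth.Agent.Helper4.AlgSpPtsDesc.exists_point_of_isPullback sq u
    (Points.schemeHomeo W o₁) hu
  obtain ⟨x, hx⟩ := hsurj p
  obtain ⟨τ, rfl⟩ := (Points.schemeHomeo T).surjective x
  refine ⟨o₁, ho₁, τ, ?_⟩
  apply (Points.schemeHomeo W).injective
  rw [← Points.map_yon_map_apply, hgT, Points.map_comp, hx, hp₂]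

end Groth.Agent.Helper5.RefVC
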