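import Groth.Agent.Helper5.RefVC4

/-!
# Helper5: the localisation of a valuation ring at a prime inside the fraction field
-/

set_option autoImplicit false
universe u
open IsLocalRing

namespace Groth.Agent.Helper5.RefVC

section loc

variable {C₂ K' : Type u} [CommRing C₂] [IsDomain C₂] [Field K'] [Algebra C₂ K']
  [IsFractionRing C₂ K'] (P₂ : Ideal C₂) [P₂.IsPrime]

theorem isUnit_algebraMap_of_notMem (y : P₂.primeCompl) : IsUnit (algebraMap C₂ K' y) := by
  rw [isUnit_iff_ne_zero]
  intro h
  have h1 : (y : C₂) = 0 := (IsFractionRing.injective C₂ K') (h.trans (map_zero _).symm)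
  exact y.2 (h1 ▸ P₂.zero_mem)

/-- the map from the localisation at a prime to the fraction field -/
noncomputable def locToFrac : Localization.AtPrime P₂ →+* K' :=
  IsLocalization.lift (M := P₂.primeCompl) (g := algebraMap C₂ K')
    (isUnit_algebraMap_of_notMem P₂)

theorem locToFrac_algebraMap (x : C₂) :
    locToFrac (K' := K') P₂ (algebraMap C₂ (Localization.AtPrime P₂) x) = algebraMap C₂ K' x :=
  IsLocalization.lift_eq _ _

theorem isFractionRing_loc :
    @IsFractionRing (Localization.AtPrime P₂) _ K' _ (locToFrac (K' := K') P₂).toAlgebra := by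
  letI : Algebra (Localization.AtPrime P₂) K' := (locToFrac (K' := K') P₂).toAlgebra
  haveI : IsScalarTower C₂ (Localization.AtPrime P₂) K' :=
    IsScalarTower.of_algebraMap_eq (fun x => (locToFrac_algebraMap P₂ x).symm)
  exact IsFractionRing.isFractionRing_of_isDomain_of_isLocalization P₂.primeCompl
    (Localization.AtPrime P₂) K'

theorem residue_algebraMap_eq (x : C₂) :
    residue (Localization.AtPrime P₂) (algebraMap C₂ (Localization.AtPrime P₂) x) =
      algebraMap (C₂ ⧸ P₂) P₂.ResidueField (Ideal.Quotient.mk P₂ x) := rfl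

end loc

variable {L : Type u} [Field L] (B : ValuationSubring L) (A₃ : ValuationSubring (ResidueField B))
variable {C₂ K' : Type u} [CommRing C₂] [IsDomain C₂] [ValuationRing C₂] [Field K'] [Algebra C₂ K']
  [IsFractionRing C₂ K']
  (φ : comp B A₃ →+* C₂) [hφ : IsLocalHom φ] (ψ : L →+* K')
  (hcomm : (algebraMap C₂ K').comp φ = ψ.comp (algebraMap (comp B A₃) L))
  (P₂ : Ideal C₂) [hP₂p : P₂.IsPrime]
  (hP₂ : P₂.comap φ = RingHom.ker (compπ B A₃))

include hcomm in
/-- compatibility of `β₂` with the maps to the fraction fields -/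
theorem locToFrac_β₂ (b : B) :
    locToFrac (K' := K') P₂ (β₂ B A₃ φ P₂ hP₂ b) = ψ (b : L) := by
  have key : (locToFrac (K' := K') P₂).comp (β₂ B A₃ φ P₂ hP₂) = ψ.comp B.subtype := by
    apply @IsLocalization.ringHom_ext (comp B A₃) _ (RingHom.ker (compπ B A₃)).primeCompl B _
      (compι B A₃).toAlgebra (isLocalization_comp B A₃)
    ext c
    change locToFrac (K' := K') P₂ (β₂ B A₃ φ P₂ hP₂ (compι B A₃ c)) = ψ ((compι B A₃ c : B) : L)
    rw [β₂_compι, locToFrac_algebraMap, compι_coe]
    exact congrArg (fun t => t c) hcomm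
  exact congrArg (fun t => t b) key

theorem injective_of_comm (hcomm : (algebraMap C₂ K').comp φ = ψ.comp (algebraMap (comp B A₃) L)) :
    Function.Injective φ := by
  intro x y hxy
  have h1 : ψ (algebraMap (comp B A₃) L x) = ψ (algebraMap (comp B A₃) L y) := by
    have hx := congrArg (fun t => t x) hcomm
    have hy := congrArg (fun t => t y) hcomm
    simp only [RingHom.comp_apply] at hx hy
    rw [← hx, ← hy, hxy]
  exact (IsFractionRing.injective (comp B A₃) L) (ψ.injective h1)

end Groth.Agent.Helper5.RefVC
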