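import Groth.Prelude.Def_AlgSpMor5
import Groth.Agent.Helper5.RefVC7

/-!
# Helper5: the geometric core of the refined valuative criterion
-/

set_option autoImplicit false
universe u
open CategoryTheory CategoryTheory.Limits AlgebraicGeometry Opposite IsLocalRing

namespace Groth.Agent.Helper5.RefVC

open AlgSp

variable {S : Scheme.{u}}

theorem yon_map_congr {Z Z' : Over S} (m m' : Z ⟶ Z') (h : m.left = m'.left) :
    (yon S).map m = (yon S).map m' := by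
  congr 1
  exact Over.OverMorphism.ext h

theorem spc {A₁ A₂ A₃ : Type u} [CommRing A₁] [CommRing A₂] [CommRing A₃] (x : A₂ →+* A₃)
    (y : A₁ →+* A₂) :
    Spec.map (CommRingCat.ofHom x) ≫ Spec.map (CommRingCat.ofHom y) =
      Spec.map (CommRingCat.ofHom (x.comp y)) := by
  rw [← Spec.map_comp]; rfl

theorem spc_assoc {A₁ A₂ A₃ : Type u} [CommRing A₁] [CommRing A₂] [CommRing A₃] (x : A₂ →+* A₃)
    (y : A₁ →+* A₂) {Z : Scheme.{u}} (z : Spec (CommRingCat.of A₁) ⟶ Z) :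
    Spec.map (CommRingCat.ofHom x) ≫ Spec.map (CommRingCat.ofHom y) ≫ z =
      Spec.map (CommRingCat.ofHom (x.comp y)) ≫ z := by
  rw [← Category.assoc, spc]

section core

variable {U X Y : Sp S} (f : X ⟶ Y) (h : U ⟶ X)
  {R_V R_W R' : Type u} [CommRing R_V] [CommRing R_W] [CommRing R']
  (σ_V : Spec (CommRingCat.of R_V) ⟶ S) (v : (yon S).obj (Over.mk σ_V) ⟶ Y)
  (σ_W : Spec (CommRingCat.of R_W) ⟶ S) (ρ : R_V →+* R_W)
  (hσ : Spec.map (CommRingCat.ofHom ρ) ≫ σ_V = σ_W)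
  (aW : (yon S).obj (Over.mk σ_W) ⟶ X)
  (haW : aW ≫ f = (yon S).map (Over.homMk (Spec.map (CommRingCat.ofHom ρ)) hσ :
    Over.mk σ_W ⟶ Over.mk σ_V) ≫ v)
  {T : Over S} (gT : T ⟶ Over.mk σ_W) (tU : (yon S).obj T ⟶ U)
  (htU : tU ≫ h = (yon S).map gT ≫ aW)
  (a : Spec (CommRingCat.of R') ⟶ T.left) (g' : R_W →+* R')
  (hag : a ≫ gT.left = Spec.map (CommRingCat.ofHom g'))
  {L : Type u} [Field L] (B : ValuationSubring L) (γ : R_W →+* B) (δ : R' →+* L)
  (hδ : δ.comp g' = (algebraMap B L).comp γ)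
  (A₃ : ValuationSubring (ResidueField B)) (hA₃ : ∀ r : R_V, residue B (γ (ρ r)) ∈ A₃)

/-- the structure map `R_V → C` -/
noncomputable def ρC : R_V →+* comp B A₃ := compLift B A₃ (γ.comp ρ) hA₃

theorem compι_ρC (r : R_V) : compι B A₃ (ρC ρ B γ A₃ hA₃ r) = γ (ρ r) :=
  compι_compLift B A₃ (γ.comp ρ) hA₃ r

include hδ in
theorem ring_id₁ :
    ((δ.comp g').comp ρ) = (algebraMap (comp B A₃) L).comp (ρC ρ B γ A₃ hA₃) := by
  ext r
  change δ (g' (ρ r)) = ((ρC ρ B γ A₃ hA₃ r : comp B A₃) : L)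
  have h1 := congrArg (fun t => t (ρ r)) hδ
  simp only [RingHom.comp_apply] at h1
  rw [h1, ← compι_ρC ρ B γ A₃ hA₃ r]
  rfl

include hag hσ hδ in
theorem hmT :
    (Spec.map (CommRingCat.ofHom δ) ≫ a) ≫ T.hom =
      Spec.map (CommRingCat.ofHom (algebraMap (comp B A₃) L)) ≫
        Spec.map (CommRingCat.ofHom (ρC ρ B γ A₃ hA₃)) ≫ σ_V := by
  have h1 : gT.left ≫ σ_W = T.hom := Over.w gT
  rw [← h1, Category.assoc, ← Category.assoc a, hag, ← hσ, spc_assoc, spc_assoc, spc_assoc,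
    ring_id₁ ρ g' B γ δ hδ A₃ hA₃]

/-- the first square, over the composite valuation ring -/
noncomputable def sq₁ : ValSq f where
  A := comp B A₃
  K := L
  str := Spec.map (CommRingCat.ofHom (ρC ρ B γ A₃ hA₃)) ≫ σ_V
  top := (yon S).map (Over.homMk (Spec.map (CommRingCat.ofHom δ) ≫ a)
    (hmT σ_V σ_W ρ hσ gT a g' hag B γ δ hδ A₃ hA₃) :
      Over.mk (Spec.map (CommRingCat.ofHom (algebraMap (comp B A₃) L)) ≫
        Spec.map (CommRingCat.ofHom (ρC ρ B γ A₃ hA₃)) ≫ σ_V) ⟶ T) ≫ tU ≫ h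
  bot := (yon S).map (Over.homMk (Spec.map (CommRingCat.ofHom (ρC ρ B γ A₃ hA₃))) rfl :
      Over.mk (Spec.map (CommRingCat.ofHom (ρC ρ B γ A₃ hA₃)) ≫ σ_V) ⟶ Over.mk σ_V) ≫ v
  comm := by
    rw [Category.assoc, Category.assoc, ← Category.assoc tU, htU, Category.assoc, haW,
      ← Functor.map_comp_assoc, ← Functor.map_comp_assoc, ← Functor.map_comp_assoc]
    congr 1
    apply yon_map_congr
    change ((Spec.map (CommRingCat.ofHom δ) ≫ a) ≫ gT.left) ≫ Spec.map (CommRingCat.ofHom ρ) =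
      Spec.map (CommRingCat.ofHom (algebraMap (comp B A₃) L)) ≫
        Spec.map (CommRingCat.ofHom (ρC ρ B γ A₃ hA₃))
    simp only [Category.assoc]
    rw [← Category.assoc a, hag, spc, spc, spc, ← RingHom.comp_assoc,
      ring_id₁ ρ g' B γ δ hδ A₃ hA₃]

end core

end Groth.Agent.Helper5.RefVC
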