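import Groth.Agent.Helper5.ValDesc2
import Groth.Agent.Helper5.RefVC6
import Groth.Agent.Helper5.RefVC8

/-!
# Helper5: charts in `Spec` form, and a quasi-compact scheme dense in a chart
-/

set_option autoImplicit false
universe u
open CategoryTheory CategoryTheory.Limits AlgebraicGeometry Opposite IsLocalRing

namespace Groth.Agent.Helper5.RefVC

open AlgSp

variable {S : Scheme.{u}}

/-- After enlarging the valuation ring, a point of an algebraic space lifts to an étale chart of
the form `Spec R`. -/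
theorem exists_spec_chart_lift {P : Sp S} (hP : IsAlgSpace P) (A' : Type u) [CommRing A']
    [IsDomain A'] [ValuationRing A'] (str' : Spec (CommRingCat.of A') ⟶ S)
    (a' : (yon S).obj (Over.mk str') ⟶ P) :
    ∃ (R : Type u) (_ : CommRing R) (σ : Spec (CommRingCat.of R) ⟶ S)
      (w : (yon S).obj (Over.mk σ) ⟶ P) (_ : RepWith @Etale w)
      (A'' : Type u) (_ : CommRing A'') (_ : IsDomain A'') (_ : ValuationRing A'')
      (φ : A' →+* A''), Function.Injective φ ∧ IsLocalHom φ ∧
      ∃ (β : R →+* A'') (hβ : Spec.map (CommRingCat.ofHom β) ≫ σ =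
          Spec.map (CommRingCat.ofHom φ) ≫ str'),
        (yon S).map (Over.homMk (Spec.map (CommRingCat.ofHom β)) hβ :
          Over.mk (Spec.map (CommRingCat.ofHom φ) ≫ str') ⟶ Over.mk σ) ≫ w =
          (yon S).map (Over.homMk (Spec.map (CommRingCat.ofHom φ)) rfl :
            Over.mk (Spec.map (CommRingCat.ofHom φ) ≫ str') ⟶ Over.mk str') ≫ a' := by
  obtain ⟨W, hW, w, hw, A'', i1, i2, i3, φ, hφi, hφl, b, hb⟩ :=
    ValDesc.exists_chart_lift hP A' str' a'
  let R : Type u := Γ(W.left, ⊤)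
  let σ : Spec (CommRingCat.of R) ⟶ S := W.left.isoSpec.inv ≫ W.hom
  let i : Over.mk σ ⟶ W := Over.homMk W.left.isoSpec.inv rfl
  have i4 : (RepWith (S := S) @Etale).IsStableUnderComposition :=
    (repWith_isMultiplicative (S := S) @Etale).toIsStableUnderComposition
  let β₀ : CommRingCat.of R ⟶ CommRingCat.of A'' := Spec.preimage (b.left ≫ W.left.isoSpec.hom)
  have hβ₀ : Spec.map β₀ = b.left ≫ W.left.isoSpec.hom := Spec.map_preimage _
  have hβ : Spec.map (CommRingCat.ofHom β₀.hom) ≫ σ = Spec.map (CommRingCat.ofHom φ) ≫ str' := by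
    change Spec.map β₀ ≫ W.left.isoSpec.inv ≫ W.hom = _
    rw [hβ₀, Category.assoc, Iso.hom_inv_id_assoc]
    exact Over.w b
  refine ⟨R, inferInstance, σ, (yon S).map i ≫ w, ?_, A'', i1, i2, i3, φ, hφi, hφl, β₀.hom, hβ, ?_⟩
  · exact MorphismProperty.comp_mem _ _ _
      ((repWith_yon_map_iff _ _).2 (by change Etale W.left.isoSpec.inv; infer_instance)) hw
  · rw [← hb, ← Functor.map_comp_assoc]
    congr 1
    apply yon_map_congr
    change Spec.map β₀ ≫ W.left.isoSpec.inv = b.left
    rw [hβ₀, Category.assoc, Iso.hom_inv_id, Category.comp_id]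

/-- A point of an algebraic space with values in a field lifts, after a field extension, to an
étale chart of the form `Spec R`. -/
theorem exists_spec_chart_lift_field {P : Sp S} (hP : IsAlgSpace P) (K₁ : Type u) [Field K₁]
    (str' : Spec (CommRingCat.of K₁) ⟶ S) (a' : (yon S).obj (Over.mk str') ⟶ P) :
    ∃ (R : Type u) (_ : CommRing R) (σ : Spec (CommRingCat.of R) ⟶ S)
      (w : (yon S).obj (Over.mk σ) ⟶ P) (_ : RepWith @Etale w)
      (K₂ : Type u) (_ : Field K₂) (κ : K₁ →+* K₂)
      (β : R →+* K₂) (hβ : Spec.map (CommRingCat.ofHom β) ≫ σ =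
          Spec.map (CommRingCat.ofHom κ) ≫ str'),
        (yon S).map (Over.homMk (Spec.map (CommRingCat.ofHom β)) hβ :
          Over.mk (Spec.map (CommRingCat.ofHom κ) ≫ str') ⟶ Over.mk σ) ≫ w =
          (yon S).map (Over.homMk (Spec.map (CommRingCat.ofHom κ)) rfl :
            Over.mk (Spec.map (CommRingCat.ofHom κ) ≫ str') ⟶ Over.mk str') ≫ a' := by
  obtain ⟨R, i0, σ, w, hw, A'', i1, i2, i3, φ, -, -, β, hβ, hb⟩ :=
    exists_spec_chart_lift hP K₁ str' a'
  let K₂ := FractionRing A''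
  let ι : A'' →+* K₂ := algebraMap A'' K₂
  have hβ' : Spec.map (CommRingCat.ofHom (ι.comp β)) ≫ σ =
      Spec.map (CommRingCat.ofHom (ι.comp φ)) ≫ str' := by
    calc Spec.map (CommRingCat.ofHom (ι.comp β)) ≫ σ
        = Spec.map (CommRingCat.ofHom ι) ≫ Spec.map (CommRingCat.ofHom β) ≫ σ :=
          (spc_assoc ι β σ).symm
      _ = Spec.map (CommRingCat.ofHom ι) ≫ Spec.map (CommRingCat.ofHom φ) ≫ str' := by rw [hβ]
      _ = _ := spc_assoc ι φ str'
  refine ⟨R, i0, σ, w, hw, K₂, inferInstance, ι.comp φ, ι.comp β, hβ', ?_⟩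
  have hm : Spec.map (CommRingCat.ofHom ι) ≫ Spec.map (CommRingCat.ofHom φ) ≫ str' =
      Spec.map (CommRingCat.ofHom (ι.comp φ)) ≫ str' := by rw [spc_assoc]
  let m : Over.mk (Spec.map (CommRingCat.ofHom (ι.comp φ)) ≫ str') ⟶
      Over.mk (Spec.map (CommRingCat.ofHom φ) ≫ str') :=
    Over.homMk (Spec.map (CommRingCat.ofHom ι)) hm
  have e1 : (Over.homMk (Spec.map (CommRingCat.ofHom (ι.comp β))) hβ' :
      Over.mk (Spec.map (CommRingCat.ofHom (ι.comp φ)) ≫ str') ⟶ Over.mk σ) =
      m ≫ (Over.homMk (Spec.map (CommRingCat.ofHom β)) hβ :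
          Over.mk (Spec.map (CommRingCat.ofHom φ) ≫ str') ⟶ Over.mk σ) := by
    apply Over.OverMorphism.ext
    change Spec.map (CommRingCat.ofHom (ι.comp β)) =
      Spec.map (CommRingCat.ofHom ι) ≫ Spec.map (CommRingCat.ofHom β)
    rw [spc]
  rw [e1, Functor.map_comp, Category.assoc, hb, ← Functor.map_comp_assoc]
  congr 1
  apply yon_map_congr
  change Spec.map (CommRingCat.ofHom ι) ≫ Spec.map (CommRingCat.ofHom φ) =
    Spec.map (CommRingCat.ofHom (ι.comp φ))
  rw [spc]

/-- If `h : U ⟶ X` is quasi-compact with dense image and `aW : W ⟶ X` is an étale chart by a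
quasi-compact scheme, then there is a quasi-compact scheme `T` with maps to `U` and `W`,
compatible over `X`, whose image in `W` is dense. -/
theorem exists_dense_scheme {U X : Sp S} (hX : IsAlgSpace X) (h : U ⟶ X)
    (hh : IsQuasiCompactMor h) (hd : DenseRange (Points.map h)) {W : Over S}
    [CompactSpace W.left] (aW : (yon S).obj W ⟶ X) (ha : RepWith @Etale aW) :
    ∃ (T : Over S) (_ : CompactSpace T.left) (gT : T ⟶ W) (tU : (yon S).obj T ⟶ U),
      tU ≫ h = (yon S).map gT ≫ aW ∧ DenseRange gT.left.base := by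
  have hq : IsQuasiCompactSp (pullback h aW) :=
    hh (IsAlgSpace.yon_obj W) (Groth.Agent.Helper4.AlgSpQC2.isQuasiCompactSp_yon W) aW
      (pullback.fst h aW) (pullback.snd h aW) (IsPullback.of_hasPullback h aW)
  obtain ⟨T, t, hte, hts, hTc⟩ := hq
  obtain ⟨gT, hgT⟩ := (yon S).map_surjective (t ≫ pullback.snd h aW)
  refine ⟨T, hTc, gT, t ≫ pullback.fst h aW, ?_, ?_⟩
  · rw [Category.assoc, pullback.condition, hgT, Category.assoc]
  · exact denseRange_chart hX h hd aW ha (pullback.fst h aW) (pullback.snd h aW)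
      (IsPullback.of_hasPullback h aW) t hts gT hgT

end Groth.Agent.Helper5.RefVC
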