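import Mathlib

/-!
# Helper5: points of an affine scheme are specialisations of points in a dense quasi-compact image
-/

set_option autoImplicit false
universe u
open CategoryTheory CategoryTheory.Limits AlgebraicGeometry

namespace Groth.Agent.Helper5.RefVC

/-- If finitely many ring maps have jointly dense image on spectra then every prime contains the
contraction of a prime of one of the targets. -/
theorem exists_prime_comap_le {R : Type u} [CommRing R] {ι : Type*} [Finite ι]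
    (Ri : ι → Type u) [∀ i, CommRing (Ri i)] (g : ∀ i, R →+* Ri i)
    (hd : Dense (⋃ i, Set.range (PrimeSpectrum.comap (g i)))) (p : Ideal R) [p.IsPrime] :
    ∃ (i : ι) (q : Ideal (Ri i)), q.IsPrime ∧ q.comap (g i) ≤ p := by
  obtain ⟨ξ, hξ, hξp⟩ := Ideal.exists_minimalPrimes_le (I := ⊥) (J := p) bot_le
  haveI hξprime : ξ.IsPrime := hξ.1.1
  have hmem : (⟨ξ, hξprime⟩ : PrimeSpectrum R) ∈
      closure (⋃ i, Set.range (PrimeSpectrum.comap (g i))) := by
    rw [hd.closure_eq]; trivial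
  rw [closure_iUnion_of_finite, Set.mem_iUnion] at hmem
  obtain ⟨i, hi⟩ := hmem
  rw [PrimeSpectrum.closure_range_comap, PrimeSpectrum.mem_zeroLocus] at hi
  have hker : RingHom.ker (g i) ≤ ξ := hi
  have hmin : ξ ∈ ((⊥ : Ideal (Ri i)).comap (g i)).minimalPrimes := by
    refine ⟨⟨hξprime, hker⟩, ?_⟩
    rintro q ⟨hq, -⟩ hqξ
    exact hξ.2 ⟨hq, bot_le⟩ hqξ
  obtain ⟨q, hq, -, hqξ⟩ := Ideal.exists_comap_eq_of_mem_minimalPrimes (g i) ξ hmin
  exact ⟨i, q, hq, hqξ.le.trans hξp⟩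

set_option backward.isDefEq.respectTransparency.types false in
/-- A point of an affine scheme is a specialisation of a point in the image of a quasi-compact
scheme mapping densely to it; in ring form. -/
theorem exists_affine_piece {R : Type u} [CommRing R] {T : Scheme.{u}} [CompactSpace T]
    (g : T ⟶ Spec (CommRingCat.of R)) (hd : DenseRange g.base) (p : Ideal R) [p.IsPrime] :
    ∃ (R' : Type u) (_ : CommRing R') (a : Spec (CommRingCat.of R') ⟶ T) (g' : R →+* R')
      (q' : Ideal R'), q'.IsPrime ∧ a ≫ g = Spec.map (CommRingCat.ofHom g') ∧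
        q'.comap g' ≤ p := by
  let 𝒰 := T.affineCover.finiteSubcover
  haveI : Finite 𝒰.I₀ := Finite.of_fintype _
  haveI : ∀ i, IsAffine (𝒰.X i) := fun i => by
    change IsAffine (T.affineCover.X _)
    infer_instance
  let Ri : 𝒰.I₀ → Type u := fun i => Γ(𝒰.X i, ⊤)
  let a : ∀ i, Spec (CommRingCat.of (Ri i)) ⟶ T := fun i => (𝒰.X i).isoSpec.inv ≫ 𝒰.f i
  let gi : ∀ i, R →+* Ri i := fun i => (Spec.preimage (a i ≫ g)).hom
  have hgi : ∀ i, a i ≫ g = Spec.map (CommRingCat.ofHom (gi i)) := fun i =>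
    (Spec.map_preimage (a i ≫ g)).symm
  have hrange : Set.range g.base ⊆ ⋃ i, Set.range (PrimeSpectrum.comap (gi i)) := by
    rintro _ ⟨t, rfl⟩
    obtain ⟨y, hy⟩ := 𝒰.covers t
    rw [Set.mem_iUnion]
    refine ⟨𝒰.idx t, (𝒰.X (𝒰.idx t)).isoSpec.hom y, ?_⟩
    have h1 : (Spec.map (CommRingCat.ofHom (gi (𝒰.idx t)))) ((𝒰.X (𝒰.idx t)).isoSpec.hom y) = g t := by
      rw [← hgi]
      change ((𝒰.X (𝒰.idx t)).isoSpec.inv ≫ 𝒰.f (𝒰.idx t) ≫ g)
        ((𝒰.X (𝒰.idx t)).isoSpec.hom y) = g t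
      rw [← Scheme.Hom.comp_apply, Iso.hom_inv_id_assoc, Scheme.Hom.comp_apply, hy]
    exact h1
  have hd' : Dense (⋃ i, Set.range (PrimeSpectrum.comap (gi i))) := hd.mono hrange
  obtain ⟨i, q, hq, hqp⟩ := exists_prime_comap_le Ri gi hd' p
  exact ⟨Ri i, inferInstance, a i, gi i, q, hq, hgi i, hqp⟩

end Groth.Agent.Helper5.RefVC
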