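import Groth.Prelude.Def_AlgSpMor5
import Groth.Agent.Helper5.RefVC8

/-!
# Helper5: extending a valuative square along a map of valuation rings
-/

set_option autoImplicit false
universe u
open CategoryTheory CategoryTheory.Limits AlgebraicGeometry Opposite IsLocalRing

namespace Groth.Agent.Helper5.RefVC

open AlgSp

variable {S : Scheme.{u}}

section ext

variable {F G : Sp S} {f : F ⟶ G} (sq : ValSq f)
  {A₂ K₂ : Type u} [CommRing A₂] [IsDomain A₂] [ValuationRing A₂] [Field K₂] [Algebra A₂ K₂]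
  [IsFractionRing A₂ K₂]
  (φ₂ : sq.A →+* A₂) (ψ₂ : sq.K →+* K₂)
  (hc : (algebraMap A₂ K₂).comp φ₂ = ψ₂.comp (algebraMap sq.A sq.K))

include hc in
theorem ext_aux :
    Spec.map (CommRingCat.ofHom ψ₂) ≫ sq.ptK.hom =
      Spec.map (CommRingCat.ofHom (algebraMap A₂ K₂)) ≫ Spec.map (CommRingCat.ofHom φ₂) ≫ sq.str := by
  change Spec.map (CommRingCat.ofHom ψ₂) ≫ Spec.map (CommRingCat.ofHom (algebraMap sq.A sq.K)) ≫
    sq.str = _
  rw [spc_assoc, spc_assoc, hc]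

/-- the square obtained by extending the valuation ring (no domination required) -/
noncomputable def ext : ValSq f where
  A := A₂
  K := K₂
  str := Spec.map (CommRingCat.ofHom φ₂) ≫ sq.str
  top := (yon S).map (Over.homMk (Spec.map (CommRingCat.ofHom ψ₂)) (ext_aux sq φ₂ ψ₂ hc) :
    Over.mk (Spec.map (CommRingCat.ofHom (algebraMap A₂ K₂)) ≫
      Spec.map (CommRingCat.ofHom φ₂) ≫ sq.str) ⟶ sq.ptK) ≫ sq.top
  bot := (yon S).map (Over.homMk (Spec.map (CommRingCat.ofHom φ₂)) rfl :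
    Over.mk (Spec.map (CommRingCat.ofHom φ₂) ≫ sq.str) ⟶ sq.ptA) ≫ sq.bot
  comm := by
    rw [Category.assoc, sq.comm, ← Functor.map_comp_assoc, ← Functor.map_comp_assoc]
    congr 1
    apply yon_map_congr
    change Spec.map (CommRingCat.ofHom ψ₂) ≫ Spec.map (CommRingCat.ofHom (algebraMap sq.A sq.K)) =
      Spec.map (CommRingCat.ofHom (algebraMap A₂ K₂)) ≫ Spec.map (CommRingCat.ofHom φ₂)
    rw [spc, spc, hc]

theorem ext_top_factor {H : Sp S} (h : H ⟶ F)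
    (ht : ∃ t : (yon S).obj sq.ptK ⟶ H, t ≫ h = sq.top) :
    ∃ t : (yon S).obj (ext sq φ₂ ψ₂ hc).ptK ⟶ H, t ≫ h = (ext sq φ₂ ψ₂ hc).top := by
  obtain ⟨t, ht⟩ := ht
  exact ⟨(yon S).map (Over.homMk (Spec.map (CommRingCat.ofHom ψ₂)) (ext_aux sq φ₂ ψ₂ hc) :
    Over.mk (Spec.map (CommRingCat.ofHom (algebraMap A₂ K₂)) ≫
      Spec.map (CommRingCat.ofHom φ₂) ≫ sq.str) ⟶ sq.ptK) ≫ t, by rw [Category.assoc, ht]; rfl⟩

end ext

end Groth.Agent.Helper5.RefVC

namespace Groth.Agent.Helper5.RefVC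

open AlgSp

variable {S : Scheme.{u}}

section extLift

variable {F G : Sp S} {f : F ⟶ G} {sq : ValSq f} (e : sq.DomExt)

theorem domExt_aux : Spec.map (CommRingCat.ofHom e.ψ) ≫ sq.ptK.hom = e.ptK'.hom := by
  change Spec.map (CommRingCat.ofHom e.ψ) ≫ Spec.map (CommRingCat.ofHom (algebraMap sq.A sq.K)) ≫
    sq.str = Spec.map (CommRingCat.ofHom (algebraMap e.A' e.K')) ≫
      Spec.map (CommRingCat.ofHom e.φ) ≫ sq.str
  rw [spc_assoc, spc_assoc, e.comm]

theorem hasLift_iff :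
    e.HasLift ↔ ∃ l : (yon S).obj e.ptA' ⟶ F,
      (yon S).map (Over.homMk (Spec.map (CommRingCat.ofHom (algebraMap e.A' e.K'))) rfl :
        e.ptK' ⟶ e.ptA') ≫ l =
        (yon S).map (Over.homMk (Spec.map (CommRingCat.ofHom e.ψ)) (domExt_aux e) :
          e.ptK' ⟶ sq.ptK) ≫ sq.top ∧
      l ≫ f = (yon S).map (Over.homMk (Spec.map (CommRingCat.ofHom e.φ)) rfl :
        e.ptA' ⟶ sq.ptA) ≫ sq.bot := Iff.rfl

variable {A₂ : Type u} [CommRing A₂] [IsDomain A₂] [ValuationRing A₂] [Algebra A₂ e.K']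
  [IsFractionRing A₂ e.K']
  (χ : e.A' →+* A₂) (hχ : (algebraMap A₂ e.K').comp χ = algebraMap e.A' e.K')

include hχ in
theorem hc_of : (algebraMap A₂ e.K').comp (χ.comp e.φ) = e.ψ.comp (algebraMap sq.A sq.K) := by
  rw [← RingHom.comp_assoc, hχ, e.comm]

theorem extLift_aux :
    Spec.map (CommRingCat.ofHom χ) ≫ e.ptA'.hom =
      Spec.map (CommRingCat.ofHom (χ.comp e.φ)) ≫ sq.str := by
  change Spec.map (CommRingCat.ofHom χ) ≫ Spec.map (CommRingCat.ofHom e.φ) ≫ sq.str = _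
  rw [spc_assoc]

/-- the morphism `Spec A₂ ⟶ Spec e.A'` over `S` -/
noncomputable def extK : (ext sq (χ.comp e.φ) e.ψ (hc_of e χ hχ)).ptA ⟶ e.ptA' :=
  Over.homMk (Spec.map (CommRingCat.ofHom χ)) (extLift_aux e χ)

theorem extK_left : (extK e χ hχ).left = Spec.map (CommRingCat.ofHom χ) := rfl

/-- the restriction of a lift over `e.A'` to the further extension `A₂` -/
noncomputable def extLift (l₀ : (yon S).obj e.ptA' ⟶ F) :
    (yon S).obj (ext sq (χ.comp e.φ) e.ψ (hc_of e χ hχ)).ptA ⟶ F :=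
  (yon S).map (extK e χ hχ) ≫ l₀

theorem extLift_top (l₀ : (yon S).obj e.ptA' ⟶ F)
    (h1 : (yon S).map (Over.homMk (Spec.map (CommRingCat.ofHom (algebraMap e.A' e.K'))) rfl :
        e.ptK' ⟶ e.ptA') ≫ l₀ =
        (yon S).map (Over.homMk (Spec.map (CommRingCat.ofHom e.ψ)) (domExt_aux e) :
          e.ptK' ⟶ sq.ptK) ≫ sq.top) :
    (yon S).map (ext sq (χ.comp e.φ) e.ψ (hc_of e χ hχ)).j ≫ extLift e χ hχ l₀ =
      (ext sq (χ.comp e.φ) e.ψ (hc_of e χ hχ)).top := by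
  have hm : 𝟙 (Spec (CommRingCat.of e.K')) ≫ e.ptK'.hom =
      (ext sq (χ.comp e.φ) e.ψ (hc_of e χ hχ)).ptK.hom := by
    rw [Category.id_comp]
    change Spec.map (CommRingCat.ofHom (algebraMap e.A' e.K')) ≫
      Spec.map (CommRingCat.ofHom e.φ) ≫ sq.str =
      Spec.map (CommRingCat.ofHom (algebraMap A₂ e.K')) ≫
        Spec.map (CommRingCat.ofHom (χ.comp e.φ)) ≫ sq.str
    rw [spc_assoc, spc_assoc, ← RingHom.comp_assoc, hχ]
  let m : (ext sq (χ.comp e.φ) e.ψ (hc_of e χ hχ)).ptK ⟶ e.ptK' := Over.homMk (𝟙 _) hm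
  have e1 : (yon S).map (ext sq (χ.comp e.φ) e.ψ (hc_of e χ hχ)).j ≫ extLift e χ hχ l₀ =
      (yon S).map m ≫ (yon S).map (Over.homMk
        (Spec.map (CommRingCat.ofHom (algebraMap e.A' e.K'))) rfl : e.ptK' ⟶ e.ptA') ≫ l₀ := by
    unfold extLift
    rw [← Functor.map_comp_assoc, ← Functor.map_comp_assoc]
    congr 1
    apply yon_map_congr
    change Spec.map (CommRingCat.ofHom (algebraMap A₂ e.K')) ≫ Spec.map (CommRingCat.ofHom χ) =
      𝟙 _ ≫ Spec.map (CommRingCat.ofHom (algebraMap e.A' e.K'))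
    rw [Category.id_comp, spc, hχ]
  rw [e1, h1, ← Functor.map_comp_assoc]
  change _ = (yon S).map _ ≫ sq.top
  congr 1

theorem extLift_bot (l₀ : (yon S).obj e.ptA' ⟶ F)
    (h2 : l₀ ≫ f = (yon S).map (Over.homMk (Spec.map (CommRingCat.ofHom e.φ)) rfl :
        e.ptA' ⟶ sq.ptA) ≫ sq.bot) :
    extLift e χ hχ l₀ ≫ f = (ext sq (χ.comp e.φ) e.ψ (hc_of e χ hχ)).bot := by
  unfold extLift
  rw [Category.assoc, h2, ← Functor.map_comp_assoc]
  change _ = (yon S).map _ ≫ sq.bot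
  congr 1
  apply yon_map_congr
  change Spec.map (CommRingCat.ofHom χ) ≫ Spec.map (CommRingCat.ofHom e.φ) =
    Spec.map (CommRingCat.ofHom (χ.comp e.φ))
  rw [spc]

end extLift

end Groth.Agent.Helper5.RefVC
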