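import Groth.Agent.Helper5.RefVC2
import Groth.Agent.Helper5.RefVC5
import Groth.Agent.Helper5.RefVC9

/-!
# Helper5: the algebraic data for the refined valuative criterion, and the final transport
-/

set_option autoImplicit false
universe u
open CategoryTheory CategoryTheory.Limits AlgebraicGeometry Opposite IsLocalRing

namespace Groth.Agent.Helper5.RefVC

open AlgSp

variable {S : Scheme.{u}}

/-- the algebraic data: an affine piece of `T`, a valuation ring `B` through the generic point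
of that piece and centred at the given point of the chart, and a valuation ring `A₃` of its
residue field dominating the given local ring `A₁` -/
theorem exists_algebra_data {R_W K₂ A₁ : Type u} [CommRing R_W] [Field K₂] [CommRing A₁]
    [IsLocalRing A₁] {T : Scheme.{u}} [CompactSpace T] (g : T ⟶ Spec (CommRingCat.of R_W))
    (hd : DenseRange g.base) (ρ_W : R_W →+* K₂) (f₀ : A₁ →+* K₂) :
    ∃ (R' : Type u) (_ : CommRing R') (a : Spec (CommRingCat.of R') ⟶ T) (g' : R_W →+* R')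
      (_ : a ≫ g = Spec.map (CommRingCat.ofHom g'))
      (L : Type u) (_ : Field L) (B : ValuationSubring L) (γ : R_W →+* B) (δ : R' →+* L)
      (ε : K₂ →+* ResidueField B) (_ : δ.comp g' = (algebraMap B L).comp γ)
      (_ : ε.comp ρ_W = (residue B).comp γ) (A₃ : ValuationSubring (ResidueField B))
      (hf₀ : ∀ x : A₁, (ε.comp f₀) x ∈ A₃.toSubring),
      IsLocalHom ((ε.comp f₀).codRestrict A₃.toSubring hf₀) := by
  haveI : (RingHom.ker ρ_W).IsPrime := RingHom.ker_isPrime ρ_W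
  obtain ⟨R', i0, a, g', q', hq', hag, hle⟩ := exists_affine_piece g hd (RingHom.ker ρ_W)
  obtain ⟨L, i1, B, γ, δ, ε, hδ, hε⟩ := exists_valuationRing_through g' ρ_W q' hle
  obtain ⟨A₃, hmem, hloc⟩ := IsLocalRing.exists_factor_valuationRing (ε.comp f₀)
  exact ⟨R', i0, a, g', hag, L, i1, B, γ, δ, ε, hδ, hε, A₃, hmem, hloc⟩

section final

variable {F G : Sp S} {f : F ⟶ G} (sq : ValSq f)
  {R_V : Type u} [CommRing R_V] (σ_V : Spec (CommRingCat.of R_V) ⟶ S)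
  (v : (yon S).obj (Over.mk σ_V) ⟶ G)
  {A₁ : Type u} [CommRing A₁] (φ₁ : sq.A →+* A₁) (ρ_V : R_V →+* A₁)
  (hρ_V : Spec.map (CommRingCat.ofHom ρ_V) ≫ σ_V = Spec.map (CommRingCat.ofHom φ₁) ≫ sq.str)
  (hb₁ : (yon S).map (Over.homMk (Spec.map (CommRingCat.ofHom ρ_V)) hρ_V :
      Over.mk (Spec.map (CommRingCat.ofHom φ₁) ≫ sq.str) ⟶ Over.mk σ_V) ≫ v =
    (yon S).map (Over.homMk (Spec.map (CommRingCat.ofHom φ₁)) rfl :
      Over.mk (Spec.map (CommRingCat.ofHom φ₁) ≫ sq.str) ⟶ sq.ptA) ≫ sq.bot)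
  {A₄ K₄ : Type u} [CommRing A₄] [IsDomain A₄] [ValuationRing A₄] [Field K₄] [Algebra A₄ K₄]
  [IsFractionRing A₄ K₄]
  (θ : A₁ →+* A₄) (hθ : IsLocalHom (θ.comp φ₁)) (ψ : sq.K →+* K₄)
  (hc : (algebraMap A₄ K₄).comp (θ.comp φ₁) = ψ.comp (algebraMap sq.A sq.K))
  (l : (yon S).obj (Over.mk (Spec.map (CommRingCat.ofHom (θ.comp ρ_V)) ≫ σ_V)) ⟶ F)
  (hl1 : l ≫ f = (yon S).map (Over.homMk (Spec.map (CommRingCat.ofHom (θ.comp ρ_V))) rfl :
      Over.mk (Spec.map (CommRingCat.ofHom (θ.comp ρ_V)) ≫ σ_V) ⟶ Over.mk σ_V) ≫ v)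
  (hl2 : ∀ hw : Spec.map (CommRingCat.ofHom ψ) ≫ sq.ptK.hom =
      Spec.map (CommRingCat.ofHom (algebraMap A₄ K₄)) ≫
        Spec.map (CommRingCat.ofHom (θ.comp ρ_V)) ≫ σ_V,
    (yon S).map (Over.homMk (Spec.map (CommRingCat.ofHom (algebraMap A₄ K₄))) rfl :
      Over.mk (Spec.map (CommRingCat.ofHom (algebraMap A₄ K₄)) ≫
        Spec.map (CommRingCat.ofHom (θ.comp ρ_V)) ≫ σ_V) ⟶
        Over.mk (Spec.map (CommRingCat.ofHom (θ.comp ρ_V)) ≫ σ_V)) ≫ l =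
    (yon S).map (Over.homMk (Spec.map (CommRingCat.ofHom ψ)) hw :
      Over.mk (Spec.map (CommRingCat.ofHom (algebraMap A₄ K₄)) ≫
        Spec.map (CommRingCat.ofHom (θ.comp ρ_V)) ≫ σ_V) ⟶ sq.ptK) ≫ sq.top)

include hb₁ hl1 hl2 hθ hc in
theorem hasLiftExt_of_chart : sq.HasLiftExt := by
  let e : sq.DomExt :=
    { A' := A₄, K' := K₄, φ := θ.comp φ₁, ψ := ψ, comm := hc, isLocalHom := hθ }
  have hm : Spec.map (CommRingCat.ofHom (θ.comp ρ_V)) ≫ σ_V =
      Spec.map (CommRingCat.ofHom (θ.comp φ₁)) ≫ sq.str := by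
    rw [← spc_assoc, hρ_V, spc_assoc]
  have hm1 : 𝟙 (Spec (CommRingCat.of A₄)) ≫ Spec.map (CommRingCat.ofHom (θ.comp ρ_V)) ≫ σ_V =
      e.ptA'.hom := by
    rw [Category.id_comp]; exact hm
  let m : e.ptA' ⟶ Over.mk (Spec.map (CommRingCat.ofHom (θ.comp ρ_V)) ≫ σ_V) :=
    Over.homMk (𝟙 _) hm1
  have hmK1 : 𝟙 (Spec (CommRingCat.of K₄)) ≫ Spec.map (CommRingCat.ofHom (algebraMap A₄ K₄)) ≫
      Spec.map (CommRingCat.ofHom (θ.comp ρ_V)) ≫ σ_V = e.ptK'.hom := by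
    rw [Category.id_comp, hm]
    rfl
  let mK : e.ptK' ⟶ Over.mk (Spec.map (CommRingCat.ofHom (algebraMap A₄ K₄)) ≫
      Spec.map (CommRingCat.ofHom (θ.comp ρ_V)) ≫ σ_V) := Over.homMk (𝟙 _) hmK1
  have hw : Spec.map (CommRingCat.ofHom ψ) ≫ sq.ptK.hom =
      Spec.map (CommRingCat.ofHom (algebraMap A₄ K₄)) ≫
        Spec.map (CommRingCat.ofHom (θ.comp ρ_V)) ≫ σ_V := by
    rw [hm]
    exact domExt_aux e
  have hmθ : Spec.map (CommRingCat.ofHom θ) ≫ Spec.map (CommRingCat.ofHom φ₁) ≫ sq.str =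
      e.ptA'.hom := spc_assoc θ φ₁ sq.str
  let mθ : e.ptA' ⟶ Over.mk (Spec.map (CommRingCat.ofHom φ₁) ≫ sq.str) :=
    Over.homMk (Spec.map (CommRingCat.ofHom θ)) hmθ
  refine ⟨e, (hasLift_iff e).mpr ⟨(yon S).map m ≫ l, ?_, ?_⟩⟩
  · have e1 : (Over.homMk (Spec.map (CommRingCat.ofHom (algebraMap e.A' e.K'))) rfl :
        e.ptK' ⟶ e.ptA') ≫ m = mK ≫ (Over.homMk
          (Spec.map (CommRingCat.ofHom (algebraMap A₄ K₄))) rfl :
        Over.mk (Spec.map (CommRingCat.ofHom (algebraMap A₄ K₄)) ≫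
          Spec.map (CommRingCat.ofHom (θ.comp ρ_V)) ≫ σ_V) ⟶
          Over.mk (Spec.map (CommRingCat.ofHom (θ.comp ρ_V)) ≫ σ_V)) := by
      apply Over.OverMorphism.ext
      change Spec.map (CommRingCat.ofHom (algebraMap A₄ K₄)) ≫ 𝟙 _ =
        𝟙 _ ≫ Spec.map (CommRingCat.ofHom (algebraMap A₄ K₄))
      rw [Category.comp_id, Category.id_comp]
    rw [← Functor.map_comp_assoc, e1, Functor.map_comp, Category.assoc, hl2 hw,
      ← Functor.map_comp_assoc]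
    congr 1
  · have e2 : m ≫ (Over.homMk (Spec.map (CommRingCat.ofHom (θ.comp ρ_V))) rfl :
        Over.mk (Spec.map (CommRingCat.ofHom (θ.comp ρ_V)) ≫ σ_V) ⟶ Over.mk σ_V) =
        mθ ≫ (Over.homMk (Spec.map (CommRingCat.ofHom ρ_V)) hρ_V :
          Over.mk (Spec.map (CommRingCat.ofHom φ₁) ≫ sq.str) ⟶ Over.mk σ_V) := by
      apply Over.OverMorphism.ext
      change 𝟙 _ ≫ Spec.map (CommRingCat.ofHom (θ.comp ρ_V)) =
        Spec.map (CommRingCat.ofHom θ) ≫ Spec.map (CommRingCat.ofHom ρ_V)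
      rw [Category.id_comp, spc]
    rw [Category.assoc, hl1, ← Functor.map_comp_assoc, e2, Functor.map_comp, Category.assoc, hb₁,
      ← Functor.map_comp_assoc]
    congr 1
    apply yon_map_congr
    change Spec.map (CommRingCat.ofHom θ) ≫ Spec.map (CommRingCat.ofHom φ₁) =
      Spec.map (CommRingCat.ofHom (θ.comp φ₁))
    rw [spc]

end final

end Groth.Agent.Helper5.RefVC
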