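import Groth.Agent.Helper4.AlgSpPB
import Groth.Agent.Helper5.RefVC11
import Groth.Agent.Helper5.RefVC12
import Groth.Agent.Helper5.RefVC13

/-!
# Helper5: the existence part of the valuative criterion from the refined criterion
-/

set_option autoImplicit false
universe u
open CategoryTheory CategoryTheory.Limits AlgebraicGeometry Opposite IsLocalRing

namespace Groth.Agent.Helper5.RefVC

open AlgSp

variable {S : Scheme.{u}}

theorem exists_fraction_ext_aux {A K A₁ K₁ : Type u} [CommRing A] [IsDomain A] [Field K]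
    [Algebra A K] [IsFractionRing A K] [CommRing A₁] [IsDomain A₁] [Field K₁] [Algebra A₁ K₁]
    [IsFractionRing A₁ K₁] (φ₁ : A →+* A₁) (hφ₁ : Function.Injective φ₁) :
    ∃ (ψ₁ : K →+* K₁), ψ₁.comp (algebraMap A K) = (algebraMap A₁ K₁).comp φ₁ := by
  have hinj₁ : Function.Injective ((algebraMap A₁ K₁).comp φ₁) := by
    intro x y hxy
    exact hφ₁ (IsFractionRing.injective A₁ K₁ hxy)
  refine ⟨IsFractionRing.lift hinj₁, ?_⟩
  ext x
  exact IsFractionRing.lift_algebraMap hinj₁ x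

theorem exists_fraction_ext {A K A₁ : Type u} [CommRing A] [IsDomain A] [Field K] [Algebra A K]
    [IsFractionRing A K] [CommRing A₁] [IsDomain A₁] (φ₁ : A →+* A₁)
    (hφ₁ : Function.Injective φ₁) :
    ∃ (K₁ : Type u) (_ : Field K₁) (_ : Algebra A₁ K₁) (_ : IsFractionRing A₁ K₁)
      (ψ₁ : K →+* K₁), ψ₁.comp (algebraMap A K) = (algebraMap A₁ K₁).comp φ₁ :=
  ⟨FractionRing A₁, inferInstance, inferInstance, inferInstance,
    exists_fraction_ext_aux φ₁ hφ₁⟩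

set_option maxHeartbeats 1600000 in
theorem existVC_of_refined {U X Y : Sp S} (hX : IsAlgSpace X) (hY : IsAlgSpace Y) (f : X ⟶ Y)
    (h : U ⟶ X) (hh : IsQuasiCompactMor h) (hd : DenseRange (Points.map h))
    (hv : ∀ sq : ValSq f, (∃ t : (yon S).obj sq.ptK ⟶ U, t ≫ h = sq.top) →
      sq.HasUniq ∧ sq.HasLiftExt) :
    ExistVC f := by
  intro sq
  -- Step 1: a chart of `Y` at the bottom arrow
  obtain ⟨R_V, i0, σ_V, v, hv_et, A₁, i1, i2, i3, φ₁, hφ₁i, hφ₁l, ρ_V, hρ_V, hb₁⟩ :=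
    exists_spec_chart_lift hY sq.A sq.str sq.bot
  obtain ⟨K₁, k1, k2, k3, ψ₁, hψ₁⟩ := exists_fraction_ext (K := sq.K) φ₁ hφ₁i
  obtain ⟨strK₁, hstrK₁⟩ : ∃ s : Spec (CommRingCat.of K₁) ⟶ S,
      Spec.map (CommRingCat.ofHom (algebraMap A₁ K₁)) ≫
        Spec.map (CommRingCat.ofHom φ₁) ≫ sq.str = s := ⟨_, rfl⟩
  have hψ₁S : Spec.map (CommRingCat.ofHom ψ₁) ≫ sq.ptK.hom = strK₁ := by
    change Spec.map (CommRingCat.ofHom ψ₁) ≫
      Spec.map (CommRingCat.ofHom (algebraMap sq.A sq.K)) ≫ sq.str = _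
    rw [spc_assoc, hψ₁, ← spc_assoc, hstrK₁]
  let mψ₁ : Over.mk strK₁ ⟶ sq.ptK := Over.homMk (Spec.map (CommRingCat.ofHom ψ₁)) hψ₁S
  let mj₁ : Over.mk strK₁ ⟶ Over.mk (Spec.map (CommRingCat.ofHom φ₁) ≫ sq.str) :=
    Over.homMk (Spec.map (CommRingCat.ofHom (algebraMap A₁ K₁))) hstrK₁
  let mρ_V : Over.mk (Spec.map (CommRingCat.ofHom φ₁) ≫ sq.str) ⟶ Over.mk σ_V :=
    Over.homMk (Spec.map (CommRingCat.ofHom ρ_V)) hρ_V
  have hcompat₁ : ((yon S).map mψ₁ ≫ sq.top) ≫ f = ((yon S).map mj₁ ≫ (yon S).map mρ_V) ≫ v := by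
    rw [Category.assoc, sq.comm, Category.assoc, hb₁, ← Functor.map_comp_assoc,
      ← Functor.map_comp_assoc]
    congr 1
    apply yon_map_congr
    change Spec.map (CommRingCat.ofHom ψ₁) ≫ Spec.map (CommRingCat.ofHom (algebraMap sq.A sq.K)) =
      Spec.map (CommRingCat.ofHom (algebraMap A₁ K₁)) ≫ Spec.map (CommRingCat.ofHom φ₁)
    rw [spc, spc, hψ₁]
  let t₁ : (yon S).obj (Over.mk strK₁) ⟶ pullback f v :=
    pullback.lift ((yon S).map mψ₁ ≫ sq.top) ((yon S).map mj₁ ≫ (yon S).map mρ_V) hcompat₁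
  have ht₁f : t₁ ≫ pullback.fst f v = (yon S).map mψ₁ ≫ sq.top := pullback.lift_fst _ _ _
  have ht₁s : t₁ ≫ pullback.snd f v = (yon S).map mj₁ ≫ (yon S).map mρ_V :=
    pullback.lift_snd _ _ _
  have hXV : IsAlgSpace (pullback f v) :=
    Groth.Agent.Helper4.AlgSpPB.isAlgSpace_of_isPullback hY.diag hX (IsAlgSpace.yon_obj _) f v
      _ _ (IsPullback.of_hasPullback f v)
  -- Step 2: a chart of `X ×_Y V` at the generic point
  obtain ⟨R_W, j0, σ_W, w, hw_et, K₂, j1, κ, ρ_W, hρ_W, hc₂⟩ :=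
    exists_spec_chart_lift_field hXV K₁ strK₁ t₁
  let mρ_W : Over.mk (Spec.map (CommRingCat.ofHom κ) ≫ strK₁) ⟶ Over.mk σ_W :=
    Over.homMk (Spec.map (CommRingCat.ofHom ρ_W)) hρ_W
  let mκ : Over.mk (Spec.map (CommRingCat.ofHom κ) ≫ strK₁) ⟶ Over.mk strK₁ :=
    Over.homMk (Spec.map (CommRingCat.ofHom κ)) rfl
  have hc₂' : (yon S).map mρ_W ≫ w = (yon S).map mκ ≫ t₁ := hc₂
  obtain ⟨aW, haWdef⟩ : ∃ aW : (yon S).obj (Over.mk σ_W) ⟶ X, aW = w ≫ pullback.fst f v :=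
    ⟨_, rfl⟩
  have i4 : (RepWith (S := S) @Etale).IsStableUnderComposition :=
    (repWith_isMultiplicative (S := S) @Etale).toIsStableUnderComposition
  have haW_et : RepWith @Etale aW := by
    rw [haWdef]
    exact MorphismProperty.comp_mem _ _ _ hw_et
      ((repWith_isStableUnderBaseChange (S := S) @Etale).of_isPullback
        (IsPullback.of_hasPullback f v).flip hv_et)
  obtain ⟨gWV, hgWV⟩ := (yon S).map_surjective (w ≫ pullback.snd f v)
  let ρ : R_V →+* R_W := (Spec.preimage gWV.left).hom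
  have hρ : Spec.map (CommRingCat.ofHom ρ) = gWV.left := Spec.map_preimage _
  have hσ : Spec.map (CommRingCat.ofHom ρ) ≫ σ_V = σ_W := by
    rw [hρ]; exact Over.w gWV
  have hgWV' : (Over.homMk (Spec.map (CommRingCat.ofHom ρ)) hσ : Over.mk σ_W ⟶ Over.mk σ_V) =
      gWV := Over.OverMorphism.ext hρ
  have haW : aW ≫ f = (yon S).map (Over.homMk (Spec.map (CommRingCat.ofHom ρ)) hσ :
      Over.mk σ_W ⟶ Over.mk σ_V) ≫ v := by
    rw [hgWV', hgWV, haWdef, Category.assoc, Category.assoc, pullback.condition]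
  -- Step 3: a quasi-compact scheme dense in the chart
  haveI : CompactSpace (Over.mk σ_W).left := by
    change CompactSpace (Spec (CommRingCat.of R_W))
    infer_instance
  obtain ⟨T, hTc, gT, tU, htU, hdT⟩ := exists_dense_scheme hX h hh hd aW haW_et
  -- Steps 5-7: the algebraic data
  obtain ⟨R', k0, a, g', hag, L, l1, B, γ, δ, ε, hδ, hε, A₃, hf₀, hloc⟩ :=
    exists_algebra_data gT.left hdT ρ_W (κ.comp (algebraMap A₁ K₁))
  have hcompat : ρ_W.comp ρ = (κ.comp (algebraMap A₁ K₁)).comp ρ_V := by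
    have e1 : (yon S).map (mρ_W ≫ gWV) = (yon S).map (mκ ≫ mj₁ ≫ mρ_V) := by
      calc (yon S).map (mρ_W ≫ gWV) = (yon S).map mρ_W ≫ (yon S).map gWV :=
            Functor.map_comp _ _ _
        _ = (yon S).map mρ_W ≫ w ≫ pullback.snd f v := by rw [hgWV]
        _ = ((yon S).map mρ_W ≫ w) ≫ pullback.snd f v := (Category.assoc _ _ _).symm
        _ = ((yon S).map mκ ≫ t₁) ≫ pullback.snd f v := by rw [hc₂']
        _ = (yon S).map mκ ≫ t₁ ≫ pullback.snd f v := Category.assoc _ _ _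
        _ = (yon S).map mκ ≫ (yon S).map mj₁ ≫ (yon S).map mρ_V := by rw [ht₁s]
        _ = (yon S).map (mκ ≫ mj₁ ≫ mρ_V) := by rw [Functor.map_comp, Functor.map_comp]
    have e2 : mρ_W ≫ gWV = mκ ≫ mj₁ ≫ mρ_V := (yon S).map_injective e1
    have e3 := congrArg (fun m => m.left) e2
    have e4 : Spec.map (CommRingCat.ofHom ρ_W) ≫ Spec.map (CommRingCat.ofHom ρ) =
        Spec.map (CommRingCat.ofHom κ) ≫ Spec.map (CommRingCat.ofHom (algebraMap A₁ K₁)) ≫
          Spec.map (CommRingCat.ofHom ρ_V) := by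
      rw [hρ]; exact e3
    rw [spc, spc, spc] at e4
    have e5 := Spec.map_injective e4
    exact congrArg CommRingCat.Hom.hom e5
  have hres : ∀ r : R_V, residue B (γ (ρ r)) = ε (κ (algebraMap A₁ K₁ (ρ_V r))) := by
    intro r
    have h1 := congrArg (fun t => t (ρ r)) hε
    have h2 := congrArg (fun t => t r) hcompat
    simp only [RingHom.comp_apply] at h1 h2
    rw [← h1, h2]
  have hA₃ : ∀ r : R_V, residue B (γ (ρ r)) ∈ A₃ := by
    intro r
    rw [hres r]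
    exact hf₀ (ρ_V r)
  -- Step 8: the core
  obtain ⟨A₄, m0, m1, m2, K₄, m3, m4, m5, α, hα, ω, hω, ρ₄, hρ₄, l, hl1, hl2⟩ :=
    core f h σ_V v σ_W ρ hσ aW haW gT tU htU a g' hag B γ δ hδ A₃ hA₃ hv
  -- Step 9: the dominating extension of the original square
  let f₁ : A₁ →+* A₃ := (ε.comp (κ.comp (algebraMap A₁ K₁))).codRestrict A₃.toSubring hf₀
  have hf₁ : ∀ x : A₁, ((f₁ x : A₃) : ResidueField B) = ε (κ (algebraMap A₁ K₁ x)) :=
    fun x => rfl
  obtain ⟨θ, hθdef⟩ : ∃ θ : A₁ →+* A₄, θ = α.comp f₁ := ⟨_, rfl⟩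
  have hρ₄' : ρ₄ = θ.comp ρ_V := by
    ext r
    rw [hρ₄ r, hθdef]
    change _ = α (f₁ (ρ_V r))
    congr 1
    apply Subtype.ext
    exact hres r
  subst hρ₄'
  have hθ : IsLocalHom (θ.comp φ₁) := by
    rw [hθdef]
    haveI : IsLocalHom f₁ := hloc
    haveI : IsLocalHom (α.comp f₁) := RingHom.isLocalHom_comp α f₁
    exact RingHom.isLocalHom_comp (α.comp f₁) φ₁
  obtain ⟨ψt, hψtdef⟩ : ∃ ψt : sq.K →+* K₄, ψt = ((ω.comp ε).comp κ).comp ψ₁ := ⟨_, rfl⟩
  have hc : (algebraMap A₄ K₄).comp (θ.comp φ₁) = ψt.comp (algebraMap sq.A sq.K) := by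
    ext x
    rw [hθdef, hψtdef]
    change algebraMap A₄ K₄ (α (f₁ (φ₁ x))) = ω (ε (κ (ψ₁ (algebraMap sq.A sq.K x))))
    rw [← hω, hf₁]
    have h1 := congrArg (fun t => t x) hψ₁
    simp only [RingHom.comp_apply] at h1
    rw [h1]
  refine hasLiftExt_of_chart sq σ_V v φ₁ ρ_V hρ_V hb₁ θ hθ ψt hc l hl1 ?_
  intro hw'
  have hring : (ω.comp (residue B)).comp γ = (ω.comp ε).comp ρ_W := by
    rw [RingHom.comp_assoc, ← hε, ← RingHom.comp_assoc]
  have hψt3 : Spec.map (CommRingCat.ofHom ψt) =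
      Spec.map (CommRingCat.ofHom (ω.comp ε)) ≫ Spec.map (CommRingCat.ofHom κ) ≫
        Spec.map (CommRingCat.ofHom ψ₁) := by
    rw [spc, spc, hψtdef, RingHom.comp_assoc]
  have hmωε : Spec.map (CommRingCat.ofHom (ω.comp ε)) ≫ Spec.map (CommRingCat.ofHom κ) ≫ strK₁ =
      Spec.map (CommRingCat.ofHom (algebraMap A₄ K₄)) ≫
        Spec.map (CommRingCat.ofHom (θ.comp ρ_V)) ≫ σ_V := by
    rw [← hw', ← hψ₁S, hψt3, Category.assoc, Category.assoc]
  have hw : Spec.map (CommRingCat.ofHom ((ω.comp (residue B)).comp γ)) ≫ σ_W =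
      Spec.map (CommRingCat.ofHom (algebraMap A₄ K₄)) ≫
        Spec.map (CommRingCat.ofHom (θ.comp ρ_V)) ≫ σ_V := by
    rw [hring, ← spc_assoc, hρ_W, hmωε]
  let mωε : Over.mk (Spec.map (CommRingCat.ofHom (algebraMap A₄ K₄)) ≫
      Spec.map (CommRingCat.ofHom (θ.comp ρ_V)) ≫ σ_V) ⟶
      Over.mk (Spec.map (CommRingCat.ofHom κ) ≫ strK₁) :=
    Over.homMk (Spec.map (CommRingCat.ofHom (ω.comp ε))) hmωε
  have e1 : (Over.homMk (Spec.map (CommRingCat.ofHom ((ω.comp (residue B)).comp γ))) hw :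
      Over.mk (Spec.map (CommRingCat.ofHom (algebraMap A₄ K₄)) ≫
        Spec.map (CommRingCat.ofHom (θ.comp ρ_V)) ≫ σ_V) ⟶ Over.mk σ_W) = mωε ≫ mρ_W := by
    apply Over.OverMorphism.ext
    change Spec.map (CommRingCat.ofHom ((ω.comp (residue B)).comp γ)) =
      Spec.map (CommRingCat.ofHom (ω.comp ε)) ≫ Spec.map (CommRingCat.ofHom ρ_W)
    rw [spc, hring]
  have e2 : (Over.homMk (Spec.map (CommRingCat.ofHom ψt)) hw' :
      Over.mk (Spec.map (CommRingCat.ofHom (algebraMap A₄ K₄)) ≫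
        Spec.map (CommRingCat.ofHom (θ.comp ρ_V)) ≫ σ_V) ⟶ sq.ptK) = mωε ≫ mκ ≫ mψ₁ := by
    apply Over.OverMorphism.ext
    exact hψt3
  rw [hl2 hw, e1, e2]
  calc (yon S).map (mωε ≫ mρ_W) ≫ aW
      = (yon S).map mωε ≫ ((yon S).map mρ_W ≫ w) ≫ pullback.fst f v := by
        rw [haWdef, Functor.map_comp, Category.assoc, Category.assoc]
    _ = (yon S).map mωε ≫ ((yon S).map mκ ≫ t₁) ≫ pullback.fst f v := by rw [hc₂']
    _ = (yon S).map mωε ≫ (yon S).map mκ ≫ t₁ ≫ pullback.fst f v := by rw [Category.assoc]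
    _ = (yon S).map mωε ≫ (yon S).map mκ ≫ (yon S).map mψ₁ ≫ sq.top := by rw [ht₁f]
    _ = (yon S).map (mωε ≫ mκ ≫ mψ₁) ≫ sq.top := by
        rw [Functor.map_comp, Functor.map_comp, Category.assoc, Category.assoc]

end Groth.Agent.Helper5.RefVC
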