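import Groth.Agent.Helper5.RefVC14
import Groth.Agent.Helper6.ValCrit
import Groth.Agent.Helper4.AlgSpQC

/-!
# Helper5: the refined valuative criterion
-/

set_option autoImplicit false
universe u
open CategoryTheory CategoryTheory.Limits AlgebraicGeometry Opposite IsLocalRing

namespace Groth.Agent.Helper5.RefVC

open AlgSp

variable {S : Scheme.{u}}

theorem isUnivClosedMor_of_refined {U X Y : Sp S} (hX : IsAlgSpace X) (hY : IsAlgSpace Y)
    (f : X ⟶ Y) (h : U ⟶ X) (hf : IsQuasiCompactMor f) (hh : IsQuasiCompactMor h)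
    (hd : DenseRange (Points.map h))
    (hv : ∀ sq : ValSq f, (∃ t : (yon S).obj sq.ptK ⟶ U, t ≫ h = sq.top) →
      sq.HasUniq ∧ sq.HasLiftExt) :
    IsUnivClosedMor f :=
  Groth.Agent.Helper6.ValCrit.isUnivClosedMor_of_qc_existVC hX hY f hf
    (existVC_of_refined hX hY f h hh hd hv)

theorem isSeparatedMor_of_refined {U X Y : Sp S} (hX : IsAlgSpace X) (hY : IsAlgSpace Y)
    (f : X ⟶ Y) (h : U ⟶ X) (hh : IsQuasiCompactMor h)
    (hd : DenseRange (Points.map h))
    (hv : ∀ sq : ValSq f, (∃ t : (yon S).obj sq.ptK ⟶ U, t ≫ h = sq.top) →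
      sq.HasUniq ∧ sq.HasLiftExt)
    (hqs : IsQuasiSeparatedMor f) : IsSeparatedMor f := by
  apply Groth.Agent.Helper5.AlgSpProper.isSeparatedMor_of_diagonal_univClosed hX f
  have hPB : IsAlgSpace (pullback f f) :=
    Groth.Agent.Helper4.AlgSpPB.isAlgSpace_of_isPullback hY.diag hX hX f f _ _
      (IsPullback.of_hasPullback f f)
  refine isUnivClosedMor_of_refined hX hPB (pullback.diagonal f) h
    (Groth.Agent.Helper4.AlgSpQC.isQuasiCompactMor_of_repWith _ hqs) hh hd ?_
  rintro sq ⟨t, ht⟩
  constructor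
  · intro l l' _ hl _ hl'
    have h1 : l ≫ pullback.diagonal f = l' ≫ pullback.diagonal f := hl.trans hl'.symm
    have h2 := congrArg (fun m => m ≫ pullback.fst f f) h1
    simpa only [Category.assoc, pullback.diagonal_fst, Category.comp_id] using h2
  · apply Groth.Agent.Helper6.ValCrit.hasLiftExt_of_hasLift
    let l₁ := sq.bot ≫ pullback.fst f f
    let l₂ := sq.bot ≫ pullback.snd f f
    have h₁ : (yon S).map sq.j ≫ l₁ = sq.top := by
      rw [← Category.assoc, ← sq.comm, Category.assoc, pullback.diagonal_fst, Category.comp_id]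
    have h₂ : (yon S).map sq.j ≫ l₂ = sq.top := by
      rw [← Category.assoc, ← sq.comm, Category.assoc, pullback.diagonal_snd, Category.comp_id]
    let sqf : ValSq f :=
      { A := sq.A, K := sq.K, str := sq.str, top := sq.top, bot := l₁ ≫ f,
        comm := by rw [← Category.assoc, h₁] }
    have h12 : l₁ = l₂ := (hv sqf ⟨t, ht⟩).1 l₁ l₂ h₁ rfl h₂ (by
      change (sq.bot ≫ pullback.snd f f) ≫ f = (sq.bot ≫ pullback.fst f f) ≫ f
      rw [Category.assoc, Category.assoc, pullback.condition])
    refine ⟨l₁, h₁, ?_⟩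
    apply pullback.hom_ext
    · rw [Category.assoc, pullback.diagonal_fst, Category.comp_id]
    · rw [Category.assoc, pullback.diagonal_snd, Category.comp_id]
      exact h12

end Groth.Agent.Helper5.RefVC
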