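import Groth.Agent.Helper5.RefVC1

/-!
# Helper5: a valuation ring through a generization with a prescribed residue field extension
-/

set_option autoImplicit false
universe u
open CategoryTheory CategoryTheory.Limits AlgebraicGeometry IsLocalRing

namespace Groth.Agent.Helper5.RefVC

/-- Let `g : R → R'` be a ring map, `q'` a prime of `R'` and `ρ : R → K₂` a map to a field whose
kernel contains the contraction of `q'`.  Then there is a valuation ring `B` of a field `L` with
maps `γ : R → B`, `δ : R' → L` (compatible) and an embedding `ε` of `K₂` into the residue field of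
`B` compatible with `ρ`. -/
theorem exists_valuationRing_through {R R' K₂ : Type u} [CommRing R] [CommRing R'] [Field K₂]
    (g : R →+* R') (ρ : R →+* K₂) (q' : Ideal R') [hq' : q'.IsPrime]
    (hle : q'.comap g ≤ RingHom.ker ρ) :
    ∃ (L : Type u) (_ : Field L) (B : ValuationSubring L) (γ : R →+* B) (δ : R' →+* L)
      (ε : K₂ →+* ResidueField B),
      δ.comp g = (algebraMap B L).comp γ ∧ ε.comp ρ = (residue B).comp γ := by
  classical
  let P := MvPolynomial K₂ R
  let Φ : P →+* K₂ := MvPolynomial.eval₂Hom ρ id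
  have hΦC : ∀ r, Φ (MvPolynomial.C r) = ρ r := fun r => MvPolynomial.eval₂Hom_C _ _ r
  have hΦX : ∀ k, Φ (MvPolynomial.X k) = k := fun k => MvPolynomial.eval₂Hom_X' _ _ k
  let 𝔫 : Ideal P := RingHom.ker Φ
  haveI h𝔫 : 𝔫.IsPrime := RingHom.ker_isPrime Φ
  haveI hρ : (RingHom.ker ρ).IsPrime := RingHom.ker_isPrime ρ
  haveI : 𝔫.LiesOver (RingHom.ker ρ) := by
    constructor
    ext r
    change _ ↔ r ∈ Ideal.comap (algebraMap R P) 𝔫
    rw [Ideal.mem_comap, RingHom.mem_ker, RingHom.mem_ker]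
    change _ ↔ Φ (MvPolynomial.C r) = 0
    rw [hΦC]
  haveI hp' : (q'.comap g).IsPrime := Ideal.comap_isPrime g q'
  obtain ⟨𝔮, h𝔮le, h𝔮p, h𝔮o⟩ :=
    Ideal.exists_ideal_le_liesOver_of_le (S := P) (p := q'.comap g) (q := RingHom.ker ρ) 𝔫 hle
  have hq𝔮 : q'.comap g = 𝔮.comap (MvPolynomial.C : R →+* P) := h𝔮o.over
  obtain ⟨κ, hκ, δ, θ, hcomp, hkerθ, -⟩ := exists_field_point g (MvPolynomial.C : R →+* P) q' 𝔮 hq𝔮
  let Pn := Localization.AtPrime 𝔫
  have hunit : ∀ y : 𝔫.primeCompl, IsUnit (θ y) := by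
    intro y
    rw [isUnit_iff_ne_zero]
    intro h0
    have h1 : (y : P) ∈ 𝔮 := by rw [← hkerθ]; exact h0
    exact y.2 (h𝔮le h1)
  let ψ : Pn →+* κ := IsLocalization.lift (M := 𝔫.primeCompl) (g := θ) hunit
  have hψ : ∀ a : P, ψ (algebraMap P Pn a) = θ a := fun a => IsLocalization.lift_eq _ _
  obtain ⟨B, hB, hloc⟩ := IsLocalRing.exists_factor_valuationRing ψ
  let ψ' : Pn →+* B := ψ.codRestrict B.toSubring hB
  have hψ' : ∀ x : Pn, ((ψ' x : B) : κ) = ψ x := fun x => rfl
  let γ : R →+* B := ψ'.comp ((algebraMap P Pn).comp (MvPolynomial.C : R →+* P))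
  let χ : P →+* ResidueField B := (residue B).comp (ψ'.comp (algebraMap P Pn))
  have hχ : RingHom.ker Φ ≤ RingHom.ker χ := by
    intro a ha
    rw [RingHom.mem_ker]
    change residue B (ψ' (algebraMap P Pn a)) = 0
    rw [residue_eq_zero_iff]
    have h1 : algebraMap P Pn a ∈ maximalIdeal Pn :=
      (IsLocalization.AtPrime.to_map_mem_maximal_iff Pn 𝔫 a).mpr ha
    by_contra h2
    have h3 : IsUnit (ψ' (algebraMap P Pn a)) := by
      rwa [mem_maximalIdeal, mem_nonunits_iff, not_not] at h2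
    have h4 : IsUnit (algebraMap P Pn a) := hloc.map_nonunit _ h3
    exact h1 h4
  have hright : Function.RightInverse (fun k : K₂ => (MvPolynomial.X k : P)) Φ := hΦX
  let ε : K₂ →+* ResidueField B := Φ.liftOfRightInverse _ hright ⟨χ, hχ⟩
  have hε : ∀ a : P, ε (Φ a) = χ a := fun a => RingHom.liftOfRightInverse_comp_apply _ _ _ _ _
  refine ⟨κ, hκ, B, γ, δ, ε, ?_, ?_⟩
  · ext r
    change δ (g r) = ((ψ' (algebraMap P Pn (MvPolynomial.C r)) : B) : κ)
    rw [hψ', hψ]
    exact congrArg (fun t => t r) hcomp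
  · ext r
    change ε (ρ r) = residue B (ψ' (algebraMap P Pn (MvPolynomial.C r)))
    rw [← hΦC, hε]
    rfl

end Groth.Agent.Helper5.RefVC
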