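import Mathlib

/-!
# Helper5: the composite of a valuation ring with a valuation ring of its residue field
-/

set_option autoImplicit false
universe u
open IsLocalRing

namespace Groth.Agent.Helper5.RefVC

variable {L : Type u} [Field L] (B : ValuationSubring L) (A₃ : ValuationSubring (ResidueField B))

theorem comp_key (x : L) (hx : x ∈ B) :
    x ∈ (A₃.toSubring.comap (residue B)).map B.subtype ∨
      x⁻¹ ∈ (A₃.toSubring.comap (residue B)).map B.subtype := by
  let b : B := ⟨x, hx⟩
  by_cases h : residue B b ∈ A₃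
  · left
    exact ⟨b, h, rfl⟩
  · right
    have hinv : (residue B b)⁻¹ ∈ A₃ := (A₃.mem_or_inv_mem (residue B b)).resolve_left h
    have hne : residue B b ≠ 0 := by
      intro h0; rw [h0] at h; exact h A₃.zero_mem
    have hb : IsUnit b := by
      by_contra hb
      exact hne ((residue_eq_zero_iff b).mpr hb)
    obtain ⟨u, hu⟩ := hb
    refine ⟨((u⁻¹ : Bˣ) : B), ?_, ?_⟩
    · change residue B ((u⁻¹ : Bˣ) : B) ∈ A₃
      have h2 : residue B (u : B) * residue B ((u⁻¹ : Bˣ) : B) = 1 := by
        rw [← map_mul]; simp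
      have h1 : residue B ((u⁻¹ : Bˣ) : B) = (residue B b)⁻¹ := by
        rw [← hu]
        exact (eq_inv_of_mul_eq_one_right h2)
      rw [h1]; exact hinv
    · change (((u⁻¹ : Bˣ) : B) : L) = x⁻¹
      have h3 : (u : B) * ((u⁻¹ : Bˣ) : B) = 1 := by simp
      have h2 : ((u : B) : L) * (((u⁻¹ : Bˣ) : B) : L) = 1 := by
        have h4 : (((u : B) * ((u⁻¹ : Bˣ) : B) : B) : L) = ((1 : B) : L) := by rw [h3]
        exact h4
      have h5 : ((u : B) : L) = x := by rw [hu]
      rw [h5] at h2
      exact (eq_inv_of_mul_eq_one_right h2)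

/-- The composite valuation ring: elements of `B` whose residue class lies in `A₃`. -/
def comp : ValuationSubring L where
  toSubring := (A₃.toSubring.comap (residue B)).map B.subtype
  mem_or_inv_mem' := by
    intro x
    rcases B.mem_or_inv_mem x with hx | hx
    · exact comp_key B A₃ x hx
    · rcases comp_key B A₃ x⁻¹ hx with h | h
      · exact Or.inr h
      · left
        rwa [inv_inv] at h

theorem mem_comp_iff (x : L) : x ∈ comp B A₃ ↔ ∃ b : B, residue B b ∈ A₃ ∧ (b : L) = x := by
  change x ∈ (A₃.toSubring.comap (residue B)).map B.subtype ↔ _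
  rw [Subring.mem_map]
  rfl

theorem comp_le : comp B A₃ ≤ B := by
  intro x hx
  obtain ⟨b, -, rfl⟩ := (mem_comp_iff B A₃ x).mp hx
  exact b.2

/-- the inclusion of the composite into `B` -/
noncomputable def compι : comp B A₃ →+* B := (comp B A₃).inclusion B (comp_le B A₃)

theorem compι_coe (c : comp B A₃) : ((compι B A₃ c : B) : L) = (c : L) := rfl

theorem residue_compι_mem (c : comp B A₃) : residue B (compι B A₃ c) ∈ A₃ := by
  obtain ⟨b, hb, hbc⟩ := (mem_comp_iff B A₃ c).mp c.2
  have : compι B A₃ c = b := Subtype.ext hbc.symm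
  rw [this]; exact hb

/-- the reduction of the composite onto `A₃` -/
noncomputable def compπ : comp B A₃ →+* A₃ :=
  ((residue B).comp (compι B A₃)).codRestrict A₃.toSubring (residue_compι_mem B A₃)

theorem compπ_coe (c : comp B A₃) :
    ((compπ B A₃ c : A₃) : ResidueField B) = residue B (compι B A₃ c) := rfl

theorem mem_comp_of_residue_mem (b : B) (hb : residue B b ∈ A₃) : (b : L) ∈ comp B A₃ :=
  (mem_comp_iff B A₃ _).mpr ⟨b, hb, rfl⟩

theorem compπ_surjective : Function.Surjective (compπ B A₃) := by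
  intro a
  obtain ⟨b, hb⟩ := residue_surjective (a : ResidueField B)
  have hb' : residue B b ∈ A₃ := by rw [hb]; exact a.2
  refine ⟨⟨(b : L), mem_comp_of_residue_mem B A₃ b hb'⟩, ?_⟩
  apply Subtype.ext
  rw [compπ_coe]
  have : compι B A₃ ⟨(b : L), mem_comp_of_residue_mem B A₃ b hb'⟩ = b := Subtype.ext rfl
  rw [this, hb]

theorem ker_compπ : RingHom.ker (compπ B A₃) = (maximalIdeal B).comap (compι B A₃) := by
  ext c
  rw [RingHom.mem_ker, Ideal.mem_comap, ← residue_eq_zero_iff, ← compπ_coe]
  constructor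
  · intro h; rw [h]; rfl
  · intro h; exact Subtype.ext h

/-- corestriction of a map into `B` whose residues lie in `A₃` -/
noncomputable def compLift {R : Type u} [CommRing R] (γ : R →+* B)
    (h : ∀ r, residue B (γ r) ∈ A₃) : R →+* comp B A₃ :=
  (B.subtype.comp γ).codRestrict (comp B A₃).toSubring
    (fun r => mem_comp_of_residue_mem B A₃ (γ r) (h r))

theorem compι_compLift {R : Type u} [CommRing R] (γ : R →+* B)
    (h : ∀ r, residue B (γ r) ∈ A₃) (r : R) : compι B A₃ (compLift B A₃ γ h r) = γ r :=
  Subtype.ext rfl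

theorem compπ_compLift {R : Type u} [CommRing R] (γ : R →+* B)
    (h : ∀ r, residue B (γ r) ∈ A₃) (r : R) :
    ((compπ B A₃ (compLift B A₃ γ h r) : A₃) : ResidueField B) = residue B (γ r) := by
  rw [compπ_coe, compι_compLift]

end Groth.Agent.Helper5.RefVC
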