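import Groth.Agent.Helper5.RefVC3

/-!
# Helper5: extending the composite valuation ring: localisation and quotient at a prime above
-/

set_option autoImplicit false
universe u
open IsLocalRing

namespace Groth.Agent.Helper5.RefVC

/-- A local injective map of valuation rings is surjective on spectra. -/
theorem exists_prime_over {C C₂ : Type u} [CommRing C] [IsDomain C] [ValuationRing C]
    [CommRing C₂] [IsDomain C₂] [IsLocalRing C₂] (φ : C →+* C₂) (hinj : Function.Injective φ)
    [hloc : IsLocalHom φ] (P : Ideal C) [P.IsPrime] :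
    ∃ P₂ : Ideal C₂, P₂.IsPrime ∧ P₂.comap φ = P := by
  letI : Algebra C C₂ := φ.toAlgebra
  haveI : Module.Flat C C₂ := by
    rw [Module.Flat.flat_iff_torsion_eq_bot_of_isBezout, eq_bot_iff]
    rintro x ⟨⟨a, ha⟩, hax⟩
    rw [Submodule.mem_bot]
    have h1 : φ a * x = 0 := hax
    have h2 : φ a ≠ 0 := by
      intro h0
      have : a = 0 := hinj (by rw [h0, map_zero])
      exact (nonZeroDivisors.ne_zero ha) this
    exact (mul_eq_zero.mp h1).resolve_left h2
  haveI : IsLocalHom (algebraMap C C₂) := hloc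
  haveI : Module.FaithfullyFlat C C₂ := Module.FaithfullyFlat.of_flat_of_isLocalHom
  obtain ⟨P₂, hP₂, hover⟩ := Ideal.exists_isPrime_liesOver_of_faithfullyFlat (B := C₂) P
  exact ⟨P₂, hP₂, hover.over.symm⟩

/-- The localisation of a valuation ring at a prime is a valuation ring. -/
theorem valuationRing_localization {C₂ : Type u} [CommRing C₂] [IsDomain C₂] [ValuationRing C₂]
    (P₂ : Ideal C₂) [P₂.IsPrime] : ValuationRing (Localization.AtPrime P₂) := by
  rw [ValuationRing.iff_dvd_total]
  constructor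
  intro x y
  obtain ⟨a, s, rfl⟩ := IsLocalization.exists_mk'_eq P₂.primeCompl x
  obtain ⟨b, t, rfl⟩ := IsLocalization.exists_mk'_eq P₂.primeCompl y
  have hs : IsUnit (algebraMap C₂ (Localization.AtPrime P₂) s) := IsLocalization.map_units _ s
  have ht : IsUnit (algebraMap C₂ (Localization.AtPrime P₂) t) := IsLocalization.map_units _ t
  have key : ∀ (a b : C₂) (s t : P₂.primeCompl), a ∣ b →
      IsLocalization.mk' (Localization.AtPrime P₂) a s ∣
        IsLocalization.mk' (Localization.AtPrime P₂) b t := by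
    rintro a b s t ⟨c, rfl⟩
    refine ⟨IsLocalization.mk' (Localization.AtPrime P₂) (c * s) t, ?_⟩
    rw [← IsLocalization.mk'_mul, IsLocalization.mk'_eq_iff_eq]
    congr 1
    simp only [Submonoid.coe_mul]
    ring
  rcases ValuationRing.dvd_total a b with h | h
  · exact Or.inl (key a b s t h)
  · exact Or.inr (key b a t s h)

variable {L : Type u} [Field L] (B : ValuationSubring L) (A₃ : ValuationSubring (ResidueField B))

instance ker_compπ_isPrime : (RingHom.ker (compπ B A₃)).IsPrime := RingHom.ker_isPrime _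

/-- `B` is the localisation of the composite at the kernel of the reduction. -/
theorem isLocalization_comp :
    @IsLocalization (comp B A₃) _ (RingHom.ker (compπ B A₃)).primeCompl B _
      (compι B A₃).toAlgebra := by
  letI : Algebra (comp B A₃) B := (compι B A₃).toAlgebra
  have hker : ∀ c : comp B A₃, c ∈ RingHom.ker (compπ B A₃) ↔ compι B A₃ c ∈ maximalIdeal B := by
    intro c; rw [ker_compπ]; rfl
  refine ⟨?_, ?_, ?_⟩
  · rintro ⟨y, hy⟩
    change IsUnit (compι B A₃ y)
    by_contra hu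
    exact hy ((hker y).mpr hu)
  · intro b
    by_cases hb : residue B b ∈ A₃
    · refine ⟨(⟨(b : L), mem_comp_of_residue_mem B A₃ b hb⟩, 1), ?_⟩
      change b * compι B A₃ 1 = compι B A₃ _
      rw [map_one, mul_one]
      exact Subtype.ext rfl
    · have hinv : (residue B b)⁻¹ ∈ A₃ := (A₃.mem_or_inv_mem (residue B b)).resolve_left hb
      have hne : residue B b ≠ 0 := by
        intro h0; rw [h0] at hb; exact hb A₃.zero_mem
      have hbu : IsUnit b := by
        by_contra hbu
        exact hne ((residue_eq_zero_iff b).mpr hbu)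
      obtain ⟨u, hu⟩ := hbu
      have h2 : residue B (u : B) * residue B ((u⁻¹ : Bˣ) : B) = 1 := by
        rw [← map_mul]; simp
      have h1 : residue B ((u⁻¹ : Bˣ) : B) = (residue B b)⁻¹ := by
        rw [← hu]
        exact (eq_inv_of_mul_eq_one_right h2)
      have hmem : residue B ((u⁻¹ : Bˣ) : B) ∈ A₃ := by rw [h1]; exact hinv
      let s : comp B A₃ := ⟨((((u⁻¹ : Bˣ) : B)) : L), mem_comp_of_residue_mem B A₃ _ hmem⟩
      have hsι : compι B A₃ s = ((u⁻¹ : Bˣ) : B) := Subtype.ext rfl
      have hs : s ∈ (RingHom.ker (compπ B A₃)).primeCompl := by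
        intro hs
        have h3 := (hker s).mp hs
        rw [hsι] at h3
        exact h3 (Units.isUnit _)
      refine ⟨(1, ⟨s, hs⟩), ?_⟩
      change b * compι B A₃ s = compι B A₃ 1
      rw [hsι, map_one, ← hu]
      simp
  · intro x y hxy
    refine ⟨1, ?_⟩
    have h1 : compι B A₃ x = compι B A₃ y := hxy
    have h2 : x = y := by
      apply Subtype.ext
      have := congrArg (fun t : B => (t : L)) h1
      exact this
    rw [h2]

variable {C₂ : Type u} [CommRing C₂] [IsDomain C₂] [ValuationRing C₂]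
  (φ : comp B A₃ →+* C₂) [hφ : IsLocalHom φ] (P₂ : Ideal C₂) [hP₂p : P₂.IsPrime]
  (hP₂ : P₂.comap φ = RingHom.ker (compπ B A₃))

include hP₂ in
theorem isUnit_of_notMem (y : (RingHom.ker (compπ B A₃)).primeCompl) :
    IsUnit (((algebraMap C₂ (Localization.AtPrime P₂)).comp φ) y) := by
  have hy : φ y ∉ P₂ := by
    intro h
    have : (y : comp B A₃) ∈ P₂.comap φ := h
    rw [hP₂] at this
    exact y.2 this
  exact IsLocalization.map_units (Localization.AtPrime P₂) (⟨φ y, hy⟩ : P₂.primeCompl)

/-- the induced map from `B` to the localisation of `C₂` at `P₂` -/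
noncomputable def β₂ : B →+* Localization.AtPrime P₂ :=
  @IsLocalization.lift (comp B A₃) _ (RingHom.ker (compπ B A₃)).primeCompl B _
    (compι B A₃).toAlgebra _ _ (isLocalization_comp B A₃)
    ((algebraMap C₂ (Localization.AtPrime P₂)).comp φ) (isUnit_of_notMem B A₃ φ P₂ hP₂)

theorem β₂_compι (c : comp B A₃) :
    β₂ B A₃ φ P₂ hP₂ (compι B A₃ c) = algebraMap C₂ (Localization.AtPrime P₂) (φ c) :=
  @IsLocalization.lift_eq (comp B A₃) _ (RingHom.ker (compπ B A₃)).primeCompl B _
    (compι B A₃).toAlgebra _ _ (isLocalization_comp B A₃) _ (isUnit_of_notMem B A₃ φ P₂ hP₂) c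

theorem isLocalHom_β₂ : IsLocalHom (β₂ B A₃ φ P₂ hP₂) := by
  constructor
  intro b hb
  by_contra hnu
  have hbm : b ∈ maximalIdeal B := hnu
  have hres : residue B b = 0 := (residue_eq_zero_iff b).mpr hnu
  have hbc : (b : L) ∈ comp B A₃ := mem_comp_of_residue_mem B A₃ b (by rw [hres]; exact A₃.zero_mem)
  let c : comp B A₃ := ⟨(b : L), hbc⟩
  have hcι : compι B A₃ c = b := Subtype.ext rfl
  have hcker : c ∈ RingHom.ker (compπ B A₃) := by
    rw [ker_compπ, Ideal.mem_comap, hcι]; exact hbm
  have hφc : φ c ∈ P₂ := by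
    have : c ∈ P₂.comap φ := by rw [hP₂]; exact hcker
    exact this
  rw [← hcι, β₂_compι] at hb
  have h1 : algebraMap C₂ (Localization.AtPrime P₂) (φ c) ∈ maximalIdeal (Localization.AtPrime P₂) :=
    (IsLocalization.AtPrime.to_map_mem_maximal_iff (Localization.AtPrime P₂) P₂ (φ c)).mpr hφc
  exact h1 hb

/-- the quotient of a valuation ring by a prime is a valuation ring -/
theorem valuationRing_quotient : ValuationRing (C₂ ⧸ P₂) :=
  Function.Surjective.valuationRing (Ideal.Quotient.mk P₂) Ideal.Quotient.mk_surjective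

include hP₂ in
theorem ker_le_comap : RingHom.ker (compπ B A₃) ≤ P₂.comap φ := by rw [hP₂]

/-- the induced map on the quotients -/
noncomputable def α : A₃ →+* C₂ ⧸ P₂ :=
  (Ideal.quotientMap P₂ φ (ker_le_comap B A₃ φ P₂ hP₂)).comp
    (RingHom.quotientKerEquivOfSurjective (compπ_surjective B A₃)).symm.toRingHom

theorem α_compπ (c : comp B A₃) :
    α B A₃ φ P₂ hP₂ (compπ B A₃ c) = Ideal.Quotient.mk P₂ (φ c) := by
  change Ideal.quotientMap P₂ φ (ker_le_comap B A₃ φ P₂ hP₂)
    ((RingHom.quotientKerEquivOfSurjective (compπ_surjective B A₃)).symm (compπ B A₃ c)) = _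
  have h1 : (RingHom.quotientKerEquivOfSurjective (compπ_surjective B A₃)).symm (compπ B A₃ c) =
      Ideal.Quotient.mk _ c := by
    rw [RingEquiv.symm_apply_eq]
    rfl
  rw [h1, Ideal.quotientMap_mk]

theorem isLocalHom_α : IsLocalHom (α B A₃ φ P₂ hP₂) := by
  constructor
  intro a ha
  obtain ⟨c, rfl⟩ := compπ_surjective B A₃ a
  rw [α_compπ] at ha
  have hφc : IsUnit (φ c) := by
    by_contra hnu
    have hm : φ c ∈ maximalIdeal C₂ := hnu
    obtain ⟨y, hy⟩ := isUnit_iff_exists_inv.mp ha
    obtain ⟨z, rfl⟩ := Ideal.Quotient.mk_surjective y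
    rw [← map_mul, ← map_one (Ideal.Quotient.mk P₂), Ideal.Quotient.eq] at hy
    have hP₂m : P₂ ≤ maximalIdeal C₂ := le_maximalIdeal hP₂p.ne_top
    have h1 : φ c * z - 1 ∈ maximalIdeal C₂ := hP₂m hy
    have h2 : φ c * z ∈ maximalIdeal C₂ := Ideal.mul_mem_right _ _ hm
    have h3 : (1 : C₂) ∈ maximalIdeal C₂ := by
      have := Ideal.sub_mem _ h2 h1
      simpa using this
    exact (maximalIdeal.isMaximal C₂).ne_top ((Ideal.eq_top_iff_one _).mpr h3)
  exact (hφ.map_nonunit c hφc).map _

/-- the induced map on residue fields -/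
noncomputable def ω : ResidueField B →+* P₂.ResidueField :=
  haveI := isLocalHom_β₂ B A₃ φ P₂ hP₂
  ResidueField.map (β₂ B A₃ φ P₂ hP₂)

theorem ω_residue (b : B) :
    ω B A₃ φ P₂ hP₂ (residue B b) = residue (Localization.AtPrime P₂) (β₂ B A₃ φ P₂ hP₂ b) := rfl

theorem ω_coe (a : A₃) :
    ω B A₃ φ P₂ hP₂ (a : ResidueField B) = algebraMap (C₂ ⧸ P₂) P₂.ResidueField (α B A₃ φ P₂ hP₂ a) := by
  obtain ⟨c, rfl⟩ := compπ_surjective B A₃ a
  rw [compπ_coe, ω_residue, β₂_compι, α_compπ]
  rfl

end Groth.Agent.Helper5.RefVC
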