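import Mathlib
import Groth.Prelude.Def_CAlg
import Groth.Agent.S6879
import Groth.Agent.S6880
import Groth.Agent.Helper2.NorLift

set_option autoImplicit false
universe u

namespace Groth.Agent.Helper5.ReflS2

open IsLocalRing

theorem noZeroSMulDivisors_of_reflexive {R : Type u} [CommRing R] [IsDomain R] (M : Type u)
    [AddCommGroup M] [Module R M] [Module.IsReflexive R M] : NoZeroSMulDivisors R M := by
  refine ⟨fun {c x} h => ?_⟩
  by_cases hc : c = 0
  · exact Or.inl hc
  · right
    apply (Module.bijective_dual_eval R M).1
    rw [map_zero]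
    ext φ
    show φ x = 0
    have h1 : c • φ x = 0 := by rw [← map_smul, h, map_zero]
    exact (smul_eq_zero.mp h1).resolve_left hc

theorem isTorsionFree_of_noZeroSMulDivisors {R : Type u} [CommRing R] [IsDomain R] (M : Type u)
    [AddCommGroup M] [Module R M] [NoZeroSMulDivisors R M] : Module.IsTorsionFree R M := by
  refine ⟨fun r hr a b hab => ?_⟩
  have hr0 : r ≠ 0 := hr.ne_zero
  have h1 : r • (a - b) = 0 := by
    rw [smul_sub, sub_eq_zero]; exact hab
  exact sub_eq_zero.mp ((smul_eq_zero.mp h1).resolve_left hr0)

theorem isPrincipalIdealRing_of_normal_dim_le_one (S : Type u) [CommRing S] [IsNoetherianRing S]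
    [IsLocalRing S] [IsDomain S] [IsIntegrallyClosed S] (hdim : (maximalIdeal S).height ≤ 1) :
    IsPrincipalIdealRing S := by
  by_cases hF : IsField S
  · letI := hF.toField
    infer_instance
  · have hne : maximalIdeal S ≠ ⊥ := fun h => hF (IsLocalRing.isField_iff_maximalIdeal_eq.mpr h)
    have huniq : ∃! P : Ideal S, P ≠ ⊥ ∧ P.IsPrime := by
      refine ⟨maximalIdeal S, ⟨hne, inferInstance⟩, ?_⟩
      rintro P ⟨hP0, hPprime⟩
      by_contra hPm
      have hlt : P < maximalIdeal S :=
        lt_of_le_of_ne (IsLocalRing.le_maximalIdeal hPprime.ne_top) hPm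
      have h1 := Ideal.height_strict_mono_of_isPrime hlt
      have h2 : P.height = 0 := by
        have : P.height < 1 := lt_of_lt_of_le h1 hdim
        exact Order.lt_one_iff.mp this
      rw [Ideal.height_eq_zero_iff, IsDomain.minimalPrimes_eq_singleton_bot] at h2
      exact hP0 h2
    have hint : IsIntegrallyClosed S := inferInstance
    have hdvr : IsDiscreteValuationRing S :=
      ((IsDiscreteValuationRing.TFAE S hF).out 0 3 rfl rfl).mpr ⟨hint, huniq⟩
    infer_instance

theorem height_max {R : Type u} [CommRing R] (p : Ideal R) [p.IsPrime] :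
    (maximalIdeal (Localization.AtPrime p)).height = p.height := by
  have h1 := IsLocalization.AtPrime.ringKrullDim_eq_height p (Localization.AtPrime p)
  have h2 := IsLocalRing.maximalIdeal_height_eq_ringKrullDim (R := Localization.AtPrime p)
  rw [h1] at h2
  exact_mod_cast h2

theorem supportDim_localized {R : Type u} [CommRing R] [IsDomain R] (M : Type u)
    [AddCommGroup M] [Module R M] [Module.Finite R M] [NoZeroSMulDivisors R M] [Nontrivial M]
    (p : Ideal R) [p.IsPrime] :
    Module.supportDim (Localization.AtPrime p) (LocalizedModule p.primeCompl M) = p.height := by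
  haveI := isTorsionFree_of_noZeroSMulDivisors (R := R) M
  obtain ⟨x, hx⟩ := exists_ne (0 : M)
  have hx' : LocalizedModule.mk x (1 : p.primeCompl) ≠ 0 := by
    intro h0
    rw [← LocalizedModule.zero_mk (1 : p.primeCompl), LocalizedModule.mk_eq] at h0
    obtain ⟨c, hc⟩ := h0
    have hc0 : (c : R) ≠ 0 := fun h => c.2 (by rw [h]; exact Ideal.zero_mem _)
    have : (c : R) • x = 0 := by
      simpa [Submonoid.smul_def] using hc
    exact hx ((smul_eq_zero.mp this).resolve_left hc0)
  have hann : Module.annihilator (Localization.AtPrime p) (LocalizedModule p.primeCompl M) = ⊥ := by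
    rw [eq_bot_iff]
    intro a ha
    rw [Module.mem_annihilator] at ha
    have h1 := ha (LocalizedModule.mk x (1 : p.primeCompl))
    haveI : Module.IsTorsionFree (Localization.AtPrime p) (LocalizedModule p.primeCompl M) :=
      inferInstance
    by_contra ha0
    exact hx' ((smul_eq_zero_iff_right ha0).mp h1)
  rw [Module.supportDim_eq_ringKrullDim_quotient_annihilator,
    ringKrullDim_eq_of_ringEquiv (Ideal.quotEquivOfEq hann),
    ringKrullDim_eq_of_ringEquiv (RingEquiv.quotientBot _),
    IsLocalization.AtPrime.ringKrullDim_eq_height p (Localization.AtPrime p)]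

theorem reflexive_of_torsionFree_S2 {R : Type u} [CommRing R] [IsDomain R] [IsNoetherianRing R]
    [IsIntegrallyClosed R] (M : Type u) [AddCommGroup M] [Module R M] [Module.Finite R M]
    [NoZeroSMulDivisors R M] (h : LocCoh.HasSk 2 R M) : Module.IsReflexive R M := by
  rw [Groth.Agent.S6879.result R M]
  intro p hp
  haveI := isTorsionFree_of_noZeroSMulDivisors (R := R) M
  by_cases hht : p.height ≤ 1
  · left
    haveI : IsIntegrallyClosed (Localization.AtPrime p) :=
      isIntegrallyClosed_of_isLocalization _ p.primeCompl p.primeCompl_le_nonZeroDivisors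
    haveI : IsPrincipalIdealRing (Localization.AtPrime p) :=
      isPrincipalIdealRing_of_normal_dim_le_one _ (by rw [height_max]; exact hht)
    haveI : Module.Free (Localization.AtPrime p) (LocalizedModule p.primeCompl M) :=
      Module.free_of_finite_type_torsion_free'
    infer_instance
  · right
    push_neg at hht
    by_cases hM : Subsingleton M
    · haveI : Subsingleton (LocalizedModule p.primeCompl M) := inferInstance
      rw [Groth.Agent.Helper2.DepthLoc.depth_eq_top_of_subsingleton]
      exact le_top
    · rw [not_subsingleton_iff_nontrivial] at hM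
      have h1 := h p
      rw [supportDim_localized M p] at h1
      have h2 : (2 : ℕ∞) ≤ p.height := Order.add_one_le_of_lt hht
      have h3 : min ((2 : ℕ) : WithBot ℕ∞) ((p.height : ℕ∞) : WithBot ℕ∞) = ((2 : ℕ∞) : WithBot ℕ∞) := by
        rw [min_eq_left]
        · rfl
        · have : ((2 : ℕ∞) : WithBot ℕ∞) ≤ ((p.height : ℕ∞) : WithBot ℕ∞) :=
            WithBot.coe_le_coe.mpr h2
          exact this
      rw [h3] at h1
      exact_mod_cast h1

theorem s2054 {R M : Type u} [CommRing R] [IsDomain R] [IsNoetherianRing R]
    [IsIntegrallyClosed R] [AddCommGroup M] [Module R M] [Module.Finite R M] :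
    Module.IsReflexive R M ↔ NoZeroSMulDivisors R M ∧ LocCoh.HasSk 2 R M := by
  constructor
  · intro h
    exact ⟨noZeroSMulDivisors_of_reflexive M,
      (Groth.Agent.S6880.result R M).2 (Groth.Agent.Helper2.NorLift.serre_of_normal R).2⟩
  · rintro ⟨h1, h2⟩
    exact reflexive_of_torsionFree_S2 M h2

end Groth.Agent.Helper5.ReflS2
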