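import Mathlib
import Groth.Prelude.Def_CAlg
import Groth.Agent.Helper5.ReflS2
import Groth.Agent.Helper5.RSF1
import Groth.Agent.Helper5.FtDim

set_option autoImplicit false
universe u

namespace Groth.Agent.Helper5.ReflIC

open IsLocalRing Groth.Agent.Helper5

theorem s6881 (A K L : Type u) [CommRing A] [IsDomain A] [IsNoetherianRing A]
    [IsIntegrallyClosed A] [Field K] [Algebra A K] [IsFractionRing A K] [Field L] [Algebra K L]
    [FiniteDimensional K L]
    [Algebra A L] [IsScalarTower A K L] [Module.Finite A ↥(integralClosure A L)] :
    Module.IsReflexive A ↥(integralClosure A L) := by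
  set B := integralClosure A L with hB
  haveI : IsNoetherianRing B := IsNoetherianRing.of_finite A B
  haveI : IsIntegrallyClosed B := integralClosure.isIntegrallyClosedOfFiniteExtension K
  have hinjAL : Function.Injective (algebraMap A L) := by
    rw [IsScalarTower.algebraMap_eq A K L]
    exact (algebraMap K L).injective.comp (IsFractionRing.injective A K)
  have hinj : Function.Injective (algebraMap A B) := by
    intro a b hab
    apply hinjAL
    have := congrArg (algebraMap B L) hab
    rwa [← IsScalarTower.algebraMap_apply, ← IsScalarTower.algebraMap_apply] at this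
  haveI : FaithfulSMul A B := (faithfulSMul_iff_algebraMap_injective A B).2 hinj
  haveI : NoZeroSMulDivisors A B := by
    refine ⟨fun {c x} h => ?_⟩
    rw [Algebra.smul_def, mul_eq_zero] at h
    rcases h with h | h
    · left
      exact hinj (h.trans (map_zero _).symm)
    · exact Or.inr h
  have hS2B : LocCoh.HasSk 2 B B := (Groth.Agent.Helper2.NorLift.serre_of_normal B).2
  have hdim : ∀ q : PrimeSpectrum B,
      Module.supportDim (Localization.AtPrime q.asIdeal)
        (LocalizedModule q.asIdeal.primeCompl B) =
        ((q.asIdeal.comap (algebraMap A B)).height : WithBot ℕ∞) := by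
    intro q
    rw [ReflS2.supportDim_localized (R := B) B q.asIdeal]
    congr 1
    exact FtDim.height_eq_height_under (R := A) q.asIdeal
  have hS2A : LocCoh.HasSk 2 A B := by
    apply RSD.hasSk_down (A := A) (B := B) B 2 _ hS2B
    intro q _ q' _ hqq'
    rw [hdim q, hdim q', hqq']
  exact ReflS2.reflexive_of_torsionFree_S2 (R := A) B hS2A

end Groth.Agent.Helper5.ReflIC
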