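import Mathlib
import Groth.Agent.Helper2.SerreLoc
import Groth.Agent.Helper5.JacSch
import Groth.Agent.Helper4.SuppDict
import Groth.Agent.Helper4.QcohLimits

set_option autoImplicit false
open CategoryTheory Limits AlgebraicGeometry TopologicalSpace Opposite
universe u

namespace Groth.Agent.Helper5.RegCl

/-- regularity passes to further localizations. -/
theorem isRegularLocalRing_of_le {B : Type u} [CommRing B] (p p' : Ideal B) [p.IsPrime]
    [hp' : p'.IsPrime] (hle : p' ≤ p)
    (A : Type u) [CommRing A] [Algebra B A] [IsLocalization.AtPrime A p] [IsRegularLocalRing A]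
    (A' : Type u) [CommRing A'] [Algebra B A'] [IsLocalization.AtPrime A' p'] :
    IsRegularLocalRing A' := by
  have hdisj : Disjoint (p.primeCompl : Set B) (p' : Set B) := by
    rw [Set.disjoint_left]
    intro b hb hb'
    exact hb (hle hb')
  haveI hq : (Ideal.map (algebraMap B A) p').IsPrime :=
    IsLocalization.isPrime_of_isPrime_disjoint p.primeCompl A p' hp' hdisj
  have hcm : Ideal.comap (algebraMap B A) (Ideal.map (algebraMap B A) p') = p' :=
    IsLocalization.comap_map_of_isPrime_disjoint p.primeCompl A hp' hdisj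
  haveI := Groth.Agent.Helper2.SerreLoc.isRegularLocalRing_localization A
    (Ideal.map (algebraMap B A) p')
  haveI : IsScalarTower B A (Localization.AtPrime (Ideal.map (algebraMap B A) p')) :=
    inferInstance
  haveI h1 : IsLocalization.AtPrime (Localization.AtPrime (Ideal.map (algebraMap B A) p'))
      (Ideal.comap (algebraMap B A) (Ideal.map (algebraMap B A) p')) :=
    IsLocalization.isLocalization_isLocalization_atPrime_isLocalization p.primeCompl _ _
  haveI h2 : IsLocalization.AtPrime (Localization.AtPrime (Ideal.map (algebraMap B A) p')) p' := by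
    convert h1 using 2
    exact hcm.symm
  exact IsRegularLocalRing.of_ringEquiv
    (IsLocalization.algEquiv p'.primeCompl
      (Localization.AtPrime (Ideal.map (algebraMap B A) p')) A').toRingEquiv

end Groth.Agent.Helper5.RegCl

namespace Groth.Agent.Helper5.RegCl
open Groth.Agent.Helper4

theorem specializes_closed_affine {X : Scheme.{u}} [IsLocallyNoetherian X] (x : X) :
    ∃ (c : X) (_ : IsClosed ({c} : Set X)) (_ : x ⤳ c) (U : X.Opens) (_ : IsAffineOpen U)
      (_ : c ∈ U), x ∈ U := by
  obtain ⟨c, hc, hcl⟩ := Groth.Agent.Helper5.Jac.exists_closedPoint_of_isClosed (closure {x}) isClosed_closure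
    ⟨x, subset_closure rfl⟩
  have hxc : x ⤳ c := specializes_iff_mem_closure.mpr hc
  obtain ⟨U, hU, hcU⟩ := QcohLimits.exists_affine_nhd c
  exact ⟨c, hcl, hxc, U, hU, hcU, hxc.mem_open U.isOpen hcU⟩

theorem s9807 (X : Scheme.{u}) [IsLocallyNoetherian X] :
    (∀ x : X, IsRegularLocalRing (X.presheaf.stalk x)) ↔
      ∀ x : X, IsClosed ({x} : Set X) → IsRegularLocalRing (X.presheaf.stalk x) := by
  refine ⟨fun h x _ => h x, fun h x => ?_⟩
  obtain ⟨c, hcl, hxc, U, hU, hcU, hxU⟩ := specializes_closed_affine x
  letI := X.presheaf.algebra_section_stalk ⟨c, hcU⟩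
  letI := X.presheaf.algebra_section_stalk ⟨x, hxU⟩
  haveI := hU.isLocalization_stalk ⟨c, hcU⟩
  haveI := hU.isLocalization_stalk ⟨x, hxU⟩
  haveI := h c hcl
  exact isRegularLocalRing_of_le (hU.primeIdealOf ⟨c, hcU⟩).asIdeal
    (hU.primeIdealOf ⟨x, hxU⟩).asIdeal (SuppDict.primeIdealOf_le_of_specializes hU hxU hcU hxc)
    (X.presheaf.stalk c) (X.presheaf.stalk x)

end Groth.Agent.Helper5.RegCl
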