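import Mathlib
import Groth.Agent.Helper5.RegLoc6
import Groth.Agent.Helper5.FibDim7
import Groth.Agent.Helper5.FibBound

set_option autoImplicit false
set_option linter.style.haveILetI false
universe u
open CategoryTheory AlgebraicGeometry IsLocalRing RingTheory.Sequence TensorProduct

namespace Groth.Agent.Helper5.RegLoc

variable (R S : Type u) [CommRing R] [CommRing S] [Algebra R S]

set_option maxHeartbeats 1000000 in
/-- S9174 -/
theorem s9174 [Algebra.FiniteType R S] (d : ℕ)
    (hCM : ∀ p : PrimeSpectrum R, LocCoh.IsCohenMacaulayRing (p.asIdeal.Fiber S))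
    (heq : ∀ p : PrimeSpectrum R, ∀ P ∈ minimalPrimes (p.asIdeal.Fiber S),
      ringKrullDim (p.asIdeal.Fiber S ⧸ P) = (d : WithBot ℕ∞))
    (f : List S) :
    ∃ U : Set (PrimeSpectrum S), IsOpen U ∧ ∀ q : PrimeSpectrum S, Ideal.ofList f ≤ q.asIdeal →
      (q ∈ U ↔ RingTheory.Sequence.IsRegular (EGA4.FibLocRing R S q.asIdeal)
        (f.map (algebraMap S (EGA4.FibLocRing R S q.asIdeal)))) := by
  let J : Ideal S := Ideal.ofList f
  set g := Spec.map (CommRingCat.ofHom (algebraMap R (S ⧸ J))) with hg
  haveI : LocallyOfFiniteType g := by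
    rw [hg, HasRingHomProperty.Spec_iff (P := @LocallyOfFiniteType)]
    exact RingHom.finiteType_algebraMap.2 inferInstance
  let T : Set (PrimeSpectrum (S ⧸ J)) :=
    {z | FlatMor.fibreDimAt g z + (f.length : WithBot ℕ∞) ≤ (d : WithBot ℕ∞)}
  have hT : IsOpen T := by
    by_cases hle : f.length ≤ d
    · have hTeq : T = {z : ↥(Spec (CommRingCat.of (S ⧸ J))) |
          FlatMor.fibreDimAt g z ≤ ((d - f.length : ℕ) : WithBot ℕ∞)} := by
        ext z
        obtain ⟨m, hm⟩ := Groth.Agent.Helper5.SubDim.fibreDimAt_nat g z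
        show FlatMor.fibreDimAt g z + (f.length : WithBot ℕ∞) ≤ (d : WithBot ℕ∞) ↔
          FlatMor.fibreDimAt g z ≤ ((d - f.length : ℕ) : WithBot ℕ∞)
        rw [hm]
        constructor
        · intro h
          have h1 : m + f.length ≤ d := by exact_mod_cast h
          exact_mod_cast (by omega : m ≤ d - f.length)
        · intro h
          have h1 : m ≤ d - f.length := by exact_mod_cast h
          exact_mod_cast (by omega : m + f.length ≤ d)
      rw [hTeq]
      exact Groth.Agent.Helper5.FibDim.isOpen_fibreDimAt_le g _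
    · have hTeq : T = ∅ := by
        ext z
        obtain ⟨m, hm⟩ := Groth.Agent.Helper5.SubDim.fibreDimAt_nat g z
        simp only [Set.mem_empty_iff_false, iff_false]
        show ¬ (FlatMor.fibreDimAt g z + (f.length : WithBot ℕ∞) ≤ (d : WithBot ℕ∞))
        rw [hm]
        intro h
        have h1 : m + f.length ≤ d := by exact_mod_cast h
        omega
      rw [hTeq]
      exact isOpen_empty
  let c : PrimeSpectrum (S ⧸ J) → PrimeSpectrum S := PrimeSpectrum.comap (Ideal.Quotient.mk J)
  have hc : Topology.IsClosedEmbedding c :=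
    PrimeSpectrum.isClosedEmbedding_comap_of_surjective _ _ Ideal.Quotient.mk_surjective
  refine ⟨(c '' Tᶜ)ᶜ, (hc.isClosedMap _ hT.isClosed_compl).isOpen_compl, ?_⟩
  intro q hq
  let z : PrimeSpectrum (S ⧸ J) := ⟨q.asIdeal.map (Ideal.Quotient.mk J),
    Ideal.map_isPrime_of_surjective Ideal.Quotient.mk_surjective (by rwa [Ideal.mk_ker])⟩
  have hzq : c z = q := by
    apply PrimeSpectrum.ext
    show (q.asIdeal.map (Ideal.Quotient.mk J)).comap (Ideal.Quotient.mk J) = q.asIdeal
    rw [Ideal.comap_map_of_surjective _ Ideal.Quotient.mk_surjective, ← RingHom.ker_eq_comap_bot,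
      Ideal.mk_ker, sup_eq_left]
    exact hq
  rw [regular_iff R S d hCM heq f z q (congrArg PrimeSpectrum.asIdeal hzq).symm]
  show q ∉ c '' Tᶜ ↔ z ∈ T
  constructor
  · intro h
    by_contra hz
    exact h ⟨z, hz, hzq⟩
  · rintro hz ⟨z', hz', hz'q⟩
    have : z' = z := hc.injective (hz'q.trans hzq.symm)
    subst this
    exact hz' hz

end Groth.Agent.Helper5.RegLoc
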