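import Mathlib
import Groth.Agent.Helper5.RegLoc1
import Groth.Agent.Helper5.RegLoc2

set_option autoImplicit false
set_option linter.style.haveILetI false
universe u
open IsLocalRing RingTheory.Sequence Order

namespace Groth.Agent.Helper5.RegLoc

open Groth.Agent.Helper6.CINormal

theorem height_add_coheight_of_equidim (k S : Type u) [Field k] [CommRing S] [Algebra k S]
    [Algebra.FiniteType k S] (d : ℕ)
    (heq : ∀ p ∈ minimalPrimes S, ringKrullDim (S ⧸ p) = d) (Q : PrimeSpectrum S) :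
    height Q + coheight Q = (d : ℕ∞) := by
  have h1 := localDim_of_equidim k S d heq Q
  rw [Groth.Agent.Helper5.FtDim.localDim_eq k S Q] at h1
  have h2 : ((height Q + coheight Q : ℕ∞) : WithBot ℕ∞) = (((d : ℕ) : ℕ∞) : WithBot ℕ∞) := h1
  exact WithBot.coe_injective h2

/-- the key inequality: at a prime `q ⊇ J`, the height in `S ⧸ J` drops by at least `i` -/
theorem height_quot_add_le (k S : Type u) [Field k] [CommRing S] [Algebra k S]
    [Algebra.FiniteType k S] (d i : ℕ) (hi : i ≤ d)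
    (heq : ∀ p ∈ minimalPrimes S, ringKrullDim (S ⧸ p) = d) (J : Ideal S)
    (hle : ringKrullDim (S ⧸ J) ≤ ((d - i : ℕ) : WithBot ℕ∞))
    (q : Ideal S) [hq : q.IsPrime] (hJq : J ≤ q) :
    haveI := map_isPrime J q hJq
    ((q.map (Ideal.Quotient.mk J)).height : WithBot ℕ∞) + (i : WithBot ℕ∞) ≤ (q.height : WithBot ℕ∞) := by
  haveI hzprime := map_isPrime J q hJq
  let Q : PrimeSpectrum S := ⟨q, hq⟩
  let z : PrimeSpectrum (S ⧸ J) := ⟨q.map (Ideal.Quotient.mk J), hzprime⟩
  have h1 := height_add_coheight_of_equidim k S d heq Q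
  have h2 := Groth.Agent.Helper5.FtDim.height_add_dim_quotient_le z.asIdeal
  have h3 : ringKrullDim ((S ⧸ J) ⧸ z.asIdeal) = ringKrullDim (S ⧸ q) :=
    ringKrullDim_eq_of_ringEquiv (DoubleQuot.quotQuotEquivQuotOfLE hJq)
  rw [h3, Groth.Agent.Helper5.FtDim.ringKrullDim_quotient_eq_coheight Q] at h2
  have h4 := h2.trans hle
  rw [← PrimeSpectrum.height_eq_orderHeight] at h1
  change q.height + coheight Q = d at h1
  change ((q.map (Ideal.Quotient.mk J)).height : WithBot ℕ∞) + ((coheight Q : ℕ∞) : WithBot ℕ∞) ≤ _ at h4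
  have hqfin : q.height ≠ ⊤ := by
    haveI : IsNoetherianRing S := Algebra.FiniteType.isNoetherianRing k S
    exact Ideal.height_ne_top_of_isPrime
  obtain ⟨a, ha⟩ := ENat.ne_top_iff_exists.1 hqfin
  have hbfin : coheight Q ≠ ⊤ := by
    intro htop
    rw [htop, add_top] at h1
    exact ENat.top_ne_natCast d h1
  obtain ⟨b, hb⟩ := ENat.ne_top_iff_exists.1 hbfin
  rw [← ha, ← hb] at h1
  have h1' : a + b = d := by exact_mod_cast h1
  rw [← hb] at h4
  have h5 : ((q.map (Ideal.Quotient.mk J)).height + (b : ℕ∞) : ℕ∞) ≤ ((d - i : ℕ) : ℕ∞) := by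
    have : (((q.map (Ideal.Quotient.mk J)).height + (b : ℕ∞) : ℕ∞) : WithBot ℕ∞) ≤
        (((d - i : ℕ) : ℕ∞) : WithBot ℕ∞) := by
      rw [WithBot.coe_add]; exact h4
    exact WithBot.coe_le_coe.1 this
  have hzfin : (q.map (Ideal.Quotient.mk J)).height ≠ ⊤ := by
    intro htop
    rw [htop, top_add] at h5
    exact absurd h5 (by simp)
  obtain ⟨a', ha'⟩ := ENat.ne_top_iff_exists.1 hzfin
  rw [← ha'] at h5 ⊢
  rw [← ha]
  have h5' : a' + b ≤ d - i := by exact_mod_cast h5
  have : a' + i ≤ a := by omega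
  exact_mod_cast this

/-- regularity at a prime containing the ideal -/
theorem isRegular_atPrime (k S : Type u) [Field k] [CommRing S] [Algebra k S]
    [Algebra.FiniteType k S] [hS : LocCoh.IsCohenMacaulayRing S] (d : ℕ)
    (heq : ∀ p ∈ minimalPrimes S, ringKrullDim (S ⧸ p) = d) (f : List S) (hi : f.length ≤ d)
    (hle : ringKrullDim (S ⧸ Ideal.ofList f) ≤ ((d - f.length : ℕ) : WithBot ℕ∞))
    (q : Ideal S) [hq : q.IsPrime] (hJq : Ideal.ofList f ≤ q) :
    IsRegular (Localization.AtPrime q) (f.map (algebraMap S (Localization.AtPrime q))) := by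
  haveI hzprime := map_isPrime (Ideal.ofList f) q hJq
  haveI hcm : LocCoh.IsCohenMacaulayLocalRing (Localization.AtPrime q) :=
    hS.isCohenMacaulayLocalRing_localization q
  have hmem : ∀ x ∈ f.map (algebraMap S (Localization.AtPrime q)),
      x ∈ maximalIdeal (Localization.AtPrime q) := by
    intro x hx
    rw [List.mem_map] at hx
    obtain ⟨y, hy, rfl⟩ := hx
    exact (IsLocalization.AtPrime.to_map_mem_maximal_iff _ q y).2 (hJq (Ideal.subset_span hy))
  rw [isRegular_iff_dim _ hcm _ hmem, ← Ideal.map_ofList, List.length_map]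
  haveI := isLocalization_atPrime (Ideal.ofList f) q hJq
  rw [IsLocalization.AtPrime.ringKrullDim_eq_height (q.map (Ideal.Quotient.mk (Ideal.ofList f)))
    (Localization.AtPrime q ⧸ (Ideal.ofList f).map (algebraMap S (Localization.AtPrime q))),
    IsLocalization.AtPrime.ringKrullDim_eq_height q (Localization.AtPrime q)]
  exact height_quot_add_le k S d f.length hi heq (Ideal.ofList f) hle q hJq

/-- S9154 -/
theorem s9154 (k S : Type u) [Field k] [CommRing S] [Algebra k S]
    [Algebra.FiniteType k S] [hS : LocCoh.IsCohenMacaulayRing S] (d : ℕ)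
    (heq : ∀ p ∈ minimalPrimes S, ringKrullDim (S ⧸ p) = d) (f : List S) (hi : f.length ≤ d)
    (hne : Ideal.ofList f ≠ ⊤)
    (hle : ringKrullDim (S ⧸ Ideal.ofList f) ≤ ((d - f.length : ℕ) : WithBot ℕ∞)) :
    ringKrullDim (S ⧸ Ideal.ofList f) = ((d - f.length : ℕ) : WithBot ℕ∞) ∧
      ∀ (q : Ideal S) [q.IsPrime], Ideal.ofList f ≤ q →
        RingTheory.Sequence.IsRegular (Localization.AtPrime q)
          (f.map (algebraMap S (Localization.AtPrime q))) := by
  refine ⟨le_antisymm hle ?_, fun q _ hJq => isRegular_atPrime k S d heq f hi hle q hJq⟩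
  obtain ⟨m, hm, hJm⟩ := Ideal.exists_le_maximal _ hne
  haveI hmprime : m.IsPrime := hm.isPrime
  have hreg := isRegular_atPrime k S d heq f hi hle m hJm
  have h1 := ringKrullDim_add_length_eq_ringKrullDim_of_isRegular _ hreg
  rw [← Ideal.map_ofList, List.length_map] at h1
  haveI hzprime := map_isPrime (Ideal.ofList f) m hJm
  haveI := isLocalization_atPrime (Ideal.ofList f) m hJm
  rw [IsLocalization.AtPrime.ringKrullDim_eq_height (m.map (Ideal.Quotient.mk (Ideal.ofList f)))
    (Localization.AtPrime m ⧸ (Ideal.ofList f).map (algebraMap S (Localization.AtPrime m))),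
    IsLocalization.AtPrime.ringKrullDim_eq_height m (Localization.AtPrime m)] at h1
  -- `ht m = d`
  let M : PrimeSpectrum S := ⟨m, hmprime⟩
  have h2 := height_add_coheight_of_equidim k S d heq M
  have h3 : coheight M = 0 := by
    rw [Order.coheight_eq_zero]
    intro b hb
    have : m ≤ b.asIdeal := hb
    exact le_of_eq (PrimeSpectrum.ext (hm.eq_of_le b.isPrime.ne_top this)).symm
  rw [h3, add_zero, ← PrimeSpectrum.height_eq_orderHeight] at h2
  change m.height = d at h2
  rw [h2] at h1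
  have h4 : ((m.map (Ideal.Quotient.mk (Ideal.ofList f))).height : WithBot ℕ∞) ≤
      ringKrullDim (S ⧸ Ideal.ofList f) :=
    Ideal.height_le_ringKrullDim_of_ne_top hzprime.ne_top
  have hfin : (m.map (Ideal.Quotient.mk (Ideal.ofList f))).height ≠ ⊤ := by
    intro htop
    rw [htop] at h1
    have : ((⊤ : ℕ∞) : WithBot ℕ∞) + ((f.length : ℕ∞) : WithBot ℕ∞) = (((d : ℕ) : ℕ∞) : WithBot ℕ∞) := h1
    rw [← WithBot.coe_add, top_add] at this
    exact ENat.top_ne_natCast d (WithBot.coe_injective this)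
  obtain ⟨a, ha⟩ := ENat.ne_top_iff_exists.1 hfin
  rw [← ha] at h1 h4
  have h5 : a + f.length = d := by exact_mod_cast h1
  refine le_trans ?_ h4
  calc ((d - f.length : ℕ) : WithBot ℕ∞) = (((d - f.length : ℕ) : ℕ∞) : WithBot ℕ∞) := rfl
    _ ≤ (((a : ℕ) : ℕ∞) : WithBot ℕ∞) :=
      WithBot.coe_le_coe.2 (by exact_mod_cast (by omega : d - f.length ≤ a))

end Groth.Agent.Helper5.RegLoc
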