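import Mathlib
import Groth.Prelude
import Groth.Agent.Helper5.RelAssR2

/-!
# RelAssR5: generic behaviour of the associated points of the fibres, ring level
-/

set_option autoImplicit false
set_option linter.unusedSectionVars false
set_option linter.unusedVariables false
set_option linter.style.haveILetI false
universe u
open CategoryTheory TensorProduct IsLocalRing AlgebraicGeometry

namespace Groth.Agent.Helper5.RelAssR

open Groth.Agent.Helper5.FibMod Groth.Agent.Helper5.FibPd

attribute [local instance] Algebra.TensorProduct.rightAlgebra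

section Fin

variable (A B : Type u) [CommRing A] [CommRing B] [Algebra A B] [Algebra.FiniteType A B]
  (M : Type u) [AddCommGroup M] [Module B M]

set_option maxHeartbeats 1600000 in
/-- an ideal acts on the fibre module through finitely many of its elements -/
theorem exists_fin_gens (J : Ideal B) (p : PrimeSpectrum A) :
    ∃ (r : ℕ) (g : Fin r → B), (∀ j, g j ∈ J) ∧
      ∀ n : (p.asIdeal.Fiber B) ⊗[B] M, (∀ j, g j • n = 0) → ∀ b ∈ J, b • n = 0 := by
  classical
  haveI := p.2
  haveI : IsNoetherianRing (p.asIdeal.Fiber B) :=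
    Algebra.FiniteType.isNoetherianRing p.asIdeal.ResidueField _
  have hfg : (Ideal.map (algebraMap B (p.asIdeal.Fiber B)) J).FG := IsNoetherian.noetherian _
  have hfg' : (Submodule.span (p.asIdeal.Fiber B)
      ((algebraMap B (p.asIdeal.Fiber B)) '' (J : Set B))).FG := hfg
  rw [Submodule.fg_span_iff_fg_span_finset_subset] at hfg'
  obtain ⟨s', hs', hspan⟩ := hfg'
  obtain ⟨T, hT, rfl⟩ := Finset.subset_set_image_iff.mp hs'
  refine ⟨T.card, fun j => (T.equivFin.symm j : B), fun j => hT (T.equivFin.symm j).2, ?_⟩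
  intro n hn b hb
  have hb' : algebraMap B (p.asIdeal.Fiber B) b ∈ Submodule.span (p.asIdeal.Fiber B)
      ((T.image (algebraMap B (p.asIdeal.Fiber B)) : Finset _) : Set (p.asIdeal.Fiber B)) := by
    rw [← hspan]
    exact Submodule.subset_span ⟨b, hb, rfl⟩
  rw [← algebraMap_smul (p.asIdeal.Fiber B) b n]
  refine Submodule.span_induction (p := fun x _ => x • n = 0) ?_ ?_ ?_ ?_ hb'
  · intro x hx
    rw [Finset.coe_image] at hx
    obtain ⟨t, ht, rfl⟩ := hx
    rw [algebraMap_smul]
    have := hn (T.equivFin ⟨t, ht⟩)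
    simpa using this
  · exact zero_smul _ _
  · intro x y _ _ hx hy
    rw [add_smul, hx, hy, add_zero]
  · intro a x _ hx
    rw [smul_eq_mul, mul_smul, hx, smul_zero]

end Fin

section Gen

variable (R B : Type u) [CommRing R] [IsDomain R] [CommRing B] [Algebra R B]
  [Algebra.FiniteType R B]
  (M : Type u) [AddCommGroup M] [Module B M] [Module R M] [IsScalarTower R B M]
  [Module.Finite B M]

/-- the generic point of the spectrum of a domain -/
def gpt : PrimeSpectrum R := ⟨⊥, Ideal.isPrime_bot⟩

instance : IsFractionRing R (gpt R).asIdeal.ResidueField :=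
  inferInstanceAs (IsFractionRing R (⊥ : Ideal R).ResidueField)

set_option maxHeartbeats 1600000 in
/-- **(G1)** if no associated point of the generic fibre lies in `V(J)`, the same holds for the
fibres over a dense open -/
theorem gen_not_exists (J : Ideal B)
    (h : ¬ ∃ q : PrimeSpectrum B, PrimeSpectrum.comap (algebraMap R B) q = gpt R ∧
      J ≤ q.asIdeal ∧ assAt R B M q) :
    ∃ a : R, a ≠ 0 ∧ ∀ p : PrimeSpectrum R, a ∉ p.asIdeal →
      ¬ ∃ q : PrimeSpectrum B, PrimeSpectrum.comap (algebraMap R B) q = p ∧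
        J ≤ q.asIdeal ∧ assAt R B M q := by
  obtain ⟨r, g, hgJ, hg⟩ := exists_fin_gens R B M J (gpt R)
  rw [exists_ass_iff] at h
  push Not at h
  have hinj : Function.Injective
      (((vmap B M g).restrictScalars R).baseChange (gpt R).asIdeal.ResidueField) := by
    rw [injective_vmap_iff]
    intro n hn
    by_contra hne
    obtain ⟨b, hb, hbn⟩ := h n hne
    exact hbn (hg n hn b hb)
  haveI : FaithfulSMul R (gpt R).asIdeal.ResidueField :=
    (faithfulSMul_iff_algebraMap_injective R _).mpr (IsFractionRing.injective R _)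
  letI := FractionRing.liftAlgebra R (gpt R).asIdeal.ResidueField
  have hex : Function.Exact
      (((0 : PUnit.{u+1} →ₗ[B] M).restrictScalars R).baseChange (FractionRing R))
      (((vmap B M g).restrictScalars R).baseChange (FractionRing R)) := by
    rw [← Groth.Agent.Helper2.FibExC.exact_baseChange_field_ext
      (k := (gpt R).asIdeal.ResidueField)]
    intro y
    constructor
    · intro hy
      refine ⟨0, ?_⟩
      rw [map_zero]
      exact (hinj (by rw [hy, map_zero])).symm
    · rintro ⟨x, rfl⟩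
      rw [Subsingleton.elim x 0, map_zero, map_zero]
  obtain ⟨a, ha, hall⟩ := Groth.Agent.Helper2.FibEx.s4801 (0 : PUnit.{u+1} →ₗ[B] M)
    (vmap B M g) hex
  refine ⟨a, ha, fun p hp => ?_⟩
  rintro ⟨q, hq, hJq, hass⟩
  have hne := (exists_ass_span_iff R B M g p).mp
    ⟨q, hq, (Ideal.span_le.mpr (by rintro _ ⟨j, rfl⟩; exact hJq (hgJ j))), hass⟩
  apply hne
  have hexp := hall p hp
  rw [injective_iff_map_eq_zero]
  intro y hy
  obtain ⟨x, rfl⟩ := (hexp y).mp hy
  rw [Subsingleton.elim x 0, map_zero]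

end Gen

section Tf

variable {R : Type u} [CommRing R] [IsDomain R] {M : Type u} [AddCommGroup M] [Module R M]

/-- the span of a linearly independent family over a domain is torsion-free -/
theorem eq_zero_of_smul_eq_zero_of_mem_span {s : Set M} (hs : LinearIndepOn R id s) {r : R}
    (hr : r ≠ 0) {x : M} (hx : x ∈ Submodule.span R s) (h : r • x = 0) : x = 0 := by
  have hs' : LinearIndependent R (fun i : s => (i : M)) := hs
  have hx' : x ∈ Submodule.span R (Set.range (fun i : s => (i : M))) := by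
    rwa [Subtype.range_coe]
  obtain ⟨c, rfl⟩ := (Finsupp.mem_span_range_iff_exists_finsupp).mp hx'
  have h1 : Finsupp.linearCombination R (fun i : s => (i : M)) (r • c) = 0 := by
    rw [map_smul]; exact h
  have h2 := (linearIndependent_iff.mp hs') _ h1
  have h3 : c = 0 := by
    rcases smul_eq_zero.mp h2 with h | h
    · exact absurd h hr
    · exact h
  rw [h3]; simp

/-- killing a pure tensor by a unit scalar coming from the base -/
theorem one_tmul_eq_zero_of_smul {κ : Type u} [Field κ] [Algebra R κ] {a : R}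
    (ha : algebraMap R κ a ≠ 0) {x : M} (h : a • x = 0) : (1 : κ) ⊗ₜ[R] x = 0 := by
  have h1 : (algebraMap R κ a) • ((1 : κ) ⊗ₜ[R] x) = 0 := by
    rw [algebraMap_smul, ← TensorProduct.tmul_smul, h, tmul_zero]
  exact (IsUnit.smul_eq_zero (isUnit_iff_ne_zero.mpr ha)).mp h1

end Tf

section Gen2

variable (R B : Type u) [CommRing R] [IsDomain R] [CommRing B] [Algebra R B]
  [Algebra.FiniteType R B]
  (M : Type u) [AddCommGroup M] [Module B M] [Module R M] [IsScalarTower R B M]
  [Module.Finite B M]

open Groth.Agent.Helper8.GenFree Groth.Agent.Helper2.FibExC in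
set_option maxHeartbeats 3200000 in
/-- **(G2)** if some associated point of the generic fibre lies in `V(J)`, the same holds for the
fibres over a dense open -/
theorem gen_exists (J : Ideal B)
    (h : ∃ q : PrimeSpectrum B, PrimeSpectrum.comap (algebraMap R B) q = gpt R ∧
      J ≤ q.asIdeal ∧ assAt R B M q) :
    ∃ a : R, a ≠ 0 ∧ ∀ p : PrimeSpectrum R, a ∉ p.asIdeal →
      ∃ q : PrimeSpectrum B, PrimeSpectrum.comap (algebraMap R B) q = p ∧
        J ≤ q.asIdeal ∧ assAt R B M q := by
  classical
  rw [exists_ass_iff] at h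
  obtain ⟨n, hn, hJn⟩ := h
  set κ := (gpt R).asIdeal.ResidueField with hκ
  set c := Algebra.IsPushout.cancelBaseChange R κ B ((gpt R).asIdeal.Fiber B) M with hc
  have hinjκ : Function.Injective (algebraMap R κ) := IsFractionRing.injective R κ
  -- an element of `M` representing the element `n`
  have hm : ∃ m : M, (1 : κ) ⊗ₜ[R] m ≠ 0 ∧ ∀ b ∈ J, (1 : κ) ⊗ₜ[R] (b • m) = 0 := by
    obtain ⟨⟨m, s⟩, hs⟩ := IsLocalizedModule.surj (nonZeroDivisors R)
      (TensorProduct.mk R κ M 1) (c n)
    have hs' : (algebraMap R κ (s : R)) • c n = (1 : κ) ⊗ₜ[R] m := by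
      rw [algebraMap_smul]; exact hs
    have hsne : algebraMap R κ (s : R) ≠ 0 := by
      rw [Ne, map_eq_zero_iff _ hinjκ]
      exact nonZeroDivisors.coe_ne_zero s
    refine ⟨m, ?_, ?_⟩
    · intro h0
      rw [← hs', IsUnit.smul_eq_zero (isUnit_iff_ne_zero.mpr hsne)] at h0
      exact hn (c.map_eq_zero_iff.mp h0)
    · intro b hb
      have h1 : mulK R B M κ b (c n) = 0 := by rw [hc, ← cancel_smul, hJn b hb, map_zero]
      have h2 : mulK R B M κ b ((1 : κ) ⊗ₜ[R] m) = 0 := by
        rw [← hs', map_smul, h1, smul_zero]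
      rwa [mulK_tmul] at h2
  obtain ⟨m, hm1, hm2⟩ := hm
  set L : Submodule B M := Submodule.span B {m} with hL
  obtain ⟨a₁, ha₁, s₁, hs₁, hsp₁⟩ := genericFreeness R B M
  obtain ⟨a₂, ha₂, s₂, hs₂, hsp₂⟩ := genericFreeness R B L
  obtain ⟨a₃, ha₃, h₃⟩ := genericFreeness R B (M ⧸ L)
  let m' : L := ⟨m, Submodule.mem_span_singleton_self m⟩
  -- the basis of `L` is non-empty
  have hne₂ : s₂.Nonempty := by
    by_contra hcon
    rw [Set.not_nonempty_iff_eq_empty] at hcon
    subst hcon
    obtain ⟨k, hk⟩ := hsp₂ m'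
    have hk' : a₂ ^ k • m = 0 := by
      have : a₂ ^ k • m' = 0 := by simpa using hk
      exact congrArg Subtype.val this
    apply hm1
    refine one_tmul_eq_zero_of_smul (a := a₂ ^ k) ?_ hk'
    rw [Ne, map_eq_zero_iff _ hinjκ]
    exact pow_ne_zero _ ha₂
  refine ⟨a₁ * a₂ * a₃, mul_ne_zero (mul_ne_zero ha₁ ha₂) ha₃, fun p hp => ?_⟩
  have hp₁ : a₁ ∉ p.asIdeal := fun h => hp (Ideal.mul_mem_right _ _ (Ideal.mul_mem_right _ _ h))
  have hp₂ : a₂ ∉ p.asIdeal := fun h => hp (Ideal.mul_mem_right _ _ (Ideal.mul_mem_left _ _ h))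
  have hp₃ : a₃ ∉ p.asIdeal := fun h => hp (Ideal.mul_mem_left _ _ h)
  haveI := p.2
  set κp := p.asIdeal.ResidueField with hκp
  -- (a) the elements of `J` kill `1 ⊗ m` in the fibre over `p`
  have hA : ∀ b ∈ J, (1 : κp) ⊗ₜ[R] (b • m) = 0 := by
    intro b hb
    obtain ⟨r, hr⟩ := (IsLocalizedModule.eq_zero_iff (nonZeroDivisors R)
      (TensorProduct.mk R κ M 1)).mp (hm2 b hb)
    obtain ⟨k, hk⟩ := hsp₁ (b • m)
    have h0 : a₁ ^ k • (b • m) = 0 := by
      refine eq_zero_of_smul_eq_zero_of_mem_span hs₁ (nonZeroDivisors.coe_ne_zero r) hk ?_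
      rw [smul_comm]
      have : (r : R) • (b • m) = 0 := hr
      rw [this, smul_zero]
    refine one_tmul_eq_zero_of_smul (a := a₁ ^ k) ?_ h0
    rw [map_pow]
    refine pow_ne_zero _ ?_
    rw [Ne, Ideal.algebraMap_residueField_eq_zero]
    exact hp₁
  -- (b) `1 ⊗ m` is non-zero in the fibre over `p`
  have hB : (1 : κp) ⊗ₜ[R] m ≠ 0 := by
    have hinj : Function.Injective ((L.subtype.restrictScalars R).baseChange κp) :=
      baseChange_injective_of_gfat (L.subtype.restrictScalars R) (L.mkQ.restrictScalars R)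
        L.subtype_injective L.mkQ_surjective (by
          rw [LinearMap.exact_iff]
          ext x
          simp) h₃ p hp₃
    have hnt : Nontrivial (κp ⊗[R] L) :=
      nontrivial_tensor_of_basis s₂ hs₂ hsp₂ hne₂ p.asIdeal.primeCompl hp₂
        (Localization.AtPrime p.asIdeal) κp
    intro h0
    have h1 : (1 : κp) ⊗ₜ[R] m' = 0 := by
      apply hinj
      rw [map_zero]
      exact h0
    have hsub : ∀ y : κp ⊗[R] L, y = 0 := by
      intro y
      induction y using TensorProduct.induction_on with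
      | zero => rfl
      | add x y hx hy => rw [hx, hy, add_zero]
      | tmul k l =>
        obtain ⟨b, hb⟩ := Submodule.mem_span_singleton.mp l.2
        have hl : l = b • m' := Subtype.ext hb.symm
        have h2 : mulK R B L κp b ((1 : κp) ⊗ₜ[R] m') = 0 := by rw [h1, map_zero]
        rw [mulK_tmul] at h2
        have h3 : k ⊗ₜ[R] l = k • ((1 : κp) ⊗ₜ[R] (b • m')) := by
          rw [TensorProduct.smul_tmul', smul_eq_mul, mul_one, hl]
        rw [h3, h2, smul_zero]
    obtain ⟨x, hx⟩ := exists_ne (0 : κp ⊗[R] L)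
    exact hx (hsub x)
  -- conclusion
  rw [exists_ass_iff]
  set cp := Algebra.IsPushout.cancelBaseChange R κp B (p.asIdeal.Fiber B) M with hcp
  refine ⟨cp.symm ((1 : κp) ⊗ₜ[R] m), ?_, fun b hb => ?_⟩
  · intro h0
    exact hB (cp.symm.map_eq_zero_iff.mp h0)
  · apply cp.injective
    rw [hcp, cancel_smul, ← hcp, LinearEquiv.apply_symm_apply, mulK_tmul, hA b hb, map_zero]

end Gen2

end Groth.Agent.Helper5.RelAssR
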