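import Mathlib
import Groth.Prelude
import Groth.Agent.Helper5.RelAssR4
import Groth.Agent.Helper5.RelAssR5
import Groth.Agent.Helper4.SecDict

/-!
# RelAssR6: generic behaviour of the relative assassin over an integral base
-/

set_option autoImplicit false
set_option linter.unusedSectionVars false
set_option linter.unusedVariables false
set_option linter.style.haveILetI false
universe u
open CategoryTheory CategoryTheory.Limits TensorProduct IsLocalRing AlgebraicGeometry TopologicalSpace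
open Topology

namespace Groth.Agent.Helper5.RelAssR

open Groth.Agent.Helper5.FibMod Groth.Agent.Helper5.FibPd Groth.Agent.Helper4

section Geom

variable {X Y : Scheme.{u}} (f : X ⟶ Y) (F : X.Modules) [F.IsQuasicoherent]

/-- an open of an affine open is the complement of the zero locus of an ideal -/
theorem exists_ideal {W : X.Opens} (hW : IsAffineOpen W) (U : X.Opens) :
    ∃ I : Ideal Γ(X, W), ∀ (x : X) (hxW : x ∈ W),
      x ∈ U ↔ ¬ I ≤ (hW.primeIdealOf ⟨x, hxW⟩).asIdeal := by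
  have hso : IsOpen (hW.fromSpec ⁻¹' (U : Set X)) := U.isOpen.preimage hW.fromSpec.continuous
  obtain ⟨s, hs⟩ := (PrimeSpectrum.isOpen_iff
    (hW.fromSpec ⁻¹' (U : Set X) : Set (PrimeSpectrum Γ(X, W)))).mp hso
  refine ⟨Ideal.span s, fun x hxW => ?_⟩
  have h1 := hW.fromSpec_primeIdealOf ⟨x, hxW⟩
  have h2 : hW.primeIdealOf ⟨x, hxW⟩ ∈
      (hW.fromSpec ⁻¹' (U : Set X) : Set (PrimeSpectrum Γ(X, W))) ↔ x ∈ U := by
    rw [Set.mem_preimage, h1]
    exact Iff.rfl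
  have h3 : hW.primeIdealOf ⟨x, hxW⟩ ∈
      (hW.fromSpec ⁻¹' (U : Set X) : Set (PrimeSpectrum Γ(X, W)))ᶜ ↔
        Ideal.span s ≤ (hW.primeIdealOf ⟨x, hxW⟩).asIdeal := by
    rw [hs, PrimeSpectrum.mem_zeroLocus, Ideal.span_le]
  rw [← h2, ← h3, Set.mem_compl_iff, not_not]

variable [IsIntegral Y] [LocallyOfFiniteType f]

theorem primeIdealOf_genericPoint_eq_gpt {V : Y.Opens} (hV : IsAffineOpen V)
    (hη : genericPoint Y ∈ V) :
    haveI : Nonempty V := ⟨⟨genericPoint Y, hη⟩⟩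
    hV.primeIdealOf ⟨genericPoint Y, hη⟩ = gpt Γ(Y, V) := by
  haveI : Nonempty V := ⟨⟨genericPoint Y, hη⟩⟩
  rw [hV.primeIdealOf_genericPoint, genericPoint_eq_bot_of_affine]
  rfl

set_option maxHeartbeats 1600000 in
/-- (G1) on a chart -/
theorem chart_gen_not (hF : SheafOfModules.IsFiniteType (R := X.ringCatSheaf) F)
    {V : Y.Opens} (hV : IsAffineOpen V) (hη : genericPoint Y ∈ V)
    {W : X.Opens} (hW : IsAffineOpen W) (e : W ≤ f ⁻¹ᵁ V) (U : X.Opens)
    (h : ∀ x : X, x ∈ W → x ∈ MoreMor.relAss f F → f.base x = genericPoint Y → x ∈ U) :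
    ∃ a : Γ(Y, V), a ≠ 0 ∧
      ∀ x : X, x ∈ W → x ∈ MoreMor.relAss f F → f.base x ∈ Y.basicOpen a → x ∈ U := by
  haveI : Nonempty V := ⟨⟨genericPoint Y, hη⟩⟩
  letI alg : Algebra Γ(Y, V) Γ(X, W) := (f.appLE V W e).hom.toAlgebra
  haveI : Algebra.FiniteType Γ(Y, V) Γ(X, W) :=
    HasRingHomProperty.appLE (P := @LocallyOfFiniteType) f inferInstance ⟨V, hV⟩ ⟨W, hW⟩ e
  letI modR : Module Γ(Y, V) Γ(F, W) := Module.compHom _ (f.appLE V W e).hom
  haveI : IsScalarTower Γ(Y, V) Γ(X, W) Γ(F, W) :=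
    IsScalarTower.of_algebraMap_smul fun r m => rfl
  haveI : Module.Finite Γ(X, W) Γ(F, W) := SecDict.finite_sections hW F inferInstance hF
  obtain ⟨I, hI⟩ := exists_ideal hW U
  have h1 := (chart_cond f F hW hV e U I hI (genericPoint Y) hη).mp h
  rw [primeIdealOf_genericPoint_eq_gpt hV hη] at h1
  obtain ⟨a, ha, hall⟩ := gen_not_exists Γ(Y, V) Γ(X, W) Γ(F, W) I h1
  refine ⟨a, ha, fun x hxW hx hfx => ?_⟩
  have hyV : f.base x ∈ V := Y.basicOpen_le a hfx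
  have hap : a ∉ (hV.primeIdealOf ⟨f.base x, hyV⟩).asIdeal :=
    (StalkDict.mem_basicOpen_iff_notMem_primeIdealOf hV (f.base x) hyV a).mp hfx
  exact (chart_cond f F hW hV e U I hI (f.base x) hyV).mpr (hall _ hap) x hxW hx rfl

set_option maxHeartbeats 1600000 in
/-- (G2) on a chart -/
theorem chart_gen_exists (hF : SheafOfModules.IsFiniteType (R := X.ringCatSheaf) F)
    {V : Y.Opens} (hV : IsAffineOpen V) (hη : genericPoint Y ∈ V)
    {W : X.Opens} (hW : IsAffineOpen W) (e : W ≤ f ⁻¹ᵁ V) (U : X.Opens)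
    (h : ∃ x : X, x ∈ W ∧ x ∈ MoreMor.relAss f F ∧ f.base x = genericPoint Y ∧ x ∉ U) :
    ∃ a : Γ(Y, V), a ≠ 0 ∧
      ∀ y : Y, y ∈ Y.basicOpen a → ∃ x : X, x ∈ MoreMor.relAss f F ∧ f.base x = y ∧ x ∉ U := by
  haveI : Nonempty V := ⟨⟨genericPoint Y, hη⟩⟩
  letI alg : Algebra Γ(Y, V) Γ(X, W) := (f.appLE V W e).hom.toAlgebra
  haveI : Algebra.FiniteType Γ(Y, V) Γ(X, W) :=
    HasRingHomProperty.appLE (P := @LocallyOfFiniteType) f inferInstance ⟨V, hV⟩ ⟨W, hW⟩ e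
  letI modR : Module Γ(Y, V) Γ(F, W) := Module.compHom _ (f.appLE V W e).hom
  haveI : IsScalarTower Γ(Y, V) Γ(X, W) Γ(F, W) :=
    IsScalarTower.of_algebraMap_smul fun r m => rfl
  haveI : Module.Finite Γ(X, W) Γ(F, W) := SecDict.finite_sections hW F inferInstance hF
  obtain ⟨I, hI⟩ := exists_ideal hW U
  have h1 : ∃ q : PrimeSpectrum Γ(X, W),
      PrimeSpectrum.comap (algebraMap Γ(Y, V) Γ(X, W)) q = gpt Γ(Y, V) ∧
      I ≤ q.asIdeal ∧ assAt Γ(Y, V) Γ(X, W) Γ(F, W) q := by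
    by_contra hcon
    rw [← primeIdealOf_genericPoint_eq_gpt hV hη] at hcon
    have h2 := (chart_cond f F hW hV e U I hI (genericPoint Y) hη).mpr hcon
    obtain ⟨x, hxW, hx, hfx, hxU⟩ := h
    exact hxU (h2 x hxW hx hfx)
  obtain ⟨a, ha, hall⟩ := gen_exists Γ(Y, V) Γ(X, W) Γ(F, W) I h1
  refine ⟨a, ha, fun y hy => ?_⟩
  have hyV : y ∈ V := Y.basicOpen_le a hy
  have hap : a ∉ (hV.primeIdealOf ⟨y, hyV⟩).asIdeal :=
    (StalkDict.mem_basicOpen_iff_notMem_primeIdealOf hV y hyV a).mp hy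
  have h3 := hall _ hap
  by_contra hcon
  push Not at hcon
  exact (chart_cond f F hW hV e U I hI y hyV).mp (fun x _ hx hfx => hcon x hx hfx) h3

end Geom

end Groth.Agent.Helper5.RelAssR
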