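import Mathlib
import Groth.Prelude
import Groth.Agent.Helper5.RelAssR6
import Groth.Agent.Helper2.RelAssD3
import Groth.Agent.Lead.FlatUnivJ

/-!
# RelAssR7: generic behaviour of the relative assassin over an irreducible base (S1368, S1369)
-/

set_option autoImplicit false
set_option linter.unusedSectionVars false
set_option linter.unusedVariables false
set_option linter.style.haveILetI false
universe u
open CategoryTheory CategoryTheory.Limits TensorProduct IsLocalRing AlgebraicGeometry TopologicalSpace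
open Topology

namespace Groth.Agent.Helper5.RelAssR

open Groth.Agent.Helper5.FibMod Groth.Agent.Helper5.FibPd Groth.Agent.Helper4

section Int

variable {X Y : Scheme.{u}} (f : X ⟶ Y) (F : X.Modules) [F.IsQuasicoherent]
  [IsIntegral Y] [LocallyOfFiniteType f]

theorem basicOpen_nonempty {V : Y.Opens} [Nonempty V] {a : Γ(Y, V)} (ha : a ≠ 0) :
    ((Y.basicOpen a : Y.Opens) : Set Y).Nonempty := by
  by_contra hcon
  rw [Set.not_nonempty_iff_eq_empty] at hcon
  have h1 : Y.basicOpen a = ⊥ := by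
    apply SetLike.coe_injective
    rw [hcon]; rfl
  rw [AlgebraicGeometry.basicOpen_eq_bot_iff] at h1
  exact ha h1

set_option maxHeartbeats 1600000 in
theorem s1368_integral [QuasiCompact f]
    (hF : SheafOfModules.IsFiniteType (R := X.ringCatSheaf) F) (U : X.Opens)
    (h : ∀ x ∈ MoreMor.relAss f F, f.base x = genericPoint Y → x ∈ U) :
    ∃ V : Y.Opens, (V : Set Y).Nonempty ∧
      ∀ x ∈ MoreMor.relAss f F, f.base x ∈ V → x ∈ U := by
  classical
  obtain ⟨_, ⟨V₀, hV₀, rfl⟩, hη, -⟩ :=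
    Y.isBasis_affineOpens.exists_subset_of_mem_open (Set.mem_univ (genericPoint Y)) isOpen_univ
  let Vo : Y.Opens := V₀
  have hVo : IsAffineOpen Vo := hV₀
  haveI : Nonempty Vo := ⟨⟨genericPoint Y, hη⟩⟩
  have hc : IsCompact (f ⁻¹ᵁ Vo : Set X) := f.isCompact_preimage hVo.isCompact
  obtain ⟨s, hs, hsU⟩ := isCompact_iff_finite_and_eq_biUnion_affineOpens.mp hc
  have hle : ∀ W ∈ s, (W : X.Opens) ≤ f ⁻¹ᵁ Vo := fun W hW =>
    hsU ▸ le_iSup₂ (f := fun (i : X.affineOpens) (_ : i ∈ s) => (i : X.Opens)) W hW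
  choose! a ha hall using fun (W : X.affineOpens) (hW : W ∈ s) =>
    chart_gen_not f F hF hVo hη W.2 (hle W hW) U (fun x _ hx hfx => h x hx hfx)
  let A : Γ(Y, Vo) := ∏ W ∈ hs.toFinset, a W
  have hA : A ≠ 0 :=
    Finset.prod_ne_zero_iff.mpr (fun W hW => ha W (hs.mem_toFinset.mp hW))
  refine ⟨Y.basicOpen A, basicOpen_nonempty hA, ?_⟩
  intro x hx hfx
  have hxV : x ∈ f ⁻¹ᵁ Vo := Y.basicOpen_le A hfx
  rw [hsU] at hxV
  obtain ⟨W, hW, hxW⟩ : ∃ W ∈ s, x ∈ (W : X.Opens) := by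
    simpa [Opens.mem_iSup] using hxV
  refine hall W hW x hxW hx ?_
  obtain ⟨c, hc⟩ := Finset.dvd_prod_of_mem a (hs.mem_toFinset.mpr hW)
  have hle' : Y.basicOpen A ≤ Y.basicOpen (a W) := by
    show Y.basicOpen (∏ W ∈ hs.toFinset, a W) ≤ _
    rw [hc, Y.basicOpen_mul]
    exact inf_le_left
  exact hle' hfx

set_option maxHeartbeats 1600000 in
theorem s1369_integral
    (hF : SheafOfModules.IsFiniteType (R := X.ringCatSheaf) F) (U : X.Opens)
    (h : ∃ x ∈ MoreMor.relAss f F, f.base x = genericPoint Y ∧ x ∉ U) :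
    ∃ V : Y.Opens, (V : Set Y).Nonempty ∧
      ∀ y ∈ V, ∃ x ∈ MoreMor.relAss f F, f.base x = y ∧ x ∉ U := by
  obtain ⟨x, hx, hfx, hxU⟩ := h
  obtain ⟨_, ⟨V₀, hV₀, rfl⟩, hη, -⟩ :=
    Y.isBasis_affineOpens.exists_subset_of_mem_open (Set.mem_univ (genericPoint Y)) isOpen_univ
  let Vo : Y.Opens := V₀
  have hVo : IsAffineOpen Vo := hV₀
  haveI : Nonempty Vo := ⟨⟨genericPoint Y, hη⟩⟩
  have hxV : x ∈ (f ⁻¹ᵁ Vo : Set X) := by
    show f.base x ∈ Vo
    rw [hfx]; exact hη
  obtain ⟨_, ⟨W, hW, rfl⟩, hxW, hWle⟩ :=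
    X.isBasis_affineOpens.exists_subset_of_mem_open hxV (f ⁻¹ᵁ Vo).isOpen
  let Wo : X.Opens := W
  have hWo : IsAffineOpen Wo := hW
  have hWole : Wo ≤ f ⁻¹ᵁ Vo := hWle
  obtain ⟨a, ha, hall⟩ := chart_gen_exists f F hF hVo hη hWo hWole U ⟨x, hxW, hx, hfx, hxU⟩
  refine ⟨Y.basicOpen a, basicOpen_nonempty ha, fun y hy => ?_⟩
  obtain ⟨x', h1, h2, h3⟩ := hall y hy
  exact ⟨x', h1, h2, h3⟩

end Int

section Red

/-- an integral scheme mapping by an open map to an irreducible scheme, generic point to generic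
point -/
theorem exists_integral_chart (Y : Scheme.{u}) [IrreducibleSpace Y] :
    ∃ (S' : Scheme.{u}) (_ : IsIntegral S') (g : S' ⟶ Y), IsOpenMap g.base ∧
      g.base (genericPoint S') = genericPoint Y := by
  obtain ⟨_, ⟨V₀, hV₀, rfl⟩, hη, -⟩ :=
    Y.isBasis_affineOpens.exists_subset_of_mem_open (Set.mem_univ (genericPoint Y)) isOpen_univ
  let Vo : Y.Opens := V₀
  have hVo : IsAffineOpen Vo := hV₀
  let p₀ : PrimeSpectrum Γ(Y, Vo) := hVo.primeIdealOf ⟨genericPoint Y, hη⟩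
  have hp₀ : ∀ q : PrimeSpectrum Γ(Y, Vo), p₀ ≤ q := by
    intro q
    rw [PrimeSpectrum.le_iff_specializes]
    have h1 : hVo.fromSpec.base p₀ ⤳ hVo.fromSpec.base q := by
      have h2 : hVo.fromSpec.base p₀ = genericPoint Y := hVo.fromSpec_primeIdealOf ⟨genericPoint Y, hη⟩
      rw [h2]
      exact genericPoint_specializes _
    exact (hVo.fromSpec.isOpenEmbedding.isInducing.specializes_iff).mp h1
  haveI := p₀.2
  let D := Γ(Y, Vo) ⧸ p₀.asIdeal
  let φ : Γ(Y, Vo) →+* D := Ideal.Quotient.mk p₀.asIdeal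
  have hφ : Function.Surjective φ := Ideal.Quotient.mk_surjective
  let g₁ : Spec (CommRingCat.of D) ⟶ Spec Γ(Y, Vo) := Spec.map (CommRingCat.ofHom φ)
  have hce : IsClosedEmbedding g₁.base :=
    PrimeSpectrum.isClosedEmbedding_comap_of_surjective _ φ hφ
  have hrange : Set.range g₁.base = Set.univ := by
    have h1 : Set.range g₁.base = PrimeSpectrum.zeroLocus (RingHom.ker φ : Set Γ(Y, Vo)) :=
      _root_.range_comap_of_surjective _ φ hφ
    rw [h1, Ideal.mk_ker]
    ext q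
    rw [PrimeSpectrum.mem_zeroLocus]
    exact ⟨fun _ => Set.mem_univ _, fun _ => hp₀ q⟩
  have ho₁ : IsOpenMap g₁.base :=
    (⟨hce.isEmbedding, by rw [hrange]; exact isOpen_univ⟩ : IsOpenEmbedding g₁.base).isOpenMap
  haveI : IsDomain (CommRingCat.of D) := inferInstanceAs (IsDomain D)
  haveI hint : IsIntegral (Spec (CommRingCat.of D)) := inferInstance
  refine ⟨Spec (CommRingCat.of D), hint, g₁ ≫ hVo.fromSpec, ?_, ?_⟩
  · have : (g₁ ≫ hVo.fromSpec).base = hVo.fromSpec.base ∘ g₁.base := by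
      ext x; simp
    rw [this]
    exact hVo.fromSpec.isOpenEmbedding.isOpenMap.comp ho₁
  · set g := g₁ ≫ hVo.fromSpec with hg
    have hgo : IsOpen (Set.range g.base) := by
      have : (g₁ ≫ hVo.fromSpec).base = hVo.fromSpec.base ∘ g₁.base := by
        ext x; simp
      rw [hg, this, Set.range_comp, hrange, Set.image_univ]
      exact hVo.fromSpec.isOpenEmbedding.isOpen_range
    apply ((genericPoint_spec Y).eq _).symm
    have h1 := (genericPoint_spec (Spec (CommRingCat.of D))).image g.continuous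
    have h2 : closure (g.base '' (Set.univ : Set (Spec (CommRingCat.of D)))) =
        (Set.univ : Set Y) := by
      rw [Set.image_univ]
      have hd : Dense (Set.range g.base) :=
        hgo.dense ⟨_, Set.mem_range_self (genericPoint (Spec (CommRingCat.of D)))⟩
      exact hd.closure_eq
    rw [h2] at h1
    exact h1

end Red

section Main

variable {X Y : Scheme.{u}} (f : X ⟶ Y) [IrreducibleSpace Y] [LocallyOfFiniteType f]

set_option maxHeartbeats 1600000 in
theorem s1368 [QuasiCompact f] (F : X.Modules) (hF : Coh.IsCoh F) (U : X.Opens)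
    (h : ∀ x ∈ MoreMor.relAss f F, f.base x = genericPoint Y → x ∈ U) :
    ∃ V : Y.Opens, (V : Set Y).Nonempty ∧
      ∀ x ∈ MoreMor.relAss f F, f.base x ∈ V → x ∈ U := by
  obtain ⟨S', hS', g, hgo, hgη⟩ := exists_integral_chart Y
  have hc : IsPullback (pullback.fst f g) (pullback.snd f g) f g := IsPullback.of_hasPullback f g
  have hF' : Coh.IsCoh ((Scheme.Modules.pullback (pullback.fst f g)).obj F) :=
    Groth.Agent.Lead.FlatUnivJ.isCoh_pullback _ F hF
  haveI : ((Scheme.Modules.pullback (pullback.fst f g)).obj F).IsQuasicoherent := hF'.1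
  have key := fun s' => Groth.Agent.Helper2.RelAssD.s9780 hc F hF.1 U s'
  have h' : ∀ x' ∈ MoreMor.relAss (pullback.snd f g)
      ((Scheme.Modules.pullback (pullback.fst f g)).obj F),
      (pullback.snd f g).base x' = genericPoint S' → x' ∈ (pullback.fst f g) ⁻¹ᵁ U := by
    intro x' hx' hfx'
    have h1 := (key (genericPoint S')).mp (fun x hx => h x hx.1 (by rw [hx.2, hgη]))
    exact h1 ⟨hx', hfx'⟩
  obtain ⟨V', hV'ne, hV'⟩ := s1368_integral (pullback.snd f g) _ hF'.2 _ h'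
  refine ⟨⟨g.base '' (V' : Set S'), hgo _ V'.isOpen⟩, hV'ne.image _, ?_⟩
  rintro x hx ⟨s', hs', hs'x⟩
  exact (key s').mpr (fun x' hx' => hV' x' hx'.1 (by rw [hx'.2]; exact hs')) ⟨hx, hs'x.symm⟩

set_option maxHeartbeats 1600000 in
theorem s1369 (F : X.Modules) (hF : Coh.IsCoh F) (U : X.Opens)
    (h : ∃ x ∈ MoreMor.relAss f F, f.base x = genericPoint Y ∧ x ∉ U) :
    ∃ V : Y.Opens, (V : Set Y).Nonempty ∧
      ∀ y ∈ V, ∃ x ∈ MoreMor.relAss f F, f.base x = y ∧ x ∉ U := by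
  obtain ⟨S', hS', g, hgo, hgη⟩ := exists_integral_chart Y
  have hc : IsPullback (pullback.fst f g) (pullback.snd f g) f g := IsPullback.of_hasPullback f g
  have hF' : Coh.IsCoh ((Scheme.Modules.pullback (pullback.fst f g)).obj F) :=
    Groth.Agent.Lead.FlatUnivJ.isCoh_pullback _ F hF
  haveI : ((Scheme.Modules.pullback (pullback.fst f g)).obj F).IsQuasicoherent := hF'.1
  have key := fun s' => Groth.Agent.Helper2.RelAssD.s9780 hc F hF.1 U s'
  have h' : ∃ x' ∈ MoreMor.relAss (pullback.snd f g)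
      ((Scheme.Modules.pullback (pullback.fst f g)).obj F),
      (pullback.snd f g).base x' = genericPoint S' ∧ x' ∉ (pullback.fst f g) ⁻¹ᵁ U := by
    by_contra hcon
    push Not at hcon
    obtain ⟨x, hx, hfx, hxU⟩ := h
    have h1 := (key (genericPoint S')).mpr (fun x' hx' => hcon x' hx'.1 hx'.2)
    exact hxU (h1 ⟨hx, by rw [hfx, hgη]⟩)
  obtain ⟨V', hV'ne, hV'⟩ := s1369_integral (pullback.snd f g) _ hF'.2 _ h'
  refine ⟨⟨g.base '' (V' : Set S'), hgo _ V'.isOpen⟩, hV'ne.image _, ?_⟩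
  rintro y ⟨s', hs', rfl⟩
  obtain ⟨x', hx', hfx', hx'U⟩ := hV' s' hs'
  by_contra hcon
  push Not at hcon
  have h1 := (key s').mp (fun x hx => hcon x hx.1 hx.2)
  exact hx'U (h1 ⟨hx', hfx'⟩)

end Main

end Groth.Agent.Helper5.RelAssR
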