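import Mathlib
import Groth.Prelude
import Groth.Agent.Helper5.RelAssR5

/-!
# RelAssR8: the generic points of the fibres of the closure of an associated point of the generic
fibre are associated points of the fibres, over a dense open (ring level)
-/

set_option autoImplicit false
set_option linter.unusedSectionVars false
set_option linter.unusedVariables false
set_option linter.style.haveILetI false
universe u
open CategoryTheory TensorProduct IsLocalRing AlgebraicGeometry

namespace Groth.Agent.Helper5.RelAssR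

open Groth.Agent.Helper5.FibMod Groth.Agent.Helper5.FibPd

attribute [local instance] Algebra.TensorProduct.rightAlgebra

section CA

variable {C : Type u} [CommRing C] [IsNoetherianRing C] {N : Type u} [AddCommGroup N] [Module C N]

/-- the minimal primes over the annihilator of an element are associated primes -/
theorem minimalPrimes_subset_ass_of_ann (n : N) (J : Ideal C)
    (hJ : ∀ γ : C, γ • n = 0 ↔ γ ∈ J) : J.minimalPrimes ⊆ associatedPrimes C N := by
  have hle : J ≤ LinearMap.ker (LinearMap.toSpanSingleton C N n) := by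
    intro γ hγ
    rw [LinearMap.mem_ker, LinearMap.toSpanSingleton_apply]
    exact (hJ γ).mpr hγ
  let φ : (C ⧸ J) →ₗ[C] N := Submodule.liftQ J (LinearMap.toSpanSingleton C N n) hle
  have hφ : Function.Injective φ := by
    rw [← LinearMap.ker_eq_bot, Submodule.ker_liftQ_eq_bot']
    apply le_antisymm hle
    intro γ hγ
    rw [LinearMap.mem_ker, LinearMap.toSpanSingleton_apply] at hγ
    exact (hJ γ).mp hγ
  refine Set.Subset.trans ?_ (associatedPrimes.subset_of_injective hφ)
  have h1 := Module.associatedPrimes.minimalPrimes_annihilator_subset_associatedPrimes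
    (R := C) (M := C ⧸ J)
  rwa [Ideal.annihilator_quotient] at h1

end CA

section Ring

variable (A B : Type u) [CommRing A] [CommRing B] [Algebra A B]
  (M : Type u) [AddCommGroup M] [Module B M] [Module A M] [IsScalarTower A B M]

theorem exists_fibPt_eq (p : PrimeSpectrum A) (q : PrimeSpectrum B)
    (h : PrimeSpectrum.comap (algebraMap A B) q = p) :
    ∃ Q : PrimeSpectrum (p.asIdeal.Fiber B), fibPt A B p Q = q := by
  subst h
  exact ⟨fibQ A B q, fibPt_fibQ A B q⟩

set_option maxHeartbeats 1600000 in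
/-- the action of the fibre ring on the fibre module, through the identification with `κ ⊗ M` -/
theorem tmul_smul_cancel_symm (p : PrimeSpectrum A) (k : p.asIdeal.ResidueField) (b : B)
    (y : p.asIdeal.ResidueField ⊗[A] M) :
    ((k ⊗ₜ[A] b : p.asIdeal.Fiber B)) •
      (Algebra.IsPushout.cancelBaseChange A p.asIdeal.ResidueField B (p.asIdeal.Fiber B) M).symm y =
    (Algebra.IsPushout.cancelBaseChange A p.asIdeal.ResidueField B (p.asIdeal.Fiber B) M).symm
      (k • mulK A B M p.asIdeal.ResidueField b y) := by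
  set c := Algebra.IsPushout.cancelBaseChange A p.asIdeal.ResidueField B (p.asIdeal.Fiber B) M
    with hc
  have h1 : (k ⊗ₜ[A] b : p.asIdeal.Fiber B) = k • algebraMap B (p.asIdeal.Fiber B) b := by
    show k ⊗ₜ[A] b = k • ((1 : p.asIdeal.ResidueField) ⊗ₜ[A] b)
    rw [TensorProduct.smul_tmul', smul_eq_mul, mul_one]
  rw [h1, smul_assoc, algebraMap_smul, map_smul]
  congr 1
  apply c.injective
  rw [hc, cancel_smul, ← hc, LinearEquiv.apply_symm_apply, LinearEquiv.apply_symm_apply]

end Ring

section Ring2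

variable (A B : Type u) [CommRing A] [CommRing B] [Algebra A B]
  (M : Type u) [AddCommGroup M] [Module B M] [Module A M] [IsScalarTower A B M]

set_option maxHeartbeats 3200000 in
/-- the annihilator of the image of an element of `M` in a fibre module -/
theorem ann_fibre_elt (p : PrimeSpectrum A) (m : M) (q₀ : Ideal B)
    (hinj : Function.Injective
      (((Submodule.span B {m}).subtype.restrictScalars A).baseChange p.asIdeal.ResidueField))
    (hA : ∀ b ∈ q₀, (1 : p.asIdeal.ResidueField) ⊗ₜ[A] (b • m) = 0)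
    (hI : ∀ b : B, b • m = 0 → b ∈ q₀) (γ : p.asIdeal.Fiber B) :
    γ • (Algebra.IsPushout.cancelBaseChange A p.asIdeal.ResidueField B (p.asIdeal.Fiber B) M).symm
        ((1 : p.asIdeal.ResidueField) ⊗ₜ[A] m) = 0 ↔
      γ ∈ Ideal.map (algebraMap B (p.asIdeal.Fiber B)) q₀ := by
  set κ := p.asIdeal.ResidueField with hκ
  set c := Algebra.IsPushout.cancelBaseChange A κ B (p.asIdeal.Fiber B) M with hc
  set L : Submodule B M := Submodule.span B {m} with hL
  let m' : L := ⟨m, Submodule.mem_span_singleton_self m⟩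
  let μ : B →ₗ[A] L := (LinearMap.toSpanSingleton B L m').restrictScalars A
  let ι : L →ₗ[A] M := L.subtype.restrictScalars A
  have hμ : ∀ b : B, μ b = b • m' := fun b => rfl
  have hμs : Function.Surjective μ := by
    intro l
    obtain ⟨b, hb⟩ := Submodule.mem_span_singleton.mp l.2
    exact ⟨b, Subtype.ext hb⟩
  have key : ∀ γ : p.asIdeal.Fiber B,
      c (γ • c.symm ((1 : κ) ⊗ₜ[A] m)) = (ι.baseChange κ) ((μ.baseChange κ) γ) := by
    intro γ
    induction γ using TensorProduct.induction_on with
    | zero => simp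
    | add x y hx hy => rw [add_smul, map_add, hx, hy, map_add, map_add]
    | tmul k b =>
      rw [hc, tmul_smul_cancel_symm, LinearEquiv.apply_symm_apply, mulK_tmul,
        LinearMap.baseChange_tmul, LinearMap.baseChange_tmul, TensorProduct.smul_tmul',
        smul_eq_mul, mul_one]
      rfl
  constructor
  · intro h0
    have h1 : (ι.baseChange κ) ((μ.baseChange κ) γ) = 0 := by rw [← key, h0, map_zero]
    have h2 : (μ.baseChange κ) γ = 0 := by
      apply hinj
      rw [map_zero]
      exact h1
    have hex : Function.Exact ((LinearMap.ker μ).subtype) μ := LinearMap.exact_subtype_ker_map μ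
    have hex' := lTensor_exact κ hex hμs
    have h3 : γ ∈ Set.range ((LinearMap.ker μ).subtype.lTensor κ) := by
      rw [← hex' γ]
      exact h2
    obtain ⟨z, rfl⟩ := h3
    clear h2 h1 h0
    induction z using TensorProduct.induction_on with
    | zero => rw [map_zero]; exact Submodule.zero_mem _
    | add x y hx hy => rw [map_add]; exact Submodule.add_mem _ hx hy
    | tmul k i =>
      rw [LinearMap.lTensor_tmul]
      have hi : (i : B) • m = 0 := by
        have h4 : μ i = 0 := i.2
        rw [hμ] at h4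
        exact congrArg Subtype.val h4
      have hi' : algebraMap B (p.asIdeal.Fiber B) (i : B) ∈
          Ideal.map (algebraMap B (p.asIdeal.Fiber B)) q₀ := Ideal.mem_map_of_mem _ (hI _ hi)
      have h5 : (k ⊗ₜ[A] ((LinearMap.ker μ).subtype i) : p.asIdeal.Fiber B) =
          (k ⊗ₜ[A] (1 : B) : p.asIdeal.Fiber B) * algebraMap B (p.asIdeal.Fiber B) (i : B) := by
        show k ⊗ₜ[A] (i : B) = (k ⊗ₜ[A] (1 : B)) * ((1 : κ) ⊗ₜ[A] (i : B))
        rw [Algebra.TensorProduct.tmul_mul_tmul, mul_one, one_mul]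
      rw [h5]
      exact Ideal.mul_mem_left _ _ hi'
  · intro hγ
    refine Submodule.span_induction (p := fun x _ => x • c.symm ((1 : κ) ⊗ₜ[A] m) = 0)
      ?_ ?_ ?_ ?_ hγ
    · rintro _ ⟨b, hb, rfl⟩
      rw [algebraMap_smul]
      apply c.injective
      rw [hc, cancel_smul, ← hc, LinearEquiv.apply_symm_apply, mulK_tmul, hA b hb, map_zero]
    · exact zero_smul _ _
    · intro x y _ _ hx hy
      rw [add_smul, hx, hy, add_zero]
    · intro a x _ hx
      rw [smul_eq_mul, mul_smul, hx, smul_zero]

end Ring2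

section Gen3

variable (R B : Type u) [CommRing R] [IsDomain R] [CommRing B] [Algebra R B]
  [Algebra.FiniteType R B]
  (M : Type u) [AddCommGroup M] [Module B M] [Module R M] [IsScalarTower R B M]
  [Module.Finite B M]

open Groth.Agent.Helper8.GenFree Groth.Agent.Helper2.FibExC in
set_option maxHeartbeats 6400000 in
/-- **(G3)** if `q₀` is an associated point of the generic fibre, then over a dense open the
generic points of the fibres of `V(q₀)` are associated points of the fibres -/
theorem gen_min_ass (q₀ : PrimeSpectrum B)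
    (hq₀ : PrimeSpectrum.comap (algebraMap R B) q₀ = gpt R) (hass : assAt R B M q₀) :
    ∃ a : R, a ≠ 0 ∧ ∀ q : PrimeSpectrum B,
      a ∉ (PrimeSpectrum.comap (algebraMap R B) q).asIdeal → q₀ ≤ q →
      (∀ q' : PrimeSpectrum B, PrimeSpectrum.comap (algebraMap R B) q' =
          PrimeSpectrum.comap (algebraMap R B) q → q₀ ≤ q' → q' ≤ q → q' = q) →
      assAt R B M q := by
  classical
  obtain ⟨Q₀, hQ₀⟩ := exists_fibPt_eq R B (gpt R) q₀ hq₀
  haveI : IsNoetherianRing ((gpt R).asIdeal.Fiber B) :=
    Algebra.FiniteType.isNoetherianRing (gpt R).asIdeal.ResidueField _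
  rw [← hQ₀, assAt_fibPt_iff] at hass
  obtain ⟨hprime, n, hn⟩ := (isAssociatedPrime_iff).mp hass
  have hnQ : ∀ γ : (gpt R).asIdeal.Fiber B, γ • n = 0 ↔ γ ∈ Q₀.asIdeal := by
    intro γ
    rw [hn, Submodule.mem_colon_singleton, Submodule.mem_bot]
  set κ := (gpt R).asIdeal.ResidueField with hκ
  set c := Algebra.IsPushout.cancelBaseChange R κ B ((gpt R).asIdeal.Fiber B) M with hc
  have hinjκ : Function.Injective (algebraMap R κ) := IsFractionRing.injective R κ
  -- an element of `M` representing `n`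
  have hm : ∃ m : M, ∀ b : B, (1 : κ) ⊗ₜ[R] (b • m) = 0 ↔ b ∈ q₀.asIdeal := by
    obtain ⟨⟨m, s⟩, hs⟩ := IsLocalizedModule.surj (nonZeroDivisors R)
      (TensorProduct.mk R κ M 1) (c n)
    have hs' : (algebraMap R κ (s : R)) • c n = (1 : κ) ⊗ₜ[R] m := by
      rw [algebraMap_smul]; exact hs
    have hsne : algebraMap R κ (s : R) ≠ 0 := by
      rw [Ne, map_eq_zero_iff _ hinjκ]
      exact nonZeroDivisors.coe_ne_zero s
    refine ⟨m, fun b => ?_⟩
    have h1 : (1 : κ) ⊗ₜ[R] (b • m) = (algebraMap R κ (s : R)) • c (b • n) := by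
      rw [hc, cancel_smul, ← hc, ← map_smul, hs', mulK_tmul]
    rw [h1, IsUnit.smul_eq_zero (isUnit_iff_ne_zero.mpr hsne), c.map_eq_zero_iff,
      ← algebraMap_smul ((gpt R).asIdeal.Fiber B) b n, hnQ, ← hQ₀]
    rfl
  obtain ⟨m, hm⟩ := hm
  set L : Submodule B M := Submodule.span B {m} with hL
  obtain ⟨a₁, ha₁, s₁, hs₁, hsp₁⟩ := genericFreeness R B M
  obtain ⟨a₃, ha₃, h₃⟩ := genericFreeness R B (M ⧸ L)
  refine ⟨a₁ * a₃, mul_ne_zero ha₁ ha₃, fun q hq hle hmin => ?_⟩
  set p := PrimeSpectrum.comap (algebraMap R B) q with hp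
  have hp₁ : a₁ ∉ p.asIdeal := fun h => hq (Ideal.mul_mem_right _ _ h)
  have hp₃ : a₃ ∉ p.asIdeal := fun h => hq (Ideal.mul_mem_left _ _ h)
  haveI := p.2
  set κp := p.asIdeal.ResidueField with hκp
  have hA : ∀ b ∈ q₀.asIdeal, (1 : κp) ⊗ₜ[R] (b • m) = 0 := by
    intro b hb
    obtain ⟨r, hr⟩ := (IsLocalizedModule.eq_zero_iff (nonZeroDivisors R)
      (TensorProduct.mk R κ M 1)).mp ((hm b).mpr hb)
    obtain ⟨k, hk⟩ := hsp₁ (b • m)
    have h0 : a₁ ^ k • (b • m) = 0 := by
      refine eq_zero_of_smul_eq_zero_of_mem_span hs₁ (nonZeroDivisors.coe_ne_zero r) hk ?_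
      rw [smul_comm]
      have : (r : R) • (b • m) = 0 := hr
      rw [this, smul_zero]
    refine one_tmul_eq_zero_of_smul (a := a₁ ^ k) ?_ h0
    rw [map_pow]
    refine pow_ne_zero _ ?_
    rw [Ne, Ideal.algebraMap_residueField_eq_zero]
    exact hp₁
  have hinj : Function.Injective ((L.subtype.restrictScalars R).baseChange κp) :=
    baseChange_injective_of_gfat (L.subtype.restrictScalars R) (L.mkQ.restrictScalars R)
      L.subtype_injective L.mkQ_surjective (by
        rw [LinearMap.exact_iff]
        ext x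
        simp) h₃ p hp₃
  have hI : ∀ b : B, b • m = 0 → b ∈ q₀.asIdeal := fun b hb =>
    (hm b).mp (by rw [hb, tmul_zero])
  have hann := ann_fibre_elt R B M p m q₀.asIdeal hinj hA hI
  haveI : IsNoetherianRing (p.asIdeal.Fiber B) :=
    Algebra.FiniteType.isNoetherianRing p.asIdeal.ResidueField _
  have hsub := minimalPrimes_subset_ass_of_ann
    ((Algebra.IsPushout.cancelBaseChange R κp B (p.asIdeal.Fiber B) M).symm
      ((1 : κp) ⊗ₜ[R] m)) (Ideal.map (algebraMap B (p.asIdeal.Fiber B)) q₀.asIdeal) hann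
  obtain ⟨Q, hQ⟩ := exists_fibPt_eq R B p q rfl
  rw [← hQ, assAt_fibPt_iff]
  apply hsub
  refine ⟨⟨Q.2, ?_⟩, ?_⟩
  · rw [Ideal.map_le_iff_le_comap]
    intro b hb
    have h1 : b ∈ q.asIdeal := hle hb
    rw [← hQ] at h1
    exact h1
  · rintro Q' ⟨hQ'p, hQ'J⟩ hQ'le
    have h1 : fibPt R B p ⟨Q', hQ'p⟩ = q := by
      apply hmin
      · rw [fibPt_base]
      · intro b hb
        exact (Ideal.map_le_iff_le_comap.mp hQ'J) hb
      · rw [← hQ]
        exact fibPt_le R B p ⟨Q', hQ'p⟩ Q hQ'le
    have h2 : (⟨Q', hQ'p⟩ : PrimeSpectrum (p.asIdeal.Fiber B)) = Q :=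
      fibPt_injective R B p (h1.trans hQ.symm)
    rw [← h2]

end Gen3

end Groth.Agent.Helper5.RelAssR
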