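import Mathlib
import Groth.Prelude
import Groth.Agent.Helper5.RelAssR7
import Groth.Agent.Helper5.RelAssR8

/-!
# RelAssR9: generic points of the fibres of the closure of a relative associated point, integral base
-/

set_option autoImplicit false
set_option linter.unusedSectionVars false
set_option linter.unusedVariables false
set_option linter.style.haveILetI false
universe u
open CategoryTheory CategoryTheory.Limits TensorProduct IsLocalRing AlgebraicGeometry TopologicalSpace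
open Topology

namespace Groth.Agent.Helper5.RelAssR

open Groth.Agent.Helper5.FibMod Groth.Agent.Helper5.FibPd Groth.Agent.Helper4

section Geom

variable {X Y : Scheme.{u}} (f : X ⟶ Y) (F : X.Modules) [F.IsQuasicoherent]

theorem primeIdealOf_le_iff {W : X.Opens} (hW : IsAffineOpen W) (x y : X) (hx : x ∈ W)
    (hy : y ∈ W) : hW.primeIdealOf ⟨x, hx⟩ ≤ hW.primeIdealOf ⟨y, hy⟩ ↔ x ⤳ y := by
  rw [PrimeSpectrum.le_iff_specializes]
  have h1 := hW.fromSpec_primeIdealOf ⟨x, hx⟩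
  have h2 := hW.fromSpec_primeIdealOf ⟨y, hy⟩
  have h3 := hW.fromSpec.isOpenEmbedding.isInducing.specializes_iff
    (x := hW.primeIdealOf ⟨x, hx⟩) (y := hW.primeIdealOf ⟨y, hy⟩)
  constructor
  · intro h
    have h4 := h3.mpr h
    rw [h1, h2] at h4
    exact h4
  · intro h
    apply h3.mp
    rw [h1, h2]
    exact h

set_option maxHeartbeats 3200000 in
/-- S1446 over an integral base, for an associated point of the generic fibre -/
theorem s1446_integral [IsIntegral Y] [LocallyOfFiniteType f]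
    (hF : SheafOfModules.IsFiniteType (R := X.ringCatSheaf) F) (ξ : X)
    (hξ : ξ ∈ MoreMor.relAss f F) (hfξ : f.base ξ = genericPoint Y) :
    ∃ O : Set X, IsOpen O ∧ ξ ∈ O ∧ ∀ x ∈ closure {ξ} ∩ O,
      (∀ y ∈ closure {ξ} ∩ O, f.base y = f.base x → y ⤳ x → y = x) →
        x ∈ MoreMor.relAss f F := by
  obtain ⟨_, ⟨V₀, hV₀, rfl⟩, hη, -⟩ :=
    Y.isBasis_affineOpens.exists_subset_of_mem_open (Set.mem_univ (genericPoint Y)) isOpen_univ
  let Vo : Y.Opens := V₀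
  have hVo : IsAffineOpen Vo := hV₀
  haveI : Nonempty Vo := ⟨⟨genericPoint Y, hη⟩⟩
  have hξV : ξ ∈ (f ⁻¹ᵁ Vo : Set X) := by
    show f.base ξ ∈ Vo
    rw [hfξ]; exact hη
  obtain ⟨_, ⟨W, hW, rfl⟩, hξW, hWle⟩ :=
    X.isBasis_affineOpens.exists_subset_of_mem_open hξV (f ⁻¹ᵁ Vo).isOpen
  let Wo : X.Opens := W
  have hWo : IsAffineOpen Wo := hW
  have e : Wo ≤ f ⁻¹ᵁ Vo := hWle
  letI alg : Algebra Γ(Y, Vo) Γ(X, Wo) := (f.appLE Vo Wo e).hom.toAlgebra
  haveI : Algebra.FiniteType Γ(Y, Vo) Γ(X, Wo) :=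
    HasRingHomProperty.appLE (P := @LocallyOfFiniteType) f inferInstance ⟨Vo, hVo⟩ ⟨Wo, hWo⟩ e
  letI modR : Module Γ(Y, Vo) Γ(F, Wo) := Module.compHom _ (f.appLE Vo Wo e).hom
  haveI : IsScalarTower Γ(Y, Vo) Γ(X, Wo) Γ(F, Wo) :=
    IsScalarTower.of_algebraMap_smul fun r m => rfl
  haveI : Module.Finite Γ(X, Wo) Γ(F, Wo) := SecDict.finite_sections hWo F inferInstance hF
  set q₀ := hWo.primeIdealOf ⟨ξ, hξW⟩ with hq₀def
  have hq₀ : PrimeSpectrum.comap (algebraMap Γ(Y, Vo) Γ(X, Wo)) q₀ = gpt Γ(Y, Vo) := by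
    rw [← primeIdealOf_genericPoint_eq_gpt hVo hη]
    exact (map_chart f hWo hVo e ξ hξW (genericPoint Y) hη).mp hfξ
  have hass : assAt Γ(Y, Vo) Γ(X, Wo) Γ(F, Wo) q₀ :=
    (mem_relAss_chart_iff f F hWo hVo e ξ hξW).mp hξ
  obtain ⟨a, ha, hall⟩ := gen_min_ass Γ(Y, Vo) Γ(X, Wo) Γ(F, Wo) q₀ hq₀ hass
  refine ⟨(Wo : Set X) ∩ (f ⁻¹ᵁ (Y.basicOpen a) : Set X),
    Wo.isOpen.inter (f ⁻¹ᵁ (Y.basicOpen a)).isOpen, ⟨hξW, ?_⟩, ?_⟩
  · show f.base ξ ∈ Y.basicOpen a
    rw [hfξ, StalkDict.mem_basicOpen_iff_notMem_primeIdealOf hVo (genericPoint Y) hη a,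
      primeIdealOf_genericPoint_eq_gpt hVo hη]
    intro h0
    exact ha h0
  · rintro x ⟨hxcl, hxW, hxa⟩ hmax
    have hxa' : f.base x ∈ Y.basicOpen a := hxa
    have hyV : f.base x ∈ Vo := Y.basicOpen_le a hxa'
    have hcomap : ∀ (x' : X) (hx'W : x' ∈ Wo), f.base x' = f.base x →
        PrimeSpectrum.comap (algebraMap Γ(Y, Vo) Γ(X, Wo)) (hWo.primeIdealOf ⟨x', hx'W⟩) =
          hVo.primeIdealOf ⟨f.base x, hyV⟩ :=
      fun x' hx'W h => (map_chart f hWo hVo e x' hx'W (f.base x) hyV).mp h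
    rw [mem_relAss_chart_iff f F hWo hVo e x hxW]
    apply hall
    · rw [hcomap x hxW rfl]
      exact (StalkDict.mem_basicOpen_iff_notMem_primeIdealOf hVo (f.base x) hyV a).mp hxa'
    · rw [hq₀def, primeIdealOf_le_iff hWo ξ x hξW hxW]
      exact specializes_iff_mem_closure.mpr hxcl
    · intro q' hq' hle₀ hle
      obtain ⟨x', hx'W, rfl⟩ := chart_point hWo q'
      rw [hcomap x hxW rfl] at hq'
      have hfx' : f.base x' = f.base x :=
        (map_chart f hWo hVo e x' hx'W (f.base x) hyV).mpr hq'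
      have hx'cl : x' ∈ closure ({ξ} : Set X) := by
        rw [← specializes_iff_mem_closure, ← primeIdealOf_le_iff hWo ξ x' hξW hx'W]
        exact hle₀
      have hsp : x' ⤳ x := (primeIdealOf_le_iff hWo x' x hx'W hxW).mp hle
      have hx'O : x' ∈ (Wo : Set X) ∩ (f ⁻¹ᵁ (Y.basicOpen a) : Set X) := by
        refine ⟨hx'W, ?_⟩
        show f.base x' ∈ Y.basicOpen a
        rw [hfx']; exact hxa'
      have := hmax x' ⟨hx'cl, hx'O⟩ hfx' hsp
      subst this
      rfl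

end Geom

end Groth.Agent.Helper5.RelAssR
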