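import Mathlib
import Groth.Prelude
import Groth.Agent.Helper5.RelAssR9

/-!
# RelAssR10: generic points of the fibres of the closure of a relative associated point (S1446)
-/

set_option autoImplicit false
set_option linter.unusedSectionVars false
set_option linter.unusedVariables false
set_option linter.style.haveILetI false
universe u
open CategoryTheory CategoryTheory.Limits TensorProduct IsLocalRing AlgebraicGeometry TopologicalSpace
open Topology

namespace Groth.Agent.Helper5.RelAssR

open Groth.Agent.Helper5.FibMod Groth.Agent.Helper5.FibPd Groth.Agent.Helper4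

section Imm

set_option maxHeartbeats 1600000 in
/-- an integral scheme immersed in `S` with generic point mapping to `s`, and containing all the
specializations of `s` in some open neighbourhood -/
theorem exists_integral_immersion (S : Scheme.{u}) (s : S) :
    ∃ (T : Scheme.{u}) (_ : IsIntegral T) (g : T ⟶ S) (_ : IsImmersion g),
      g.base (genericPoint T) = s ∧
      ∃ V₀ : S.Opens, s ∈ V₀ ∧ ∀ y ∈ V₀, s ⤳ y → y ∈ Set.range g.base := by
  obtain ⟨_, ⟨V₀, hV₀, rfl⟩, hs, -⟩ :=
    S.isBasis_affineOpens.exists_subset_of_mem_open (Set.mem_univ s) isOpen_univ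
  let Vo : S.Opens := V₀
  have hVo : IsAffineOpen Vo := hV₀
  let p₀ : PrimeSpectrum Γ(S, Vo) := hVo.primeIdealOf ⟨s, hs⟩
  haveI := p₀.2
  let D := Γ(S, Vo) ⧸ p₀.asIdeal
  let φ : Γ(S, Vo) →+* D := Ideal.Quotient.mk p₀.asIdeal
  have hφ : Function.Surjective φ := Ideal.Quotient.mk_surjective
  let g₁ : Spec (CommRingCat.of D) ⟶ Spec Γ(S, Vo) := Spec.map (CommRingCat.ofHom φ)
  haveI : IsClosedImmersion g₁ := IsClosedImmersion.spec_of_surjective _ hφ
  haveI : IsDomain (CommRingCat.of D) := inferInstanceAs (IsDomain D)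
  haveI hint : IsIntegral (Spec (CommRingCat.of D)) := inferInstance
  have hrange : Set.range g₁.base = PrimeSpectrum.zeroLocus (p₀.asIdeal : Set Γ(S, Vo)) := by
    have h1 : Set.range g₁.base = PrimeSpectrum.zeroLocus (RingHom.ker φ : Set Γ(S, Vo)) :=
      _root_.range_comap_of_surjective _ φ hφ
    rw [h1, Ideal.mk_ker]
  have hfs : hVo.fromSpec.base p₀ = s := hVo.fromSpec_primeIdealOf ⟨s, hs⟩
  refine ⟨Spec (CommRingCat.of D), hint, g₁ ≫ hVo.fromSpec, inferInstance, ?_, Vo, hs, ?_⟩
  · have h1 : g₁.base (genericPoint (Spec (CommRingCat.of D))) = p₀ := by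
      rw [genericPoint_eq_bot_of_affine (CommRingCat.of D)]
      apply PrimeSpectrum.ext
      show Ideal.comap φ ⊥ = p₀.asIdeal
      rw [← RingHom.ker_eq_comap_bot, Ideal.mk_ker]
    have h2 : (g₁ ≫ hVo.fromSpec).base (genericPoint (Spec (CommRingCat.of D))) =
        hVo.fromSpec.base (g₁.base (genericPoint (Spec (CommRingCat.of D)))) := by simp
    rw [h2, h1, hfs]
  · intro y hy hsy
    have h0 : hVo.primeIdealOf ⟨y, hy⟩ ∈
        PrimeSpectrum.zeroLocus (p₀.asIdeal : Set Γ(S, Vo)) :=
      (PrimeSpectrum.mem_zeroLocus _ _).mpr ((primeIdealOf_le_iff hVo s y hs hy).mpr hsy)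
    have h1 : hVo.primeIdealOf ⟨y, hy⟩ ∈ Set.range g₁.base := by
      rw [hrange]; exact h0
    obtain ⟨t, ht⟩ := h1
    refine ⟨t, ?_⟩
    have h2 : (g₁ ≫ hVo.fromSpec).base t = hVo.fromSpec.base (g₁.base t) := by simp
    rw [h2, ht]
    exact hVo.fromSpec_primeIdealOf ⟨y, hy⟩

end Imm

section Top

variable {α : Type*} [TopologicalSpace α] [T0Space α]

/-- a generic point of an irreducible component has no proper generization in the space -/
theorem eq_of_specializes_of_isGenericPoint {x y : α} {C : Set α}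
    (hC : C ∈ irreducibleComponents α) (hx : IsGenericPoint x C) (h : y ⤳ x) : y = x := by
  have h1 : C ⊆ closure {y} := by
    rw [← hx.def]
    exact closure_minimal (Set.singleton_subset_iff.mpr (specializes_iff_mem_closure.mp h))
      isClosed_closure
  have h2 : IsIrreducible (closure ({y} : Set α)) := isIrreducible_singleton.closure
  have h3 : closure ({y} : Set α) ⊆ C := hC.2 h2 h1
  have h4 : IsGenericPoint y C := (Set.Subset.antisymm h3 h1 : closure {y} = C)
  exact h4.eq hx

end Top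

section Main

variable {X S : Scheme.{u}} (f : X ⟶ S) [LocallyOfFiniteType f]

set_option maxHeartbeats 3200000 in
/-- S1446 -/
theorem s1446 (F : X.Modules) (hF : Coh.IsCoh F) (ξ : X) (hξ : ξ ∈ MoreMor.relAss f F) :
    ∃ V : Set X, V ⊆ closure {ξ} ∧
      IsOpen (Subtype.val ⁻¹' V : Set ↑(closure ({ξ} : Set X))) ∧ V.Nonempty ∧
      ∀ (x : X) (hx : x ∈ V),
        (∃ C ∈ irreducibleComponents ↑(V ∩ f.base ⁻¹' {f.base x}),
          IsGenericPoint (⟨x, hx, rfl⟩ : ↑(V ∩ f.base ⁻¹' {f.base x})) C) →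
        x ∈ MoreMor.relAss f F := by
  obtain ⟨T, hT, g, hg, hgη, V₀, hsV₀, hV₀⟩ := exists_integral_immersion S (f.base ξ)
  have hc : IsPullback (pullback.fst f g) (pullback.snd f g) f g := IsPullback.of_hasPullback f g
  have hF' : Coh.IsCoh ((Scheme.Modules.pullback (pullback.fst f g)).obj F) :=
    Groth.Agent.Lead.FlatUnivJ.isCoh_pullback _ F hF
  haveI : ((Scheme.Modules.pullback (pullback.fst f g)).obj F).IsQuasicoherent := hF'.1
  set g' := pullback.fst f g with hg'
  set f' := pullback.snd f g with hf'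
  have hw : ∀ x' : ↑(pullback f g), f.base (g'.base x') = g.base (f'.base x') := fun x' => by
    have := congrArg (fun ψ : pullback f g ⟶ S => ψ.base x') hc.w
    simpa using this
  have hemb : IsEmbedding g'.base := g'.isEmbedding
  -- the point upstairs
  obtain ⟨ξ', hξ'1, hξ'2, hξ'max⟩ :=
    Groth.Agent.Helper2.RelAssD.exists_maximal_over hc ξ (genericPoint T) hgη.symm
  have hξ'ass : ξ' ∈ MoreMor.relAss f' ((Scheme.Modules.pullback g').obj F) := by
    rw [Groth.Agent.Helper2.RelAssD.mem_relAss_baseChange_iff hc F hF.1 ξ']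
    refine ⟨by rw [hξ'1]; exact hξ, fun x'' h1 h2 h3 => ?_⟩
    exact hξ'max x'' (h1.trans hξ'2) (h2.trans hξ'1) h3
  obtain ⟨O', hO', hξ'O', hprop⟩ := s1446_integral f' _ hF'.2 ξ' hξ'ass hξ'2
  obtain ⟨O, hO, hOO'⟩ := hemb.isInducing.isOpen_iff.mp hO'
  have hcl : closure ({ξ'} : Set ↑(pullback f g)) = g'.base ⁻¹' closure {ξ} := by
    rw [hemb.isInducing.closure_eq_preimage_closure_image, Set.image_singleton, hξ'1]
  refine ⟨closure {ξ} ∩ (O ∩ (f ⁻¹ᵁ V₀ : Set X)), Set.inter_subset_left, ?_, ?_, ?_⟩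
  · have h1 : (Subtype.val ⁻¹' (closure {ξ} ∩ (O ∩ (f ⁻¹ᵁ V₀ : Set X))) :
        Set ↑(closure ({ξ} : Set X))) = Subtype.val ⁻¹' (O ∩ (f ⁻¹ᵁ V₀ : Set X)) := by
      ext z
      simp only [Set.mem_preimage, Set.mem_inter_iff]
      exact ⟨fun h => h.2, fun h => ⟨z.2, h⟩⟩
    rw [h1]
    exact (hO.inter (f ⁻¹ᵁ V₀).isOpen).preimage continuous_subtype_val
  · refine ⟨ξ, subset_closure rfl, ?_, hsV₀⟩
    have : ξ' ∈ g'.base ⁻¹' O := by rw [hOO']; exact hξ'O'
    rw [← hξ'1]
    exact this
  · rintro x hx ⟨C, hC, hgen⟩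
    -- `x` is maximal in its fibre in `V`
    have hmax : ∀ y ∈ closure {ξ} ∩ (O ∩ (f ⁻¹ᵁ V₀ : Set X)), f.base y = f.base x → y ⤳ x →
        y = x := by
      intro y hy hfy hyx
      have h1 : (⟨y, hy, hfy⟩ : ↑((closure {ξ} ∩ (O ∩ (f ⁻¹ᵁ V₀ : Set X))) ∩
          f.base ⁻¹' {f.base x})) ⤳ ⟨x, hx, rfl⟩ := by
        rw [← IsInducing.subtypeVal.specializes_iff]
        exact hyx
      have h2 := eq_of_specializes_of_isGenericPoint hC hgen h1
      exact congrArg Subtype.val h2
    -- lift `x`
    have hfxV : f.base x ∈ V₀ := hx.2.2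
    have hsx : f.base ξ ⤳ f.base x :=
      (specializes_iff_mem_closure.mpr hx.1).map f.continuous
    obtain ⟨t, ht⟩ := hV₀ (f.base x) hfxV hsx
    obtain ⟨x', hx'1, hx'2⟩ := Scheme.Pullback.exists_preimage_pullback x t ht.symm
    have hx'cl : x' ∈ closure ({ξ'} : Set ↑(pullback f g)) := by
      rw [hcl]
      show g'.base x' ∈ closure {ξ}
      rw [hx'1]
      exact hx.1
    have hx'O : x' ∈ O' := by
      rw [← hOO']
      show g'.base x' ∈ O
      rw [hx'1]
      exact hx.2.1
    have hx'ass : x' ∈ MoreMor.relAss f' ((Scheme.Modules.pullback g').obj F) := by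
      apply hprop x' ⟨hx'cl, hx'O⟩
      intro y' hy' hfy' hy'x'
      apply hemb.injective
      rw [hx'1]
      apply hmax
      · refine ⟨?_, ?_, ?_⟩
        · have := hy'.1
          rw [hcl] at this
          exact this
        · have := hy'.2
          rw [← hOO'] at this
          exact this
        · show f.base (g'.base y') ∈ V₀
          rw [hw, hfy', ← hw, hx'1]
          exact hfxV
      · rw [hw, hfy', ← hw, hx'1]
      · have := hy'x'.map g'.continuous
        rw [hx'1] at this
        exact this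
    have := ((Groth.Agent.Helper2.RelAssD.mem_relAss_baseChange_iff hc F hF.1 x').mp hx'ass).1
    rw [hx'1] at this
    exact this

end Main

end Groth.Agent.Helper5.RelAssR
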