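import Mathlib
import Groth.Agent.Helper5.RelDepth7

set_option autoImplicit false
set_option linter.style.haveILetI false
set_option linter.unusedSectionVars false
universe u
open CategoryTheory CategoryTheory.Limits AlgebraicGeometry TopologicalSpace Topology TensorProduct
open IsLocalRing

namespace Groth.Agent.Helper5.RelDepth

set_option maxHeartbeats 1000000 in
theorem s14106_key {X Y S : Scheme.{u}} [IsLocallyNoetherian X]
    [IsLocallyNoetherian S] (f : X ⟶ S) [Smooth f] (i : Y ⟶ X) [IsClosedImmersion i]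
    [Smooth (i ≫ f)] (y₀ : Y) :
    ∃ ξ : Y, ringKrullDim (X.presheaf.stalk (i ξ)) ≤ ringKrullDim ↑(CInt.fiberStalk f (i y₀)) := by
  haveI hYN : IsLocallyNoetherian Y := LocallyOfFiniteType.isLocallyNoetherian (i ≫ f)
  obtain ⟨ξ, hξy, hξmax⟩ := Groth.Agent.Helper5.BCMin.exists_max_generization y₀
  refine ⟨ξ, ?_⟩
  have hco : Order.coheight ξ = 0 := by
    rw [Order.coheight_eq_zero]
    intro b hb
    have h1 : b ⤳ ξ := Scheme.le_iff_specializes.1 hb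
    rw [hξmax b h1]
  have hdimξ : ringKrullDim (Y.presheaf.stalk ξ) = 0 := by
    rw [AlgebraicGeometry.ringKrullDim_stalk_eq_coheight, hco]; rfl
  -- data
  obtain ⟨k₂, n₂, hk₂, -, hn₂, hfd₂⟩ := Groth.Agent.Helper5.SubDim.fibreDimAt_eq (i ≫ f) ξ
  obtain ⟨k₁, n₁, hk₁, -, hn₁, hfd₁⟩ := Groth.Agent.Helper5.SubDim.fibreDimAt_eq f (i ξ)
  obtain ⟨k₃, n₃, hk₃, -, hn₃, hfd₃⟩ := Groth.Agent.Helper5.SubDim.fibreDimAt_eq f (i y₀)
  obtain ⟨k₄, n₄, hk₄, -, hn₄, hfd₄⟩ := Groth.Agent.Helper5.SubDim.fibreDimAt_eq (i ≫ f) y₀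
  obtain ⟨b, hb, -⟩ := Groth.Agent.Helper5.SubDim.ringKrullDim_stalk_nat S ((i ≫ f) ξ)
  -- ξ generic in Y
  have e1 := dim_stalk_eq_add (i ≫ f) ξ
  rw [hdimξ, hb] at e1
  have e1' : ringKrullDim ↑(CInt.fiberStalk (i ≫ f) ξ) = (k₂ : WithBot ℕ∞) := hk₂
  rw [e1'] at e1
  have e1n : k₂ + b = 0 := by exact_mod_cast e1
  have e2 := dim_stalk_eq_add f (i ξ)
  have hb' : ringKrullDim (S.presheaf.stalk (f (i ξ))) = (b : WithBot ℕ∞) := hb
  have e2' : ringKrullDim ↑(CInt.fiberStalk f (i ξ)) = (k₁ : WithBot ℕ∞) := hk₁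
  rw [hb', e2'] at e2
  have e3' : ringKrullDim ↑(CInt.fiberStalk f (i y₀)) = (k₃ : WithBot ℕ∞) := hk₃
  rw [← e2, e3']
  -- transcendence degrees
  have t1 := Groth.Agent.Helper5.SubDim.trdeg_closedImmersion_comp i f ξ
  rw [hn₂, hn₁] at t1
  have t1n : n₂ = n₁ := by exact_mod_cast t1
  have t2 := Groth.Agent.Helper5.SubDim.trdeg_closedImmersion_comp i f y₀
  rw [hn₄, hn₃] at t2
  have t2n : n₄ = n₃ := by exact_mod_cast t2
  -- Chevalley
  have c1 := Groth.Agent.Helper5.MaxPt.fibreDimAt_le_of_specializes f (i ξ) (i y₀)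
    (hξy.map i.continuous)
  rw [hfd₁, hfd₃] at c1
  have c1n : k₁ + n₁ ≤ k₃ + n₃ := by exact_mod_cast c1
  -- local constancy
  have hlc := Groth.Agent.Helper5.CMAff.s9374 (i ≫ f) (fun x => isCMAt_of_smooth (i ≫ f) x)
  have c2 := eq_of_isLocallyConstant_of_specializes _ hlc hξy
  have c2 : FlatMor.fibreDimAt (i ≫ f) ξ = FlatMor.fibreDimAt (i ≫ f) y₀ := c2
  rw [hfd₂, hfd₄] at c2
  have c2n : k₂ + n₂ = k₄ + n₄ := by exact_mod_cast c2
  have : k₁ + b ≤ k₃ := by omega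
  exact_mod_cast this

theorem s14106 {X Y S : Scheme.{u}} [IsLocallyNoetherian X]
    [IsLocallyNoetherian S] (f : X ⟶ S) [Smooth f] (i : Y ⟶ X) [IsClosedImmersion i] [Smooth (i ≫ f)] :
    (⨅ y : Set.range i.base, ringKrullDim ↑(CInt.fiberStalk f y.1)) =
      ⨅ y : Set.range i.base, ringKrullDim ↑(X.presheaf.stalk y.1) := by
  apply le_antisymm
  · refine iInf_mono fun y => ?_
    have h := dim_stalk_eq_add f y.1
    rw [← h]
    have h0 : (0 : WithBot ℕ∞) ≤ ringKrullDim (S.presheaf.stalk (f y.1)) :=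
      ringKrullDim_nonneg_of_nontrivial
    calc ringKrullDim ↑(CInt.fiberStalk f y.1) = ringKrullDim ↑(CInt.fiberStalk f y.1) + 0 :=
          (add_zero _).symm
      _ ≤ _ := add_le_add_right h0 _
  · refine le_iInf fun y => ?_
    obtain ⟨y₀, hy₀⟩ := y.2
    obtain ⟨ξ, hξ⟩ := s14106_key f i y₀
    refine iInf_le_of_le ⟨i ξ, ⟨ξ, rfl⟩⟩ ?_
    have hy₀' : i y₀ = y.1 := hy₀
    rw [hy₀'] at hξ
    exact hξ

end Groth.Agent.Helper5.RelDepth
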