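import Groth.Prelude.Def_AlgSpDec
import Groth.Agent.Helper5.RelDim2
import Groth.Agent.Helper5.FibDim7
import Groth.Agent.Helper4.AlgSpPtsDesc
import Groth.Agent.Helper4.AlgSpQC2
import Groth.Agent.Helper4.AlgSpLocP2
import Mathlib

set_option autoImplicit false
universe u
open CategoryTheory CategoryTheory.Limits AlgebraicGeometry Opposite

namespace Groth.Agent.Helper5.RelDim

open AlgSp Groth.Agent.Helper5.AtMor Groth.Agent.Helper5.EqAt Groth.Agent.Helper5.SubDim

variable {S : Scheme.{u}}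

/-- S10308: the locus where the relative dimension is at most `n` is open. -/
theorem isOpen_relDim_le {X Y : Sp S} (hX : IsAlgSpace X) (hY : IsAlgSpace Y) (f : X ⟶ Y)
    (hf : LocP @LocallyOfFiniteType f) (n : ℕ) :
    IsOpen {x : Points X |
      HasAtMor (fun _ _ h u => FlatMor.fibreDimAt h u ≤ (n : WithBot ℕ∞)) f x} := by
  obtain ⟨U₀, a₀, ha₀e, ha₀s⟩ := hX.atlas
  obtain ⟨V, b, hbe, hbs⟩ := hY.atlas
  obtain ⟨E, e, c, hee, hes, hxe, hxs, hcomm, -⟩ :=
    Groth.Agent.Helper4.AlgSpLocP2.exists_chart f a₀ ha₀e ha₀s b hbe hbs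
  set a : (yon S).obj E ⟶ X := (yon S).map e ≫ a₀ with ha
  refine Groth.Agent.Helper4.AlgSpPtsDesc.isOpen_of_isOpen_preimage a hxe hxs _ ?_
  have hlft : LocallyOfFiniteType c.left := hf a b c hxe hbe hcomm
  have hopen : IsOpen {t : ↥E.left | FlatMor.fibreDimAt c.left t ≤ (n : WithBot ℕ∞)} :=
    Groth.Agent.Helper5.FibDim.isOpen_fibreDimAt_le c.left _
  have hset : Points.map a ⁻¹' {x : Points X |
      HasAtMor (fun _ _ h u => FlatMor.fibreDimAt h u ≤ (n : WithBot ℕ∞)) f x} =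
      (Points.schemeHomeo E).symm ⁻¹'
        {t : ↥E.left | FlatMor.fibreDimAt c.left t ≤ (n : WithBot ℕ∞)} := by
    ext y
    obtain ⟨t, rfl⟩ := (Points.schemeHomeo E).surjective y
    simp only [Set.mem_preimage, Set.mem_ofPred_eq, Homeomorph.symm_apply_apply]
    rw [Groth.Agent.Helper4.AlgSpQC2.ofPt_eq_map_schemeHomeo]
    exact hasAtMor_iff_chart_ft _ (elstft_fibreDimAt (fun d => d ≤ (n : WithBot ℕ∞))) f hf a b c
      hxe hbe hcomm t
  rw [hset]
  exact hopen.preimage (Points.schemeHomeo E).symm.continuous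

end Groth.Agent.Helper5.RelDim
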