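import Groth.Agent.Helper5.RelDimSp2
import Groth.Agent.Helper4.AlgSpQC
import Groth.Agent.S1240
import Mathlib

set_option autoImplicit false
set_option linter.style.haveILetI false
set_option linter.unusedSectionVars false
set_option linter.unusedVariables false
universe u
open CategoryTheory CategoryTheory.Limits AlgebraicGeometry Opposite

namespace Groth.Agent.Helper5.RelDimSp

open AlgSp Groth.Agent.Helper4 Groth.Agent.Helper5.PtLoc

variable {S : Scheme.{u}}

/-- the range of a quasi-compact open immersion is retrocompact -/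
theorem isRetrocompact_range {A B : Scheme.{u}} (ι : A ⟶ B) [IsOpenImmersion ι] [QuasiCompact ι] :
    IsRetrocompact (Set.range ι) := by
  intro K hKc hKo
  have h1 : IsCompact (ι ⁻¹' K) := ι.isCompact_preimage (U := ⟨K, hKo⟩) hKc
  have h2 : Set.range ι ∩ K = ι '' (ι ⁻¹' K) := by
    rw [Set.image_preimage_eq_inter_range, Set.inter_comm]
  rw [h2]
  exact h1.image ι.continuous

set_option backward.isDefEq.respectTransparency.types false in
theorem s10653 {X Y V : AlgSp.Space S} (f : X ⟶ Y) (j : V ⟶ Y) (d : ℕ)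
    (hf1 : AlgSp.LocP @Flat f.hom) (hf2 : AlgSp.LocP @LocallyOfFiniteType f.hom)
    (hj1 : AlgSp.RepWith @IsOpenImmersion j.hom) (hj2 : Dense (Set.range (AlgSp.Points.map j.hom)))
    (P : AlgSp.Space S) (fst : P ⟶ X) (snd : P ⟶ V) (hP : IsPullback fst.hom snd.hom f.hom j.hom)
    (hV : ∀ x, AlgSp.HasAtMor (fun _ _ h u => FlatMor.fibreDimAt h u ≤ (d : WithBot ℕ∞)) snd.hom x)
    (h : AlgSp.LocP @LocallyOfFinitePresentation f.hom ∨ AlgSp.IsQuasiCompactMor j.hom) :
    ∀ x, AlgSp.HasAtMor (fun _ _ h u => FlatMor.fibreDimAt h u ≤ (d : WithBot ℕ∞)) f.hom x := by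
  have hQ := etLocalOn_QD.{u} (fun r => r ≤ (d : WithBot ℕ∞))
  obtain ⟨V₀, b, hbe, hbs⟩ := Y.property.atlas
  obtain ⟨U, a, s, c1, hae, -, -, has⟩ :=
    Groth.Agent.Helper5.GorSp.exists_chart_over X.property f.hom b hbe
  haveI : Flat s.left := hf1 a b s hae hbe c1
  haveI : LocallyOfFiniteType s.left := hf2 a b s hae hbe c1
  have hje : RepWith @Etale j.hom :=
    Groth.Agent.Helper4.AlgSpSrc.repWith_mono (fun g hg => by haveI := hg; infer_instance) hj1
  have hjo : IsOpen (Set.range (Points.map j.hom)) :=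
    (Groth.Agent.Helper4.AlgSpQC2.isOpenMor_of_repWith_etale Y.property j.hom hje).isOpen_range
  have hbo : IsOpenMap (Points.ofPt b) :=
    Groth.Agent.Helper5.AlgSpNoeth.isOpenMap_ofPt Y.property b hbe
  obtain ⟨O, hO⟩ : ∃ O : V₀.left.Opens,
      (O : Set V₀.left) = Points.ofPt b ⁻¹' Set.range (Points.map j.hom) :=
    ⟨⟨_, hjo.preimage (Points.continuous_ofPt b)⟩, rfl⟩
  have hOd : Dense (O : Set V₀.left) := by
    rw [dense_iff_inter_open]
    intro O' hO' hne
    have h1 : IsOpen (Points.ofPt b '' O') := hbo _ hO'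
    obtain ⟨y, ⟨v, hv, rfl⟩, hy2⟩ := hj2.inter_open_nonempty _ h1 (hne.image _)
    exact ⟨v, hv, by rw [hO]; exact hy2⟩
  have hle : ∀ u : U.left, s.left u ∈ O → FlatMor.fibreDimAt s.left u ≤ (d : WithBot ℕ∞) := by
    intro u hu
    have hu' : s.left u ∈ (O : Set V₀.left) := hu
    rw [hO] at hu'
    obtain ⟨v, hv⟩ := hu'
    have hfx : Points.map f.hom (Points.ofPt a u) = Points.map j.hom v := by
      rw [hv, Points.map_ofPt, c1, Groth.Agent.Helper4.AlgSpPtsDesc.ofPt_yon_map_comp]
    obtain ⟨p, hp1, hp2⟩ :=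
      Groth.Agent.Helper4.AlgSpPtsDesc.exists_point_of_isPullback hP (Points.ofPt a u) v hfx
    have hbc := qd_locus_baseChange (fun r => r ≤ (d : WithBot ℕ∞)) f j fst snd hP hf2
    have h1 := (Set.ext_iff.1 hbc p).1 (hV p)
    rw [Set.mem_preimage, hp1] at h1
    exact (hasAtMor_iff_chart_on hQ f.hom hf2 a b s hae hbe c1 u).1 h1
  have hcond : LocallyOfFinitePresentation s.left ∨ IsRetrocompact (O : Set V₀.left) := by
    rcases h with h | h
    · exact Or.inl (h a b s hae hbe c1)
    · right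
      have hjq : RepWith @QuasiCompact j.hom :=
        Groth.Agent.Helper4.AlgSpQC.repWith_of_isQuasiCompactMor j.hom hj1.rep h
      have hjr := hj1.rep
      have sq₀ : IsPullback (hjr.fst b) ((yon S).map (hjr.snd b)) j.hom b := hjr.isPullback b
      have hιo : IsOpenImmersion (hjr.snd b).left := hj1.property _ _ _ sq₀
      have hιq : QuasiCompact (hjr.snd b).left := hjq.property _ _ _ sq₀
      generalize hjr.fst b = fst₀ at sq₀
      generalize hjr.snd b = ι₀ at sq₀ hιo hιq
      generalize hjr.pullback b = P₀ at fst₀ ι₀ sq₀ hιo hιq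
      have hr : (O : Set V₀.left) = Set.range ι₀.left := by
        rw [hO]
        ext v₀
        constructor
        · rintro ⟨v, hv⟩
          have hpt : Points.map j.hom v = Points.map b (Points.schemeHomeo V₀ v₀) := by
            rw [hv]; exact Points.ofPt_eq_map_ofScheme b v₀
          obtain ⟨p, -, hp2⟩ :=
            Groth.Agent.Helper4.AlgSpPtsDesc.exists_point_of_isPullback sq₀ v _ hpt
          obtain ⟨t, rfl⟩ := (Points.schemeHomeo P₀).surjective p
          refine ⟨t, ?_⟩
          apply (Points.schemeHomeo V₀).injective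
          rw [← hp2]
          exact (Points.map_yon_map_apply ι₀ t).symm
        · rintro ⟨t, rfl⟩
          refine ⟨Points.ofPt fst₀ t, ?_⟩
          rw [Points.map_ofPt, sq₀.w, Groth.Agent.Helper4.AlgSpPtsDesc.ofPt_yon_map_comp]
      rw [hr]
      exact isRetrocompact_range ι₀.left
  intro x
  obtain ⟨u, rfl⟩ := Groth.Agent.Helper5.AlgSpOpen.ofPt_surjective_of_repWith a (has hbs) x
  refine (hasAtMor_iff_chart_on hQ f.hom hf2 a b s hae hbe c1 u).2 ?_
  exact Groth.Agent.S1240.result s.left O hOd d hle hcond u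

end Groth.Agent.Helper5.RelDimSp
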