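import Groth.Agent.Helper5.RelDimSp2
import Groth.Agent.S9355
import Mathlib

set_option autoImplicit false
set_option linter.style.haveILetI false
set_option linter.unusedSectionVars false
set_option linter.unusedVariables false
universe u
open CategoryTheory CategoryTheory.Limits AlgebraicGeometry Opposite

namespace Groth.Agent.Helper5.RelDimSp

open AlgSp Groth.Agent.Helper4 Groth.Agent.Helper5.PtLoc

variable {S : Scheme.{u}}

set_option backward.isDefEq.respectTransparency.types false in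
theorem s10309 {X Y : AlgSp.Space S} (f : X ⟶ Y)
    (hf : AlgSp.LocP @LocallyOfFinitePresentation f.hom) (n : ℕ) (V : Set (AlgSp.Points X.obj))
    (hV : IsOpen V) (hVc : IsCompact V) :
    IsCompact (V ∩ {x : AlgSp.Points X.obj |
      AlgSp.HasAtMor (fun _ _ h u => FlatMor.fibreDimAt h u ≤ (n : WithBot ℕ∞)) f.hom x}) := by
  have hQ := etLocalOn_QD.{u} (fun r => r ≤ (n : WithBot ℕ∞))
  have hf2 : LocP @LocallyOfFiniteType f.hom := fun _ _ a b h ha hb comm => by
    haveI := hf a b h ha hb comm; infer_instance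
  obtain ⟨V₀, b, hbe, hbs⟩ := Y.property.atlas
  obtain ⟨U, a, s, c1, hae, -, -, has⟩ :=
    Groth.Agent.Helper5.GorSp.exists_chart_over X.property f.hom b hbe
  haveI : LocallyOfFinitePresentation s.left := hf a b s hae hbe c1
  have hao : IsOpenMap (Points.ofPt a) :=
    Groth.Agent.Helper5.AlgSpNoeth.isOpenMap_ofPt X.property a hae
  have hasurj := Groth.Agent.Helper5.AlgSpOpen.ofPt_surjective_of_repWith a (has hbs)
  -- affine opens inside the preimage of V
  let ι : {A : U.left.affineOpens // (A.1 : Set U.left) ⊆ Points.ofPt a ⁻¹' V} →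
      Set (Points X.obj) := fun A => Points.ofPt a '' (A.1.1 : Set U.left)
  have hιo : ∀ A, IsOpen (ι A) := fun A => hao _ A.1.1.2
  have hcov : V ⊆ ⋃ A, ι A := by
    intro x hx
    obtain ⟨u, rfl⟩ := hasurj x
    have hu : u ∈ Points.ofPt a ⁻¹' V := hx
    obtain ⟨_, ⟨A, hA, rfl⟩, huA, hAV⟩ :=
      U.left.isBasis_affineOpens.exists_subset_of_mem_open hu
        (hV.preimage (Points.continuous_ofPt a))
    exact Set.mem_iUnion.2 ⟨⟨⟨A, hA⟩, hAV⟩, u, huA, rfl⟩
  obtain ⟨t, ht⟩ := hVc.elim_finite_subcover ι hιo hcov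
  obtain ⟨K, hK⟩ : ∃ K : Set U.left, K = ⋃ A ∈ t, (A.1.1 : Set U.left) := ⟨_, rfl⟩
  have hKo : IsOpen K := by
    rw [hK]; exact isOpen_biUnion fun A _ => A.1.1.2
  have hKc : IsCompact K := by
    rw [hK]; exact t.isCompact_biUnion fun A _ => A.1.2.isCompact
  have hKV : K ⊆ Points.ofPt a ⁻¹' V := by
    rw [hK]; exact Set.iUnion₂_subset fun A _ => A.2
  have hE := Groth.Agent.S9355.result s.left n
  have hcomp : IsCompact ({x : U.left | FlatMor.fibreDimAt s.left x ≤ n} ∩ K) := hE hKc hKo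
  have e : V ∩ {x : AlgSp.Points X.obj |
      AlgSp.HasAtMor (fun _ _ h u => FlatMor.fibreDimAt h u ≤ (n : WithBot ℕ∞)) f.hom x} =
      Points.ofPt a '' ({x : U.left | FlatMor.fibreDimAt s.left x ≤ n} ∩ K) := by
    ext x
    constructor
    · rintro ⟨hxV, hxL⟩
      obtain ⟨A, hAt, u, huA, rfl⟩ : ∃ A ∈ t, x ∈ ι A := by
        have := ht hxV
        simpa only [Set.mem_iUnion, exists_prop] using this
      refine ⟨u, ⟨?_, ?_⟩, rfl⟩
      · exact (hasAtMor_iff_chart_on hQ f.hom hf2 a b s hae hbe c1 u).1 hxL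
      · rw [hK]; exact Set.mem_iUnion₂.2 ⟨A, hAt, huA⟩
    · rintro ⟨u, ⟨hu1, hu2⟩, rfl⟩
      exact ⟨hKV hu2, (hasAtMor_iff_chart_on hQ f.hom hf2 a b s hae hbe c1 u).2 hu1⟩
  rw [e]
  exact hcomp.image (Points.continuous_ofPt a)

end Groth.Agent.Helper5.RelDimSp
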