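import Mathlib
import Groth.Prelude
import Groth.Agent.Helper4.StalkDict
import Groth.Agent.Helper4.AssDict
import Groth.Agent.Helper4.QcqsMod
import Groth.Agent.Helper5.FibModT

/-!
# RelInj1: the restriction maps of a quasi-coherent module to the traces of an open subset are
injective as soon as the stalks at the points outside it have a regular element in the maximal ideal
-/

set_option autoImplicit false
set_option linter.unusedSectionVars false
set_option linter.unusedVariables false
set_option linter.style.haveILetI false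
set_option linter.deprecated false
universe u
open CategoryTheory CategoryTheory.Limits AlgebraicGeometry TopologicalSpace Topology TensorProduct
open IsLocalRing

namespace Groth.Agent.Helper5.RelInj

/-- If `q` is a minimal prime over the annihilator of `g ∈ M`, no element of the maximal ideal of
`B_q` is regular on `M_q`. -/
theorem alg_core_mod (B O : Type u) [CommRing B] [CommRing O] [Algebra B O] (q : Ideal B)
    [q.IsPrime] [IsLocalization.AtPrime O q] [IsLocalRing O]
    (M N : Type u) [AddCommGroup M] [Module B M] [AddCommGroup N] [Module B N] [Module O N]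
    [IsScalarTower B O N] (φ : M →ₗ[B] N) [IsLocalizedModule q.primeCompl φ] (g : M)
    (hq : q ∈ ((Submodule.span B {g}).annihilator).minimalPrimes) (t : O)
    (htm : t ∈ maximalIdeal O) (ht : IsSMulRegular N t) : False := by
  set I : Ideal B := (Submodule.span B {g}).annihilator with hI
  have hIq : I ≤ q := hq.1.2
  set J : Ideal O := (Submodule.span O {φ g}).annihilator with hJ
  have hmemI : ∀ a : B, a ∈ I ↔ a • g = 0 := by
    intro a
    rw [hI, Submodule.mem_annihilator_span_singleton]
  have hmemJ : ∀ a : O, a ∈ J ↔ a • φ g = 0 := by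
    intro a
    rw [hJ, Submodule.mem_annihilator_span_singleton]
  have hφg : φ g ≠ 0 := by
    intro h0
    obtain ⟨⟨u, hu⟩, hug⟩ := (IsLocalizedModule.eq_zero_iff q.primeCompl φ).mp h0
    have : u ∈ I := (hmemI u).mpr hug
    exact hu (hIq this)
  have hJne : J ≠ ⊤ := by
    intro htop
    have h1 : (1 : O) ∈ J := by rw [htop]; trivial
    rw [hmemJ, one_smul] at h1
    exact hφg h1
  have hprime : ∀ p' : Ideal O, p'.IsPrime → J ≤ p' → p' = maximalIdeal O := by
    intro p' hp' hJp'
    have hle : p'.comap (algebraMap B O) ≤ q := by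
      have h1 : p' ≤ maximalIdeal O := le_maximalIdeal hp'.ne_top
      have h2 := Ideal.comap_mono (f := algebraMap B O) h1
      have h2' : (maximalIdeal O).comap (algebraMap B O) = q :=
        IsLocalization.AtPrime.comap_maximalIdeal O q
      rwa [h2'] at h2
    have hIp : I ≤ p'.comap (algebraMap B O) := by
      intro a ha
      rw [Ideal.mem_comap]
      apply hJp'
      rw [hmemJ, algebraMap_smul, ← map_smul, (hmemI a).mp ha, map_zero]
    have hqle : q ≤ p'.comap (algebraMap B O) :=
      hq.2 ⟨Ideal.comap_isPrime _ _, hIp⟩ hle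
    have heq : p'.comap (algebraMap B O) = q := le_antisymm hle hqle
    have h3 : (p'.comap (algebraMap B O)).map (algebraMap B O) = p' :=
      IsLocalization.map_comap q.primeCompl O p'
    rw [heq] at h3
    rw [← h3, IsLocalization.AtPrime.map_eq_maximalIdeal]
  have hrad : J.radical = maximalIdeal O := by
    rw [Ideal.radical_eq_sInf]
    apply le_antisymm
    · obtain ⟨M', hM', hJM'⟩ := Ideal.exists_le_maximal J hJne
      have := hprime M' hM'.isPrime hJM'
      exact sInf_le_of_le ⟨hJM', hM'.isPrime⟩ this.le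
    · refine le_sInf ?_
      rintro p' ⟨hJp', hp'⟩
      rw [hprime p' hp' hJp']
  have htJ : t ∈ J.radical := by rw [hrad]; exact htm
  obtain ⟨n, hn⟩ := htJ
  rw [hmemJ] at hn
  have hreg : IsSMulRegular N (t ^ n) := ht.pow n
  apply hφg
  apply hreg
  show t ^ n • φ g = t ^ n • (0 : N)
  rw [smul_zero]
  exact hn

open Groth.Agent.Helper4 Groth.Agent.Helper4.StalkDict in
set_option maxHeartbeats 1600000 in
/-- a section of a quasi-coherent module vanishing on the trace of an open subset `U` vanishes, as
soon as the stalks at the points outside `U` have a regular element in the maximal ideal -/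
theorem eq_zero_of_res_eq_zero {P : Scheme.{u}} (F : P.Modules) [F.IsQuasicoherent] (U : P.Opens)
    (h : ∀ x : P, x ∉ U → ∃ t ∈ maximalIdeal (P.presheaf.stalk x),
      IsSMulRegular (F.presheaf.stalk x) t) (V : P.Opens) (f : Γ(F, V))
    (hf : F.presheaf.map (homOfLE (inf_le_left : V ⊓ U ≤ V)).op f = 0) : f = 0 := by
  apply AssDict.section_eq_zero_of_germ
  intro x hx
  obtain ⟨_, ⟨W, hW, rfl⟩, hxW, hWV⟩ := P.isBasis_affineOpens.exists_subset_of_mem_open
    (show x ∈ (V : Set P) from hx) V.isOpen
  have hWV' : W ≤ V := hWV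
  set g : Γ(F, W) := F.presheaf.map (homOfLE hWV').op f with hgdef
  suffices hg : g = 0 by
    have h1 : F.presheaf.germ W x hxW g = F.presheaf.germ V x hx f :=
      QcqsMod.germ_res F hWV' x hxW f
    rw [← h1, hg, map_zero]
  by_contra hg
  set I : Ideal Γ(P, W) := (Submodule.span Γ(P, W) {g}).annihilator with hI
  have hmemI : ∀ a : Γ(P, W), a ∈ I ↔ a • g = 0 := by
    intro a
    rw [hI, Submodule.mem_annihilator_span_singleton]
  have hIne : I ≠ ⊤ := by
    intro htop
    have h1 : (1 : Γ(P, W)) ∈ I := by rw [htop]; trivial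
    rw [hmemI, one_smul] at h1
    exact hg h1
  obtain ⟨M, hM, hIM⟩ := Ideal.exists_le_maximal I hIne
  haveI := hM.isPrime
  obtain ⟨q, hq, hqM⟩ := Ideal.exists_minimalPrimes_le hIM
  haveI hqp : q.IsPrime := hq.1.1
  obtain ⟨y, hyW, hyq⟩ := Groth.Agent.Helper5.FibMod.chart_point hW (⟨q, hqp⟩ : PrimeSpectrum Γ(P, W))
  have hyq' : (hW.primeIdealOf ⟨y, hyW⟩).asIdeal = q := congrArg PrimeSpectrum.asIdeal hyq
  letI := sectionModStalk F y hyW
  letI := P.presheaf.algebra_section_stalk ⟨y, hyW⟩
  haveI := hW.isLocalization_stalk ⟨y, hyW⟩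
  haveI := isLocalizedModule_germ hW F y hyW
  haveI : IsScalarTower Γ(P, W) (P.presheaf.stalk y) (F.presheaf.stalk y) :=
    IsScalarTower.of_algebraMap_smul (fun r m => rfl)
  have hq' : (hW.primeIdealOf ⟨y, hyW⟩).asIdeal ∈ I.minimalPrimes := by rw [hyq']; exact hq
  have hyU : y ∉ U := by
    intro hyU
    have h1 : germLin F y hyW g = 0 := by
      rw [germLin_apply]
      have h2 : F.presheaf.germ W y hyW g = F.presheaf.germ V y (hWV' hyW) f :=
        QcqsMod.germ_res F hWV' y hyW f
      have h3 : F.presheaf.germ (V ⊓ U) y ⟨hWV' hyW, hyU⟩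
          (F.presheaf.map (homOfLE (inf_le_left : V ⊓ U ≤ V)).op f) =
          F.presheaf.germ V y (hWV' hyW) f :=
        QcqsMod.germ_res F (inf_le_left : V ⊓ U ≤ V) y _ f
      rw [h2, ← h3, hf, map_zero]
    obtain ⟨⟨u, hu⟩, hug⟩ := (IsLocalizedModule.eq_zero_iff
      (hW.primeIdealOf ⟨y, hyW⟩).asIdeal.primeCompl (germLin F y hyW)).mp h1
    have : u ∈ I := (hmemI u).mpr hug
    exact hu (hq'.1.2 this)
  obtain ⟨t, htm, ht⟩ := h y hyU
  exact alg_core_mod Γ(P, W) (P.presheaf.stalk y) (hW.primeIdealOf ⟨y, hyW⟩).asIdeal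
    Γ(F, W) (F.presheaf.stalk y) (germLin F y hyW) g hq' t htm ht

end Groth.Agent.Helper5.RelInj
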