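import Mathlib
import Groth.Prelude
import Groth.Agent.Helper2.InjFlatFin
import Groth.Agent.Helper2.RelAssD1
import Groth.Agent.Helper2.Ass

/-!
# RelInj2: for a finitely presented module over an essentially finitely presented local algebra,
flat over the base, a regular element of the closed fibre lifts to a regular element; existence of
a regular element when the maximal ideal is not associated to the closed fibre
-/

set_option autoImplicit false
set_option linter.unusedSectionVars false
set_option linter.unusedVariables false
set_option linter.style.haveILetI false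
set_option linter.deprecated false
universe u
open TensorProduct IsLocalRing

namespace Groth.Agent.Helper5.RelInj

section

variable {R₀ T N : Type u} [CommRing R₀] [CommRing T] [IsLocalRing R₀] [IsLocalRing T]
  [Algebra R₀ T] [IsLocalHom (algebraMap R₀ T)]
  [AddCommGroup N] [Module T N] [Module R₀ N] [IsScalarTower R₀ T N]

/-- a fibrewise regular element is regular -/
theorem regular_of_fibre_regular (hess : CAlgX.IsEssFinitePresentation R₀ T)
    [Module.FinitePresentation T N] [Module.Flat R₀ N] (t : T)
    (ht : IsSMulRegular (N ⧸ ((maximalIdeal R₀).map (algebraMap R₀ T) •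
      (⊤ : Submodule T N))) t) : IsSMulRegular N t := by
  set K : Ideal T := (maximalIdeal R₀).map (algebraMap R₀ T) with hK
  have key := Groth.Agent.Helper2.InjFlatFin.s2107 hess (M := N) (N := N)
    (LinearMap.lsmul T N t) (by
      intro x hx
      have h1 : t • (Submodule.Quotient.mk x : N ⧸ (K • (⊤ : Submodule T N))) =
          t • (0 : N ⧸ (K • (⊤ : Submodule T N))) := by
        rw [smul_zero, ← Submodule.Quotient.mk_smul, Submodule.Quotient.mk_eq_zero]
        exact hx
      exact (Submodule.Quotient.mk_eq_zero _).mp (ht h1))
  exact key.1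

/-- if the maximal ideal is not associated to the closed fibre of the module, there is a regular
element in the maximal ideal -/
theorem exists_regular_of_not_ass (hess : CAlgX.IsEssFinitePresentation R₀ T)
    [Module.FinitePresentation T N] [Module.Flat R₀ N]
    (hNoeth : IsNoetherianRing (T ⧸ (maximalIdeal R₀).map (algebraMap R₀ T)))
    (hass : ¬ IsAssociatedPrime (maximalIdeal T)
      (N ⧸ ((maximalIdeal R₀).map (algebraMap R₀ T) • (⊤ : Submodule T N)))) :
    ∃ t ∈ maximalIdeal T, IsSMulRegular N t := by
  set K : Ideal T := (maximalIdeal R₀).map (algebraMap R₀ T) with hK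
  have hKle : K ≤ maximalIdeal T := by
    rw [hK, Ideal.map_le_iff_le_comap]
    intro a ha
    rw [Ideal.mem_comap, mem_maximalIdeal, mem_nonunits_iff]
    intro hu
    exact ((mem_maximalIdeal a).mp ha) (isUnit_of_map_unit (algebraMap R₀ T) a hu)
  haveI : Nontrivial (T ⧸ K) :=
    Ideal.Quotient.nontrivial_iff.mpr
      (fun h => (maximalIdeal.isMaximal T).ne_top (top_le_iff.mp (h ▸ hKle)))
  haveI : IsLocalRing (T ⧸ K) :=
    IsLocalRing.of_surjective' (Ideal.Quotient.mk K) Ideal.Quotient.mk_surjective
  set Q := N ⧸ (K • (⊤ : Submodule T N)) with hQ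
  haveI : Module.Finite T N := inferInstance
  haveI : Module.Finite T Q := Module.Finite.quotient T _
  haveI : Module.Finite (T ⧸ K) Q := Module.Finite.of_restrictScalars_finite T (T ⧸ K) Q
  by_contra hno
  push Not at hno
  have hsurj : Function.Surjective (algebraMap T (T ⧸ K)) := Ideal.Quotient.mk_surjective
  have hall : ∀ tb ∈ maximalIdeal (T ⧸ K), ¬ IsSMulRegular Q tb := by
    intro tb htb hreg
    obtain ⟨t, rfl⟩ := Ideal.Quotient.mk_surjective tb
    have htm : t ∈ maximalIdeal T := by
      rw [mem_maximalIdeal, mem_nonunits_iff]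
      intro hu
      exact ((mem_maximalIdeal _).mp htb) (hu.map (Ideal.Quotient.mk K))
    have hregT : IsSMulRegular Q t := by
      intro a b hab
      apply hreg
      show (Ideal.Quotient.mk K t) • a = (Ideal.Quotient.mk K t) • b
      have e1 : (Ideal.Quotient.mk K t) • a = t • a := by
        rw [← Ideal.Quotient.algebraMap_eq, algebraMap_smul]
      have e2 : (Ideal.Quotient.mk K t) • b = t • b := by
        rw [← Ideal.Quotient.algebraMap_eq, algebraMap_smul]
      rw [e1, e2]
      exact hab
    exact hno t htm (regular_of_fibre_regular hess t hregT)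
  have h1 : maximalIdeal (T ⧸ K) ∈ associatedPrimes (T ⧸ K) Q :=
    Groth.Agent.Helper2.Ass.maximalIdeal_mem_ass_of_forall_not_regular (T ⧸ K) Q hall
  have h2 : IsAssociatedPrime (maximalIdeal (T ⧸ K)) Q := h1
  exact hass ((Groth.Agent.Helper2.RelAssD.isAssociatedPrime_maximalIdeal_iff_of_surjective'
    (B := T) (B' := T ⧸ K) (P := Q) hsurj).mp h2)

end

end Groth.Agent.Helper5.RelInj
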