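import Mathlib
import Groth.Prelude
import Groth.Agent.Helper5.RelInj1
import Groth.Agent.Helper5.RelInj2
import Groth.Agent.Helper4.AssNoeth
import Groth.Agent.Helper2.StalkEssFP
import Groth.Agent.Helper2.RelAssD3
import Groth.Agent.Helper5.CMFib1
import Groth.Agent.Helper5.GenDim1
import Groth.Agent.Lead.FlatBC2
import Groth.Agent.Lead.LimPres

/-!
# RelInj3: for a flat finitely presented module, the canonical map `F → j_* j^* F` is universally
injective iff it is injective on the fibres (S4879)
-/

set_option autoImplicit false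
set_option linter.unusedSectionVars false
set_option linter.unusedVariables false
set_option linter.style.haveILetI false
set_option linter.deprecated false
universe u
open CategoryTheory CategoryTheory.Limits AlgebraicGeometry TopologicalSpace Topology TensorProduct
open IsLocalRing Opposite

namespace Groth.Agent.Helper5.RelInj

section

variable {X S : Scheme.{u}} (f : X ⟶ S) (F : X.Modules)

set_option maxHeartbeats 1600000 in
/-- at a point outside the relative assassin of a flat finitely presented module, the stalk has a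
regular element in the maximal ideal -/
theorem exists_regular_of_notMem_relAss [LocallyOfFinitePresentation f] [F.IsQuasicoherent]
    (hF : CohB1.IsFP F) (x : X) (hflat : FlatMod.IsFlatOverAt f F x)
    (hx : x ∉ MoreMor.relAss f F) :
    ∃ t ∈ maximalIdeal (X.presheaf.stalk x), IsSMulRegular (F.presheaf.stalk x) t := by
  letI alg : Algebra (S.presheaf.stalk (f x)) (X.presheaf.stalk x) := (f.stalkMap x).hom.toAlgebra
  haveI : IsLocalHom (algebraMap (S.presheaf.stalk (f x)) (X.presheaf.stalk x)) :=
    inferInstanceAs (IsLocalHom (f.stalkMap x).hom)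
  letI mN : Module (S.presheaf.stalk (f x)) (F.presheaf.stalk x) := FlatMod.moduleStalkOver f F x
  haveI : IsScalarTower (S.presheaf.stalk (f x)) (X.presheaf.stalk x) (F.presheaf.stalk x) :=
    IsScalarTower.of_algebraMap_smul (fun _ _ => rfl)
  haveI : Module.FinitePresentation (X.presheaf.stalk x) (F.presheaf.stalk x) :=
    Groth.Agent.Helper2.StalkEssFP.fp_stalk F hF x
  haveI : Module.Flat (S.presheaf.stalk (f x)) (F.presheaf.stalk x) := hflat
  have hess := Groth.Agent.Helper2.StalkEssFP.essFP_stalk f x
  obtain ⟨e⟩ := Groth.Agent.Helper5.CMFib.fibre_stalk_equiv' f x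
  haveI : IsLocallyNoetherian (f.fiber (f x)) :=
    Groth.Agent.Helper5.GenDim.isLocallyNoetherian_fiber f (f x)
  have hNoeth : IsNoetherianRing (X.presheaf.stalk x ⧸
      (maximalIdeal (S.presheaf.stalk (f x))).map (algebraMap (S.presheaf.stalk (f x))
        (X.presheaf.stalk x))) :=
    isNoetherianRing_of_ringEquiv _ e.symm
  exact exists_regular_of_not_ass hess hNoeth hx

/-- fibrewise injectivity of the restriction maps forces the relative assassin into `U` -/
theorem relAss_subset_of_fibrewise [LocallyOfFiniteType f] [F.IsQuasicoherent] (U : X.Opens)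
    (h : ∀ (s : S) (V : (↑(f.fiber s) : Scheme.{u}).Opens),
      Function.Injective (((Scheme.Modules.pullback (f.fiberι s)).obj F).presheaf.map
        (homOfLE (inf_le_left : V ⊓ (f.fiberι s) ⁻¹ᵁ U ≤ V)).op)) :
    MoreMor.relAss f F ⊆ (U : Set X) := by
  intro x hx
  rw [Groth.Agent.Helper2.RelAssD.mem_relAss_iff] at hx
  haveI : IsLocallyNoetherian (f.fiber (f x)) :=
    Groth.Agent.Helper5.GenDim.isLocallyNoetherian_fiber f (f x)
  haveI : ((Scheme.Modules.pullback (f.fiberι (f x))).obj F).IsQuasicoherent :=
    Groth.Agent.Lead.StalkPull.isQuasicoherent_pullbackObj _ F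
  have hsub : ∀ z, Curv2.IsAssPoint ((Scheme.Modules.pullback (f.fiberι (f x))).obj F) z →
      z ∈ (f.fiberι (f x)) ⁻¹ᵁ U := by
    rw [Groth.Agent.Helper4.AssNoeth.ass_subset_iff]
    intro V _ s hs
    apply h (f x) V
    rw [map_zero]
    exact hs
  have := hsub _ hx
  have h2 : f.fiberι (f x) (f.asFiber x) ∈ U := this
  rwa [f.fiberι_asFiber] at h2

end

section Main

variable {X S : Scheme.{u}} (f : X ⟶ S) (F : X.Modules)

set_option maxHeartbeats 1600000 in
theorem s4879 [LocallyOfFinitePresentation f] [Coh.IsQCoh F] (hF : CohB1.IsFP F)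
    (hflat : FlatMod.IsFlatOver f F) (U : X.Opens) :
    (∀ (S' : Scheme.{u}) (g : S' ⟶ S) (V : (↑(pullback f g) : Scheme.{u}).Opens),
      Function.Injective (((Scheme.Modules.pullback (pullback.fst f g)).obj F).presheaf.map
        (homOfLE (inf_le_left : V ⊓ (pullback.fst f g) ⁻¹ᵁ U ≤ V)).op)) ↔
    ∀ (s : S) (V : (↑(f.fiber s) : Scheme.{u}).Opens),
      Function.Injective (((Scheme.Modules.pullback (f.fiberι s)).obj F).presheaf.map
        (homOfLE (inf_le_left : V ⊓ (f.fiberι s) ⁻¹ᵁ U ≤ V)).op) := by
  haveI : F.IsQuasicoherent := ‹Coh.IsQCoh F›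
  constructor
  · intro h s V
    exact h (Spec (S.residueField s)) (S.fromSpecResidueField s) V
  · intro h S' g V
    have hrel : MoreMor.relAss f F ⊆ (U : Set X) := relAss_subset_of_fibrewise f F U h
    have hc : IsPullback (pullback.fst f g) (pullback.snd f g) f g := IsPullback.of_hasPullback f g
    set g' := pullback.fst f g with hg'
    set f' := pullback.snd f g with hf'
    haveI : LocallyOfFinitePresentation f' := MorphismProperty.pullback_snd _ _ inferInstance
    haveI : ((Scheme.Modules.pullback g').obj F).IsQuasicoherent :=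
      Groth.Agent.Lead.StalkPull.isQuasicoherent_pullbackObj _ F
    have hF' : CohB1.IsFP ((Scheme.Modules.pullback g').obj F) :=
      Groth.Agent.Lead.LimPres.isFP_pullback _ F hF
    have hnzd : ∀ x' : ↥(pullback f g), x' ∉ (g' ⁻¹ᵁ U) →
        ∃ t ∈ maximalIdeal ((pullback f g).presheaf.stalk x'),
          IsSMulRegular (((Scheme.Modules.pullback g').obj F).presheaf.stalk x') t := by
      intro x' hx'
      refine exists_regular_of_notMem_relAss f' _ hF' x'
        (Groth.Agent.Lead.FlatBC.main_baseChange f f' g' g hc F ‹Coh.IsQCoh F› x' (hflat _)) ?_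
      intro hmem
      rw [Groth.Agent.Helper2.RelAssD.mem_relAss_baseChange_iff hc F ‹Coh.IsQCoh F› x'] at hmem
      exact hx' (hrel hmem.1)
    intro a b hab
    rw [← sub_eq_zero]
    apply eq_zero_of_res_eq_zero _ (g' ⁻¹ᵁ U) hnzd V
    rw [map_sub, hab, sub_self]

end Main

end Groth.Agent.Helper5.RelInj
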