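import Groth.Agent.Helper5.QuotEff5
import Groth.Agent.Helper5.FppfLift
import Groth.Prelude.Def_AlgSpRep

set_option autoImplicit false
universe u
open CategoryTheory CategoryTheory.Limits AlgebraicGeometry Opposite

namespace Groth.Agent.Helper5.RepEpi

open AlgSp Groth.Agent.Helper4 Groth.Agent.Helper5.QuotEff

variable {S : Scheme.{u}}

set_option backward.isDefEq.respectTransparency false

theorem s10096 (F G : Sp S) (a : F ⟶ G)
    (ha : RepBySpWith (IsSurjectiveMor ⊓ LocP @Flat ⊓ LocP @LocallyOfFinitePresentation) a.hom) :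
    Epi a := by
  apply epi_of_loc_lift
  intro T z
  have sq : IsPullback (pullback.fst a z) (pullback.snd a z) a z := IsPullback.of_hasPullback _ _
  have sq' : IsPullback (pullback.fst a z).hom (pullback.snd a z).hom a.hom z.hom :=
    sq.map (sheafToPresheaf (J S) (Type (u + 1)))
  obtain ⟨h, hA, hQ⟩ := ha z.hom (pullback.fst a z).hom (pullback.snd a z).hom sq'
  have hA' : IsAlgSpace (pullback a z) := hA
  have hQ' : (IsSurjectiveMor ⊓ LocP @Flat ⊓ LocP @LocallyOfFinitePresentation) (pullback.snd a z) := hQ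
  obtain ⟨⟨hsurj, hflat⟩, hlfp⟩ := hQ'
  obtain ⟨W, w, hwe, hws⟩ := hA'.atlas
  obtain ⟨c, hc⟩ := (yon S).map_surjective (w ≫ pullback.snd a z)
  have hide : RepWith @Etale (𝟙 ((yon S).obj T)) := repWith_id _ _
  have hcomm : w ≫ pullback.snd a z = (yon S).map c ≫ 𝟙 _ := by rw [hc, Category.comp_id]
  have hcf : Flat c.left := hflat _ _ c hwe hide hcomm
  have hcp : LocallyOfFinitePresentation c.left := hlfp _ _ c hwe hide hcomm
  have hcs : ∀ z0 : T.left, z0 ∈ Set.range c.left := by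
    intro z0
    obtain ⟨y, hy⟩ := hsurj (Points.schemeHomeo T z0)
    obtain ⟨w0, rfl⟩ := exists_ofPt_eq w hws y
    refine ⟨w0, ?_⟩
    apply (Points.schemeHomeo T).injective
    rw [← Points.map_yon_map_apply, hc, Points.map_comp, ← hy, Points.ofPt_eq_map_ofScheme]
    rfl
  refine ⟨Sieve.ofArrows (fun _ : PUnit.{u + 1} => W) (fun _ => c),
    Groth.Agent.Helper5.FppfLift.ofArrows_mem_J _ _ (fun _ => hcf) (fun _ => hcp)
      (fun z0 => ⟨PUnit.unit, hcs z0⟩), ?_⟩
  intro T' f hf
  obtain ⟨T'', k, _, ⟨_⟩, hk⟩ := hf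
  refine ⟨(yon S).map k ≫ w ≫ pullback.fst a z, ?_⟩
  rw [Category.assoc, Category.assoc, sq.w, ← Category.assoc w, ← hc, ← hk, Functor.map_comp,
    Category.assoc]

end Groth.Agent.Helper5.RepEpi
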