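import Groth.Prelude.Def_AlgSpMor5
import Groth.Agent.Helper4.AlgSpDesc
import Mathlib

set_option autoImplicit false
universe u
open CategoryTheory CategoryTheory.Limits AlgebraicGeometry Opposite

namespace Groth.Agent.Helper5.RepLocT1

open AlgSp Groth.Agent.Helper4

variable {S : Scheme.{u}}

set_option backward.isDefEq.respectTransparency false

/-- stability of an étale-local-at-target property under base change along an étale morphism -/
theorem baseChange_etale (P : MorphismProperty Scheme.{u}) [P.IsLocalAtTarget Scheme.etalePrecoverage]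
    {A X Y Z : Scheme.{u}} {fst : A ⟶ X} {snd : A ⟶ Y} {f : X ⟶ Z} {g : Y ⟶ Z}
    (h : IsPullback fst snd f g) [Etale g] (hf : P f) : P snd := by
  have hR : Presieve.ofArrows (fun b : Bool => cond b Y Z) (fun b : Bool =>
      (match b with | true => g | false => 𝟙 Z : cond b Y Z ⟶ Z)) ∈ Scheme.etalePrecoverage Z := by
    rw [Scheme.etalePrecoverage, Scheme.ofArrows_mem_precoverage_iff]
    refine ⟨fun x => ⟨false, x, rfl⟩, ?_⟩
    rintro (_ | _)
    · show Etale (𝟙 Z); infer_instance
    · show Etale g; infer_instance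
  have hg : Presieve.ofArrows (fun b : Bool => cond b Y Z) (fun b : Bool =>
      (match b with | true => g | false => 𝟙 Z : cond b Y Z ⟶ Z)) g :=
    Presieve.ofArrows.mk (ι := Bool) true
  have h1 : P (pullback.snd f g) :=
    MorphismProperty.IsLocalAtTarget.pullbackSnd (P := P) (K := Scheme.etalePrecoverage) hR hg hf
  rw [← h.isoPullback_hom_snd]
  exact (MorphismProperty.cancel_left_of_respectsIso P _ _).2 h1

/-- descent of an étale-local-at-target property along an étale surjective base change -/
theorem descend_etale (P : MorphismProperty Scheme.{u}) [P.IsLocalAtTarget Scheme.etalePrecoverage]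
    {A X Y Z : Scheme.{u}} {fst : A ⟶ X} {snd : A ⟶ Y} {f : X ⟶ Z} {g : Y ⟶ Z}
    (h : IsPullback fst snd f g) [Etale g] [Surjective g] (hs : P snd) : P f := by
  have hR : Presieve.singleton g ∈ Scheme.etalePrecoverage Z := by
    rw [← Presieve.ofArrows_pUnit.{0}]
    rw [Scheme.etalePrecoverage, Scheme.ofArrows_mem_precoverage_iff]
    refine ⟨fun x => ⟨⟨⟩, (inferInstance : Surjective g).surj x⟩, fun _ => ?_⟩
    show Etale g; infer_instance
  refine MorphismProperty.IsLocalAtTarget.of_forall_pullbackSnd (P := P)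
    (K := Scheme.etalePrecoverage) hR ?_
  intro U g' _ hg'
  obtain ⟨⟩ := hg'
  rw [← h.isoPullback_hom_snd] at hs
  exact (MorphismProperty.cancel_left_of_respectsIso P _ _).1 hs

theorem repLocT_of_one_chart (P : MorphismProperty Scheme.{u})
    [P.IsLocalAtTarget Scheme.etalePrecoverage]
    {X Y : Sp S} (f : X ⟶ Y) (hf : Representable f)
    {V W : Over S} (b : (yon S).obj V ⟶ Y) (hb1 : RepWith @Etale b) (hb2 : RepWith @Surjective b)
    (fst : (yon S).obj W ⟶ X) (snd : W ⟶ V)
    (sq : IsPullback fst ((yon S).map snd) f b) (hP : P snd.left) :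
    RepLocT P f := by
  refine ⟨hf, ?_⟩
  intro V' W' b' fst' snd' hb' sq'
  -- V'' = V ×_Y V'
  have hbr := hb1.rep
  have hpbV : IsPullback (hbr.fst b') ((yon S).map (hbr.snd b')) b b' := hbr.isPullback b'
  obtain ⟨q₁, hq₁⟩ := (yon S).map_surjective (hbr.fst b')
  rw [← hq₁] at hpbV
  have hq₂e : Etale (hbr.snd b').left := hb1.property _ _ _ hpbV
  have hq₂s : Surjective (hbr.snd b').left := hb2.property _ _ _ hpbV
  have hq₁e : Etale q₁.left := hb'.property _ _ _ hpbV.flip
  generalize hbr.snd b' = q₂ at hpbV hq₂e hq₂s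
  -- the two base changes to V''
  have hE₁ : IsPullback (pullback.fst snd q₁) (pullback.snd snd q₁) snd q₁ :=
    IsPullback.of_hasPullback _ _
  have hE₂ : IsPullback (pullback.fst snd' q₂) (pullback.snd snd' q₂) snd' q₂ :=
    IsPullback.of_hasPullback _ _
  have sqid : IsPullback (𝟙 X) f f (𝟙 Y) := IsPullback.of_horiz_isIso ⟨by simp⟩
  obtain ⟨m₁, hm₁⟩ := AlgSpDesc.cube sqid sq (g' := q₁) (h := (yon S).map q₁ ≫ b)
    (by rw [Category.comp_id]) hE₁
  obtain ⟨m₂, hm₂⟩ := AlgSpDesc.cube sqid sq' (g' := q₂) (h := (yon S).map q₂ ≫ b')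
    (by rw [Category.comp_id]) hE₂
  rw [hpbV.w] at hm₁
  -- the comparison isomorphism
  let e : (yon S).obj (pullback snd q₁) ≅ (yon S).obj (pullback snd' q₂) :=
    hm₁.isoIsPullback _ _ hm₂
  have he : e.hom ≫ (yon S).map (pullback.snd snd' q₂) = (yon S).map (pullback.snd snd q₁) :=
    IsPullback.isoIsPullback_hom_snd _ _ hm₁ hm₂
  let e₀ : pullback snd q₁ ≅ pullback snd' q₂ := (yon S).preimageIso e
  have he₀ : e₀.hom ≫ pullback.snd snd' q₂ = pullback.snd snd q₁ := by
    apply (yon S).map_injective
    rw [Functor.map_comp]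
    show (yon S).map ((yon S).preimage e.hom) ≫ _ = _
    rw [Functor.map_preimage]
    exact he
  -- P for the first base change
  have i1 : Etale ((Over.forget S).map q₁) := hq₁e
  have i2 : Etale ((Over.forget S).map q₂) := hq₂e
  have i3 : Surjective ((Over.forget S).map q₂) := hq₂s
  have h1 : P (pullback.snd snd q₁).left :=
    baseChange_etale P (hE₁.map (Over.forget S)) hP
  -- transfer along the isomorphism
  have h2 : P (pullback.snd snd' q₂).left := by
    have h3 : (pullback.snd snd q₁).left = e₀.hom.left ≫ (pullback.snd snd' q₂).left := by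
      rw [← Over.comp_left, he₀]
    rw [h3] at h1
    have : IsIso e₀.hom.left := (Over.forget S).map_isIso e₀.hom
    exact (MorphismProperty.cancel_left_of_respectsIso P _ _).1 h1
  -- descend
  exact descend_etale P (hE₂.map (Over.forget S)) h2

end Groth.Agent.Helper5.RepLocT1
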