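import Mathlib

/-!
# Helper5: a point of a scheme over a valuation ring which extends over a dominating local ring
extends over the valuation ring
-/

set_option autoImplicit false
universe u
open CategoryTheory CategoryTheory.Limits AlgebraicGeometry Opposite IsLocalRing

namespace Groth.Agent.Helper5.RepVC

set_option maxHeartbeats 800000 in
theorem exists_section_of_dominating {A K A' K' : Type u} [CommRing A] [IsDomain A]
    [ValuationRing A] [Field K] [Algebra A K] [IsFractionRing A K]
    [CommRing A'] [IsLocalRing A'] [Field K'] [Algebra A' K']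
    (hinj' : Function.Injective (algebraMap A' K'))
    (φ : A →+* A') (ψ : K →+* K') (hloc : IsLocalHom φ)
    {Q : Scheme.{u}} (s : Q ⟶ Spec (CommRingCat.of A)) (qK : Spec (CommRingCat.of K) ⟶ Q)
    (hqK : qK ≫ s = Spec.map (CommRingCat.ofHom (algebraMap A K)))
    (q' : Spec (CommRingCat.of A') ⟶ Q) (hq' : q' ≫ s = Spec.map (CommRingCat.ofHom φ))
    (hcompat : Spec.map (CommRingCat.ofHom (algebraMap A' K')) ≫ q' =
      Spec.map (CommRingCat.ofHom ψ) ≫ qK) :
    ∃ q : Spec (CommRingCat.of A) ⟶ Q, q ≫ s = 𝟙 _ ∧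
      Spec.map (CommRingCat.ofHom (algebraMap A K)) ≫ q = qK := by
  let x' : Q := q' (closedPoint A')
  obtain ⟨U, hU, hx', -⟩ := exists_isAffineOpen_mem_and_subset (X := Q) (x := x') (U := ⊤) trivial
  have hr' : Set.range q' ⊆ Set.range hU.fromSpec := by
    rw [hU.range_fromSpec]
    rintro _ ⟨t, rfl⟩
    have h1 : q' t ⤳ q' (closedPoint A') :=
      (IsLocalRing.specializes_closedPoint (R := A') t).map q'.continuous
    exact h1.mem_open U.2 hx'
  have hrK : Set.range qK ⊆ Set.range hU.fromSpec := by
    rintro _ ⟨t, rfl⟩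
    let t' : Spec (CommRingCat.of K') := closedPoint K'
    have h1 : (Spec.map (CommRingCat.ofHom ψ)) t' = t := Subsingleton.elim _ _
    have h2 : qK t = q' ((Spec.map (CommRingCat.ofHom (algebraMap A' K'))) t') := by
      rw [← h1]
      exact (congrArg (fun g : Spec (CommRingCat.of K') ⟶ Q => g t') hcompat).symm
    rw [h2]
    exact hr' ⟨_, rfl⟩
  let ζ' : Spec (CommRingCat.of A') ⟶ Spec Γ(Q, U) := IsOpenImmersion.lift hU.fromSpec q' hr'
  have hζ' : ζ' ≫ hU.fromSpec = q' := IsOpenImmersion.lift_fac _ _ _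
  let ζK : Spec (CommRingCat.of K) ⟶ Spec Γ(Q, U) := IsOpenImmersion.lift hU.fromSpec qK hrK
  have hζK : ζK ≫ hU.fromSpec = qK := IsOpenImmersion.lift_fac _ _ _
  let βU : Γ(Q, U) →+* A' := (Spec.preimage ζ').hom
  have hβU : Spec.map (CommRingCat.ofHom βU) = ζ' := Spec.map_preimage ζ'
  let κU : Γ(Q, U) →+* K := (Spec.preimage ζK).hom
  have hκU : Spec.map (CommRingCat.ofHom κU) = ζK := Spec.map_preimage ζK
  let sU : A →+* Γ(Q, U) := (Spec.preimage (hU.fromSpec ≫ s)).hom
  have hsU : Spec.map (CommRingCat.ofHom sU) = hU.fromSpec ≫ s := Spec.map_preimage _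
  -- ring identities
  have h1 : ψ.comp κU = (algebraMap A' K').comp βU := by
    have h : Spec.map (CommRingCat.ofHom ((algebraMap A' K').comp βU)) =
        Spec.map (CommRingCat.ofHom (ψ.comp κU)) := by
      rw [CommRingCat.ofHom_comp, CommRingCat.ofHom_comp, Spec.map_comp, Spec.map_comp, hβU, hκU,
        ← cancel_mono hU.fromSpec, Category.assoc, Category.assoc, hζ', hζK, hcompat]
    exact (congrArg (fun t => t.hom) (Spec.map_injective h)).symm
  have h2 : βU.comp sU = φ := by
    have h : Spec.map (CommRingCat.ofHom (βU.comp sU)) = Spec.map (CommRingCat.ofHom φ) := by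
      rw [CommRingCat.ofHom_comp, Spec.map_comp, hβU, hsU, ← Category.assoc, hζ', hq']
    exact congrArg (fun t => t.hom) (Spec.map_injective h)
  have h3 : κU.comp sU = algebraMap A K := by
    have h : Spec.map (CommRingCat.ofHom (κU.comp sU)) =
        Spec.map (CommRingCat.ofHom (algebraMap A K)) := by
      rw [CommRingCat.ofHom_comp, Spec.map_comp, hκU, hsU, ← Category.assoc, hζK, hqK]
    exact congrArg (fun t => t.hom) (Spec.map_injective h)
  have hinjA : Function.Injective (algebraMap A K) := IsFractionRing.injective A K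
  -- the key point: `κU` lands in `A`
  have key : ∀ b : Γ(Q, U), κU b ∈ (algebraMap A K).range := by
    intro b
    by_cases hb0 : κU b = 0
    · exact ⟨0, by rw [map_zero, hb0]⟩
    rcases ValuationRing.isInteger_or_isInteger A (κU b) with ⟨a, ha⟩ | ⟨a, ha⟩
    · exact ⟨a, ha⟩
    · by_cases hau : IsUnit a
      · obtain ⟨u, rfl⟩ := hau
        refine ⟨((u⁻¹ : Aˣ) : A), ?_⟩
        have h4 : algebraMap A K ((u⁻¹ : Aˣ) : A) * algebraMap A K (u : A) = 1 := by
          rw [← map_mul, Units.inv_mul, map_one]
        rw [ha] at h4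
        have h5 : (κU b)⁻¹ ≠ 0 := inv_ne_zero hb0
        field_simp at h4
        exact h4
      · exfalso
        apply hau
        apply hloc.map_nonunit
        have h6 : algebraMap A' K' (φ a * βU b) = algebraMap A' K' 1 := by
          have e1 : algebraMap A' K' (βU b) = ψ (κU b) := (congrArg (fun t => t b) h1).symm
          have e2 : algebraMap A' K' (φ a) = ψ ((κU b)⁻¹) := by
            rw [← ha, ← h3, ← h2]
            exact (congrArg (fun t => t (sU a)) h1).symm
          rw [map_mul, e1, e2, ← map_mul, inv_mul_cancel₀ hb0, map_one, map_one]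
        exact IsUnit.of_mul_eq_one _ (hinj' h6)
  let e' : A ≃+* (algebraMap A K).range :=
    RingEquiv.ofBijective (algebraMap A K).rangeRestrict
      ⟨fun a b h => hinjA (congrArg Subtype.val h), (algebraMap A K).rangeRestrict_surjective⟩
  let θ : Γ(Q, U) →+* A := e'.symm.toRingHom.comp (κU.codRestrict (algebraMap A K).range key)
  have hθ : (algebraMap A K).comp θ = κU := by
    ext b
    have h4 : e' (θ b) = κU.codRestrict (algebraMap A K).range key b := e'.apply_symm_apply _
    exact congrArg Subtype.val h4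
  have hθs : θ.comp sU = RingHom.id A := by
    ext a
    apply hinjA
    have h4 : algebraMap A K (θ (sU a)) = κU (sU a) := congrArg (fun t => t (sU a)) hθ
    rw [RingHom.comp_apply, h4, ← RingHom.comp_apply, h3]
    rfl
  refine ⟨Spec.map (CommRingCat.ofHom θ) ≫ hU.fromSpec, ?_, ?_⟩
  · rw [Category.assoc, ← hsU, ← Spec.map_comp, ← CommRingCat.ofHom_comp, hθs]
    exact Spec.map_id _
  · rw [← Category.assoc, ← Spec.map_comp, ← CommRingCat.ofHom_comp, hθ, hκU, hζK]

end Groth.Agent.Helper5.RepVC
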