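import Groth.Agent.Helper5.RepVC1
import Groth.Prelude.Def_AlgSpMor5
import Mathlib

/-!
# Helper5: for representable morphisms a lift after a dominating extension descends
-/

set_option autoImplicit false
universe u
open CategoryTheory CategoryTheory.Limits AlgebraicGeometry Opposite IsLocalRing

namespace Groth.Agent.Helper5.RepVC

open AlgSp

variable {S : Scheme.{u}}

set_option maxHeartbeats 800000 in
set_option backward.isDefEq.respectTransparency.types false in
theorem hasLift_of_domExt_representable {X Y : Sp S} (f : X ⟶ Y) (hf : Representable f)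
    (sq : ValSq f) (e : sq.DomExt) (he : e.HasLift) : sq.HasLift := by
  obtain ⟨l, hl1, hl2⟩ := he
  have hrep : Representable f := hf
  let Q : Over S := hrep.pullback sq.bot
  have pb := hrep.isPullback sq.bot
  let toA : e.ptA' ⟶ sq.ptA := Over.homMk (Spec.map (CommRingCat.ofHom e.φ)) rfl
  let jA' : e.ptK' ⟶ e.ptA' :=
    Over.homMk (Spec.map (CommRingCat.ofHom (algebraMap e.A' e.K'))) rfl
  let tψ : e.ptK' ⟶ sq.ptK := Over.homMk (Spec.map (CommRingCat.ofHom e.ψ)) (by
    change Spec.map _ ≫ Spec.map _ ≫ _ = Spec.map _ ≫ Spec.map _ ≫ _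
    rw [← Spec.map_comp_assoc, ← Spec.map_comp_assoc, ← CommRingCat.ofHom_comp,
      ← CommRingCat.ofHom_comp, e.comm])
  have hl1' : (yon S).map jA' ≫ l = (yon S).map tψ ≫ sq.top := hl1
  obtain ⟨qK, hqK⟩ := (yon S).map_surjective (pb.lift sq.top ((yon S).map sq.j) sq.comm)
  obtain ⟨q', hq'⟩ := (yon S).map_surjective (pb.lift l ((yon S).map toA) hl2)
  have h1 : qK ≫ hrep.snd sq.bot = sq.j := by
    apply (yon S).map_injective
    rw [Functor.map_comp, hqK, pb.lift_snd]
  have h2 : q' ≫ hrep.snd sq.bot = toA := by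
    apply (yon S).map_injective
    rw [Functor.map_comp, hq', pb.lift_snd]
  have h3 : jA' ≫ q' = tψ ≫ qK := by
    apply (yon S).map_injective
    rw [Functor.map_comp, Functor.map_comp, hq', hqK]
    apply pb.hom_ext
    · rw [Category.assoc, pb.lift_fst, Category.assoc, pb.lift_fst]
      exact hl1'
    · rw [Category.assoc, pb.lift_snd, Category.assoc, pb.lift_snd, ← Functor.map_comp,
        ← Functor.map_comp]
      congr 1
      ext
      change Spec.map _ ≫ Spec.map _ = Spec.map _ ≫ Spec.map _
      rw [← Spec.map_comp, ← Spec.map_comp, ← CommRingCat.ofHom_comp, ← CommRingCat.ofHom_comp,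
        e.comm]
  obtain ⟨q, hq1, hq2⟩ := exists_section_of_dominating (IsFractionRing.injective e.A' e.K')
    e.φ e.ψ e.isLocalHom (hrep.snd sq.bot).left qK.left (congrArg (fun t => t.left) h1)
    q'.left (congrArg (fun t => t.left) h2) (congrArg (fun t => t.left) h3)
  have hqO : q ≫ Q.hom = sq.ptA.hom := by
    rw [← Over.w (hrep.snd sq.bot), ← Category.assoc, hq1, Category.id_comp]
  let qO : sq.ptA ⟶ Q := Over.homMk q hqO
  have h4 : sq.j ≫ qO = qK := by
    ext
    exact hq2
  have h5 : qO ≫ hrep.snd sq.bot = 𝟙 _ := by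
    ext
    exact hq1
  refine ⟨(yon S).map qO ≫ hrep.fst sq.bot, ?_, ?_⟩
  · rw [← Category.assoc, ← Functor.map_comp, h4, hqK, pb.lift_fst]
  · rw [Category.assoc, pb.w, ← Category.assoc, ← Functor.map_comp, h5,
      CategoryTheory.Functor.map_id, Category.id_comp]

end Groth.Agent.Helper5.RepVC
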