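import Mathlib
import Groth.Agent.Helper5.RadBir
import Groth.Agent.Helper5.UnivHomeo1
import Groth.Prelude

set_option autoImplicit false
set_option linter.unusedSectionVars false
set_option linter.style.haveILetI false
universe u

open AlgebraicGeometry CategoryTheory Opposite

namespace Groth.Agent.Helper5.ResDeg

open Groth.Agent.Helper5.RadBir

/-- local bound of the residue degree of a finite morphism by the number of generators -/
theorem local_bound {T' T : Scheme.{u}} (p : T' ⟶ T) (U : T.Opens)
    (hU' : IsAffineOpen (p ⁻¹ᵁ U))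
    (s : Finset Γ(T', p ⁻¹ᵁ U))
    (hs : letI := (p.app U).hom.toAlgebra
      Submodule.span Γ(T, U) (s : Set Γ(T', p ⁻¹ᵁ U)) = ⊤)
    (t' : T') (ht' : p t' ∈ U) :
    letI := (p.residueFieldMap t').hom.toAlgebra
    FiniteDimensional (T.residueField (p t')) (T'.residueField t') ∧
      Module.finrank (T.residueField (p t')) (T'.residueField t') ≤ s.card := by
  classical
  letI algAB := (p.app U).hom.toAlgebra
  letI algK := (p.residueFieldMap t').hom.toAlgebra
  set ρ := (p.residueFieldMap t').hom with hρ
  set evT := (T.evaluation U (p t') ht').hom with hevT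
  set evT' := (T'.evaluation (p ⁻¹ᵁ U) t' ht').hom with hevT'
  have hcompat : ∀ a, evT' ((p.app U).hom a) = ρ (evT a) := fun a =>
    (Scheme.evaluation_naturality_apply p t' ht' a).symm
  set W : Submodule (T.residueField (p t')) (T'.residueField t') :=
    Submodule.span _ ((s.image evT' : Finset _) : Set (T'.residueField t')) with hW
  have hW1 : ∀ c : Γ(T', p ⁻¹ᵁ U), evT' c ∈ W := by
    intro c
    have hc : c ∈ Submodule.span Γ(T, U) (s : Set Γ(T', p ⁻¹ᵁ U)) := by rw [hs]; trivial
    induction hc using Submodule.span_induction with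
    | mem b hb =>
      apply Submodule.subset_span
      rw [Finset.coe_image]
      exact ⟨b, hb, rfl⟩
    | zero => rw [map_zero]; exact W.zero_mem
    | add x y _ _ hx hy => rw [map_add]; exact W.add_mem hx hy
    | smul a x _ hx =>
      have : evT' (a • x) = (evT a) • evT' x := by
        rw [Algebra.smul_def, map_mul, Algebra.smul_def]
        congr 1
        exact hcompat a
      rw [this]
      exact W.smul_mem _ hx
  have hW2 : ∀ (c : Γ(T', p ⁻¹ᵁ U)) (w : T'.residueField t'), w ∈ W → evT' c * w ∈ W := by
    intro c w hw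
    induction hw using Submodule.span_induction with
    | mem z hz =>
      rw [Finset.coe_image] at hz
      obtain ⟨b, -, rfl⟩ := hz
      rw [← map_mul]
      exact hW1 _
    | zero => rw [mul_zero]; exact W.zero_mem
    | add x y _ _ hx hy => rw [mul_add]; exact W.add_mem hx hy
    | smul k x _ hx =>
      rw [mul_smul_comm]
      exact W.smul_mem _ hx
  haveI hWfin : FiniteDimensional (T.residueField (p t')) W :=
    FiniteDimensional.span_finset _ _
  have htop : W = ⊤ := by
    rw [eq_top_iff]
    intro α _
    obtain ⟨c, c₁, hc, hcα⟩ := exists_fraction_residueField (p ⁻¹ᵁ U) hU' t' ht' α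
    let μ : W →ₗ[T.residueField (p t')] W :=
      { toFun := fun w => ⟨evT' c * w.1, hW2 c w.1 w.2⟩
        map_add' := fun x y => Subtype.ext (mul_add _ _ _)
        map_smul' := fun k x => Subtype.ext (mul_smul_comm _ _ _) }
    have hμinj : Function.Injective μ := by
      intro x y hxy
      have := congrArg Subtype.val hxy
      exact Subtype.ext (mul_left_cancel₀ hc this)
    have hμsurj : Function.Surjective μ := LinearMap.surjective_of_injective hμinj
    obtain ⟨w, hw⟩ := hμsurj ⟨evT' c₁, hW1 c₁⟩
    have h1 : evT' c * w.1 = evT' c * α := (congrArg Subtype.val hw).trans hcα.symm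
    have h2 : w.1 = α := mul_left_cancel₀ hc h1
    rw [← h2]
    exact w.2
  have hfd : FiniteDimensional (T.residueField (p t')) (T'.residueField t') := by
    have : FiniteDimensional (T.residueField (p t'))
        (⊤ : Submodule (T.residueField (p t')) (T'.residueField t')) := htop ▸ hWfin
    exact Module.Finite.of_surjective (Submodule.topEquiv :
      (⊤ : Submodule (T.residueField (p t')) (T'.residueField t')) ≃ₗ[_] _).toLinearMap
      (Submodule.topEquiv.surjective)
  refine ⟨hfd, ?_⟩
  have h3 : Module.finrank (T.residueField (p t')) W ≤ (s.image evT').card :=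
    finrank_span_finset_le_card _
  have h4 : Module.finrank (T.residueField (p t')) W =
      Module.finrank (T.residueField (p t')) (T'.residueField t') := by
    rw [htop, finrank_top]
  rw [← h4]
  exact h3.trans Finset.card_image_le

theorem s13831 {T' T : Scheme.{u}} (p : T' ⟶ T) [IsFinite p] (hp : FlatMor.IsUnivHomeo p)
    [IsNoetherian T] :
    ∃ d : ℕ, 0 < d ∧ ∀ t' : T', ∃ e : ℕ,
      @Module.finrank (T.residueField (p t')) (T'.residueField t') _ _
          (p.residueFieldMap t').hom.toAlgebra.toModule =
        ringExpChar (T.residueField (p t')) ^ e ∧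
      ringExpChar (T.residueField (p t')) ^ e ∣ d := by
  classical
  obtain ⟨-, hinj, -⟩ := (Groth.Agent.Helper5.UnivHomeo.isUnivHomeo_iff p).1 hp
  have htf : UniversallyInjective p ↔
      Function.Injective p ∧ ∀ x, (p.residueFieldMap x).hom.IsPurelyInseparable :=
    (tfae_universallyInjective p).out 0 2
  have hpi : ∀ t', (p.residueFieldMap t').hom.IsPurelyInseparable := (htf.1 hinj).2
  -- a finite affine cover
  have hex : ∀ t : T, ∃ U : T.Opens, IsAffineOpen U ∧ t ∈ U := by
    intro t
    obtain ⟨_, ⟨U, hU, rfl⟩, htU, -⟩ :=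
      T.isBasis_affineOpens.exists_subset_of_mem_open (Set.mem_univ t) isOpen_univ
    exact ⟨U, hU, htU⟩
  choose U hU htU using hex
  obtain ⟨F, hF⟩ := isCompact_univ.elim_finite_subcover (fun t => (U t : Set T))
    (fun t => (U t).2) (fun t _ => Set.mem_iUnion.2 ⟨t, htU t⟩)
  -- generators
  have hgen : ∀ t : T, ∃ s : Finset Γ(T', p ⁻¹ᵁ U t),
      letI := (p.app (U t)).hom.toAlgebra
      Submodule.span Γ(T, U t) (s : Set Γ(T', p ⁻¹ᵁ U t)) = ⊤ := by
    intro t
    have hfin : (p.app (U t)).hom.Finite := IsFinite.finite_app p (U t) (hU t)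
    letI := (p.app (U t)).hom.toAlgebra
    exact hfin.1
  choose s hs using hgen
  set n := ∑ t ∈ F, (s t).card with hn
  refine ⟨n.factorial, Nat.factorial_pos n, fun t' => ?_⟩
  have hmem : p t' ∈ ⋃ t ∈ F, (U t : Set T) := hF (Set.mem_univ _)
  simp only [Set.mem_iUnion] at hmem
  obtain ⟨t, htF, ht'⟩ := hmem
  obtain ⟨hfd, hle⟩ := local_bound p (U t) ((hU t).preimage p) (s t) (hs t) t' ht'
  letI := (p.residueFieldMap t').hom.toAlgebra
  haveI := hfd
  haveI : IsPurelyInseparable (T.residueField (p t')) (T'.residueField t') := hpi t'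
  haveI : ExpChar (T.residueField (p t')) (ringExpChar (T.residueField (p t'))) :=
    ringExpChar.expChar _
  obtain ⟨e, he⟩ := IsPurelyInseparable.finrank_eq_pow (T.residueField (p t'))
    (T'.residueField t') (ringExpChar (T.residueField (p t')))
  refine ⟨e, he, ?_⟩
  have hle' : ringExpChar (T.residueField (p t')) ^ e ≤ n := by
    rw [← he]
    exact hle.trans (Finset.single_le_sum (f := fun t => (s t).card) (fun _ _ => Nat.zero_le _) htF)
  have hpos : 0 < ringExpChar (T.residueField (p t')) ^ e := by
    rw [← he]
    exact Module.finrank_pos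
  exact Nat.dvd_factorial hpos hle'

end Groth.Agent.Helper5.ResDeg
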