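import Groth.Agent.Helper5.MonoFld1
import Groth.Agent.Helper4.AlgSpPB
import Groth.Agent.Helper4.AlgSpQC2
import Groth.Agent.Helper6.LocalIso
import Mathlib

set_option autoImplicit false
universe u

namespace Groth.Agent.Helper5.ResSp

open CategoryTheory CategoryTheory.Limits AlgebraicGeometry Opposite AlgSp
open Groth.Agent.Helper4.AlgSpPtsDesc Groth.Agent.Helper4.AlgSpQC2

variable {S : Scheme.{u}}

/-- the residual space data: a field cover -/
def HasFieldCover (Z : Sp S) : Prop :=
  ∃ (k : Type u) (_ : Field k) (str : Spec (CommRingCat.of k) ⟶ S)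
    (p : (yon S).obj (Over.mk str) ⟶ Z),
    LocP @LocallyOfFinitePresentation p ∧ LocP @Flat p ∧ IsSurjectiveMor p

/-- uniqueness of the residual space, on the level of sheaves -/
theorem exists_iso_of_residual {X Z Z' : Sp S} (hX : IsAlgSpace X) (hZ : IsAlgSpace Z)
    (hZ' : IsAlgSpace Z') (x : Points X) (i : Z ⟶ X) (i' : Z' ⟶ X) [Mono i] [Mono i']
    (hi : Set.range (Points.map i) = {x}) (hi' : Set.range (Points.map i') = {x})
    (hc : HasFieldCover Z) (hc' : HasFieldCover Z') :
    ∃ e : Z' ≅ Z, e.hom ≫ i = i' := by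
  have sq : IsPullback (pullback.fst i i') (pullback.snd i i') i i' := IsPullback.of_hasPullback _ _
  have hP : IsAlgSpace (pullback i i') :=
    Groth.Agent.Helper4.AlgSpPB.isAlgSpace_of_isPullback hX.diag hZ hZ' i i' _ _ sq
  have hne : Nonempty (Points (pullback i i')) := by
    have h1 : x ∈ Set.range (Points.map i) := by rw [hi]; rfl
    have h2 : x ∈ Set.range (Points.map i') := by rw [hi']; rfl
    obtain ⟨z, hz⟩ := h1
    obtain ⟨z', hz'⟩ := h2
    obtain ⟨w, -, -⟩ := exists_point_of_isPullback sq z z' (by rw [hz, hz'])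
    exact ⟨w⟩
  haveI : Mono (pullback.fst i i') := inferInstance
  haveI : Mono (pullback.snd i i') := inferInstance
  obtain ⟨k, _, str, p, hp1, hp2, hp3⟩ := hc
  obtain ⟨k', _, str', p', hp1', hp2', hp3'⟩ := hc'
  have h1 : IsIso (pullback.fst i i') := by
    rcases Groth.Agent.Helper5.MonoFld.s10369 hP hZ (pullback.fst i i') str p hp1 hp2 hp3 with h | h
    · exact (h.false hne.some).elim
    · exact h
  have h2 : IsIso (pullback.snd i i') := by
    rcases Groth.Agent.Helper5.MonoFld.s10369 hP hZ' (pullback.snd i i') str' p' hp1' hp2' hp3'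
      with h | h
    · exact (h.false hne.some).elim
    · exact h
  refine ⟨(asIso (pullback.snd i i')).symm ≪≫ asIso (pullback.fst i i'), ?_⟩
  simp only [Iso.trans_hom, Iso.symm_hom, asIso_inv, asIso_hom, Category.assoc]
  rw [pullback.condition, IsIso.inv_hom_id_assoc]

/-- S10371 -/
theorem s10371 (X : Space S) (x : Points X.obj) {Z Z' : Space S} (i : Z ⟶ X) (i' : Z' ⟶ X)
    [Mono i.hom] [Mono i'.hom]
    (hi : Set.range (Points.map i.hom) = {x}) (hi' : Set.range (Points.map i'.hom) = {x})
    (hZ : HasFieldCover Z.obj) (hZ' : HasFieldCover Z'.obj) :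
    ∃ e : Z' ≅ Z, e.hom ≫ i = i' := by
  obtain ⟨e, he⟩ := exists_iso_of_residual X.property Z.property Z'.property x i.hom i'.hom hi hi'
    hZ hZ'
  refine ⟨ObjectProperty.isoMk _ e, ?_⟩
  ext : 1
  exact he

end Groth.Agent.Helper5.ResSp
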