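import Mathlib
import Groth.Agent.Helper5.FieldPtCond1
import Groth.Agent.Helper5.ResSp1
import Groth.Agent.Helper5.EpiArt2
import Groth.Agent.Helper5.FpqcF1
import Groth.Agent.Helper5.AlgSpOpen

/-!
# Reduced locally Noetherian one-point spaces have field covers
-/

set_option autoImplicit false
set_option linter.style.haveILetI false
universe u

namespace Groth.Agent.Helper5.ResFld

open CategoryTheory CategoryTheory.Limits AlgebraicGeometry Opposite TopologicalSpace AlgSp
open Groth.Agent.Helper5.ResSp

variable {S : Scheme.{u}}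

/-- a reduced ring with at most one prime ideal is a field -/
theorem isField_of_isReduced_of_subsingleton (A : Type u) [CommRing A] [Nontrivial A] [IsReduced A]
    [Subsingleton (PrimeSpectrum A)] : IsField A := by
  by_contra hnf
  obtain ⟨p, hp0, hp⟩ := Ring.not_isField_iff_exists_prime.1 hnf
  apply hp0
  rw [eq_bot_iff]
  intro x hx
  have hx' : x ∈ nilradical A := by
    rw [nilradical_eq_sInf, Ideal.mem_sInf]
    intro q hq
    have : (⟨q, hq⟩ : PrimeSpectrum A) = ⟨p, hp⟩ := Subsingleton.elim _ _
    rw [show q = p from congrArg PrimeSpectrum.asIdeal this]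
    exact hx
  rw [nilradical_eq_zero] at hx'
  exact hx'

/-- charts of a locally Noetherian space with at most one point are discrete -/
theorem discreteTopology_chart_of_subsingleton {Z : Sp S} (hN : IsLocNoethSp Z)
    [Subsingleton (Points Z)] {W : Over S} (a : (yon S).obj W ⟶ Z) (ha : RepWith @Etale a) :
    DiscreteTopology ↥W.left := by
  rw [discreteTopology_iff_isOpen_singleton]
  intro w
  refine Groth.Agent.Helper5.FieldPtCond.isOpen_singleton_chart hN a ha w ?_
  have : ({Points.ofPt a w} : Set (Points Z)) = Set.univ := by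
    ext z
    simp only [Set.mem_singleton_iff, Set.mem_univ, iff_true]
    exact Subsingleton.elim _ _
  rw [this]
  exact isOpen_univ

set_option backward.isDefEq.respectTransparency.types false in
/-- a reduced, locally Noetherian algebraic space with exactly one point has a flat, locally
finitely presented surjection from the spectrum of a field -/
theorem hasFieldCover_of_reduced_locNoeth {Z : Sp S} (hN : IsLocNoethSp Z) (hred : IsReducedSp Z)
    [Subsingleton (Points Z)] [Nonempty (Points Z)] : HasFieldCover Z := by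
  obtain ⟨W, a, hae, has, hWred⟩ := hred
  haveI : IsReduced W.left := hWred
  haveI := discreteTopology_chart_of_subsingleton hN a hae
  obtain ⟨z⟩ := ‹Nonempty (Points Z)›
  obtain ⟨w, -⟩ := Groth.Agent.Helper5.AlgSpOpen.ofPt_surjective_of_repWith a has z
  let V : W.left.Opens := ⟨{w}, isOpen_discrete _⟩
  have hwV : w ∈ V := Set.mem_singleton w
  haveI hsub : Subsingleton ↥V.toScheme := by
    refine ⟨fun a b => Subtype.ext ?_⟩
    rw [Set.mem_singleton_iff.1 a.2, Set.mem_singleton_iff.1 b.2]
  have hV : IsAffineOpen V := Groth.Agent.Helper5.EpiArt.isAffine_of_subsingleton V.toScheme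
  haveI : Subsingleton (PrimeSpectrum ↥Γ(W.left, V)) :=
    hV.isoSpec.inv.homeomorph.injective.subsingleton
  haveI : Nontrivial ↥Γ(W.left, V) := by
    have : Nonempty (PrimeSpectrum ↥Γ(W.left, V)) :=
      ⟨hV.isoSpec.hom (⟨w, hwV⟩ : ↥V.toScheme)⟩
    exact (PrimeSpectrum.nonempty_iff_nontrivial).1 this
  haveI : IsReduced ↥Γ(W.left, V) := inferInstance
  have hfield : IsField ↥Γ(W.left, V) := isField_of_isReduced_of_subsingleton _
  letI : Field ↥Γ(W.left, V) := hfield.toField
  let str : Spec (CommRingCat.of ↥Γ(W.left, V)) ⟶ S := hV.fromSpec ≫ W.hom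
  let j : Over.mk str ⟶ W := Over.homMk hV.fromSpec rfl
  have hje : Etale j.left := by
    show Etale hV.fromSpec
    infer_instance
  let p : (yon S).obj (Over.mk str) ⟶ Z := (yon S).map j ≫ a
  have hpe : RepWith @Etale p :=
    Groth.Agent.Helper4.AlgSpSrc.repWith_comp @Etale ((repWith_yon_map_iff _ _).2 hje) hae
  refine ⟨↥Γ(W.left, V), inferInstance, str, p, ?_, ?_, ?_⟩
  · exact Groth.Agent.Helper4.AlgSpLocP.locP_of_repWith @LocallyOfFinitePresentation @Etale
      (fun g hg => by have : Etale g := hg; infer_instance)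
      (fun g hg => by have : Etale g := hg; infer_instance) p hpe
  · exact Groth.Agent.Helper5.FpqcF.locP_flat_of_repWith_etale p hpe
  · intro z'
    have hne : Nonempty ↥(Over.mk str).left :=
      ⟨hV.isoSpec.hom (⟨w, hwV⟩ : ↥V.toScheme)⟩
    obtain ⟨s⟩ := hne
    exact ⟨Points.schemeHomeo (Over.mk str) s, Subsingleton.elim _ _⟩

end Groth.Agent.Helper5.ResFld
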