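import Mathlib
import Groth.Agent.Helper5.ResFld1
import Groth.Agent.Helper5.RedInd1
import Groth.Agent.Helper5.ProperImg1

/-!
# S10416: a point of a locally Noetherian space is closed iff its residual space is a closed
subspace
-/

set_option autoImplicit false
set_option linter.style.haveILetI false
universe u

namespace Groth.Agent.Helper5.ResFld

open CategoryTheory CategoryTheory.Limits AlgebraicGeometry Opposite TopologicalSpace AlgSp
open Groth.Agent.Helper5.ResSp

variable {S : Scheme.{u}}

set_option backward.isDefEq.respectTransparency.types false in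
/-- a closed subspace of a locally Noetherian space is locally Noetherian -/
theorem isLocNoethSp_of_closedImmersion {Z X : Sp S} (i : Z ⟶ X)
    (hi : RepWith @IsClosedImmersion i) (hN : IsLocNoethSp X) : IsLocNoethSp Z := by
  obtain ⟨U, p, hpe, hps, hU⟩ := hN
  haveI : IsLocallyNoetherian U.left := hU
  have sq := hi.rep.isPullback p
  have hcl : IsClosedImmersion (hi.rep.snd p).left := hi.property p _ _ sq
  generalize hi.rep.snd p = snd at sq hcl
  generalize hi.rep.fst p = fst at sq
  have i1 := repWith_isStableUnderBaseChange (S := S) @Etale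
  have i2 := repWith_isStableUnderBaseChange (S := S) @Surjective
  have h1 : RepWith @Etale fst := MorphismProperty.of_isPullback sq.flip hpe
  have h2 : RepWith @Surjective fst := MorphismProperty.of_isPullback sq.flip hps
  exact ⟨_, fst, h1, h2, LocallyOfFiniteType.isLocallyNoetherian snd.left⟩

/-- S10416 -/
theorem s10416 {X Z : AlgSp.Space S}
    (hX : AlgSp.IsLocNoethSp X.obj) (x : AlgSp.Points X.obj) (i : Z ⟶ X) [Mono i.hom]
    (hi : Set.range (AlgSp.Points.map i.hom) = {x})
    (hZ : HasFieldCover Z.obj) :
    IsClosed ({x} : Set (AlgSp.Points X.obj)) ↔ AlgSp.RepWith @IsClosedImmersion i.hom := by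
  constructor
  · intro hcl
    obtain ⟨Z', i', hZ', hcl', hr', hred'⟩ :=
      Groth.Agent.Helper5.RedInd.s10192 X.obj X.property {x} hcl
    haveI : Mono i' := Groth.Agent.Helper5.ProperImg.mono_of_closedImmersion i' hcl'
    have hinj := Groth.Agent.Helper5.ProperImg.points_injective_of_closedImmersion hZ' X.property
      i' hcl'
    haveI : Subsingleton (Points Z') := by
      refine ⟨fun a b => hinj ?_⟩
      have ha : Points.map i' a ∈ ({x} : Set _) := hr' ▸ ⟨a, rfl⟩
      have hb : Points.map i' b ∈ ({x} : Set _) := hr' ▸ ⟨b, rfl⟩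
      rw [Set.mem_singleton_iff.1 ha, Set.mem_singleton_iff.1 hb]
    haveI : Nonempty (Points Z') := by
      have : x ∈ Set.range (Points.map i') := hr' ▸ Set.mem_singleton x
      obtain ⟨z, -⟩ := this
      exact ⟨z⟩
    have hN' : IsLocNoethSp Z' := isLocNoethSp_of_closedImmersion i' hcl' hX
    have hc' : HasFieldCover Z' := hasFieldCover_of_reduced_locNoeth hN' hred'
    obtain ⟨e, he⟩ := exists_iso_of_residual X.property Z.property hZ' x i.hom i' hi hr' hZ hc'
    have : i.hom = e.inv ≫ i' := by rw [← he, Iso.inv_hom_id_assoc]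
    rw [this]
    exact ((RepWith (S := S) @IsClosedImmersion).cancel_left_of_respectsIso e.inv i').2 hcl'
  · intro hcl
    have := Groth.Agent.Helper5.ProperImg.isClosed_range_of_closedImmersion X.property i.hom hcl
    rwa [hi] at this

end Groth.Agent.Helper5.ResFld
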