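import Mathlib

/-!
# Ring lemmas for S10415
-/

set_option autoImplicit false
universe u

namespace Groth.Agent.Helper5.ResFld

variable {A B : Type u} [CommRing A] [CommRing B]

/-- if the image of `Spec B → Spec A` (with `A` Noetherian) contains no nontrivial
specializations, then the fibres are open -/
theorem isOpen_fibre_comap [IsNoetherianRing A] (φ : A →+* B)
    (hanti : ∀ q q' : PrimeSpectrum B, PrimeSpectrum.comap φ q ≤ PrimeSpectrum.comap φ q' →
      PrimeSpectrum.comap φ q = PrimeSpectrum.comap φ q')
    (p : PrimeSpectrum A) : IsOpen (PrimeSpectrum.comap φ ⁻¹' {p}) := by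
  set M := (RingHom.ker φ).minimalPrimes with hM
  have hMfin : M.Finite := Ideal.finite_minimalPrimes_of_isNoetherianRing A _
  -- the image lies in `M`
  have himg : ∀ q : PrimeSpectrum B, (PrimeSpectrum.comap φ q).asIdeal ∈ M := by
    intro q
    have hle : RingHom.ker φ ≤ (PrimeSpectrum.comap φ q).asIdeal := by
      intro x hx
      show φ x ∈ q.asIdeal
      rw [RingHom.mem_ker.1 hx]
      exact q.asIdeal.zero_mem
    obtain ⟨e, heM, hle'⟩ := Ideal.exists_minimalPrimes_le hle
    obtain ⟨p', hp', -, hp'e⟩ := Ideal.exists_comap_eq_of_mem_minimalPrimes (I := ⊥) φ e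
      (by rw [← RingHom.ker_eq_comap_bot]; exact heM)
    have h1 : PrimeSpectrum.comap φ ⟨p', hp'⟩ ≤ PrimeSpectrum.comap φ q := by
      show p'.comap φ ≤ _
      rw [hp'e]
      exact hle'
    have h2 := hanti _ _ h1
    rw [← h2]
    show p'.comap φ ∈ M
    rw [hp'e]
    exact heM
  -- the complement of the fibre is a finite union of closed sets
  have hcompl : PrimeSpectrum.comap φ ⁻¹' {p} =
      (⋃ e ∈ M \ {p.asIdeal}, PrimeSpectrum.comap φ ⁻¹' (PrimeSpectrum.zeroLocus (e : Set A)))ᶜ := by
    ext q
    simp only [Set.mem_preimage, Set.mem_singleton_iff, Set.mem_compl_iff, Set.mem_iUnion,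
      PrimeSpectrum.mem_zeroLocus, SetLike.coe_subset_coe, exists_prop, not_exists, not_and]
    constructor
    · intro hq e heM hle
      apply heM.2
      rw [Set.mem_singleton_iff]
      rw [hq] at hle
      have hpM : p.asIdeal ∈ M := hq ▸ himg q
      exact le_antisymm hle (hpM.2 ⟨heM.1.1.1, heM.1.1.2⟩ hle)
    · intro h
      by_contra hne
      refine h (PrimeSpectrum.comap φ q).asIdeal ⟨himg q, ?_⟩ le_rfl
      rw [Set.mem_singleton_iff]
      intro heq
      exact hne (PrimeSpectrum.ext heq)
  rw [hcompl, isOpen_compl_iff]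
  refine Set.Finite.isClosed_biUnion (hMfin.subset Set.diff_subset) fun e _ => ?_
  exact (PrimeSpectrum.isClosed_zeroLocus _).preimage (PrimeSpectrum.continuous_comap φ)

/-- a ring map to a reduced ring all of whose primes contract to `p` factors through the
residue field of `p` -/
theorem exists_residueField_lift [IsReduced B] (φ : A →+* B) (p : Ideal A) [p.IsPrime]
    (h : ∀ q : PrimeSpectrum B, q.asIdeal.comap φ = p) :
    ∃ κ : p.ResidueField →+* B, κ.comp (algebraMap A p.ResidueField) = φ := by
  -- elements outside `p` map to units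
  have hunit : ∀ y : p.primeCompl, IsUnit (φ y) := by
    intro y
    by_contra hnu
    obtain ⟨m, hm, hym⟩ := exists_max_ideal_of_mem_nonunits (show φ y ∈ nonunits B from hnu)
    have h1 := h ⟨m, hm.isPrime⟩
    have hy : (y : A) ∈ m.comap φ := hym
    exact y.2 (h1 ▸ hy)
  let ψ : Localization.AtPrime p →+* B := IsLocalization.lift (M := p.primeCompl) hunit
  -- elements of `p` map to zero
  have hzero : ∀ a ∈ p, φ a = 0 := by
    intro a ha
    have : φ a ∈ nilradical B := by
      rw [nilradical_eq_sInf, Ideal.mem_sInf]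
      intro q hq
      have := h ⟨q, hq⟩
      have ha' : a ∈ q.comap φ := by
        show a ∈ (⟨q, hq⟩ : PrimeSpectrum B).asIdeal.comap φ
        rw [this]; exact ha
      exact ha'
    rwa [nilradical_eq_zero] at this
  have hψ : ∀ z ∈ IsLocalRing.maximalIdeal (Localization.AtPrime p), ψ z = 0 := by
    intro z hz
    obtain ⟨a, s, rfl⟩ := IsLocalization.exists_mk'_eq p.primeCompl z
    rw [IsLocalization.AtPrime.mk'_mem_maximal_iff (Localization.AtPrime p) p] at hz
    rw [IsLocalization.lift_mk', hzero a hz, zero_mul]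
  refine ⟨Ideal.Quotient.lift _ ψ hψ, ?_⟩
  ext a
  show Ideal.Quotient.lift _ ψ hψ (algebraMap A p.ResidueField a) = φ a
  have : algebraMap A p.ResidueField a =
      Ideal.Quotient.mk _ (algebraMap A (Localization.AtPrime p) a) := rfl
  rw [this, Ideal.Quotient.lift_mk]
  exact IsLocalization.lift_eq hunit a

end Groth.Agent.Helper5.ResFld
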