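import Mathlib
import Groth.Agent.Helper5.MonoFld1
import Groth.Agent.Helper4.AlgSpPB
import Groth.Agent.Helper4.AlgSpPtsDesc
import Groth.Agent.Helper5.EtGlue2

/-!
# Lifting through a monomorphism with one-point image
-/

set_option autoImplicit false
set_option linter.style.haveILetI false
universe u

namespace Groth.Agent.Helper5.ResFld

open CategoryTheory CategoryTheory.Limits AlgebraicGeometry Opposite TopologicalSpace AlgSp

variable {S : Scheme.{u}}

/-- a field point of `X` whose image lies in the image of the monomorphism `i` factors through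
`i` -/
theorem lift_fieldPt {X Z : Sp S} (hX : IsAlgSpace X) (hZ : IsAlgSpace Z) (i : Z ⟶ X) [Mono i]
    {K : Type u} [Field K] (str : Spec (CommRingCat.of K) ⟶ S)
    (s : (yon S).obj (Over.mk str) ⟶ X)
    (h : ∀ t : Points ((yon S).obj (Over.mk str)), Points.map s t ∈ Set.range (Points.map i)) :
    ∃ ℓ : (yon S).obj (Over.mk str) ⟶ Z, ℓ ≫ i = s := by
  have sq : IsPullback (pullback.fst s i) (pullback.snd s i) s i := IsPullback.of_hasPullback _ _
  have hP : IsAlgSpace (pullback s i) :=
    Groth.Agent.Helper4.AlgSpPB.isAlgSpace_of_isPullback hX.diag (IsAlgSpace.yon_obj _) hZ s i _ _ sq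
  haveI : Mono (pullback.fst s i) := inferInstance
  have hne : Nonempty (Points (pullback s i)) := by
    have hK : Nonempty ↥(Over.mk str).left :=
      inferInstanceAs (Nonempty (PrimeSpectrum K))
    obtain ⟨t₀⟩ := hK
    let t := Points.schemeHomeo (Over.mk str) t₀
    obtain ⟨z, hz⟩ := h t
    obtain ⟨p, -, -⟩ := Groth.Agent.Helper4.AlgSpPtsDesc.exists_point_of_isPullback sq t z hz.symm
    exact ⟨p⟩
  haveI : IsIso (pullback.fst s i) :=
    Groth.Agent.Helper5.MonoFld.isIso_of_mono_to_field hP str (pullback.fst s i) hne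
  refine ⟨inv (pullback.fst s i) ≫ pullback.snd s i, ?_⟩
  rw [Category.assoc, ← pullback.condition, IsIso.inv_hom_id_assoc]

/-- lifting through a monomorphism of sheaves can be done locally -/
theorem exists_lift_of_mono_of_epi {Y X Z V : Sp S} (i : Z ⟶ X) [Mono i] (f : Y ⟶ X)
    (a : V ⟶ Y) [Epi a] (ℓ : V ⟶ Z) (h : ℓ ≫ i = a ≫ f) : ∃ g : Y ⟶ Z, g ≫ i = f := by
  haveI : Mono (pullback.fst f i) := inferInstance
  let m : V ⟶ pullback f i := pullback.lift a ℓ h.symm
  have hm : m ≫ pullback.fst f i = a := pullback.lift_fst _ _ _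
  haveI : Epi (m ≫ pullback.fst f i) := by rw [hm]; infer_instance
  haveI : Epi (pullback.fst f i) := epi_of_epi m _
  haveI : IsIso (pullback.fst f i) := isIso_of_mono_of_epi _
  refine ⟨inv (pullback.fst f i) ≫ pullback.snd f i, ?_⟩
  rw [Category.assoc, ← pullback.condition, IsIso.inv_hom_id_assoc]

end Groth.Agent.Helper5.ResFld
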