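import Mathlib
import Groth.Agent.Helper5.ResFld3
import Groth.Agent.Helper5.ResFld4
import Groth.Agent.Helper5.Decent4
import Groth.Agent.Helper5.NoethChart
import Groth.Agent.Helper4.AlgSpQC2

/-!
# Local lifts through the residual space
-/

set_option autoImplicit false
set_option linter.style.haveILetI false
universe u

namespace Groth.Agent.Helper5.ResFld

open CategoryTheory CategoryTheory.Limits AlgebraicGeometry Opposite TopologicalSpace AlgSp
open Groth.Agent.Helper4.AlgSpPtsDesc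

variable {S : Scheme.{u}}

/-- shrinking: an affine open neighbourhood on which `c` is constant -/
theorem exists_affine_const {X : Sp S} (hN : IsLocNoethSp X) (x : Points X)
    {U : Over S} (a : (yon S).obj U ⟶ X) (ha : RepWith @Etale a)
    {V' : Scheme.{u}} (c : V' ⟶ U.left)
    (hc : ∀ v : ↥V', Points.ofPt a (c v) = x) (v' : ↥V') (U₀ : U.left.Opens)
    (hU₀ : IsAffineOpen U₀) (hu : c v' ∈ U₀) :
    ∃ T₁ : V'.Opens, IsAffineOpen T₁ ∧ v' ∈ T₁ ∧ ∀ v ∈ T₁, c v = c v' := by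
  haveI : IsLocallyNoetherian U.left :=
    Groth.Agent.Helper5.NoethChart.isLocallyNoetherian_of_etale_chart hN a ha
  haveI : IsNoetherianRing ↥Γ(U.left, U₀) :=
    IsLocallyNoetherian.component_noetherian ⟨U₀, hU₀⟩
  obtain ⟨_, ⟨(T₀ : V'.Opens), hT₀, rfl⟩, hv'T₀, hT₀U⟩ :=
    (V'.isBasis_affineOpens).exists_subset_of_mem_open (show v' ∈ (c ⁻¹ᵁ U₀ : Set ↥V') from hu)
      (c ⁻¹ᵁ U₀).isOpen
  have hle : T₀ ≤ c ⁻¹ᵁ U₀ := hT₀U
  let φ' := c.appLE U₀ T₀ hle
  have hsq : Spec.map φ' ≫ hU₀.fromSpec = hT₀.fromSpec ≫ c :=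
    IsAffineOpen.SpecMap_appLE_fromSpec c hU₀ hT₀ hle
  have hpt : ∀ q : ↥(Spec Γ(V', T₀)), hU₀.fromSpec ((Spec.map φ') q) = c (hT₀.fromSpec q) := by
    intro q
    rw [← Scheme.Hom.comp_apply, hsq, Scheme.Hom.comp_apply]
  have hinjU : Function.Injective hU₀.fromSpec := hU₀.fromSpec.isOpenEmbedding.injective
  have hanti : ∀ q q' : PrimeSpectrum ↥Γ(V', T₀),
      PrimeSpectrum.comap φ'.hom q ≤ PrimeSpectrum.comap φ'.hom q' →
      PrimeSpectrum.comap φ'.hom q = PrimeSpectrum.comap φ'.hom q' := by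
    intro q q' hqq
    have h1 : (Spec.map φ') q ⤳ (Spec.map φ') q' := (PrimeSpectrum.le_iff_specializes _ _).1 hqq
    have h2 : hU₀.fromSpec ((Spec.map φ') q) ⤳ hU₀.fromSpec ((Spec.map φ') q') :=
      h1.map hU₀.fromSpec.continuous
    rw [hpt, hpt] at h2
    have h3 := Groth.Agent.Helper5.Decent4.eq_of_specializes_of_isLocNoethSp hN a ha
      (c (hT₀.fromSpec q')) (c (hT₀.fromSpec q)) (by rw [hc, hc]) h2
    apply hinjU
    show hU₀.fromSpec ((Spec.map φ') q) = hU₀.fromSpec ((Spec.map φ') q')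
    rw [hpt, hpt, h3]
  let q₀ : PrimeSpectrum ↥Γ(V', T₀) := hT₀.primeIdealOf ⟨v', hv'T₀⟩
  have hq₀ : hT₀.fromSpec q₀ = v' := hT₀.fromSpec_primeIdealOf ⟨v', hv'T₀⟩
  have hOopen := isOpen_fibre_comap φ'.hom hanti (PrimeSpectrum.comap φ'.hom q₀)
  have hO'open : IsOpen (hT₀.fromSpec '' (PrimeSpectrum.comap φ'.hom ⁻¹' {PrimeSpectrum.comap φ'.hom q₀})) :=
    hT₀.fromSpec.isOpenEmbedding.isOpenMap _ hOopen
  have hv'O' : v' ∈ hT₀.fromSpec '' (PrimeSpectrum.comap φ'.hom ⁻¹' {PrimeSpectrum.comap φ'.hom q₀}) :=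
    ⟨q₀, rfl, hq₀⟩
  obtain ⟨_, ⟨(T₁ : V'.Opens), hT₁, rfl⟩, hv'T₁, hT₁O⟩ :=
    (V'.isBasis_affineOpens).exists_subset_of_mem_open hv'O' hO'open
  refine ⟨T₁, hT₁, hv'T₁, fun v hv => ?_⟩
  obtain ⟨q, hq, rfl⟩ := hT₁O hv
  rw [← hq₀, ← hpt, ← hpt]
  congr 1

set_option backward.isDefEq.respectTransparency.types false in
/-- local lifts through the residual space -/
theorem exists_local_lift {X Z : Sp S} (hX : IsAlgSpace X) (hN : IsLocNoethSp X)
    (hZ : IsAlgSpace Z) (i : Z ⟶ X) [Mono i] (x : Points X)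
    (hi : Set.range (Points.map i) = {x})
    {U : Over S} (a : (yon S).obj U ⟶ X) (ha : RepWith @Etale a)
    {V' : Over S} [IsReduced V'.left] (c : V' ⟶ U)
    (hc : ∀ v : ↥V'.left, Points.ofPt a (c.left v) = x) (v' : ↥V'.left) :
    ∃ (T : Over S) (e : T ⟶ V') (ℓ : (yon S).obj T ⟶ Z), IsOpenImmersion e.left ∧
      v' ∈ Set.range e.left ∧ ℓ ≫ i = (yon S).map (e ≫ c) ≫ a := by
  obtain ⟨_, ⟨(U₀ : U.left.Opens), hU₀, rfl⟩, hu, -⟩ :=
    (U.left.isBasis_affineOpens).exists_subset_of_mem_open (Set.mem_univ (c.left v')) isOpen_univ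
  obtain ⟨T₁, hT₁, hv'T₁, hconst⟩ := exists_affine_const hN x a ha c.left hc v' U₀ hU₀ hu
  have hle : T₁ ≤ c.left ⁻¹ᵁ U₀ := by
    intro v hv
    show c.left v ∈ U₀
    rw [hconst v hv]
    exact hu
  let φ' := c.left.appLE U₀ T₁ hle
  have hsq : Spec.map φ' ≫ hU₀.fromSpec = hT₁.fromSpec ≫ c.left :=
    IsAffineOpen.SpecMap_appLE_fromSpec c.left hU₀ hT₁ hle
  have hpt : ∀ q : ↥(Spec Γ(V'.left, T₁)),
      hU₀.fromSpec ((Spec.map φ') q) = c.left (hT₁.fromSpec q) := by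
    intro q
    rw [← Scheme.Hom.comp_apply, hsq, Scheme.Hom.comp_apply]
  have hinjU : Function.Injective hU₀.fromSpec := hU₀.fromSpec.isOpenEmbedding.injective
  let P : PrimeSpectrum ↥Γ(U.left, U₀) := hU₀.primeIdealOf ⟨c.left v', hu⟩
  have hP : hU₀.fromSpec P = c.left v' := hU₀.fromSpec_primeIdealOf ⟨c.left v', hu⟩
  have hall : ∀ q : PrimeSpectrum ↥Γ(V'.left, T₁), q.asIdeal.comap φ'.hom = P.asIdeal := by
    intro q
    have h1 : (Spec.map φ') q = P := by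
      apply hinjU
      rw [hpt, hP]
      apply hconst
      have : hT₁.fromSpec q ∈ Set.range hT₁.fromSpec := ⟨q, rfl⟩
      rw [hT₁.range_fromSpec] at this
      exact this
    exact congrArg PrimeSpectrum.asIdeal h1
  haveI : IsReduced ↥Γ(V'.left, T₁) := inferInstance
  obtain ⟨κ, hκ⟩ := exists_residueField_lift φ'.hom P.asIdeal hall
  -- the field point
  let K := P.asIdeal.ResidueField
  let alg' : Γ(U.left, U₀) ⟶ CommRingCat.of K :=
    CommRingCat.ofHom (algebraMap ↥Γ(U.left, U₀) K)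
  let κ' : CommRingCat.of K ⟶ Γ(V'.left, T₁) := CommRingCat.ofHom κ
  have hκ' : alg' ≫ κ' = φ' := by
    apply CommRingCat.hom_ext
    exact hκ
  let strK : Spec (CommRingCat.of K) ⟶ S := Spec.map alg' ≫ hU₀.fromSpec ≫ U.hom
  let jK : Over.mk strK ⟶ U := Over.homMk (Spec.map alg' ≫ hU₀.fromSpec) (by simp [strK])
  have hcomp : Spec.map κ' ≫ Spec.map alg' ≫ hU₀.fromSpec = hT₁.fromSpec ≫ c.left := by
    rw [← Spec.map_comp_assoc, hκ', hsq]
  let T : Over S := Over.mk (hT₁.fromSpec ≫ V'.hom)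
  let e : T ⟶ V' := Over.homMk hT₁.fromSpec rfl
  let kT : T ⟶ Over.mk strK := Over.homMk (Spec.map κ') (by
    show Spec.map κ' ≫ Spec.map alg' ≫ hU₀.fromSpec ≫ U.hom = hT₁.fromSpec ≫ V'.hom
    rw [← Category.assoc, ← Category.assoc, Category.assoc (Spec.map κ'), hcomp, Category.assoc,
      Over.w c])
  have hkj : kT ≫ jK = e ≫ c := by
    apply Over.OverMorphism.ext
    exact hcomp
  let s : (yon S).obj (Over.mk strK) ⟶ X := (yon S).map jK ≫ a
  have hs : ∀ t : Points ((yon S).obj (Over.mk strK)),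
      Points.map s t ∈ Set.range (Points.map i) := by
    intro t
    rw [hi, Set.mem_singleton_iff]
    obtain ⟨t₀, rfl⟩ := (Points.schemeHomeo (Over.mk strK)).surjective t
    rw [Groth.Agent.Helper4.AlgSpQC2.ofPt_eq_map_schemeHomeo]
    show Points.ofPt ((yon S).map jK ≫ a) t₀ = x
    rw [ofPt_yon_map_comp]
    -- `t₀` is the image of the point of `Spec B₁` corresponding to `v'`
    let q₁ : ↥(Spec Γ(V'.left, T₁)) := hT₁.primeIdealOf ⟨v', hv'T₁⟩
    haveI : Subsingleton ↥(Spec (CommRingCat.of K)) :=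
      inferInstanceAs (Subsingleton (PrimeSpectrum K))
    have ht₀ : t₀ = (Spec.map κ') q₁ :=
      @Subsingleton.elim ↥(Spec (CommRingCat.of K)) _ t₀ ((Spec.map κ') q₁)
    rw [ht₀]
    show Points.ofPt a ((Spec.map alg' ≫ hU₀.fromSpec) ((Spec.map κ') q₁)) = x
    rw [← Scheme.Hom.comp_apply, hcomp, Scheme.Hom.comp_apply]
    exact hc _
  obtain ⟨ℓK, hℓK⟩ := lift_fieldPt hX hZ i strK s hs
  refine ⟨T, e, (yon S).map kT ≫ ℓK, ?_, ?_, ?_⟩
  · show IsOpenImmersion hT₁.fromSpec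
    infer_instance
  · show v' ∈ Set.range hT₁.fromSpec
    rw [hT₁.range_fromSpec]
    exact hv'T₁
  · rw [Category.assoc, hℓK]
    show (yon S).map kT ≫ (yon S).map jK ≫ a = _
    rw [← Category.assoc, ← Functor.map_comp, hkj]

end Groth.Agent.Helper5.ResFld
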