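import Mathlib
import Groth.Agent.Helper5.ResFld5
import Groth.Agent.Helper5.RedDesc
import Groth.Agent.Helper5.FppfLift
import Groth.Agent.Helper5.EtGlue

/-!
# S10415: a reduced space mapping to a point of a locally Noetherian space factors through the
residual space
-/

set_option autoImplicit false
set_option linter.style.haveILetI false
universe u

namespace Groth.Agent.Helper5.ResFld

open CategoryTheory CategoryTheory.Limits AlgebraicGeometry Opposite TopologicalSpace AlgSp
open Groth.Agent.Helper4.AlgSpPtsDesc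

variable {S : Scheme.{u}}

set_option backward.isDefEq.respectTransparency.types false in
/-- lifting a reduced scheme through the residual space -/
theorem exists_lift_reduced {X Z : Sp S} (hX : IsAlgSpace X) (hN : IsLocNoethSp X)
    (hZ : IsAlgSpace Z) (i : Z ⟶ X) [Mono i] (x : Points X)
    (hi : Set.range (Points.map i) = {x}) {V : Over S} [IsReduced V.left]
    (t : (yon S).obj V ⟶ X) (ht : ∀ v : ↥V.left, Points.ofPt t v = x) :
    ∃ ℓ : (yon S).obj V ⟶ Z, ℓ ≫ i = t := by
  obtain ⟨U, a, hae, has⟩ := hX.atlas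
  have sq := hae.rep.isPullback t
  have hse : Etale (hae.rep.snd t).left := hae.property t _ _ sq
  have hss : Surjective (hae.rep.snd t).left := has.property t _ _ sq
  generalize hae.rep.snd t = snd at sq hse hss
  generalize hae.rep.fst t = fst at sq
  generalize hae.rep.pullback t = V' at fst snd sq hse hss
  obtain ⟨c, rfl⟩ := (yon S).map_surjective fst
  haveI := hse
  haveI : Smooth snd.left := inferInstance
  haveI : IsReduced V'.left := Groth.Agent.Helper5.RedDesc.isReduced_of_smooth snd.left
  have hc : ∀ v : ↥V'.left, Points.ofPt a (c.left v) = x := by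
    intro v
    rw [← ofPt_yon_map_comp, sq.w, ofPt_yon_map_comp]
    exact ht _
  choose T e ℓ he hv hℓ using exists_local_lift hX hN hZ i x hi a hae c hc
  have hcov : Sieve.ofArrows T (fun v' => e v' ≫ snd) ∈ J S V := by
    refine Groth.Agent.Helper5.FppfLift.ofArrows_mem_J T (fun v' => e v' ≫ snd) ?_ ?_ ?_
    · intro k
      haveI := he k
      show Flat ((e k).left ≫ snd.left)
      infer_instance
    · intro k
      haveI := he k
      show LocallyOfFinitePresentation ((e k).left ≫ snd.left)
      infer_instance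
    · intro z
      obtain ⟨v', rfl⟩ := hss.surj z
      obtain ⟨w, hw⟩ := hv v'
      exact ⟨v', w, by
        show ((e v').left ≫ snd.left) w = _
        rw [Scheme.Hom.comp_apply, hw]⟩
  have hkey : ∀ k, ℓ k ≫ i = (yon S).map (e k ≫ snd) ≫ t := by
    intro k
    rw [hℓ k, Functor.map_comp, Category.assoc, sq.w, Functor.map_comp, Category.assoc]
  obtain ⟨ℓV, hℓV, -⟩ := Groth.Agent.Helper5.EtGlue.existsUnique_of_cover Z T
    (fun v' => e v' ≫ snd) hcov ℓ (by
      intro k l R r₁ r₂ hcomm
      rw [← cancel_mono i, Category.assoc, Category.assoc, hkey k, hkey l, ← Category.assoc,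
        ← Category.assoc, ← Functor.map_comp, ← Functor.map_comp, hcomm])
  refine ⟨ℓV, ?_⟩
  refine Groth.Agent.Helper5.EtGlue.hom_ext_of_cover X T (fun v' => e v' ≫ snd) hcov _ _
    (fun k => ?_)
  rw [← Category.assoc, hℓV k, hkey k]

/-- S10415 -/
theorem s10415 {Y X Z : AlgSp.Space S} (f : Y ⟶ X)
    (x : AlgSp.Points X.obj) (hf : ∀ y : AlgSp.Points Y.obj, AlgSp.Points.map f.hom y = x)
    (hY : AlgSp.EtaleLocally (fun U => IsReduced U) Y.obj)
    (hX : AlgSp.IsLocNoethSp X.obj) (i : Z ⟶ X) [Mono i.hom]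
    (hi : Set.range (AlgSp.Points.map i.hom) = {x}) :
    ∃ g : Y ⟶ Z, g ≫ i = f := by
  obtain ⟨V, b, hbe, hbs, hVred⟩ := hY
  haveI : IsReduced V.left := hVred
  obtain ⟨ℓ, hℓ⟩ := exists_lift_reduced X.property hX Z.property i.hom x hi (b ≫ f.hom) (by
    intro v
    rw [← Points.map_ofPt]
    exact hf _)
  haveI : Epi b := Groth.Agent.Helper5.EtGlue.epi_of_etale_surjective b hbe hbs
  obtain ⟨g₀, hg₀⟩ := exists_lift_of_mono_of_epi i.hom f.hom b ℓ hℓ
  exact ⟨ObjectProperty.homMk g₀, ObjectProperty.hom_ext _ hg₀⟩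

end Groth.Agent.Helper5.ResFld
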