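import Groth.Prelude.Def_Dual3
import Groth.Prelude.Def_AlgSpDec
import Groth.Agent.Helper5.ResTr2
import Groth.Agent.Helper5.UnramLqf
import Mathlib

set_option autoImplicit false
universe u
open CategoryTheory CategoryTheory.Limits AlgebraicGeometry Opposite

namespace Groth.Agent.Helper5.ResTr

open AlgSp Groth.Agent.Helper5.AtMor Groth.Agent.Helper5.GeomRed

variable {S : Scheme.{u}}

theorem resTrdeg_eq_zero_of_closed_of_jacobson {A B : Scheme.{u}} (c : A ⟶ B)
    [LocallyOfFiniteType c] [JacobsonSpace ↥B] (r : ↥A) (hr : IsClosed ({r} : Set ↥A)) :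
    Dual3.resTrdeg c r = 0 := by
  have h1 : IsClosedImmersion (A.fromSpecResidueField r) :=
    isClosed_singleton_iff_isClosedImmersion.mp hr
  have h2 : LocallyOfFiniteType (A.fromSpecResidueField r ≫ c) := inferInstance
  have h3 : IsFinite (A.fromSpecResidueField r ≫ c) :=
    (isFinite_iff_locallyOfFiniteType_of_jacobsonSpace).mpr h2
  let pt : ↥(Spec (A.residueField r)) := IsLocalRing.closedPoint (A.residueField r)
  have h4 := resTrdeg_eq_zero_of_lqf (A.fromSpecResidueField r ≫ c) pt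
  rw [resTrdeg_comp] at h4
  have h5 := (add_eq_zero.mp h4).1
  rwa [Scheme.fromSpecResidueField_apply] at h5

theorem isClosed_singleton_of_etale {A B : Scheme.{u}} (e : A ⟶ B) [Etale e] (r : ↥A)
    (hr : IsClosed ({e r} : Set ↥B)) : IsClosed ({r} : Set ↥A) := by
  have : LocallyQuasiFinite e := Groth.Agent.Helper5.UnramLqf.locallyQuasiFinite_of_unramified e
  have hd := Scheme.Hom.isDiscrete_preimage_singleton e (e r)
  have hc : IsClosed (e ⁻¹' {e r}) := hr.preimage e.continuous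
  have := hd.to_subtype
  have h1 : IsClosed ({⟨r, rfl⟩} : Set ↥(e ⁻¹' {e r})) := isClosed_discrete _
  have h2 := hc.isClosedEmbedding_subtypeVal.isClosedMap _ h1
  simpa using h2

theorem hasAtMor_resTrdeg_zero_of_jacobson {X Y : Sp S} (f : X ⟶ Y)
    (hf : LocP @LocallyOfFiniteType f) (hY : EtaleLocally (fun U => JacobsonSpace ↥U) Y)
    (x : Points X) (hx : HasAt (fun U u => IsClosed ({u} : Set ↥U)) X x) :
    HasAtMor (fun _ _ h u => Dual3.resTrdeg h u = 0) f x := by
  obtain ⟨U, a, u, ha, hu, hcl⟩ := hx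
  obtain ⟨V₀, b₀, hb₀e, hb₀s, hJ⟩ := hY
  have hr := hb₀e.rep
  have hpb : IsPullback (hr.fst (a ≫ f)) ((yon S).map (hr.snd (a ≫ f))) b₀ (a ≫ f) :=
    hr.isPullback _
  obtain ⟨c, hc⟩ := (yon S).map_surjective (hr.fst (a ≫ f))
  rw [← hc] at hpb
  have hee : Etale (hr.snd (a ≫ f)).left := hb₀e.property _ _ _ hpb
  have hes : Surjective (hr.snd (a ≫ f)).left := hb₀s.property _ _ _ hpb
  clear hc
  generalize hr.snd (a ≫ f) = e at hpb hee hes
  generalize hr.pullback (a ≫ f) = E at c e hpb hee hes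
  obtain ⟨r, hr'⟩ := e.left.surjective u
  have ha' : RepWith @Etale ((yon S).map e ≫ a) :=
    Groth.Agent.Helper4.AlgSpSrc.repWith_comp _ ((repWith_yon_map_iff _ _).2 hee) ha
  have hcomm : ((yon S).map e ≫ a) ≫ f = (yon S).map c ≫ b₀ := by
    rw [Category.assoc]; exact hpb.w.symm
  have hft : LocallyOfFiniteType c.left := hf _ b₀ c ha' hb₀e hcomm
  have hrc : IsClosed ({r} : Set ↥E.left) := isClosed_singleton_of_etale e.left r (hr' ▸ hcl)
  refine ⟨E, V₀, (yon S).map e ≫ a, b₀, c, r, ha', hb₀e, hcomm, ?_, ?_⟩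
  · rw [Groth.Agent.Helper4.AlgSpPtsDesc.ofPt_yon_map_comp, hr', hu]
  · exact resTrdeg_eq_zero_of_closed_of_jacobson c.left r hrc

end Groth.Agent.Helper5.ResTr
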