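import Mathlib
import Groth.Prelude
import Groth.Agent.Lead.Thick4

set_option autoImplicit false
set_option linter.style.haveILetI false
set_option linter.unusedSectionVars false
set_option linter.unusedVariables false

open CategoryTheory CategoryTheory.Limits AlgebraicGeometry Opposite TopologicalSpace

universe u

namespace Groth.Agent.Helper5.RibbonA

/-- a square-zero thickening of a smooth affine scheme over an affine base retracts -/
theorem exists_retraction {C B : Scheme.{u}} [IsAffine B] (q : C ⟶ B) (I : C.IdealSheafData)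
    (hI : I ^ 2 = ⊥) [IsAffine I.subscheme] [Smooth (I.subschemeι ≫ q)] :
    ∃ r : C ⟶ I.subscheme, I.subschemeι ≫ r = 𝟙 I.subscheme ∧
      r ≫ I.subschemeι ≫ q = q := by
  -- `C` is affine
  have hsurj : Function.Surjective I.subschemeι := by
    rw [← Set.range_eq_univ, Scheme.IdealSheafData.range_subschemeι,
      ← Scheme.IdealSheafData.support_pow I 2 (by norm_num), hI,
      Scheme.IdealSheafData.support_bot]
    rfl
  haveI hCaff : IsAffine C := Groth.Agent.Lead.Thick.isAffine_of_thickening I.subschemeι hsurj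
  -- algebra structures over `Γ(B, ⊤)`
  letI algR : Algebra Γ(B, ⊤) Γ(C, ⊤) := q.appTop.hom.toAlgebra
  letI algA : Algebra Γ(B, ⊤) Γ(I.subscheme, ⊤) := (I.subschemeι ≫ q).appTop.hom.toAlgebra
  let φ : Γ(C, ⊤) →ₐ[Γ(B, ⊤)] Γ(I.subscheme, ⊤) :=
    { I.subschemeι.appTop.hom with
      commutes' := fun c => by
        show I.subschemeι.appTop.hom (q.appTop.hom c) = (I.subschemeι ≫ q).appTop.hom c
        rw [Scheme.Hom.comp_appTop]
        rfl }
  have hφsurj : Function.Surjective φ :=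
    (IsClosedImmersion.isAffine_surjective_of_isAffine I.subschemeι).2
  have hker : RingHom.ker (φ : Γ(C, ⊤) →+* Γ(I.subscheme, ⊤)) ^ 2 = ⊥ := by
    have h1 : RingHom.ker (I.subschemeι.app ⊤).hom = I.ideal ⟨⊤, isAffineOpen_top C⟩ :=
      I.ker_subschemeι_app ⟨⊤, isAffineOpen_top C⟩
    have h2 : (I ^ 2).ideal ⟨⊤, isAffineOpen_top C⟩ = (⊥ : C.IdealSheafData).ideal ⟨⊤, isAffineOpen_top C⟩ := by
      rw [hI]
    rw [Scheme.IdealSheafData.ideal_pow] at h2
    show RingHom.ker (I.subschemeι.app ⊤).hom ^ 2 = ⊥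
    rw [h1]
    exact h2
  have hsm : (I.subschemeι ≫ q).appTop.hom.Smooth := by
    have := (I.subschemeι ≫ q).smooth_appLE (isAffineOpen_top B) (isAffineOpen_top I.subscheme)
      le_top
    have he : (I.subschemeι ≫ q).appLE ⊤ ⊤ le_top = (I.subschemeι ≫ q).appTop := by
      simp [Scheme.Hom.appLE, Scheme.Hom.appTop]
    rwa [he] at this
  haveI : Algebra.FormallySmooth Γ(B, ⊤) Γ(I.subscheme, ⊤) := hsm.1
  let σ : Γ(I.subscheme, ⊤) →ₐ[Γ(B, ⊤)] Γ(C, ⊤) :=
    Algebra.FormallySmooth.liftOfSurjective (AlgHom.id _ _) φ hφsurj ⟨2, hker⟩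
  have hσ : φ.comp σ = AlgHom.id _ _ :=
    Algebra.FormallySmooth.comp_liftOfSurjective (AlgHom.id _ _) φ hφsurj ⟨2, hker⟩
  let σ' : Γ(I.subscheme, ⊤) ⟶ Γ(C, ⊤) := CommRingCat.ofHom σ.toRingHom
  have h1 : σ' ≫ I.subschemeι.appTop = 𝟙 _ := by
    ext a
    exact congrArg (fun (ψ : Γ(I.subscheme, ⊤) →ₐ[Γ(B, ⊤)] Γ(I.subscheme, ⊤)) => ψ a) hσ
  have h2 : (I.subschemeι ≫ q).appTop ≫ σ' = q.appTop := by
    ext c
    exact σ.commutes c
  refine ⟨C.isoSpec.hom ≫ Spec.map σ' ≫ I.subscheme.isoSpec.inv, ?_, ?_⟩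
  · rw [← Scheme.isoSpec_hom_naturality_assoc, ← Spec.map_comp_assoc, h1, Spec.map_id,
      Category.id_comp, Iso.hom_inv_id]
  · rw [Category.assoc, Category.assoc, ← Scheme.isoSpec_inv_naturality (I.subschemeι ≫ q),
      ← Spec.map_comp_assoc, h2, Scheme.isoSpec_inv_naturality, Iso.hom_inv_id_assoc]

end Groth.Agent.Helper5.RibbonA
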