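import Mathlib

set_option autoImplicit false
universe u
open MvPolynomial

namespace Groth.Agent.Helper5.Roberts

theorem mkDerivation_eq_sum {k : Type u} [CommRing k] {σ : Type} [Fintype σ] [DecidableEq σ]
    (g : σ → MvPolynomial σ k) (f : MvPolynomial σ k) :
    mkDerivation k g f = ∑ i, g i * pderiv i f := by
  have hsum : ∀ (s : Finset σ) (x : MvPolynomial σ k),
      (∑ i ∈ s, g i • (pderiv i : Derivation k (MvPolynomial σ k) (MvPolynomial σ k))) x
      = ∑ i ∈ s, g i * pderiv i x := by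
    intro s x
    induction s using Finset.induction_on with
    | empty => simp
    | insert a s ha ih =>
      rw [Finset.sum_insert ha, Finset.sum_insert ha, Derivation.add_apply, ih]; rfl
  have : mkDerivation k g =
      ∑ i, g i • (pderiv i : Derivation k (MvPolynomial σ k) (MvPolynomial σ k)) := by
    apply derivation_ext
    intro j
    rw [mkDerivation_X, hsum]
    simp [pderiv_X, Pi.single_apply]
  rw [this, hsum]

theorem coeff_lemma {k : Type u} [CommRing k] {σ : Type} [DecidableEq σ] {τ : Type} [Fintype τ]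
    [DecidableEq τ]
    (w : τ → (σ →₀ ℕ)) (v : τ → σ) (f : MvPolynomial σ k)
    (hδ : ∑ a : τ, monomial (w a) (1 : k) * pderiv (v a) f = 0) (d : σ →₀ ℕ) (a : τ)
    (hne : ∀ a', a' ≠ a → ¬ (w a' ≤ d - Finsupp.single (v a) 1 + w a)) :
    coeff d f * (d (v a) : k) = 0 := by
  by_cases hda : d (v a) = 0
  · rw [hda]; simp
  have h1 := congrArg (coeff (d - Finsupp.single (v a) 1 + w a)) hδ
  rw [coeff_sum, coeff_zero, Finset.sum_eq_single a] at h1
  · rw [coeff_monomial_mul', if_pos le_add_self, one_mul, add_tsub_cancel_right, coeff_pderiv] at h1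
    have h2 : d - Finsupp.single (v a) 1 + Finsupp.single (v a) 1 = d := by
      refine tsub_add_cancel_of_le ?_
      rw [Finsupp.single_le_iff]
      omega
    rw [h2] at h1
    have h3 : (((d - Finsupp.single (v a) 1 : σ →₀ ℕ) (v a) : ℕ) : k) + 1 = (d (v a) : k) := by
      rw [Finsupp.tsub_apply, Finsupp.single_eq_same]
      have : d (v a) - 1 + 1 = d (v a) := by omega
      rw [← Nat.cast_one (R := k), ← Nat.cast_add, this]
    rw [h3] at h1
    exact h1
  · intro a' _ ha'
    rw [coeff_monomial_mul', if_neg (hne a' ha')]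
  · intro h; exact absurd (Finset.mem_univ a) h

/-- the exponent vectors of the values of the derivation -/
noncomputable def w (m : ℕ) : Fin 4 → (Fin 7 →₀ ℕ) :=
  ![Finsupp.single 0 (m + 1), Finsupp.single 1 (m + 1), Finsupp.single 2 (m + 1),
    Finsupp.single 0 m + Finsupp.single 1 m + Finsupp.single 2 m]

/-- the variables `s, t, u, v` -/
def v : Fin 4 → Fin 7 := ![3, 4, 5, 6]

/-- a coordinate in which `w a'` exceeds `w a` -/
def l (a a' : Fin 4) : Fin 7 := if a' = 3 then (if a = 0 then 1 else 0) else Fin.castLE (by omega) a'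

theorem hne_aux (m : ℕ) (hm : 1 ≤ m) (d : Fin 7 →₀ ℕ) (h0 : d 0 = 0) (h1 : d 1 = 0)
    (h2 : d 2 = 0) (a a' : Fin 4) (ha : a' ≠ a) :
    ¬ (w m a' ≤ d - Finsupp.single (v a) 1 + w m a) := by
  intro hle
  have h := hle (l a a')
  fin_cases a <;> fin_cases a' <;>
    first
    | exact absurd rfl ha
    | (simp [w, v, l, Finsupp.single_apply, h0, h1, h2] at h; try omega)

theorem main (k : Type u) [Field k] [CharZero k] (m : ℕ) (hm : 2 ≤ m) (n : ℕ) (hn : 1 ≤ n)
    (f : MvPolynomial (Fin 7) k)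
    (hf : MvPolynomial.IsWeightedHomogeneous (![0, 0, 0, 1, 1, 1, 1] : Fin 7 → ℕ) f n)
    (hδ : MvPolynomial.mkDerivation k
      (![0, 0, 0, MvPolynomial.X 0 ^ (m + 1), MvPolynomial.X 1 ^ (m + 1), MvPolynomial.X 2 ^ (m + 1),
        (MvPolynomial.X 0 * MvPolynomial.X 1 * MvPolynomial.X 2) ^ m] :
          Fin 7 → MvPolynomial (Fin 7) k) f = 0) :
    ∀ d ∈ f.support, 0 < d 0 + d 1 + d 2 := by
  intro d hd
  by_contra hpos
  have h0 : d 0 = 0 := by omega
  have h1 : d 1 = 0 := by omega
  have h2 : d 2 = 0 := by omega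
  have hsum : ∑ a : Fin 4, monomial (w m a) (1 : k) * pderiv (v a) f = 0 := by
    rw [mkDerivation_eq_sum] at hδ
    rw [← hδ]
    simp only [Fin.sum_univ_succ, Fin.sum_univ_zero, w, v]
    simp [mul_pow, X_pow_eq_monomial, monomial_mul, add_assoc]
  have hcoeff : coeff d f ≠ 0 := (mem_support_iff).1 hd
  have hzero : ∀ a : Fin 4, d (v a) = 0 := by
    intro a
    have := coeff_lemma (w m) v f hsum d a (fun a' ha' => hne_aux m (by omega) d h0 h1 h2 a a' ha')
    rcases mul_eq_zero.1 this with h | h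
    · exact absurd h hcoeff
    · exact_mod_cast h
  have hw := hf hcoeff
  have h3 : d 3 = 0 := hzero 0
  have h4 : d 4 = 0 := hzero 1
  have h5 : d 5 = 0 := hzero 2
  have h6 : d 6 = 0 := hzero 3
  have : Finsupp.weight (![0, 0, 0, 1, 1, 1, 1] : Fin 7 → ℕ) d = 0 := by
    rw [Finsupp.weight_apply, Finsupp.sum_fintype _ _ (by simp)]
    simp [Fin.sum_univ_succ, h0, h1, h2, h3, h4, h5, h6]
  omega

end Groth.Agent.Helper5.Roberts
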