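import Mathlib

set_option autoImplicit false
universe u v w

namespace Groth.Agent.Helper5.RootPos
open RootPairing

section tf
variable {ι : Type u} {M : Type v} {N : Type w} [AddCommGroup M] [AddCommGroup N]
  (P : RootPairing ι ℤ M N)

include P in
lemma isTorsionFree_right : Module.IsTorsionFree ℤ N :=
  Function.Injective.moduleIsTorsionFree (N := M →ₗ[ℤ] ℤ) (P.toLinearMap.flip)
    (LinearMap.IsPerfPair.bijective_right P.toLinearMap).1 (fun r m => map_smul _ r m)

include P in
lemma isTorsionFree_left : Module.IsTorsionFree ℤ M := isTorsionFree_right P.flip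

end tf

variable {ι : Type u} {M : Type v} {N : Type w} [Fintype ι] [AddCommGroup M] [AddCommGroup N]
  (P : RootPairing ι ℤ M N) [P.IsReduced] [P.IsCrystallographic] (b : P.Base)

/-- a root which is positive for `b` has positive coroot for the flipped base -/
lemma isPos_flip_of_isPos {i : ι} (hi : b.IsPos i) : b.flip.IsPos i := by
  have : Module.IsTorsionFree ℤ N := isTorsionFree_right P
  have : Module.IsTorsionFree ℤ M := isTorsionFree_left P
  refine hi.induction_on_reflect (p := fun i => b.IsPos i → b.flip.IsPos i) ?_ ?_ hi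
  · intro i hi _
    exact Base.isPos_of_mem_support (b := b.flip) hi
  · intro i j hp hj hpos
    by_cases hij : i = j
    · subst hij
      exfalso
      have h1 := Base.IsPos.neg_iff_not b i
      exact h1.1 hpos (Base.isPos_of_mem_support hj)
    by_cases hij' : P.reflectionPerm j i = j
    · rw [hij']
      exact Base.isPos_of_mem_support (b := b.flip) hj
    have h1 : b.IsPos i := by
      have := hpos.reflectionPerm hj hij'
      rwa [P.reflectionPerm_self] at this
    have h2 := hp h1
    exact h2.reflectionPerm (b := b.flip) hj hij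

/-- positive coroots are non-negative combinations of simple coroots -/
lemma pairing_coroot_nonneg {i : ι} (hi : b.IsPos i) (ω : M)
    (hω : ∀ j ∈ b.support, 0 ≤ P.toLinearMap ω (P.coroot j)) :
    0 ≤ P.toLinearMap ω (P.coroot i) := by
  have hflip := isPos_flip_of_isPos P b hi
  obtain ⟨f, hf₀, hf₁, hf₂⟩ := b.flip.exists_root_eq_sum_int i
  replace hf₁ : 0 < f := by
    refine hf₁.resolve_right ?_
    rw [Base.isPos_iff, Base.height_eq_sum hf₂] at hflip
    contrapose! hflip
    exact Finset.sum_nonpos fun i _ ↦ hflip.le i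
  have hf₃ : P.coroot i = ∑ j ∈ b.support, f j • P.coroot j := hf₂
  rw [hf₃, map_sum]
  refine Finset.sum_nonneg fun j hj => ?_
  rw [map_zsmul]
  exact smul_nonneg (hf₁.le j) (hω j hj)

open Classical in
/-- pairing with the sum of the positive coroots -/
noncomputable def h : M →+ ℤ :=
  ∑ i ∈ Finset.univ.filter (fun i => b.IsPos i),
    ((P.toLinearMap.flip (P.coroot i) : M →ₗ[ℤ] ℤ) : M →+ ℤ)

open Classical in
lemma h_apply (ω : M) : h P b ω =
    ∑ i ∈ Finset.univ.filter (fun i => b.IsPos i), P.toLinearMap ω (P.coroot i) := by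
  simp [h]

open Classical in
lemma h_root_simple {j : ι} (hj : j ∈ b.support) : h P b (P.root j) = 2 := by
  rw [h_apply]
  have hjpos : j ∈ Finset.univ.filter (fun i => b.IsPos i) := by
    simp [Base.isPos_of_mem_support hj]
  rw [← Finset.add_sum_erase _ _ hjpos]
  have h0 : ∑ l ∈ (Finset.univ.filter (fun i => b.IsPos i)).erase j,
      P.toLinearMap (P.root j) (P.coroot l) = 0 := by
    refine Finset.sum_involution (fun l _ => P.reflectionPerm j l) ?_ ?_ ?_ ?_
    · intro l hl
      rw [root_coroot_eq_pairing, root_coroot_eq_pairing, pairing_reflectionPerm,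
        pairing_reflectionPerm_self_left]
      ring
    · intro l hl hne heq
      apply hne
      have h1 : P.toLinearMap (P.root j) (P.coroot (P.reflectionPerm j l)) =
          - P.toLinearMap (P.root j) (P.coroot l) := by
        rw [root_coroot_eq_pairing, root_coroot_eq_pairing, pairing_reflectionPerm,
          pairing_reflectionPerm_self_left]
      rw [heq] at h1
      omega
    · intro l hl
      rw [Finset.mem_erase, Finset.mem_filter] at hl ⊢
      obtain ⟨hlj, -, hlpos⟩ := hl
      refine ⟨?_, Finset.mem_univ _, hlpos.reflectionPerm hj hlj⟩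
      intro heq
      have h1 : l = P.reflectionPerm j j := by
        have := congrArg (P.reflectionPerm j) heq
        rwa [P.reflectionPerm_self] at this
      have h2 := Base.IsPos.neg_iff_not b j
      rw [h1] at hlpos
      exact h2.1 hlpos (Base.isPos_of_mem_support hj)
    · intro l hl
      exact P.reflectionPerm_self j l
  rw [h0, add_zero, root_coroot_eq_pairing, pairing_same]

lemma h_root (i : ι) : h P b (P.root i) = 2 * b.height i := by
  obtain ⟨f, hf₀, hf₁, hf₂⟩ := b.exists_root_eq_sum_int i
  rw [Base.height_eq_sum hf₂, hf₂, map_sum, Finset.mul_sum]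
  refine Finset.sum_congr rfl fun j hj => ?_
  rw [map_zsmul, h_root_simple P b hj]
  simp [mul_comm]

theorem main : ∃ h : M →+ ℤ, (∀ i : ι, b.IsPos i → 0 < h (P.root i)) ∧
      ∀ ω : M, (∀ j ∈ b.support, 0 ≤ P.toLinearMap ω (P.coroot j)) → 0 ≤ h ω := by
  classical
  refine ⟨h P b, fun i hi => ?_, fun ω hω => ?_⟩
  · rw [h_root]
    rw [Base.isPos_iff] at hi
    omega
  · rw [h_apply]
    refine Finset.sum_nonneg fun i hi => ?_
    rw [Finset.mem_filter] at hi
    exact pairing_coroot_nonneg P b hi.2 ω hω

end Groth.Agent.Helper5.RootPos
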