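import Mathlib

set_option autoImplicit false
universe u

namespace Groth.Agent.Helper5.RootProd

open Polynomial in
theorem prod_nthRootsFinset_eq {R M : Type*} [CommRing R] [IsDomain R] [CommMonoid M] {m : ℕ} {ζ : R}
    (hζ : IsPrimitiveRoot ζ m) (G : R → M) :
    ∏ θ ∈ nthRootsFinset m (1 : R), G θ = ∏ j ∈ Finset.range m, G (ζ ^ j) := by
  classical
  rw [Finset.prod_eq_multiset_prod, nthRootsFinset_def, Multiset.toFinset_val,
    Multiset.dedup_eq_self.mpr hζ.nthRoots_one_nodup, hζ.nthRoots_eq (one_pow m) (α := 1),
    Multiset.map_map, Finset.prod_eq_multiset_prod, Finset.range_val]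
  congr 1
  refine Multiset.map_congr rfl fun j _ => ?_
  simp

theorem prod_range_mul_of_periodic {M : Type*} [CommMonoid M] (h : ℕ → M) (m : ℕ)
    (hper : ∀ j, h (m + j) = h j) (e : ℕ) :
    ∏ j ∈ Finset.range (m * e), h j = (∏ j ∈ Finset.range m, h j) ^ e := by
  have hper' : ∀ q j, h (m * q + j) = h j := by
    intro q
    induction q with
    | zero => intro j; simp
    | succ q ih =>
      intro j
      rw [mul_add, mul_one, add_assoc, ih, hper]
  induction e with
  | zero => simp
  | succ e ih =>
    rw [mul_add, mul_one, Finset.prod_range_add, ih, pow_succ]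
    congr 1
    exact Finset.prod_congr rfl fun j _ => hper' e j

end Groth.Agent.Helper5.RootProd
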