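import Mathlib
import Groth.Agent.Helper5.GRed5

set_option autoImplicit false
universe u

namespace Groth.Agent.Helper5.SDens

open TensorProduct Groth.Agent.Helper3 Groth.Agent.Helper5.GRed

set_option maxHeartbeats 3200000 in
/-- ring-level core: a torsion-freeness condition along an ideal on the generic fibre yields an
element of the ideal that stays regular on all fibres over a nonempty open -/
theorem ring_core_sd (R C : Type u) [CommRing R] [IsDomain R] [CommRing C] [Algebra R C]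
    [Algebra.FiniteType R C] (I : Ideal C)
    (hgen : ∀ b : C ⊗[R] FractionRing R,
      (∀ t ∈ I, (t ⊗ₜ[R] (1 : FractionRing R)) * b = 0) → b = 0) :
    ∃ g : R, g ≠ 0 ∧ ∃ h ∈ I, ∀ (L : Type u) [Field L] [Algebra R L], algebraMap R L g ≠ 0 →
      (h ⊗ₜ[R] (1 : L)) ∈ nonZeroDivisors (C ⊗[R] L) := by
  classical
  -- stage 1
  obtain ⟨g₁, hg₁, hfree₁, hfp₁⟩ : ∃ g₁ : R, g₁ ≠ 0 ∧
      Module.Free (Localization.Away g₁) (LocalizedModule (Submonoid.powers g₁) C) ∧
      (Localization.awayMap (algebraMap R C) g₁).FinitePresentation := by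
    obtain ⟨f₁, hf₁, H₁⟩ := RedGF5.keyAlg R C 1 one_ne_zero
    obtain ⟨hfree₁, hfp₁⟩ := H₁ 1
    exact ⟨1 * f₁ * 1, by rw [mul_one]; exact hf₁, hfree₁, hfp₁⟩
  let A₁ := Localization.Away (algebraMap R C g₁)
  obtain ⟨hfpA₁, hflatA₁⟩ := good_away R C g₁ hfree₁ hfp₁
  haveI : Algebra.FinitePresentation R A₁ := hfpA₁
  haveI : Module.Flat R A₁ := hflatA₁
  let K := FractionRing R
  let B₁ := A₁ ⊗[R] K
  have hg₁K : algebraMap R K g₁ ≠ 0 := by
    intro h0
    exact hg₁ (IsFractionRing.injective R K (by rw [h0, map_zero]))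
  let Φ := awayTensorMap R C A₁ K
  have hΦinj : Function.Injective Φ := awayTensorMap_injective R C A₁ K g₁ hg₁K
  have hΦsurj : Function.Surjective Φ := awayTensorMap_surjective R C A₁ K g₁ hg₁K
  haveI : IsNoetherianRing (K ⊗[R] A₁) := Algebra.FiniteType.isNoetherianRing K (K ⊗[R] A₁)
  haveI : IsNoetherianRing B₁ :=
    isNoetherianRing_of_ringEquiv _ (Algebra.TensorProduct.comm R K A₁).toRingEquiv
  let M : Submonoid A₁ := Algebra.algebraMapSubmonoid A₁ (nonZeroDivisors R)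
  have hlocB : IsLocalization M B₁ := IsLocalization.tensor K (nonZeroDivisors R)
  have hMle : M ≤ nonZeroDivisors A₁ := by
    rintro _ ⟨r, hr, rfl⟩
    have h1 : IsSMulRegular R r := by
      intro x y hxy
      have h2 : r * (x - y) = 0 := by
        rw [mul_sub]; exact sub_eq_zero.2 hxy
      have := (mem_nonZeroDivisors_iff.1 hr).1 _ h2
      exact sub_eq_zero.1 this
    have h3 : IsSMulRegular A₁ (algebraMap R A₁ r) := IsSMulRegular.of_flat h1
    rw [mem_nonZeroDivisors_iff_right]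
    intro x hx
    apply h3
    show algebraMap R A₁ r * x = algebraMap R A₁ r * 0
    rw [mul_zero, mul_comm]
    exact hx
  have hinjB : Function.Injective (algebraMap A₁ B₁) := IsLocalization.injective B₁ hMle
  -- stage 2
  let I₁ : Ideal A₁ := Ideal.map (algebraMap C A₁) I
  let J : Ideal B₁ := Ideal.map (algebraMap A₁ B₁) I₁
  have hΦt : ∀ t : C, Φ (t ⊗ₜ[R] (1 : K)) = algebraMap A₁ B₁ (algebraMap C A₁ t) := fun t => rfl
  have hnd : ¬ Disjoint (J : Set B₁) (nonZeroDivisors B₁ : Set B₁) := by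
    intro hdis
    have hlt := Ideal.bot_lt_annihilator_of_disjoint_nonZeroDivisors hdis
    obtain ⟨b, hbann, hb0⟩ := SetLike.exists_of_lt hlt
    have hb0' : b ≠ 0 := fun h => hb0 (by rw [h]; exact Submodule.zero_mem _)
    obtain ⟨b', rfl⟩ := hΦsurj b
    apply hb0'
    have : b' = 0 := by
      apply hgen
      intro t ht
      apply hΦinj
      rw [map_zero, map_mul, hΦt]
      have hmem : algebraMap A₁ B₁ (algebraMap C A₁ t) ∈ J :=
        Ideal.mem_map_of_mem _ (Ideal.mem_map_of_mem _ ht)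
      have h1 := Module.mem_annihilator.1 hbann ⟨_, hmem⟩
      have h2 : Φ b' * algebraMap A₁ B₁ (algebraMap C A₁ t) = 0 := by
        have := congrArg Subtype.val h1
        simpa [smul_eq_mul] using this
      rw [mul_comm]
      exact h2
    rw [this, map_zero]
  obtain ⟨s, hsJ, hsreg⟩ := Set.not_disjoint_iff.1 hnd
  -- stage 3
  obtain ⟨⟨⟨h₁, hh₁⟩, ⟨m, hm⟩⟩, hs1⟩ := (IsLocalization.mem_map_algebraMap_iff M B₁).1 hsJ
  have hs1' : s * algebraMap A₁ B₁ m = algebraMap A₁ B₁ h₁ := hs1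
  obtain ⟨⟨⟨h, hh⟩, ⟨m', hm'⟩⟩, hs2⟩ :=
    (IsLocalization.mem_map_algebraMap_iff (Submonoid.powers (algebraMap R C g₁)) A₁).1 hh₁
  have hs2' : h₁ * algebraMap C A₁ m' = algebraMap C A₁ h := hs2
  have hu1 : IsUnit (algebraMap A₁ B₁ m) := IsLocalization.map_units B₁ (⟨m, hm⟩ : M)
  have hu2 : IsUnit (algebraMap C A₁ m') :=
    IsLocalization.map_units A₁ (⟨m', hm'⟩ : Submonoid.powers (algebraMap R C g₁))
  let h₁' : A₁ := algebraMap C A₁ h
  have hρh : algebraMap A₁ B₁ h₁' = s * (algebraMap A₁ B₁ m * algebraMap A₁ B₁ (algebraMap C A₁ m')) := by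
    show algebraMap A₁ B₁ (algebraMap C A₁ h) = _
    rw [← hs2', map_mul, ← hs1', mul_assoc]
  have hregB : algebraMap A₁ B₁ h₁' ∈ nonZeroDivisors B₁ := by
    rw [hρh]
    exact mul_mem hsreg ((hu1.mul (hu2.map _)).mem_nonZeroDivisors)
  have hreg : h₁' ∈ nonZeroDivisors A₁ := by
    rw [mem_nonZeroDivisors_iff_right]
    intro x hx
    apply hinjB
    rw [map_zero]
    apply (mem_nonZeroDivisors_iff_right.1 hregB)
    rw [← map_mul, hx, map_zero]
  -- stage 4
  haveI : Algebra.FiniteType R A₁ := inferInstance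
  obtain ⟨g₃, hg₃, hfree₃⟩ : ∃ g₃ : R, g₃ ≠ 0 ∧
      Module.Free (Localization.Away g₃)
        (LocalizedModule (Submonoid.powers g₃) (A₁ ⧸ Ideal.span {h₁'})) := by
    obtain ⟨f₃, hg₃, hgood⟩ := RedGF4.key R A₁ (A₁ ⧸ Ideal.span {h₁'}) 1 one_ne_zero
    exact ⟨1 * f₃, hg₃, hgood.1⟩
  have hflat₃ : Module.Flat R (LocalizedModule (Submonoid.powers g₃) (A₁ ⧸ Ideal.span {h₁'})) := by
    haveI : Module.Flat (Localization.Away g₃)
      (LocalizedModule (Submonoid.powers g₃) (A₁ ⧸ Ideal.span {h₁'})) := inferInstance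
    exact Module.Flat.trans R (Localization.Away g₃) _
  -- stage 5
  refine ⟨g₁ * g₃, mul_ne_zero hg₁ hg₃, h, hh, fun L _ _ hL => ?_⟩
  have hL' : algebraMap R L g₁ * algebraMap R L g₃ ≠ 0 := by
    rw [← map_mul]; exact hL
  have hL₁ : algebraMap R L g₁ ≠ 0 := left_ne_zero_of_mul hL'
  have hL₃ : algebraMap R L g₃ ≠ 0 := right_ne_zero_of_mul hL'
  have h1 := regular_tmul_of_flat R A₁ h₁' g₃ hreg hflat₃ L hL₃
  have hΦL := awayTensorMap_injective R C A₁ L g₁ hL₁
  rw [mem_nonZeroDivisors_iff_right]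
  intro x hx
  apply hΦL
  rw [map_zero]
  apply (mem_nonZeroDivisors_iff_right.1 h1)
  have h2 : awayTensorMap R C A₁ L (h ⊗ₜ[R] (1 : L)) = h₁' ⊗ₜ[R] (1 : L) := rfl
  rw [← h2, ← map_mul, hx, map_zero]

end Groth.Agent.Helper5.SDens
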