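import Mathlib

set_option autoImplicit false
universe u

namespace Groth.Agent.Helper5.SDens

open CategoryTheory CategoryTheory.Limits AlgebraicGeometry TopologicalSpace Topology

/-- transport of ring elements along an affine chart -/
noncomputable def chartEquiv {F : Scheme.{u}} {B : CommRingCat.{u}} (c : Spec B ⟶ F)
    [IsOpenImmersion c] : B ≃+* Γ(F, c ''ᵁ ⊤) :=
  ((Scheme.ΓSpecIso B).symm ≪≫ (c.appIso ⊤).symm).commRingCatIsoToRingEquiv

theorem basicOpen_chartEquiv {F : Scheme.{u}} {B : CommRingCat.{u}} (c : Spec B ⟶ F)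
    [IsOpenImmersion c] (t : B) :
    F.basicOpen (chartEquiv c t) = c ''ᵁ (PrimeSpectrum.basicOpen t) := by
  have h1 := Scheme.image_basicOpen c ((Scheme.ΓSpecIso B).inv t)
  rw [basicOpen_eq_of_affine] at h1
  exact h1.symm

/-- criterion for scheme-theoretic density of an open: locally it contains the nonvanishing locus
of a regular function -/
theorem crit {F : Scheme.{u}} (W : F.Opens)
    (H : ∀ x : F, ∃ (V : F.Opens) (_ : IsAffineOpen V) (τ : Γ(F, V)), x ∈ V ∧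
      τ ∈ nonZeroDivisors Γ(F, V) ∧ F.basicOpen τ ≤ W) :
    IsSchemeTheoreticallyDominant W.ι := by
  choose V hV τ hxV hτ hτW using H
  rw [isSchemeTheoreticallyDominant_iff]
  refine Scheme.IdealSheafData.ext_of_iSup_eq_top (fun x => ⟨V x, hV x⟩) ?_ ?_
  · rw [eq_top_iff]
    intro x _
    exact Opens.mem_iSup.2 ⟨x, hxV x⟩
  · intro x
    change (Scheme.Hom.ker W.ι).ideal ⟨V x, hV x⟩ = (⊥ : Ideal _)
    rw [eq_bot_iff]
    refine (Scheme.Hom.ideal_ker_le _ _).trans ?_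
    intro s hs
    rw [RingHom.mem_ker] at hs
    have hle : F.basicOpen (τ x) ≤ W.ι ''ᵁ W.ι ⁻¹ᵁ (V x) := by
      intro y hy
      exact ⟨⟨y, hτW x hy⟩, F.basicOpen_le _ hy, rfl⟩
    have h1 : (F.presheaf.map (homOfLE (F.basicOpen_le (τ x))).op).hom s = 0 := by
      have hsub : W.ι ''ᵁ W.ι ⁻¹ᵁ V x ≤ V x := by
        rintro _ ⟨y, hy, rfl⟩
        exact hy
      have hs' : (F.presheaf.map (homOfLE hsub).op).hom s = 0 := hs
      have e : F.presheaf.map (homOfLE (F.basicOpen_le (τ x))).op =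
          F.presheaf.map (homOfLE hsub).op ≫ F.presheaf.map (homOfLE hle).op := by
        rw [← Functor.map_comp]
        rfl
      rw [e, CommRingCat.hom_comp, RingHom.comp_apply, hs', map_zero]
    have := (hV x).isLocalization_basicOpen (τ x)
    obtain ⟨⟨_, n, rfl⟩, hn⟩ := (IsLocalization.map_eq_zero_iff (Submonoid.powers (τ x))
      Γ(F, F.basicOpen (τ x)) s).1 h1
    have hreg : (τ x) ^ n ∈ nonZeroDivisors Γ(F, V x) := pow_mem (hτ x) n
    exact (mem_nonZeroDivisors_iff.1 hreg).1 _ hn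

/-- necessary condition for scheme-theoretic density of an open, on an affine chart -/
theorem nec {F : Scheme.{u}} (W : F.Opens) [IsSchemeTheoreticallyDominant W.ι] [QuasiCompact W.ι]
    {B : CommRingCat.{u}} (c : Spec B ⟶ F) [IsOpenImmersion c] (T : Set B)
    (hT : ∀ p : Spec B, c p ∈ W → ∃ t ∈ T, t ∉ p.asIdeal) (b : B)
    (hb : ∀ t ∈ T, t * b = 0) : b = 0 := by
  let V : F.Opens := c ''ᵁ ⊤
  have hV : IsAffineOpen V := (isAffineOpen_top _).image_of_isOpenImmersion c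
  let φ := chartEquiv c
  suffices φ b = 0 by
    have h2 := congrArg φ.symm this
    simpa using h2
  have hsub : W.ι ''ᵁ W.ι ⁻¹ᵁ V ≤ V := by
    rintro _ ⟨y, hy, rfl⟩
    exact hy
  have key : (F.presheaf.map (homOfLE hsub).op).hom (φ b) = 0 := by
    apply F.IsSheaf.section_ext (U := Opposite.op (W.ι ''ᵁ W.ι ⁻¹ᵁ V))
    rintro x ⟨⟨x', hx'W⟩, hx'V, rfl⟩
    obtain ⟨p, -, hp⟩ := hx'V
    have hp' : c p = x' := hp
    have hpW : c p ∈ W := by
      rw [hp']; exact hx'W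
    obtain ⟨t, ht, htp⟩ := hT p hpW
    have hxD : x' ∈ F.basicOpen (φ t) := by
      rw [basicOpen_chartEquiv]
      exact ⟨p, htp, hp'⟩
    refine ⟨F.basicOpen (φ t) ⊓ (W.ι ''ᵁ W.ι ⁻¹ᵁ V), inf_le_right,
      ⟨hxD, ⟨⟨x', hx'W⟩, ⟨p, trivial, hp⟩, rfl⟩⟩, ?_⟩
    rw [map_zero]
    have := hV.isLocalization_basicOpen (φ t)
    have h0 : (F.presheaf.map (homOfLE (F.basicOpen_le (φ t))).op).hom (φ b) = 0 := by
      refine (IsLocalization.map_eq_zero_iff (Submonoid.powers (φ t))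
        Γ(F, F.basicOpen (φ t)) (φ b)).2 ⟨⟨φ t, 1, pow_one _⟩, ?_⟩
      show φ t * φ b = 0
      rw [← map_mul, hb t ht, map_zero]
    have e : F.presheaf.map (homOfLE hsub).op ≫ F.presheaf.map (homOfLE (inf_le_right :
        F.basicOpen (φ t) ⊓ (W.ι ''ᵁ W.ι ⁻¹ᵁ V) ≤ W.ι ''ᵁ W.ι ⁻¹ᵁ V)).op =
        F.presheaf.map (homOfLE (F.basicOpen_le (φ t))).op ≫
          F.presheaf.map (homOfLE (inf_le_left :
            F.basicOpen (φ t) ⊓ (W.ι ''ᵁ W.ι ⁻¹ᵁ V) ≤ F.basicOpen (φ t))).op := by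
      rw [← Functor.map_comp, ← Functor.map_comp]
      rfl
    have := congrArg (fun ψ => ψ.hom (φ b)) e
    simp only [CommRingCat.hom_comp, RingHom.comp_apply] at this
    rw [h0, map_zero] at this
    exact this
  apply W.ι.app_injective V
  rw [map_zero]
  exact key

end Groth.Agent.Helper5.SDens
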