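import Mathlib
import Groth.Agent.Helper5.SDens1
import Groth.Agent.Helper5.SDens2

set_option autoImplicit false
universe u

namespace Groth.Agent.Helper5.SDens

open CategoryTheory CategoryTheory.Limits AlgebraicGeometry TopologicalSpace Topology TensorProduct

/-- chart version of the criterion -/
theorem crit_charts {F : Scheme.{u}} (W : F.Opens) {ι : Type*} (B : ι → CommRingCat.{u})
    (c : ∀ i, Spec (B i) ⟶ F) [∀ i, IsOpenImmersion (c i)]
    (hcov : ∀ x : F, ∃ i, x ∈ Set.range (c i))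
    (σ : ∀ i, B i) (hσ : ∀ i, σ i ∈ nonZeroDivisors (B i))
    (hW : ∀ i (p : Spec (B i)), σ i ∉ p.asIdeal → c i p ∈ W) :
    IsSchemeTheoreticallyDominant W.ι := by
  apply crit
  intro x
  obtain ⟨i, p, rfl⟩ := hcov x
  refine ⟨c i ''ᵁ ⊤, (isAffineOpen_top _).image_of_isOpenImmersion (c i),
    chartEquiv (c i) (σ i), ⟨p, trivial, rfl⟩, ?_, ?_⟩
  · apply mem_nonZeroDivisors_of_injective (f := (chartEquiv (c i)).symm)
      (chartEquiv (c i)).symm.injective
    rw [RingEquiv.symm_apply_apply]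
    exact hσ i
  · rw [basicOpen_chartEquiv]
    rintro _ ⟨q, hq, rfl⟩
    exact hW i q hq

section tensor

variable {R C L : Type u} [CommRing R] [CommRing C] [CommRing L] [Algebra R C] [Algebra R L]
  {X : Scheme.{u}} (f : X ⟶ Spec (.of R)) (j : Spec (.of C) ⟶ X)
  (hj : j ≫ f = Spec.map (CommRingCat.ofHom (algebraMap R C)))

/-- the chart of the base change given by an affine chart of the source -/
noncomputable def tchart :
    Spec (.of (C ⊗[R] L)) ⟶ pullback f (Spec.map (CommRingCat.ofHom (algebraMap R L))) :=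
  (pullbackSpecIso R C L).inv ≫ pullback.map _ _ f _ j (𝟙 _) (𝟙 _)
    (by rw [Category.comp_id, hj]) (by simp)

instance [IsOpenImmersion j] : IsOpenImmersion (tchart (L := L) f j hj) := by
  dsimp only [tchart]
  infer_instance

theorem tchart_fst : tchart (L := L) f j hj ≫ pullback.fst _ _ =
    Spec.map (CommRingCat.ofHom
      (Algebra.TensorProduct.includeLeftRingHom : C →+* C ⊗[R] L)) ≫ j := by
  have h1 : pullback.map (Spec.map (CommRingCat.ofHom (algebraMap R C)))
      (Spec.map (CommRingCat.ofHom (algebraMap R L))) f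
      (Spec.map (CommRingCat.ofHom (algebraMap R L))) j (𝟙 _) (𝟙 _)
      (by rw [Category.comp_id, hj]) (by simp) ≫ pullback.fst f _ = pullback.fst _ _ ≫ j :=
    pullback.lift_fst _ _ _
  rw [tchart, Category.assoc, h1, pullbackSpecIso_inv_fst_assoc]

theorem range_tchart : Set.range (tchart (L := L) f j hj) =
    (pullback.fst f (Spec.map (CommRingCat.ofHom (algebraMap R L)))) ⁻¹' (Set.range j) := by
  dsimp only [tchart]
  rw [Scheme.Hom.comp_base, TopCat.coe_comp, Set.range_comp,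
    Set.range_eq_univ.2 (pullbackSpecIso R C L).inv.surjective, Set.image_univ,
    Scheme.Pullback.range_map]
  simp

/-- the trace of an open on a chart, as a set of primes -/
def chartSet (U : X.Opens) : Set (PrimeSpectrum C) :=
  {p | (j : Spec (.of C) → X) p ∈ U}

/-- the ideal of the complement of an open in a chart -/
noncomputable def chartIdeal (U : X.Opens) : Ideal C :=
  PrimeSpectrum.vanishingIdeal (chartSet j U)ᶜ

theorem mem_preimage_iff (U : X.Opens) (p : PrimeSpectrum C) :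
    (j : Spec (.of C) → X) p ∈ U ↔ ∃ t ∈ chartIdeal j U, t ∉ p.asIdeal := by
  have hop : IsOpen (chartSet j U) := (j ⁻¹ᵁ U).2
  have hcl : IsClosed (chartSet j U)ᶜ := hop.isClosed_compl
  have h1 : PrimeSpectrum.zeroLocus (chartIdeal j U : Set C) = (chartSet j U)ᶜ := by
    rw [chartIdeal, PrimeSpectrum.zeroLocus_vanishingIdeal_eq_closure, hcl.closure_eq]
  have h2 : (j : Spec (.of C) → X) p ∈ U ↔
      p ∉ PrimeSpectrum.zeroLocus (chartIdeal j U : Set C) := by
    rw [h1, Set.mem_compl_iff, not_not]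
    rfl
  rw [h2, PrimeSpectrum.mem_zeroLocus, Set.not_subset]
  rfl

theorem tchart_mem_iff (U : X.Opens) (q : Spec (.of (C ⊗[R] L))) :
    tchart (L := L) f j hj q ∈ (pullback.fst f _) ⁻¹ᵁ U ↔
      ∃ t ∈ chartIdeal j U, (t ⊗ₜ[R] (1 : L)) ∉ q.asIdeal := by
  have h1 : (tchart (L := L) f j hj q ∈ (pullback.fst f _) ⁻¹ᵁ U) ↔
      j (Spec.map (CommRingCat.ofHom
        (Algebra.TensorProduct.includeLeftRingHom : C →+* C ⊗[R] L)) q) ∈ U := by
    have := congrArg (fun φ : Spec (.of (C ⊗[R] L)) ⟶ X => φ q) (tchart_fst (L := L) f j hj)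
    simp only [Scheme.Hom.comp_apply] at this
    show (pullback.fst f _) (tchart (L := L) f j hj q) ∈ U ↔ _
    rw [this]
  rw [h1, mem_preimage_iff]
  rfl

include hj in
theorem tensor_nec [IsOpenImmersion j] (U : X.Opens)
    [IsSchemeTheoreticallyDominant
      ((pullback.fst f (Spec.map (CommRingCat.ofHom (algebraMap R L)))) ⁻¹ᵁ U).ι]
    [QuasiCompact ((pullback.fst f (Spec.map (CommRingCat.ofHom (algebraMap R L)))) ⁻¹ᵁ U).ι]
    (b : C ⊗[R] L) (hb : ∀ t ∈ chartIdeal j U, (t ⊗ₜ[R] (1 : L)) * b = 0) : b = 0 := by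
  refine nec ((pullback.fst f _) ⁻¹ᵁ U) (tchart (L := L) f j hj)
    {s | ∃ t ∈ chartIdeal j U, s = t ⊗ₜ[R] (1 : L)} ?_ b ?_
  · intro q hq
    obtain ⟨t, ht, htq⟩ := (tchart_mem_iff f j hj U q).1 hq
    exact ⟨_, ⟨t, ht, rfl⟩, htq⟩
  · rintro _ ⟨t, ht, rfl⟩
    exact hb t ht

end tensor


theorem tensor_crit {R L : Type u} [CommRing R] [CommRing L] [Algebra R L] {X : Scheme.{u}}
    (f : X ⟶ Spec (.of R)) (U : X.Opens)
    {ι : Type*} (C : ι → Type u) [∀ i, CommRing (C i)] [∀ i, Algebra R (C i)]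
    (j : ∀ i, Spec (.of (C i)) ⟶ X) [∀ i, IsOpenImmersion (j i)]
    (hj : ∀ i, j i ≫ f = Spec.map (CommRingCat.ofHom (algebraMap R (C i))))
    (hcov : ∀ x : X, ∃ i, x ∈ Set.range (j i))
    (h : ∀ i, C i) (hI : ∀ i, h i ∈ chartIdeal (j i) U)
    (hreg : ∀ i, (h i ⊗ₜ[R] (1 : L)) ∈ nonZeroDivisors (C i ⊗[R] L)) :
    IsSchemeTheoreticallyDominant
      ((pullback.fst f (Spec.map (CommRingCat.ofHom (algebraMap R L)))) ⁻¹ᵁ U).ι := by
  refine crit_charts _ (fun i => .of (C i ⊗[R] L))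
    (fun i => tchart (L := L) f (j i) (hj i)) ?_ (fun i => h i ⊗ₜ[R] (1 : L)) hreg ?_
  · intro x
    obtain ⟨i, hi⟩ := hcov (pullback.fst f _ x)
    refine ⟨i, ?_⟩
    rw [range_tchart]
    exact hi
  · intro i q hq
    exact (tchart_mem_iff f (j i) (hj i) U q).2 ⟨h i, hI i, hq⟩

set_option maxHeartbeats 1600000 in
/-- the case of an integral affine base -/
theorem affine_integral_sd (R : Type u) [CommRing R] [IsDomain R] {X : Scheme.{u}}
    (f : X ⟶ Spec (.of R)) [LocallyOfFiniteType f] [QuasiCompact f] (U : X.Opens)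
    (hgen : IsSchemeTheoreticallyDominant
      ((pullback.fst f (Spec.map (CommRingCat.ofHom (algebraMap R (FractionRing R))))) ⁻¹ᵁ U).ι) :
    ∃ g : R, g ≠ 0 ∧ ∀ (L : Type u) [Field L] [Algebra R L], algebraMap R L g ≠ 0 →
      IsSchemeTheoreticallyDominant
        ((pullback.fst f (Spec.map (CommRingCat.ofHom (algebraMap R L)))) ⁻¹ᵁ U).ι := by
  classical
  haveI : CompactSpace X := QuasiCompact.compactSpace_of_compactSpace f
  let 𝒱 := X.affineOpenCover.openCover.finiteSubcover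
  let ι := 𝒱.I₀
  let idx : ι → X.affineOpenCover.I₀ := fun v => X.affineOpenCover.openCover.idx v.1
  let C : ι → Type u := fun v => X.affineOpenCover.X (idx v)
  let j : ∀ v, Spec (.of (C v)) ⟶ X := fun v => X.affineOpenCover.f (idx v)
  haveI : ∀ v, IsOpenImmersion (j v) := fun v => inferInstanceAs
    (IsOpenImmersion (X.affineOpenCover.f (idx v)))
  have hcov : ∀ x : X, ∃ v, x ∈ Set.range (j v) := by
    intro x
    obtain ⟨v, y, hy⟩ := 𝒱.exists_eq x
    exact ⟨v, y, hy⟩
  letI algR : ∀ v, Algebra R (C v) := fun v => (Spec.preimage (j v ≫ f)).hom.toAlgebra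
  have hj : ∀ v, j v ≫ f = Spec.map (CommRingCat.ofHom (algebraMap R (C v))) :=
    fun v => (Spec.map_preimage _).symm
  haveI ft : ∀ v, Algebra.FiniteType R (C v) := by
    intro v
    have h1 : LocallyOfFiniteType (j v ≫ f) := inferInstance
    rw [hj v, HasRingHomProperty.Spec_iff (P := @LocallyOfFiniteType)] at h1
    exact (RingHom.finiteType_algebraMap (A := R) (B := C v)).1 h1
  haveI : IsNoetherianRing (FractionRing R) := inferInstance
  have key : ∀ v, ∃ g : R, g ≠ 0 ∧ ∃ h ∈ chartIdeal (j v) U,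
      ∀ (L : Type u) [Field L] [Algebra R L], algebraMap R L g ≠ 0 →
        (h ⊗ₜ[R] (1 : L)) ∈ nonZeroDivisors (C v ⊗[R] L) := fun v =>
    ring_core_sd R (C v) (chartIdeal (j v) U)
      (fun b hb => tensor_nec f (j v) (hj v) U b hb)
  choose g hg0 h hI hreg using key
  haveI : Fintype ι := inferInstanceAs (Fintype 𝒱.I₀)
  refine ⟨∏ v, g v, Finset.prod_ne_zero_iff.2 (fun v _ => hg0 v), fun L _ _ hL => ?_⟩
  have hLv : ∀ v, algebraMap R L (g v) ≠ 0 := by
    intro v h0
    apply hL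
    rw [map_prod]
    exact Finset.prod_eq_zero (Finset.mem_univ v) h0
  exact tensor_crit f U C j hj hcov h hI (fun v => hreg v L (hLv v))

end Groth.Agent.Helper5.SDens
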