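import Mathlib
import Groth.Agent.Helper5.SDens3
import Groth.Agent.Helper5.BCMin6

set_option autoImplicit false
universe u

namespace Groth.Agent.Helper5.SDens

open CategoryTheory CategoryTheory.Limits AlgebraicGeometry TopologicalSpace Topology TensorProduct

theorem sd_congr {P : Scheme.{u}} {W W' : P.Opens} (h : W = W')
    (hs : IsSchemeTheoreticallyDominant W.ι) : IsSchemeTheoreticallyDominant W'.ι := by
  subst h
  exact hs

theorem sd_preimage_of_flat {P P' : Scheme.{u}} (g : P' ⟶ P) [Flat g] (W : P.Opens)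
    [IsSchemeTheoreticallyDominant W.ι] [QuasiCompact W.ι] :
    IsSchemeTheoreticallyDominant (g ⁻¹ᵁ W).ι :=
  IsSchemeTheoreticallyDominant.of_isPullback (isPullback_morphismRestrict g W)

theorem sd_pullback_comp_iff {X Y Y' T : Scheme.{u}} (f : X ⟶ Y) [LocallyOfFiniteType f]
    (j : Y' ⟶ Y) (b : T ⟶ Y') [IsLocallyNoetherian T] (U : X.Opens) :
    IsSchemeTheoreticallyDominant
      ((pullback.fst (pullback.snd f j) b) ⁻¹ᵁ ((pullback.fst f j) ⁻¹ᵁ U)).ι ↔
    IsSchemeTheoreticallyDominant ((pullback.fst f (b ≫ j)) ⁻¹ᵁ U).ι := by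
  let e := pullbackLeftPullbackSndIso f j b
  haveI : LocallyOfFiniteType (pullback.snd f j) := inferInstance
  constructor
  · intro h
    have := sd_preimage_of_flat e.inv
      ((pullback.fst (pullback.snd f j) b) ⁻¹ᵁ ((pullback.fst f j) ⁻¹ᵁ U))
    refine sd_congr ?_ this
    rw [← Scheme.Hom.comp_preimage, ← Scheme.Hom.comp_preimage, Category.assoc,
      pullbackLeftPullbackSndIso_inv_fst]
  · intro h
    have := sd_preimage_of_flat e.hom ((pullback.fst f (b ≫ j)) ⁻¹ᵁ U)
    refine sd_congr ?_ this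
    rw [← Scheme.Hom.comp_preimage, pullbackLeftPullbackSndIso_hom_fst,
      Scheme.Hom.comp_preimage]

/-- from the fibre at `y` to any field-valued point at `y` -/
theorem sd_point_of_fiber {X Y : Scheme.{u}} (f : X ⟶ Y) [LocallyOfFiniteType f] (U : X.Opens)
    (y : Y) (h : IsSchemeTheoreticallyDominant (f.fiberι y ⁻¹ᵁ U).ι) (L : Type u) [Field L]
    (a : Spec (CommRingCat.of L) ⟶ Y) (ha : a (IsLocalRing.closedPoint L) = y) :
    IsSchemeTheoreticallyDominant ((pullback.fst f a) ⁻¹ᵁ U).ι := by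
  obtain ⟨⟨y', φ⟩, rfl⟩ := (Scheme.SpecToEquivOfField L Y).symm.surjective a
  have hy' : y' = y := by
    rw [← ha]
    show y' = (Spec.map φ ≫ Y.fromSpecResidueField y') (IsLocalRing.closedPoint L)
    rw [Scheme.Hom.comp_apply]
    exact (Scheme.fromSpecResidueField_apply y' _).symm
  subst hy'
  show IsSchemeTheoreticallyDominant
    ((pullback.fst f (Spec.map φ ≫ Y.fromSpecResidueField y')) ⁻¹ᵁ U).ι
  rw [← sd_pullback_comp_iff f (Y.fromSpecResidueField y') (Spec.map φ) U]
  haveI : Flat (Spec.map φ) := Groth.Agent.Helper5.BCMin.flat_SpecMap_field _ _ φ.hom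
  haveI : IsSchemeTheoreticallyDominant
    ((pullback.fst f (Y.fromSpecResidueField y')) ⁻¹ᵁ U).ι := h
  exact sd_preimage_of_flat
    (pullback.fst (pullback.snd f (Y.fromSpecResidueField y')) (Spec.map φ)) _


set_option maxHeartbeats 3200000 in
/-- S1300 -/
theorem s1300 {X Y : Scheme.{u}} (f : X ⟶ Y) [IrreducibleSpace ↑Y] [LocallyOfFiniteType f]
    [QuasiCompact f] (U : X.Opens)
    (h : IsSchemeTheoreticallyDominant (f.fiberι (genericPoint ↑Y) ⁻¹ᵁ U).ι) :
    ∃ V : Y.Opens, (V : Set ↑Y).Nonempty ∧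
      ∀ y ∈ V, IsSchemeTheoreticallyDominant (f.fiberι y ⁻¹ᵁ U).ι := by
  let η := genericPoint Y
  obtain ⟨U₀, hU₀, hηU⟩ : ∃ U₀ : Y.Opens, IsAffineOpen U₀ ∧ η ∈ U₀ := by
    obtain ⟨_, ⟨U₀, hU₀, rfl⟩, hxU, -⟩ :=
      (Y.isBasis_affineOpens).exists_subset_of_mem_open (Set.mem_univ η) isOpen_univ
    exact ⟨U₀, hU₀, hxU⟩
  let R₀ : CommRingCat.{u} := Γ(Y, U₀)
  let j₀ : Spec R₀ ⟶ Y := hU₀.fromSpec
  have hj₀range : Set.range j₀ = U₀ := hU₀.range_fromSpec
  have hne : Nonempty ↥(Spec R₀) := by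
    obtain ⟨s, -⟩ : η ∈ Set.range j₀ := by rw [hj₀range]; exact hηU
    exact ⟨s⟩
  have hirr : IrreducibleSpace ↥(Spec R₀) := by
    have h1 : IsPreirreducible (j₀ ⁻¹' (Set.univ : Set Y)) :=
      (PreirreducibleSpace.isPreirreducible_univ (X := Y)).preimage j₀.isOpenEmbedding
    rw [Set.preimage_univ] at h1
    have : PreirreducibleSpace ↥(Spec R₀) := ⟨h1⟩
    exact IrreducibleSpace.mk hne
  have hprime : (nilradical ↑R₀).IsPrime :=
    PrimeSpectrum.irreducibleSpace_iff_isPrime_nilradical.1 hirr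
  let Rt : Type u := ↑R₀ ⧸ nilradical ↑R₀
  let R : CommRingCat.{u} := CommRingCat.of Rt
  haveI : IsDomain Rt := Ideal.Quotient.isDomain _
  let π : R₀ ⟶ R := CommRingCat.ofHom (Ideal.Quotient.mk (nilradical ↑R₀))
  have hπsurj : Function.Surjective π.hom := Ideal.Quotient.mk_surjective
  let ι₁ : Spec R ⟶ Spec R₀ := Spec.map π
  have hι₁surj : Function.Surjective ι₁ := by
    intro p
    have hp : p ∈ Set.range (PrimeSpectrum.comap π.hom) := by
      rw [range_comap_of_surjective _ _ hπsurj]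
      intro x hx
      have hx' : x ∈ nilradical ↑R₀ := by
        have : π.hom x = 0 := hx
        exact Ideal.Quotient.eq_zero_iff_mem.1 this
      exact nilradical_le_prime p.asIdeal hx'
    exact hp
  let j : Spec R ⟶ Y := ι₁ ≫ j₀
  have hjrange : Set.range j = U₀ := by
    show Set.range (ι₁ ≫ j₀) = U₀
    rw [Scheme.Hom.comp_base, TopCat.coe_comp, Set.range_comp, hι₁surj.range_eq, Set.image_univ]
    exact hj₀range
  have hjgen : j (genericPoint ↥(Spec R)) = η := by
    have h1 : IsGenericPoint (j (genericPoint ↥(Spec R))) (closure (Set.range j)) := by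
      have := (genericPoint_spec ↥(Spec R)).image j.continuous
      simpa [Set.image_univ] using this
    have h2 : closure (Set.range j) = Set.univ := by
      rw [hjrange]
      exact (U₀.2.dense ⟨η, hηU⟩).closure_eq
    rw [h2] at h1
    exact h1.eq (genericPoint_spec Y)
  let f₁ : pullback f j ⟶ Spec R := pullback.snd f j
  let U₁ : (pullback f j).Opens := (pullback.fst f j) ⁻¹ᵁ U
  -- the hypothesis on the generic fibre
  let K := FractionRing Rt
  have hgen₁ : IsSchemeTheoreticallyDominant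
      ((pullback.fst f₁ (Spec.map (CommRingCat.ofHom (algebraMap Rt K)))) ⁻¹ᵁ U₁).ι := by
    show IsSchemeTheoreticallyDominant
      ((pullback.fst (pullback.snd f j) (Spec.map (CommRingCat.ofHom (algebraMap Rt K)))) ⁻¹ᵁ
        ((pullback.fst f j) ⁻¹ᵁ U)).ι
    rw [sd_pullback_comp_iff f j (Spec.map (CommRingCat.ofHom (algebraMap Rt K))) U]
    apply sd_point_of_fiber f U η h K
    show (Spec.map (CommRingCat.ofHom (algebraMap Rt K)) ≫ j) _ = η
    rw [Scheme.Hom.comp_apply, ← hjgen]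
    congr 1
    rw [genericPoint_eq_bot_of_affine]
    apply PrimeSpectrum.ext
    show Ideal.comap (algebraMap Rt K) (IsLocalRing.closedPoint K).asIdeal = ⊥
    have : (IsLocalRing.closedPoint K).asIdeal = ⊥ := by
      show IsLocalRing.maximalIdeal K = ⊥
      exact IsLocalRing.maximalIdeal_eq_bot
    rw [this]
    exact Ideal.comap_bot_of_injective _ (IsFractionRing.injective Rt K)
  obtain ⟨g, hg0, Hg⟩ := affine_integral_sd Rt f₁ U₁ hgen₁
  obtain ⟨g₀, hg₀⟩ := hπsurj g
  let V₀ : Set ↥(Spec R₀) := (PrimeSpectrum.basicOpen g₀ : Set (PrimeSpectrum ↑R₀))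
  have hV₀open : IsOpen V₀ := (PrimeSpectrum.basicOpen g₀).2
  refine ⟨⟨j₀ '' V₀, j₀.isOpenEmbedding.isOpenMap _ hV₀open⟩, ?_, ?_⟩
  · refine ⟨j₀ (ι₁ (genericPoint ↥(Spec R))), ι₁ (genericPoint ↥(Spec R)), ?_, rfl⟩
    show g₀ ∉ (ι₁ (genericPoint ↥(Spec R))).asIdeal
    rw [genericPoint_eq_bot_of_affine]
    show ¬ (π.hom g₀ ∈ (⊥ : Ideal ↑R))
    rw [hg₀, Ideal.mem_bot]
    exact hg0
  · rintro _ ⟨y₀, hy₀, rfl⟩
    let y : Y := j₀ y₀
    let a : Spec (Y.residueField y) ⟶ Y := Y.fromSpecResidueField y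
    have hrange : Set.range a ⊆ Set.range j₀ := by
      rintro _ ⟨z, rfl⟩
      exact ⟨y₀, (Scheme.fromSpecResidueField_apply y z).symm⟩
    let a₀ : Spec (Y.residueField y) ⟶ Spec R₀ := IsOpenImmersion.lift j₀ a hrange
    have ha₀ : a₀ ≫ j₀ = a := IsOpenImmersion.lift_fac _ _ _
    let β₀ : R₀ ⟶ Y.residueField y := Spec.preimage a₀
    have hβ₀ : Spec.map β₀ = a₀ := Spec.map_preimage _
    have hnil : ∀ x ∈ nilradical ↑R₀, β₀.hom x = 0 := by
      intro x hx
      have hx' : IsNilpotent x := hx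
      exact (hx'.map β₀.hom).eq_zero
    let β : R ⟶ Y.residueField y :=
      CommRingCat.ofHom (Ideal.Quotient.lift (nilradical ↑R₀) β₀.hom hnil)
    have hβ : π ≫ β = β₀ := by
      ext x
      show (Ideal.Quotient.lift (nilradical ↑R₀) β₀.hom hnil) (Ideal.Quotient.mk _ x) = _
      rw [Ideal.Quotient.lift_mk]
    have hβj : Spec.map β ≫ j = a := by
      show Spec.map β ≫ Spec.map π ≫ j₀ = a
      rw [← Category.assoc, ← Spec.map_comp, hβ, hβ₀, ha₀]
    have hpt : a₀ (IsLocalRing.closedPoint (Y.residueField y)) = y₀ := by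
      apply j₀.isOpenEmbedding.injective
      rw [← Scheme.Hom.comp_apply, ha₀]
      exact Scheme.fromSpecResidueField_apply y _
    have hβg : β.hom g ≠ 0 := by
      intro h0
      apply hy₀
      have h1 : β₀.hom g₀ = 0 := by
        rw [← hβ, CommRingCat.hom_comp, RingHom.comp_apply, hg₀]
        exact h0
      rw [← hpt, ← hβ₀]
      show g₀ ∈ Ideal.comap β₀.hom (IsLocalRing.closedPoint (Y.residueField y)).asIdeal
      rw [Ideal.mem_comap, h1]
      exact Ideal.zero_mem _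
    letI : Algebra Rt (Y.residueField y) := β.hom.toAlgebra
    have h2 := Hg (Y.residueField y) hβg
    have h3 : IsSchemeTheoreticallyDominant
        ((pullback.fst (pullback.snd f j) (Spec.map β)) ⁻¹ᵁ ((pullback.fst f j) ⁻¹ᵁ U)).ι := h2
    rw [sd_pullback_comp_iff f j (Spec.map β) U] at h3
    rw [hβj] at h3
    exact h3

end Groth.Agent.Helper5.SDens
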