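import Groth.Agent.Helper3.SchDense
import Mathlib

/-! Flat pullback of a quasi-compact schematically dense open (no noetherian hypothesis). -/

set_option autoImplicit false
universe u
open AlgebraicGeometry CategoryTheory CategoryTheory.Limits TopologicalSpace Opposite

namespace Groth.Agent.Helper5.SchDenseFlat

open Groth Groth.Agent.Helper3.SchDense

/-- a finite cover of a compact open of an affine open by basic opens -/
theorem finite_cover' {X : Scheme.{u}} {W : X.Opens} (hW : IsAffineOpen W)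
    (O : X.Opens) (hO : O ≤ W) (hc : IsCompact (O : Set X)) :
    ∃ T : Finset Γ(X, W), (∀ t ∈ T, X.basicOpen t ≤ O) ∧
      ∀ x ∈ O, ∃ t ∈ T, x ∈ X.basicOpen t := by
  have hex : ∀ x : O, ∃ f : Γ(X, W), X.basicOpen f ≤ O ∧ (x : X) ∈ X.basicOpen f :=
    fun x => hW.exists_basicOpen_le x (hO x.2)
  choose f hf1 hf2 using hex
  obtain ⟨F, hF⟩ := hc.elim_finite_subcover (fun x : O => (X.basicOpen (f x) : Set X))
    (fun x => (X.basicOpen (f x)).2) (fun x hx => Set.mem_iUnion.mpr ⟨⟨x, hx⟩, hf2 ⟨x, hx⟩⟩)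
  classical
  refine ⟨F.image f, ?_, ?_⟩
  · intro t ht
    obtain ⟨x, -, rfl⟩ := Finset.mem_image.mp ht
    exact hf1 x
  · intro x hx
    obtain ⟨y, hy⟩ := Set.mem_iUnion.mp (hF hx)
    obtain ⟨hyF, hxy⟩ := Set.mem_iUnion.mp hy
    exact ⟨f y, Finset.mem_image_of_mem f hyF, hxy⟩

theorem isCompact_inf_of_quasiCompact {X : Scheme.{u}} (V : X.Opens) [QuasiCompact V.ι]
    {W : X.Opens} (hW : IsAffineOpen W) : IsCompact ((W ⊓ V : X.Opens) : Set X) := by
  have h1 : IsCompact ((V.ι ⁻¹ᵁ W : V.toScheme.Opens) : Set V.toScheme) :=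
    (quasiCompact_iff_forall_isAffineOpen (f := V.ι)).1 inferInstance W hW
  have h2 := h1.image V.ι.continuous
  have e : (V.ι '' ((V.ι ⁻¹ᵁ W : V.toScheme.Opens) : Set V.toScheme)) =
      ((W ⊓ V : X.Opens) : Set X) := by
    show V.ι '' (V.ι ⁻¹' (W : Set X)) = (W : Set X) ∩ (V : Set X)
    rw [Set.image_preimage_eq_inter_range, Scheme.Opens.range_ι]
  rwa [e] at h2

set_option maxHeartbeats 800000 in
/-- the local statement -/
theorem local_flat' {X X' : Scheme.{u}} (f : X' ⟶ X) [Flat f] (V : X.Opens)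
    (hV : CInt.IsSchematicallyDense V) {W : X.Opens} (hW : IsAffineOpen W)
    (hc : IsCompact ((W ⊓ V : X.Opens) : Set X))
    {W' : X'.Opens} (hW' : IsAffineOpen W') (e : W' ≤ f ⁻¹ᵁ W)
    (a : Γ(X', W'))
    (ha : X'.presheaf.map (homOfLE (inf_le_left : W' ⊓ f ⁻¹ᵁ V ≤ W')).op a = 0) : a = 0 := by
  classical
  obtain ⟨T, hT1, hT2⟩ := finite_cover' hW (W ⊓ V) inf_le_left hc
  have hflat : (f.appLE W W' e).hom.Flat := f.flat_appLE hW hW' e
  letI : Algebra Γ(X, W) Γ(X', W') := (f.appLE W W' e).hom.toAlgebra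
  haveI : Module.Flat Γ(X, W) Γ(X', W') := hflat
  have hn : ∀ t : Γ(X, W), t ∈ T → ∃ n : ℕ, (f.appLE W W' e t) ^ n * a = 0 := by
    intro t ht
    apply exists_pow_mul_eq_zero hW'
    have hle : X'.basicOpen (f.appLE W W' e t) ≤ W' ⊓ f ⁻¹ᵁ V := by
      rw [Scheme.basicOpen_appLE]
      refine inf_le_inf_left _ ?_
      intro y hy
      exact (hT1 t ht hy).2
    have : X'.presheaf.map (homOfLE (X'.basicOpen_le (f.appLE W W' e t))).op a =
        X'.presheaf.map (homOfLE hle).op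
          (X'.presheaf.map (homOfLE (inf_le_left : W' ⊓ f ⁻¹ᵁ V ≤ W')).op a) := by
      show _ = (X'.presheaf.map (homOfLE (inf_le_left : W' ⊓ f ⁻¹ᵁ V ≤ W')).op ≫
          X'.presheaf.map (homOfLE hle).op) a
      rw [← Functor.map_comp]
      rfl
    rw [this, ha, map_zero]
  choose! n hn using hn
  let N := T.sup n
  have hN : ∀ t ∈ T, (f.appLE W W' e t) ^ N * a = 0 := by
    intro t ht
    have hle : n t ≤ N := Finset.le_sup ht
    rw [← Nat.sub_add_cancel hle, pow_add, mul_assoc, hn t ht, mul_zero]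
  refine flat_core (A := Γ(X, W)) (B := Γ(X', W')) (ι := ↥T) (fun i => (i : Γ(X, W)) ^ N) ?_ a ?_
  · intro r hr
    exact ann_trivial hV T hT2 N r (fun t ht => hr ⟨t, ht⟩)
  · intro i
    show (f.appLE W W' e) ((i : Γ(X, W)) ^ N) * a = 0
    rw [map_pow]
    exact hN i i.2

/-- flat pullback of a quasi-compact schematically dense open -/
theorem preimage_of_flat_of_quasiCompact {X X' : Scheme.{u}} (f : X' ⟶ X) [Flat f]
    (V : X.Opens) [QuasiCompact V.ι] (hV : CInt.IsSchematicallyDense V) :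
    CInt.IsSchematicallyDense (f ⁻¹ᵁ V) := by
  intro V'
  rw [injective_iff_map_eq_zero]
  intro a ha
  apply eq_zero_of_germ
  intro x' hx'
  obtain ⟨_, ⟨W, hW, rfl⟩, hxW, -⟩ := X.isBasis_affineOpens.exists_subset_of_mem_open
    (Set.mem_univ (f x')) isOpen_univ
  replace hW : IsAffineOpen W := hW
  have hx'2 : x' ∈ V' ⊓ f ⁻¹ᵁ W := ⟨hx', hxW⟩
  obtain ⟨_, ⟨W', hW', rfl⟩, hxW', hW'V : W' ≤ V' ⊓ f ⁻¹ᵁ W⟩ :=
    X'.isBasis_affineOpens.exists_subset_of_mem_open hx'2 (V' ⊓ f ⁻¹ᵁ W).2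
  replace hW' : IsAffineOpen W' := hW'
  have hW'V' : W' ≤ V' := hW'V.trans inf_le_left
  let aW : Γ(X', W') := X'.presheaf.map (homOfLE hW'V').op a
  have haW : aW = 0 := by
    apply local_flat' f V hV hW (isCompact_inf_of_quasiCompact V hW) hW' (hW'V.trans inf_le_right)
    have hle : W' ⊓ f ⁻¹ᵁ V ≤ V' ⊓ f ⁻¹ᵁ V := inf_le_inf_right _ hW'V'
    have : X'.presheaf.map (homOfLE (inf_le_left : W' ⊓ f ⁻¹ᵁ V ≤ W')).op aW =
        X'.presheaf.map (homOfLE hle).op
          (X'.presheaf.map (homOfLE (inf_le_left : V' ⊓ f ⁻¹ᵁ V ≤ V')).op a) := by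
      show (X'.presheaf.map (homOfLE hW'V').op ≫
          X'.presheaf.map (homOfLE (inf_le_left : W' ⊓ f ⁻¹ᵁ V ≤ W')).op) a =
        (X'.presheaf.map (homOfLE (inf_le_left : V' ⊓ f ⁻¹ᵁ V ≤ V')).op ≫
          X'.presheaf.map (homOfLE hle).op) a
      rw [← Functor.map_comp, ← Functor.map_comp]
      rfl
    rw [this, ha, map_zero]
  have e2 : X'.presheaf.germ W' x' hxW' aW = X'.presheaf.germ V' x' hx' a :=
    TopCat.Presheaf.germ_res_apply _ _ _ _ _
  rw [← e2, haW, map_zero]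

end Groth.Agent.Helper5.SchDenseFlat
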