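import Groth.Agent.Helper5.EtDense3
import Groth.Agent.Helper5.SchImg1
import Mathlib

/-! Scheme theoretically dense open subspaces: independence of the chart. -/

set_option autoImplicit false
universe u
open CategoryTheory CategoryTheory.Limits AlgebraicGeometry Opposite MorphismProperty

namespace Groth.Agent.Helper5.SchDenseSp

open AlgSp Groth.Agent.Helper5.EtDense

variable {S : Scheme.{u}}

/-- a point of a chart lies in the open of the chart cut out by `j` iff it factors through `j` -/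
theorem factor_iff_range_subset {F G : Sp S} (j : G ⟶ F) {V W' : Over S}
    (φ : (yon S).obj V ⟶ F) (w : W' ⟶ V) [IsOpenImmersion w.left]
    (fst : (yon S).obj W' ⟶ G) (sq : IsPullback fst ((yon S).map w) j φ) {T : Over S} (τ : T ⟶ V) :
    (∃ l : (yon S).obj T ⟶ G, l ≫ j = (yon S).map τ ≫ φ) ↔
      Set.range τ.left ⊆ Set.range w.left := by
  constructor
  · rintro ⟨l, hl⟩
    obtain ⟨τ', hτ'⟩ := (yon S).map_surjective (sq.lift l ((yon S).map τ) hl)
    have h1 : τ' ≫ w = τ := by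
      apply (yon S).map_injective
      rw [Functor.map_comp, hτ', sq.lift_snd]
    rw [← h1, Over.comp_left, Scheme.Hom.comp_base, TopCat.coe_comp, Set.range_comp]
    exact Set.image_subset_range _ _
  · intro h
    let l₀ : T.left ⟶ W'.left := IsOpenImmersion.lift w.left τ.left h
    have h1 : l₀ ≫ w.left = τ.left := IsOpenImmersion.lift_fac _ _ h
    have h2 : w.left ≫ V.hom = W'.hom := CategoryTheory.Over.w w
    have h3 : τ.left ≫ V.hom = T.hom := CategoryTheory.Over.w τ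
    have h4 : l₀ ≫ W'.hom = T.hom := by rw [← h2, ← Category.assoc, h1, h3]
    let τ' : T ⟶ W' := Over.homMk l₀ h4
    have h5 : τ' ≫ w = τ := by
      ext
      exact h1
    refine ⟨(yon S).map τ' ≫ fst, ?_⟩
    rw [Category.assoc, sq.w, ← Category.assoc, ← Functor.map_comp, h5]

set_option backward.isDefEq.respectTransparency.types false in
/-- comparison of the opens cut out by `j` on two charts, on the fibre product of the charts -/
theorem preimage_le_preimage {F G : Sp S} (j : G ⟶ F) {V₀ W₀ V W' P : Over S}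
    (φ₀ : (yon S).obj V₀ ⟶ F) (w₀ : W₀ ⟶ V₀) [IsOpenImmersion w₀.left]
    (fst₀ : (yon S).obj W₀ ⟶ G) (sq₀ : IsPullback fst₀ ((yon S).map w₀) j φ₀)
    (φ : (yon S).obj V ⟶ F) (w : W' ⟶ V) [IsOpenImmersion w.left]
    (fst : (yon S).obj W' ⟶ G) (sq : IsPullback fst ((yon S).map w) j φ)
    (g₀ : P ⟶ V₀) (g₁ : P ⟶ V) (hg : (yon S).map g₀ ≫ φ₀ = (yon S).map g₁ ≫ φ) :
    g₀.left ⁻¹ᵁ w₀.left.opensRange ≤ g₁.left ⁻¹ᵁ w.left.opensRange := by
  let O : P.left.Opens := g₀.left ⁻¹ᵁ w₀.left.opensRange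
  let T : Over S := Over.mk (O.ι ≫ P.hom)
  let τ : T ⟶ P := Over.homMk O.ι rfl
  have h1 : Set.range (τ ≫ g₀).left ⊆ Set.range w₀.left := by
    rintro _ ⟨x, rfl⟩
    have : (O.ι x) ∈ O := x.2
    exact this
  obtain ⟨l, hl⟩ := (factor_iff_range_subset j φ₀ w₀ fst₀ sq₀ (τ ≫ g₀)).2 h1
  have h2 : l ≫ j = (yon S).map (τ ≫ g₁) ≫ φ := by
    rw [hl, Functor.map_comp, Category.assoc, hg, Functor.map_comp, Category.assoc]
  have h3 := (factor_iff_range_subset j φ w fst sq (τ ≫ g₁)).1 ⟨l, h2⟩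
  intro p hp
  have : g₁.left p ∈ Set.range (τ ≫ g₁).left := ⟨⟨p, hp⟩, rfl⟩
  exact h3 this

set_option backward.isDefEq.respectTransparency.types false in
/-- Lemma A: scheme theoretic density can be tested on any étale chart. -/
theorem dense_of_chart {F G : Sp S} (j : G ⟶ F) (hj : IsSchDense j) {V W' : Over S}
    (φ : (yon S).obj V ⟶ F) (hφ : RepWith @Etale φ) (w : W' ⟶ V) [IsOpenImmersion w.left]
    (fst : (yon S).obj W' ⟶ G) (sq : IsPullback fst ((yon S).map w) j φ) :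
    CInt.IsSchematicallyDense w.left.opensRange := by
  obtain ⟨-, V₀, φ₀, W₀, fst₀, hφ₀, hφ₀s, sq₀, hW₀⟩ := hj
  obtain ⟨P, g₁, g₀', sqP⟩ := hφ₀.1 φ
  obtain ⟨g₀, rfl⟩ := (yon S).map_surjective g₀'
  have hg₁e : Etale g₁.left := hφ₀.2 _ _ _ sqP
  have hg₁s : Surjective g₁.left := hφ₀s.2 _ _ _ sqP
  have hg₀e : Etale g₀.left := hφ.2 _ _ _ sqP.flip
  let w₀ : Over.mk (W₀.ι ≫ V₀.hom) ⟶ V₀ := Over.homMk W₀.ι rfl
  haveI : IsOpenImmersion w₀.left := inferInstanceAs (IsOpenImmersion W₀.ι)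
  have hr : w₀.left.opensRange = W₀ := Scheme.Opens.opensRange_ι W₀
  have e1 : g₀.left ⁻¹ᵁ W₀ = g₁.left ⁻¹ᵁ w.left.opensRange := by
    apply le_antisymm
    · have := preimage_le_preimage j φ₀ w₀ fst₀ sq₀ φ w fst sq g₀ g₁ sqP.w
      rwa [hr] at this
    · have := preimage_le_preimage j φ w fst sq φ₀ w₀ fst₀ sq₀ g₁ g₀ sqP.w.symm
      rwa [hr] at this
  have h1 : CInt.IsSchematicallyDense (g₀.left ⁻¹ᵁ W₀) :=
    isSchematicallyDense_preimage_of_etale g₀.left W₀ hW₀
  rw [e1] at h1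
  exact isSchematicallyDense_of_preimage g₁.left _ h1

end Groth.Agent.Helper5.SchDenseSp
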