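import Groth.Agent.Helper5.OXSurj1
import Groth.Agent.Helper5.SchDenseSp1
import Groth.Agent.Helper5.SchImg3
import Mathlib

/-! Scheme theoretic density of an open subspace versus injectivity of `O_X ⟶ j_* O_U`. -/

set_option autoImplicit false
set_option linter.style.haveILetI false
universe u
open CategoryTheory CategoryTheory.Limits AlgebraicGeometry Opposite MorphismProperty

namespace Groth.Agent.Helper5.IdealEtChart

open AlgSp

/-- for an open immersion: schematic density of the range in terms of `app` -/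
theorem isSchematicallyDense_iff_app {X Y : Scheme.{u}} (f : X ⟶ Y) [IsOpenImmersion f] :
    CInt.IsSchematicallyDense f.opensRange ↔ ∀ U : Y.Opens, Function.Injective (f.app U) := by
  have key : ∀ U : Y.Opens, Function.Injective (f.app U) ↔
      Function.Injective (Y.presheaf.map (homOfLE (inf_le_left : U ⊓ f.opensRange ≤ U)).op) := by
    intro U
    have e : f.opensRange ⊓ U = U ⊓ f.opensRange := inf_comm _ _
    have h1 : Y.presheaf.map (homOfLE (inf_le_right : f.opensRange ⊓ U ≤ U)).op =
        Y.presheaf.map (homOfLE (inf_le_left : U ⊓ f.opensRange ≤ U)).op ≫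
          Y.presheaf.map (eqToHom e).op := by
      rw [← Functor.map_comp]
      rfl
    have h2 := IsOpenImmersion.map_ΓIso_inv f U
    rw [h1, Category.assoc] at h2
    rw [← h2]
    have hi : IsIso (Y.presheaf.map (eqToHom e).op ≫ (IsOpenImmersion.ΓIso f U).inv) :=
      inferInstance
    constructor
    · intro H a b hab
      apply H
      show (Y.presheaf.map (eqToHom e).op ≫ (IsOpenImmersion.ΓIso f U).inv)
        (Y.presheaf.map (homOfLE (inf_le_left : U ⊓ f.opensRange ≤ U)).op a) =
        (Y.presheaf.map (eqToHom e).op ≫ (IsOpenImmersion.ΓIso f U).inv)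
        (Y.presheaf.map (homOfLE (inf_le_left : U ⊓ f.opensRange ≤ U)).op b)
      rw [hab]
    · intro H a b hab
      apply H
      have hab' : (Y.presheaf.map (eqToHom e).op ≫ (IsOpenImmersion.ΓIso f U).inv)
          (Y.presheaf.map (homOfLE (inf_le_left : U ⊓ f.opensRange ≤ U)).op a) =
          (Y.presheaf.map (eqToHom e).op ≫ (IsOpenImmersion.ΓIso f U).inv)
          (Y.presheaf.map (homOfLE (inf_le_left : U ⊓ f.opensRange ≤ U)).op b) := hab
      exact (ConcreteCategory.bijective_of_isIso _).1 hab'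
  constructor
  · intro H U
    exact (key U).2 (H U)
  · intro H U
    exact (key U).1 (H U)

variable {S : Scheme.{u}}

theorem mono_iff_injective_app {X Y : Sp S} (f : X ⟶ Y) (hf : Representable f) :
    Mono (bcRingHom hf) ↔ ∀ E : EtOver Y, Function.Injective (EtOver.bcπ hf E).left.appTop.hom := by
  rw [Sheaf.Hom.mono_iff_presheaf_mono, NatTrans.mono_iff_mono_app]
  constructor
  · intro H E
    have h1 := H (op E)
    have h2 := (ConcreteCategory.mono_iff_injective_of_preservesPullback _).1 h1
    intro a b hab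
    have := @h2 (ULift.up a) (ULift.up b) (ULift.ext _ _ hab)
    exact congrArg ULift.down this
  · intro H E
    refine (ConcreteCategory.mono_iff_injective_of_preservesPullback _).2 ?_
    intro a b hab
    apply ULift.ext
    apply H E.unop
    exact congrArg ULift.down hab

theorem injective_map_eqToHom {A : Scheme.{u}} {O₁ O₂ : A.Opens} (e : O₁ = O₂) :
    Function.Injective (A.presheaf.map (eqToHom e).op) := by
  subst e
  intro a b hab
  have h : A.presheaf.map (eqToHom (rfl : O₁ = O₁)).op = 𝟙 _ := by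
    rw [eqToHom_refl, op_id, A.presheaf.map_id]
  rw [h] at hab
  exact hab

theorem injective_app_of_eq_top {A B : Scheme.{u}} (w : A ⟶ B) (H : Function.Injective w.appTop)
    (O : B.Opens) (hO : O = ⊤) : Function.Injective (w.app O) := by
  subst hO
  exact H

set_option backward.isDefEq.respectTransparency.types false in
/-- S9986 -/
theorem s9986 {U X : Sp S} (hX : IsAlgSpace X) (j : U ⟶ X) (hj : RepWith @IsOpenImmersion j) :
    IsSchDense j ↔ Mono (bcRingHom hj.1) := by
  rw [mono_iff_injective_app]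
  constructor
  · intro H E
    haveI : IsOpenImmersion (EtOver.bcπ hj.1 E).left :=
      hj.2 _ _ _ (EtOver.isPullback_bcObj hj.1 E)
    have hd := Groth.Agent.Helper5.SchDenseSp.dense_of_chart j H E.obj.hom E.property
      (EtOver.bcπ hj.1 E) (EtOver.bcObj hj.1 E).obj.hom (EtOver.isPullback_bcObj hj.1 E)
    exact (isSchematicallyDense_iff_app _).1 hd ⊤
  · intro H
    obtain ⟨V, φ, hφ, hφs⟩ := hX.atlas
    let EV : EtOver X := EtOver.mk φ hφ
    haveI : IsOpenImmersion (EtOver.bcπ hj.1 EV).left :=
      hj.2 _ _ _ (EtOver.isPullback_bcObj hj.1 EV)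
    refine Groth.Agent.Helper5.SchImg.isSchDense_of_chart j hj φ hφ hφs (EtOver.bcπ hj.1 EV)
      (EtOver.bcObj hj.1 EV).obj.hom (EtOver.isPullback_bcObj hj.1 EV) ?_
    rw [isSchematicallyDense_iff_app]
    intro O
    let E' : EtOver X := chartObj φ hφ O
    let g : E' ⟶ EV := EtOver.homMk (Over.homMk O.ι rfl : Over.mk (O.ι ≫ V.hom) ⟶ V) rfl
    have sq := EtOver.isPullback_bcMap_left hj.1 g
    have hw : (EtOver.bcMap hj.1 g).hom.left.left ≫ (EtOver.bcπ hj.1 EV).left =
        (EtOver.bcπ hj.1 E').left ≫ O.ι := sq.w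
    have h1 := Scheme.Hom.congr_app hw O
    rw [Scheme.Hom.comp_app, Scheme.Hom.comp_app] at h1
    have hinj : Function.Injective ((O.ι.app O ≫ (EtOver.bcπ hj.1 E').left.app (O.ι ⁻¹ᵁ O))) := by
      haveI : IsIso (O.ι.app O) := Scheme.Hom.isIso_app O.ι O (by rw [Scheme.Opens.opensRange_ι])
      have h2 : Function.Injective ((EtOver.bcπ hj.1 E').left.app (O.ι ⁻¹ᵁ O)) :=
        injective_app_of_eq_top _ (H E') _ (Scheme.Opens.ι_preimage_self O)
      intro a b hab
      exact (ConcreteCategory.bijective_of_isIso (O.ι.app O)).1 (h2 hab)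
    intro a b hab
    have h6 : (ConcreteCategory.hom ((EtOver.bcπ hj.1 EV).left.app O ≫
        (EtOver.bcMap hj.1 g).hom.left.left.app ((EtOver.bcπ hj.1 EV).left ⁻¹ᵁ O))) a =
        (ConcreteCategory.hom ((EtOver.bcπ hj.1 EV).left.app O ≫
        (EtOver.bcMap hj.1 g).hom.left.left.app ((EtOver.bcπ hj.1 EV).left ⁻¹ᵁ O))) b := by
      show ((EtOver.bcMap hj.1 g).hom.left.left.app ((EtOver.bcπ hj.1 EV).left ⁻¹ᵁ O))
          ((EtOver.bcπ hj.1 EV).left.app O a) =
        ((EtOver.bcMap hj.1 g).hom.left.left.app ((EtOver.bcπ hj.1 EV).left ⁻¹ᵁ O))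
          ((EtOver.bcπ hj.1 EV).left.app O b)
      rw [hab]
    rw [h1] at h6
    exact hinj (injective_map_eqToHom _ h6)

end Groth.Agent.Helper5.IdealEtChart
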