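import Groth.Agent.Helper5.SchDenseSp1
import Mathlib

/-! Intersections of scheme theoretically dense open subspaces. -/

set_option autoImplicit false
universe u
open CategoryTheory CategoryTheory.Limits AlgebraicGeometry Opposite MorphismProperty

namespace Groth.Agent.Helper5.SchDenseSp

open AlgSp Groth.Agent.Helper5.EtDense Groth.Agent.Helper5.GeomFibSp

variable {S : Scheme.{u}}

/-- intersection of schematically dense opens of a scheme -/
theorem inter_dense {X : Scheme.{u}} {U₁ U₂ : X.Opens} (h₁ : CInt.IsSchematicallyDense U₁)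
    (h₂ : CInt.IsSchematicallyDense U₂) : CInt.IsSchematicallyDense (U₁ ⊓ U₂) := by
  intro V'
  rw [injective_iff_map_eq_zero]
  intro a ha
  apply (injective_iff_map_eq_zero _).1 (h₁ V')
  apply (injective_iff_map_eq_zero _).1 (h₂ (V' ⊓ U₁))
  have hle : V' ⊓ U₁ ⊓ U₂ ≤ V' ⊓ (U₁ ⊓ U₂) := by rw [inf_assoc]
  have : X.presheaf.map (homOfLE (inf_le_left : V' ⊓ U₁ ⊓ U₂ ≤ V' ⊓ U₁)).op
      (X.presheaf.map (homOfLE (inf_le_left : V' ⊓ U₁ ≤ V')).op a) =
      X.presheaf.map (homOfLE hle).op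
        (X.presheaf.map (homOfLE (inf_le_left : V' ⊓ (U₁ ⊓ U₂) ≤ V')).op a) := by
    show (X.presheaf.map (homOfLE (inf_le_left : V' ⊓ U₁ ≤ V')).op ≫
        X.presheaf.map (homOfLE (inf_le_left : V' ⊓ U₁ ⊓ U₂ ≤ V' ⊓ U₁)).op) a =
      (X.presheaf.map (homOfLE (inf_le_left : V' ⊓ (U₁ ⊓ U₂) ≤ V')).op ≫
        X.presheaf.map (homOfLE hle).op) a
    rw [← Functor.map_comp, ← Functor.map_comp]
    rfl
  rw [this, ha, map_zero]

/-- the intersection of an open with the range of an open immersion as a fibre product -/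
theorem isPullback_inf_range {V₁ W₂ : Scheme.{u}} (W₁ : V₁.Opens) (w₂ : W₂ ⟶ V₁)
    [IsOpenImmersion w₂] :
    ∃ (b : (W₁ ⊓ w₂.opensRange : V₁.Opens).toScheme ⟶ W₂),
      b ≫ w₂ = (W₁ ⊓ w₂.opensRange).ι ∧
      IsPullback b (V₁.homOfLE (inf_le_left : W₁ ⊓ w₂.opensRange ≤ W₁)) w₂ W₁.ι := by
  have hr : Set.range (W₁ ⊓ w₂.opensRange).ι ⊆ Set.range w₂ := by
    rw [Scheme.Opens.range_ι]
    exact fun x hx => hx.2
  refine ⟨IsOpenImmersion.lift w₂ (W₁ ⊓ w₂.opensRange).ι hr, IsOpenImmersion.lift_fac _ _ hr, ?_⟩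
  apply IsOpenImmersion.isPullback
  · rw [IsOpenImmersion.lift_fac, Scheme.homOfLE_ι]
  · rw [Scheme.opensRange_homOfLE]
    ext x
    simp

set_option backward.isDefEq.respectTransparency.types false in
/-- S9970 -/
theorem s9970 {U V X P : Sp S} (jU : U ⟶ X) (jV : V ⟶ X)
    (hU : IsSchDense jU) (hV : IsSchDense jV) (fst : P ⟶ U) (snd : P ⟶ V)
    (sq : IsPullback fst snd jU jV) : IsSchDense (fst ≫ jU) := by
  have hoiU := hU.1
  have hoiV := hV.1
  obtain ⟨-, V₁, φ₁, W₁, fst₁, hφ₁, hφ₁s, sq₁, hW₁⟩ := hU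
  obtain ⟨W₂, w₂, fst₂, sq₂⟩ := hoiV.1 φ₁
  haveI hw₂ : IsOpenImmersion w₂.left := hoiV.2 _ _ _ sq₂
  have hW₂ : CInt.IsSchematicallyDense w₂.left.opensRange :=
    dense_of_chart jV hV φ₁ hφ₁ w₂ fst₂ sq₂
  let O : V₁.left.Opens := W₁ ⊓ w₂.left.opensRange
  have hO : CInt.IsSchematicallyDense O := inter_dense hW₁ hW₂
  obtain ⟨b₀, hb₀, sqO₀⟩ := isPullback_inf_range W₁ w₂.left
  let OO : Over S := Over.mk (O.ι ≫ V₁.hom)
  let WW₁ : Over S := Over.mk (W₁.ι ≫ V₁.hom)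
  let w₁ : WW₁ ⟶ V₁ := Over.homMk W₁.ι rfl
  let ιO : OO ⟶ V₁ := Over.homMk O.ι rfl
  have hOle : O ≤ W₁ := inf_le_left
  let a : OO ⟶ WW₁ := Over.homMk (V₁.left.homOfLE hOle) (by
    show V₁.left.homOfLE hOle ≫ W₁.ι ≫ V₁.hom = O.ι ≫ V₁.hom
    rw [← Category.assoc, Scheme.homOfLE_ι])
  have hw₂hom : w₂.left ≫ V₁.hom = W₂.hom := CategoryTheory.Over.w w₂
  let b : OO ⟶ W₂ := Over.homMk b₀ (by
    show b₀ ≫ W₂.hom = O.ι ≫ V₁.hom
    rw [← hw₂hom, ← Category.assoc, hb₀])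
  have haw : a ≫ w₁ = ιO := by
    ext
    exact Scheme.homOfLE_ι _ hOle
  have hbw : b ≫ w₂ = ιO := by
    ext
    exact hb₀
  have sqO : IsPullback b a w₂ w₁ := by
    apply isPullback_of_left
    · rw [haw, hbw]
    · exact sqO₀
  have sqOy := sqO.map (yon S)
  -- paste with `sq₂`
  have big : IsPullback ((yon S).map b ≫ fst₂) ((yon S).map a) jV ((yon S).map w₁ ≫ φ₁) :=
    sqOy.paste_horiz sq₂
  rw [← sq₁.w] at big
  have hcomm : ((yon S).map a ≫ fst₁) ≫ jU = ((yon S).map b ≫ fst₂) ≫ jV := by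
    rw [Category.assoc, sq₁.w, Category.assoc, sq₂.w, ← Category.assoc, ← Category.assoc,
      ← Functor.map_comp, ← Functor.map_comp, haw, hbw]
  let fst' : (yon S).obj OO ⟶ P := sq.lift ((yon S).map a ≫ fst₁) ((yon S).map b ≫ fst₂) hcomm
  have left : IsPullback fst' ((yon S).map a) fst fst₁ := by
    refine IsPullback.of_right ?_ (sq.lift_fst _ _ _) sq.flip
    rw [sq.lift_snd]
    exact big
  have tot := left.paste_vert sq₁
  rw [← Functor.map_comp, haw] at tot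
  exact ⟨Groth.Agent.Helper4.AlgSpSrc.repWith_comp @IsOpenImmersion
      ((RepWith (S := S) @IsOpenImmersion).of_isPullback sq.flip hoiV) hoiU,
    V₁, φ₁, O, fst', hφ₁, hφ₁s, tot, hO⟩

end Groth.Agent.Helper5.SchDenseSp
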