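import Groth.Agent.Helper5.SchDenseSp2
import Groth.Agent.Helper5.SchDenseFlat1
import Groth.Agent.Helper4.AlgSpQC
import Mathlib

/-! Flat pullback of quasi-compact scheme theoretically dense open subspaces. -/

set_option autoImplicit false
universe u
open CategoryTheory CategoryTheory.Limits AlgebraicGeometry Opposite MorphismProperty

namespace Groth.Agent.Helper5.SchDenseSp

open AlgSp Groth.Agent.Helper5.EtDense Groth.Agent.Helper5.GeomFibSp

variable {S : Scheme.{u}}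

set_option backward.isDefEq.respectTransparency.types false in
/-- Lemma C: the open cut out on a chart of the source by the base change of `j`. -/
theorem exists_isPullback_preimage {F G F' G' : Sp S} (j : G ⟶ F) (f : F' ⟶ F) (fst : G' ⟶ G)
    (jX : G' ⟶ F') (sq : IsPullback fst jX j f)
    {V₀ W₀ U : Over S} (φ₀ : (yon S).obj V₀ ⟶ F) (w₀ : W₀ ⟶ V₀) [IsOpenImmersion w₀.left]
    (fst₀ : (yon S).obj W₀ ⟶ G) (sq₀ : IsPullback fst₀ ((yon S).map w₀) j φ₀)
    (u : (yon S).obj U ⟶ F') (g : U ⟶ V₀) (hug : u ≫ f = (yon S).map g ≫ φ₀) :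
    ∃ fstU : (yon S).obj (Over.mk ((g.left ⁻¹ᵁ w₀.left.opensRange).ι ≫ U.hom)) ⟶ G',
      IsPullback fstU ((yon S).map (Over.homMk (g.left ⁻¹ᵁ w₀.left.opensRange).ι rfl :
        Over.mk ((g.left ⁻¹ᵁ w₀.left.opensRange).ι ≫ U.hom) ⟶ U)) jX u := by
  let O : U.left.Opens := g.left ⁻¹ᵁ w₀.left.opensRange
  have hr : Set.range (O.ι ≫ g.left) ⊆ Set.range w₀.left := by
    rintro _ ⟨x, rfl⟩
    exact x.2
  let b₀ : O.toScheme ⟶ W₀.left := IsOpenImmersion.lift w₀.left (O.ι ≫ g.left) hr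
  have hb₀ : b₀ ≫ w₀.left = O.ι ≫ g.left := IsOpenImmersion.lift_fac _ _ hr
  have sqO₀ : IsPullback b₀ O.ι w₀.left g.left := by
    apply IsOpenImmersion.isPullback
    · exact hb₀.symm
    · rw [Scheme.Opens.opensRange_ι]
  let OO : Over S := Over.mk (O.ι ≫ U.hom)
  let ιO : OO ⟶ U := Over.homMk O.ι rfl
  have hw₀hom : w₀.left ≫ V₀.hom = W₀.hom := CategoryTheory.Over.w w₀
  have hghom : g.left ≫ V₀.hom = U.hom := CategoryTheory.Over.w g
  let b : OO ⟶ W₀ := Over.homMk b₀ (by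
    show b₀ ≫ W₀.hom = O.ι ≫ U.hom
    rw [← hw₀hom, ← Category.assoc, hb₀, Category.assoc, hghom])
  have hcomm : b ≫ w₀ = ιO ≫ g := by
    ext
    exact hb₀
  have sqO : IsPullback b ιO w₀ g := isPullback_of_left hcomm sqO₀
  have sqOy := sqO.map (yon S)
  have big : IsPullback ((yon S).map b ≫ fst₀) ((yon S).map ιO) j ((yon S).map g ≫ φ₀) :=
    sqOy.paste_horiz sq₀
  rw [← hug] at big
  have hc : ((yon S).map b ≫ fst₀) ≫ j = ((yon S).map ιO ≫ u) ≫ f := by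
    rw [Category.assoc _ u f]
    exact big.w
  let fstU : (yon S).obj OO ⟶ G' := sq.lift ((yon S).map b ≫ fst₀) ((yon S).map ιO ≫ u) hc
  refine ⟨fstU, ?_⟩
  refine IsPullback.of_right ?_ (sq.lift_snd _ _ _) sq
  rw [sq.lift_fst]
  exact big

set_option backward.isDefEq.respectTransparency.types false in
/-- S9973 -/
theorem s9973 {X Y V V' : Sp S} (hX : IsAlgSpace X) (hY : IsAlgSpace Y) (f : X ⟶ Y)
    (hf : LocP @Flat f) (j : V ⟶ Y) (hj : IsSchDense j) (hjq : IsQuasiCompactMor j)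
    (fst : V' ⟶ V) (jX : V' ⟶ X) (sq : IsPullback fst jX j f) : IsSchDense jX := by
  obtain ⟨V₀, φ₀, hφ₀, hφ₀s⟩ := hY.atlas
  obtain ⟨W₀, w₀, fst₀, sq₀⟩ := hj.1.1 φ₀
  haveI hw₀ : IsOpenImmersion w₀.left := hj.1.2 _ _ _ sq₀
  have hqc : QuasiCompact w₀.left :=
    (Groth.Agent.Helper4.AlgSpQC.repWith_of_isQuasiCompactMor j hj.1.1 hjq).2 _ _ _ sq₀
  have hd : CInt.IsSchematicallyDense w₀.left.opensRange :=
    dense_of_chart j hj φ₀ hφ₀ w₀ fst₀ sq₀
  haveI : QuasiCompact w₀.left.opensRange.ι := by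
    rw [← Scheme.Hom.isoOpensRange_inv_comp w₀.left]
    infer_instance
  obtain ⟨U₀, q, hq, hqs⟩ := hX.atlas
  obtain ⟨U, t, g', sqU⟩ := hφ₀.1 (q ≫ f)
  have hte : Etale t.left := hφ₀.2 _ _ _ sqU
  have hts : Surjective t.left := hφ₀s.2 _ _ _ sqU
  obtain ⟨g, rfl⟩ := (yon S).map_surjective g'
  let u : (yon S).obj U ⟶ X := (yon S).map t ≫ q
  have hu : RepWith @Etale u :=
    Groth.Agent.Helper4.AlgSpSrc.repWith_comp @Etale ((repWith_yon_map_iff _ t).2 hte) hq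
  have hus : RepWith @Surjective u :=
    Groth.Agent.Helper4.AlgSpSrc.repWith_comp @Surjective ((repWith_yon_map_iff _ t).2 hts) hqs
  have huf : u ≫ f = (yon S).map g ≫ φ₀ := by
    show ((yon S).map t ≫ q) ≫ f = _
    rw [Category.assoc, sqU.w]
  haveI hgf : Flat g.left := hf u φ₀ g hu hφ₀ huf
  have hdU : CInt.IsSchematicallyDense (g.left ⁻¹ᵁ w₀.left.opensRange) :=
    Groth.Agent.Helper5.SchDenseFlat.preimage_of_flat_of_quasiCompact g.left _ hd
  obtain ⟨fstU, pb⟩ := exists_isPullback_preimage j f fst jX sq φ₀ w₀ fst₀ sq₀ u g huf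
  exact ⟨(RepWith (S := S) @IsOpenImmersion).of_isPullback sq hj.1,
    U, u, _, fstU, hu, hus, pb, hdU⟩

end Groth.Agent.Helper5.SchDenseSp
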