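import Groth.Agent.S9726
import Groth.Agent.Helper5.PbEpi
import Groth.Agent.Helper5.AffDesc7
import Groth.Agent.Helper5.EtGlue
import Mathlib

/-!
# Descent of separated locally quasi-finite schemes along fppf coverings, sheaf form

Let `c : T' ⟶ T` be an fppf covering of schemes over `S`, `π : P ⟶ h_T` a morphism of fppf sheaves
whose base change to `T'` is a scheme `V` separated, locally quasi-finite and locally of finite
type over `T'`.  Then `P` is a scheme.  (Via the landed effectivity of descent data `S9726`.)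
-/

set_option autoImplicit false
universe u
open CategoryTheory CategoryTheory.Limits AlgebraicGeometry Opposite

namespace Groth.Agent.Helper5.SchDesc

open AlgSp Groth.Agent.Helper4

variable {S : Scheme.{u}} {T T' V : Over S} (c : T' ⟶ T) (v : V ⟶ T') {P : Sp S}
  (π : P ⟶ (yon S).obj T) (a : (yon S).obj V ⟶ P)

/-- two `Z`-points of `V` (over the same `σ : Z ⟶ S`) with the same image in `P` -/
def Rel {Z : Scheme.{u}} (σ : Z ⟶ S) (z₀ z₁ : Z ⟶ V.left) : Prop :=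
  ∃ (h₀ : z₀ ≫ V.hom = σ) (h₁ : z₁ ≫ V.hom = σ),
    (yon S).map (Over.homMk z₀ h₀ : Over.mk σ ⟶ V) ≫ a =
      (yon S).map (Over.homMk z₁ h₁ : Over.mk σ ⟶ V) ≫ a

variable {a}

theorem Rel.refl {Z : Scheme.{u}} {σ : Z ⟶ S} (z : Z ⟶ V.left) (h : z ≫ V.hom = σ) :
    Rel a σ z z := ⟨h, h, rfl⟩

theorem Rel.symm {Z : Scheme.{u}} {σ : Z ⟶ S} {z₀ z₁ : Z ⟶ V.left} (h : Rel a σ z₀ z₁) :
    Rel a σ z₁ z₀ := by
  obtain ⟨h₀, h₁, e⟩ := h
  exact ⟨h₁, h₀, e.symm⟩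

theorem Rel.trans {Z : Scheme.{u}} {σ σ' : Z ⟶ S} {z₀ z₁ z₂ : Z ⟶ V.left} (h : Rel a σ z₀ z₁)
    (h' : Rel a σ' z₁ z₂) : Rel a σ z₀ z₂ := by
  obtain ⟨h₀, h₁, e⟩ := h
  obtain ⟨h₁', h₂, e'⟩ := h'
  have : σ = σ' := h₁.symm.trans h₁'
  subst this
  exact ⟨h₀, h₂, e.trans e'⟩

theorem Rel.precomp {Z Z' : Scheme.{u}} {σ : Z ⟶ S} {z₀ z₁ : Z ⟶ V.left} (g : Z' ⟶ Z)
    (h : Rel a σ z₀ z₁) : Rel a (g ≫ σ) (g ≫ z₀) (g ≫ z₁) := by
  obtain ⟨h₀, h₁, e⟩ := h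
  have k₀ : (g ≫ z₀) ≫ V.hom = g ≫ σ := by rw [Category.assoc, h₀]
  have k₁ : (g ≫ z₁) ≫ V.hom = g ≫ σ := by rw [Category.assoc, h₁]
  refine ⟨k₀, k₁, ?_⟩
  let g' : Over.mk (g ≫ σ) ⟶ Over.mk σ := Over.homMk g rfl
  have e0 : (Over.homMk (g ≫ z₀) k₀ : Over.mk (g ≫ σ) ⟶ V) =
      g' ≫ Over.homMk z₀ h₀ := by ext; rfl
  have e1 : (Over.homMk (g ≫ z₁) k₁ : Over.mk (g ≫ σ) ⟶ V) =
      g' ≫ Over.homMk z₁ h₁ := by ext; rfl
  rw [e0, e1, Functor.map_comp, Functor.map_comp, Category.assoc, Category.assoc, e]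

variable {c v π}

theorem Rel.eq_of (sq : IsPullback a ((yon S).map v) π ((yon S).map c)) {Z : Scheme.{u}}
    {σ : Z ⟶ S} {z₀ z₁ : Z ⟶ V.left} (h : Rel a σ z₀ z₁) (hv : z₀ ≫ v.left = z₁ ≫ v.left) :
    z₀ = z₁ := by
  obtain ⟨h₀, h₁, e⟩ := h
  have h2 : (yon S).map (Over.homMk z₀ h₀ : Over.mk σ ⟶ V) =
      (yon S).map (Over.homMk z₁ h₁ : Over.mk σ ⟶ V) := by
    apply sq.hom_ext e
    rw [← Functor.map_comp, ← Functor.map_comp]
    congr 1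
    ext
    exact hv
  have h3 := (yon S).map_injective h2
  exact congrArg (fun k => k.left) h3

theorem Rel.exists (sq : IsPullback a ((yon S).map v) π ((yon S).map c)) {Z : Scheme.{u}}
    {σ : Z ⟶ S} (z₀ : Z ⟶ V.left) (h₀ : z₀ ≫ V.hom = σ) (x₁ : Z ⟶ T'.left)
    (hx : (z₀ ≫ v.left) ≫ c.left = x₁ ≫ c.left) :
    ∃ z₁ : Z ⟶ V.left, z₁ ≫ v.left = x₁ ∧ Rel a σ z₀ z₁ := by
  have hx₁ : x₁ ≫ T'.hom = σ := by
    rw [← Over.w c, ← Category.assoc, ← hx, Category.assoc, Category.assoc, Over.w c, Over.w v, h₀]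
  let z₀' : Over.mk σ ⟶ V := Over.homMk z₀ h₀
  let x₁' : Over.mk σ ⟶ T' := Over.homMk x₁ hx₁
  have hcomm : ((yon S).map z₀' ≫ a) ≫ π = (yon S).map x₁' ≫ (yon S).map c := by
    rw [Category.assoc, sq.w, ← Functor.map_comp, ← Functor.map_comp, ← Functor.map_comp]
    congr 1
    ext
    simpa [z₀', x₁'] using hx
  let l := sq.lift ((yon S).map z₀' ≫ a) ((yon S).map x₁') hcomm
  have hl1 : l ≫ a = (yon S).map z₀' ≫ a := sq.lift_fst _ _ _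
  have hl2 : l ≫ (yon S).map v = (yon S).map x₁' := sq.lift_snd _ _ _
  let z₁' : Over.mk σ ⟶ V := (yon S).preimage l
  have hz₁' : (yon S).map z₁' = l := (yon S).map_preimage l
  have hv1 : z₁' ≫ v = x₁' := by
    apply (yon S).map_injective
    rw [Functor.map_comp, hz₁', hl2]
  refine ⟨z₁'.left, ?_, h₀, Over.w z₁', ?_⟩
  · exact congrArg (fun k => k.left) hv1
  · have : (Over.homMk z₁'.left (Over.w z₁') : Over.mk σ ⟶ V) = z₁' := by ext; rfl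
    rw [this, hz₁', hl1]

end Groth.Agent.Helper5.SchDesc
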