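import Groth.Agent.Helper5.SchDesc7
import Groth.Agent.Helper5.YonCoprod
import Groth.Agent.Helper5.QuotEff5
import Mathlib

set_option autoImplicit false
universe u
open CategoryTheory CategoryTheory.Limits AlgebraicGeometry Opposite

namespace Groth.Agent.Helper5.SchDesc

open AlgSp Groth.Agent.Helper4 Groth.Agent.Helper5.YonCoprod

variable {S : Scheme.{u}}

set_option backward.isDefEq.respectTransparency.types false in
/-- sections lift along an epimorphism of fppf sheaves over a single fppf covering -/
theorem exists_fppf_cover_lift {F G : Sp S} (q : F ⟶ G) [Epi q] {T : Over S}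
    (a : (yon S).obj T ⟶ G) :
    ∃ (T' : Over S) (c : T' ⟶ T) (a' : (yon S).obj T' ⟶ F), Flat c.left ∧
      LocallyOfFinitePresentation c.left ∧ Surjective c.left ∧ a' ≫ q = (yon S).map c ≫ a := by
  obtain ⟨R', hR', hlift⟩ := Groth.Agent.Helper5.QuotEff.loc_lift q a
  choose W g hg hrange hfl hlfp using fun t : T.left =>
    Groth.Agent.Helper5.QuotEff.exists_fppf_of_mem_J R' hR' t
  choose a'' ha'' using fun t : T.left => hlift (g t) (hg t)
  let c : sigmaOver W ⟶ T := Over.homMk (Sigma.desc (fun t => (g t).left)) (by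
    apply Sigma.hom_ext
    intro t
    simp [sigmaOver])
  have hc : ∀ t, sigmaι W t ≫ c = g t := by
    intro t
    ext
    show Sigma.ι (fun j => (W j).left) t ≫ Sigma.desc (fun t => (g t).left) = (g t).left
    exact Sigma.ι_desc _ _
  let a' : (yon S).obj (sigmaOver W) ⟶ F :=
    Cofan.IsColimit.desc (isColimitCofan W) (fun t => a'' t)
  have ha' : ∀ t, (yon S).map (sigmaι W t) ≫ a' = a'' t := fun t =>
    Cofan.IsColimit.fac (isColimitCofan W) _ t
  refine ⟨sigmaOver W, c, a', ?_, ?_, ⟨fun t => ?_⟩, ?_⟩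
  · show Flat (Sigma.desc (fun t => (g t).left))
    exact IsZariskiLocalAtSource.sigmaDesc (P := @Flat) (fun t => hfl t)
  · show LocallyOfFinitePresentation (Sigma.desc (fun t => (g t).left))
    exact IsZariskiLocalAtSource.sigmaDesc (P := @LocallyOfFinitePresentation) (fun t => hlfp t)
  · obtain ⟨y, hy⟩ := hrange t
    refine ⟨(Sigma.ι (fun t => (W t).left) t) y, ?_⟩
    show (Sigma.desc (fun t => (g t).left)) ((Sigma.ι (fun t => (W t).left) t) y) = t
    rw [← Scheme.Hom.comp_apply, Sigma.ι_desc]
    exact hy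
  · apply Cofan.IsColimit.hom_ext (isColimitCofan W)
    intro t
    show (yon S).map (sigmaι W t) ≫ a' ≫ q = (yon S).map (sigmaι W t) ≫ (yon S).map c ≫ a
    rw [← Category.assoc, ha', ha'', ← Category.assoc, ← Functor.map_comp, hc]

end Groth.Agent.Helper5.SchDesc
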