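import Groth.Agent.Helper5.SchDesc10
import Mathlib

set_option autoImplicit false
universe u
open CategoryTheory CategoryTheory.Limits AlgebraicGeometry Opposite

namespace Groth.Agent.Helper5.SchDesc

open AlgSp Groth.Agent.Helper4

variable {S : Scheme.{u}}

set_option backward.isDefEq.respectTransparency.types false in
set_option maxHeartbeats 1600000 in
/-- the equalizer of two sections of a sheaf `F` with a map `p` from an algebraic space along which
sections lift fppf locally and whose base changes to schemes are algebraic spaces locally of finite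
type, is a scheme -/
theorem exists_iso_equalizer_of {F : Sp S} (X : Space S) (p : X.obj ⟶ F)
    (hlift : ∀ ⦃T : Over S⦄ (ξ : (yon S).obj T ⟶ F), ∃ (T' : Over S) (c : T' ⟶ T)
      (x : (yon S).obj T' ⟶ X.obj), Flat c.left ∧ LocallyOfFinitePresentation c.left ∧
        Surjective c.left ∧ x ≫ p = (yon S).map c ≫ ξ)
    (hpb : ∀ ⦃T' : Over S⦄ (x₁ : (yon S).obj T' ⟶ X.obj), ∃ (Y : Sp S)
      (pr₁ : Y ⟶ (yon S).obj T') (pr₂ : Y ⟶ X.obj), IsPullback pr₁ pr₂ (x₁ ≫ p) p ∧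
        IsAlgSpace Y ∧ LocP @LocallyOfFiniteType pr₁)
    {T : Over S} (a b : (yon S).obj T ⟶ F) :
    ∃ (W : Over S) (w : W ⟶ T) (e : (yon S).obj W ≅ equalizer a b),
      e.hom ≫ equalizer.ι a b = (yon S).map w := by
  obtain ⟨T₁, c₁, x₁', f1, l1, s1, e1⟩ := hlift a
  obtain ⟨T', c₂, x₂, f2, l2, s2, e2⟩ := hlift ((yon S).map c₁ ≫ b)
  obtain ⟨c, hc⟩ : ∃ c : T' ⟶ T, c = c₂ ≫ c₁ := ⟨_, rfl⟩
  haveI : Flat c.left := by rw [hc]; exact (inferInstance : Flat (c₂.left ≫ c₁.left))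
  haveI : LocallyOfFinitePresentation c.left := by
    rw [hc]; exact (inferInstance : LocallyOfFinitePresentation (c₂.left ≫ c₁.left))
  haveI : Surjective c.left := by
    rw [hc]; exact (inferInstance : Surjective (c₂.left ≫ c₁.left))
  obtain ⟨x₁, hx₁⟩ : ∃ x₁ : (yon S).obj T' ⟶ X.obj, x₁ = (yon S).map c₂ ≫ x₁' := ⟨_, rfl⟩
  have h₁ : x₁ ≫ p = (yon S).map c ≫ a := by
    rw [hx₁, hc, Category.assoc, e1, Functor.map_comp, Category.assoc]
  have h₂ : x₂ ≫ p = (yon S).map c ≫ b := by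
    rw [e2, hc, Functor.map_comp, Category.assoc]
  obtain ⟨Y, pr₁, pr₂, sqY, hY, h2⟩ := hpb x₁
  obtain ⟨k, sqk⟩ := isPullback_equalizer_lift p a b c x₁ x₂ h₁ h₂ pr₁ pr₂ sqY
  -- the equalizer upstairs is an algebraic space
  have sqΔ := isPullback_equalizer_prod pr₂ (pr₁ ≫ x₂)
  have hXX : IsAlgSpace (X.obj ⨯ X.obj) :=
    Groth.Agent.Helper5.GeomConnSp5.isAlgSpace_prod X.property X.property
  have hP : IsAlgSpace (equalizer pr₂ (pr₁ ≫ x₂)) :=
    AlgSpPB.isAlgSpace_of_isPullback hXX.diag hY X.property _ _ _ _ sqΔ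
  have hΔ : RepWith @LocallyOfFiniteType (Limits.diag X.obj) :=
    (AlgSpDiag.repWith_diag_iff _ _).2 (AlgSpDiag.diagonal_terminal_properties X.property).1
  have hι : RepWith @LocallyOfFiniteType (equalizer.ι pr₂ (pr₁ ≫ x₂)) :=
    (repWith_isStableUnderBaseChange (S := S) @LocallyOfFiniteType).of_isPullback sqΔ.flip hΔ
  have hG := SDClasses.good_lft.{u}
  have h1 : LocP @LocallyOfFiniteType (equalizer.ι pr₂ (pr₁ ≫ x₂)) :=
    haveI := hG.comp
    AlgSpLocP.locP_of_repWith @LocallyOfFiniteType @LocallyOfFiniteType (fun g h => h)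
      (fun g h => hG.etale_le g h) _ hι
  have h3 : LocP @LocallyOfFiniteType (equalizer.ι pr₂ (pr₁ ≫ x₂) ≫ pr₁) :=
    AlgSpLocPComp.locP_comp _ hG hY _ _ h1 h2
  haveI hmono : Mono (equalizer.ι pr₂ (pr₁ ≫ x₂) ≫ pr₁) := sqk.mono_snd_of_mono
  -- separated and locally quasi-finite, hence a scheme
  let X' : Space S := ⟨equalizer pr₂ (pr₁ ≫ x₂), hP⟩
  let Y' : Space S := ⟨(yon S).obj T', IsAlgSpace.yon_obj T'⟩
  let f' : X' ⟶ Y' := ObjectProperty.homMk (equalizer.ι pr₂ (pr₁ ≫ x₂) ≫ pr₁)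
  obtain ⟨-, hsep, hqf⟩ := (Groth.Agent.S10613.result f').2.2.2 ⟨h3, hmono⟩
  have hrep := Groth.Agent.Helper5.QfSch.isRepresentable_of_separated_lqf hP
    (equalizer.ι pr₂ (pr₁ ≫ x₂) ≫ pr₁) hqf hsep
  obtain ⟨V, ⟨r⟩⟩ := hrep.has_representation
  let e : (yon S).obj V ≅ equalizer pr₂ (pr₁ ≫ x₂) := isoOfRepresentableBy r
  obtain ⟨v, hv⟩ := (yon S).map_surjective (e.hom ≫ equalizer.ι pr₂ (pr₁ ≫ x₂) ≫ pr₁)
  have hsep' : IsSeparatedMor ((yon S).map v) := by
    rw [hv]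
    exact (MorphismProperty.cancel_left_of_respectsIso (IsSeparatedMor (S := S)) e.hom _).2 hsep
  have hqf' : LocP (@LocallyQuasiFinite ⊓ @LocallyOfFiniteType) ((yon S).map v) := by
    rw [hv]
    exact (MorphismProperty.cancel_left_of_respectsIso
      (LocP (S := S) (@LocallyQuasiFinite ⊓ @LocallyOfFiniteType)) e.hom _).2 hqf
  haveI : IsSeparated v.left := (isSeparatedMor_yon_map_iff v).1 hsep'
  have h4 := locP_yon_map hqf'
  haveI : LocallyQuasiFinite v.left := h4.1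
  haveI : LocallyOfFiniteType v.left := h4.2
  have sq' : IsPullback (e.hom ≫ k) ((yon S).map v) (equalizer.ι a b) ((yon S).map c) := by
    rw [hv]
    exact IsPullback.of_iso sqk e.symm (Iso.refl _) (Iso.refl _) (Iso.refl _)
      (by simp) (by simp) (by simp) (by simp)
  obtain ⟨W, w, e', r', he', -, -⟩ := exists_scheme_of_fppf_sq c v (equalizer.ι a b) sq'
  exact ⟨W, w, e', he'⟩

set_option backward.isDefEq.respectTransparency.types false in
theorem representable_diag_of {F : Sp S} (X : Space S) (p : X.obj ⟶ F)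
    (hlift : ∀ ⦃T : Over S⦄ (ξ : (yon S).obj T ⟶ F), ∃ (T' : Over S) (c : T' ⟶ T)
      (x : (yon S).obj T' ⟶ X.obj), Flat c.left ∧ LocallyOfFinitePresentation c.left ∧
        Surjective c.left ∧ x ≫ p = (yon S).map c ≫ ξ)
    (hpb : ∀ ⦃T' : Over S⦄ (x₁ : (yon S).obj T' ⟶ X.obj), ∃ (Y : Sp S)
      (pr₁ : Y ⟶ (yon S).obj T') (pr₂ : Y ⟶ X.obj), IsPullback pr₁ pr₂ (x₁ ≫ p) p ∧
        IsAlgSpace Y ∧ LocP @LocallyOfFiniteType pr₁) :
    Representable (Limits.diag F) := by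
  intro Z g
  obtain ⟨a, ha⟩ : ∃ a : (yon S).obj Z ⟶ F, a = g ≫ prod.fst := ⟨_, rfl⟩
  obtain ⟨b, hb⟩ : ∃ b : (yon S).obj Z ⟶ F, b = g ≫ prod.snd := ⟨_, rfl⟩
  obtain ⟨W, i, e, hi⟩ := exists_iso_equalizer_of X p hlift hpb a b
  refine ⟨W, i, e.hom ≫ equalizer.ι a b ≫ a, ?_⟩
  have sq := (isPullback_equalizer_prod a b).flip
  have hg : prod.lift a b = g := by
    apply Limits.prod.hom_ext
    · rw [prod.lift_fst, ha]
    · rw [prod.lift_snd, hb]
  rw [← hi]
  rw [hg] at sq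
  exact IsPullback.of_iso sq e.symm (Iso.refl _) (Iso.refl _) (Iso.refl _) (by simp) (by simp)
    (by simp [Limits.diag]) (by simp)

end Groth.Agent.Helper5.SchDesc
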