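import Groth.Agent.Helper5.SchDesc1
import Mathlib

set_option autoImplicit false
universe u
open CategoryTheory CategoryTheory.Limits AlgebraicGeometry Opposite

namespace Groth.Agent.Helper5.SchDesc

open AlgSp Groth.Agent.Helper4

variable {S : Scheme.{u}} {T T' V : Over S} {c : T' ⟶ T} {v : V ⟶ T'} {P : Sp S}
  {π : P ⟶ (yon S).obj T} {a : (yon S).obj V ⟶ P}
  (sq : IsPullback a ((yon S).map v) π ((yon S).map c))

/-- transport of points of `V` between two points of `T'` with the same image in `T` -/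
noncomputable def tr {Z : Scheme.{u}} (x₀ x₁ : Z ⟶ T'.left) (h : x₀ ≫ c.left = x₁ ≫ c.left)
    (z : Desc.Lifts (Over.mk v.left) x₀) : Desc.Lifts (Over.mk v.left) x₁ :=
  ⟨(Rel.exists sq (σ := z.1 ≫ V.hom) z.1 rfl x₁ (by
      have e : z.1 ≫ v.left = x₀ := z.2
      rw [e]; exact h)).choose,
    (Rel.exists sq (σ := z.1 ≫ V.hom) z.1 rfl x₁ (by
      have e : z.1 ≫ v.left = x₀ := z.2
      rw [e]; exact h)).choose_spec.1⟩

theorem tr_rel {Z : Scheme.{u}} (x₀ x₁ : Z ⟶ T'.left) (h : x₀ ≫ c.left = x₁ ≫ c.left)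
    (z : Desc.Lifts (Over.mk v.left) x₀) : Rel a (z.1 ≫ V.hom) z.1 (tr sq x₀ x₁ h z).1 :=
  (Rel.exists sq (σ := z.1 ≫ V.hom) z.1 rfl x₁ (by
      have e : z.1 ≫ v.left = x₀ := z.2
      rw [e]; exact h)).choose_spec.2

theorem tr_eq {Z : Scheme.{u}} (x₀ x₁ : Z ⟶ T'.left) (h : x₀ ≫ c.left = x₁ ≫ c.left)
    (z : Desc.Lifts (Over.mk v.left) x₀) {σ : Z ⟶ S} (w : Z ⟶ V.left) (hw : w ≫ v.left = x₁)
    (hr : Rel a σ z.1 w) : (tr sq x₀ x₁ h z).1 = w := by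
  have h1 : Rel a (z.1 ≫ V.hom) (tr sq x₀ x₁ h z).1 w := (tr_rel sq x₀ x₁ h z).symm.trans
    (σ' := σ) (by
      obtain ⟨h₀, h₁, e⟩ := hr
      exact ⟨h₀, h₁, e⟩)
  refine Rel.eq_of sq h1 ?_
  have e : (tr sq x₀ x₁ h z).1 ≫ v.left = x₁ := (tr sq x₀ x₁ h z).2
  rw [e, hw]

/-- the descent datum on `V` over `T'` relative to `c : T' ⟶ T` -/
noncomputable def dd : Desc.SchDD c.left where
  obj := Over.mk v.left
  φ Z x₀ x₁ h :=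
    { toFun := tr sq x₀ x₁ h
      invFun := tr sq x₁ x₀ h.symm
      left_inv := fun z => Subtype.ext (tr_eq sq x₁ x₀ h.symm _ z.1 z.2 (tr_rel sq x₀ x₁ h z).symm)
      right_inv := fun z =>
        Subtype.ext (tr_eq sq x₀ x₁ h _ z.1 z.2 (tr_rel sq x₁ x₀ h.symm z).symm) }
  φ_natural Z Z' g x₀ x₁ h h' z z' hz' := by
    show (tr sq (g ≫ x₀) (g ≫ x₁) h' z').1 = g ≫ (tr sq x₀ x₁ h z).1
    refine tr_eq sq _ _ h' z' (σ := g ≫ z.1 ≫ V.hom) _ ?_ ?_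
    · have e : (tr sq x₀ x₁ h z).1 ≫ v.left = x₁ := (tr sq x₀ x₁ h z).2
      rw [Category.assoc, e]
    · rw [hz']
      exact (tr_rel sq x₀ x₁ h z).precomp g
  φ_self Z x z := Subtype.ext (tr_eq sq x x rfl z (σ := z.1 ≫ V.hom) z.1 z.2
    (Rel.refl (V := V) (a := a) (σ := z.1 ≫ V.hom) z.1 rfl))
  φ_comp Z x₀ x₁ x₂ h₀₁ h₁₂ z := by
    refine Subtype.ext ?_
    symm
    refine tr_eq sq x₀ x₂ (h₀₁.trans h₁₂) z (σ := z.1 ≫ V.hom) _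
      (tr sq x₁ x₂ h₁₂ (tr sq x₀ x₁ h₀₁ z)).2 ?_
    exact (tr_rel sq x₀ x₁ h₀₁ z).trans (tr_rel sq x₁ x₂ h₁₂ (tr sq x₀ x₁ h₀₁ z))

@[simp] theorem dd_obj : (dd sq).obj = Over.mk v.left := rfl

theorem dd_φ_rel {Z : Scheme.{u}} (x₀ x₁ : Z ⟶ T'.left) (h : x₀ ≫ c.left = x₁ ≫ c.left)
    (z : Desc.Lifts (Over.mk v.left) x₀) :
    Rel a (z.1 ≫ V.hom) z.1 ((dd sq).φ x₀ x₁ h z).1 := tr_rel sq x₀ x₁ h z

end Groth.Agent.Helper5.SchDesc
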