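import Groth.Agent.Helper5.SchDesc3
import Groth.Agent.S0081
import Groth.Agent.S0087
import Mathlib

set_option autoImplicit false
universe u
open CategoryTheory CategoryTheory.Limits AlgebraicGeometry Opposite

namespace Groth.Agent.Helper5.SchDesc

open AlgSp Groth.Agent.Helper4

variable {S : Scheme.{u}} {V : Over S} {P : Sp S} {a : (yon S).obj V ⟶ P}

set_option backward.isDefEq.respectTransparency.types false in
/-- Descent of separated locally quasi-finite schemes, with the scheme-level cartesian square. -/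
theorem exists_scheme_of_fppf_sq {T T' : Over S} (c : T' ⟶ T) [Flat c.left] [Surjective c.left]
    [LocallyOfFinitePresentation c.left] (v : V ⟶ T') [IsSeparated v.left]
    [LocallyQuasiFinite v.left] [LocallyOfFiniteType v.left]
    (π : P ⟶ (yon S).obj T)
    (sq : IsPullback a ((yon S).map v) π ((yon S).map c)) :
    ∃ (W : Over S) (w : W ⟶ T) (e : (yon S).obj W ≅ P) (r : V ⟶ W),
      e.hom ≫ π = (yon S).map w ∧ (yon S).map r ≫ e.hom = a ∧
      IsPullback r.left v.left w.left c.left := by
  obtain ⟨W, w, e, he⟩ := exists_scheme_of_fppf c v π sq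
  obtain ⟨r, hr⟩ := (yon S).map_surjective (a ≫ e.inv)
  have hra : (yon S).map r ≫ e.hom = a := by rw [hr, Category.assoc, Iso.inv_hom_id, Category.comp_id]
  have sqY : IsPullback ((yon S).map r) ((yon S).map v) ((yon S).map w) ((yon S).map c) := by
    refine IsPullback.of_iso sq (Iso.refl _) e.symm (Iso.refl _) (Iso.refl _) ?_ ?_ ?_ ?_
    · simp [hr]
    · simp
    · simp only [Iso.symm_hom, Iso.refl_hom, Category.comp_id]
      rw [← he, Iso.inv_hom_id_assoc]
    · simp
  have sqO : IsPullback r v w c := IsPullback.of_map (yon S) (by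
    apply (yon S).map_injective
    rw [Functor.map_comp, Functor.map_comp, sqY.w]) sqY
  exact ⟨W, w, e, r, he, hra, sqO.map (Over.forget S)⟩

/-- the fppf class of morphisms as an instance-friendly statement -/
theorem fppf_mem {X Y : Scheme.{u}} (c : X ⟶ Y) [Flat c] [Surjective c]
    [LocallyOfFinitePresentation c] :
    (@Surjective ⊓ @Flat ⊓ @LocallyOfFinitePresentation : MorphismProperty Scheme.{u}) c :=
  ⟨⟨inferInstance, inferInstance⟩, inferInstance⟩

theorem isSeparated_of_isPullback_fppf {X' X Y' Y : Scheme.{u}} {r : X' ⟶ X} {v : X' ⟶ Y'}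
    {w : X ⟶ Y} {c : Y' ⟶ Y} (sq : IsPullback r v w c) [Flat c] [Surjective c]
    [LocallyOfFinitePresentation c] [IsSeparated v] : IsSeparated w := by
  haveI := Groth.Agent.S0081.result.{u}
  exact MorphismProperty.of_isPullback_of_descendsAlong (P := @IsSeparated)
    (Q := @Surjective ⊓ @Flat ⊓ @LocallyOfFinitePresentation) sq.flip (fppf_mem c) inferInstance

theorem lqf_lft_of_isPullback_fppf {X' X Y' Y : Scheme.{u}} {r : X' ⟶ X} {v : X' ⟶ Y'}
    {w : X ⟶ Y} {c : Y' ⟶ Y} (sq : IsPullback r v w c) [Flat c] [Surjective c]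
    [LocallyOfFinitePresentation c] [LocallyQuasiFinite v] [LocallyOfFiniteType v] :
    LocallyQuasiFinite w ∧ LocallyOfFiniteType w := by
  haveI := Groth.Agent.S0087.result.{u}
  exact MorphismProperty.of_isPullback_of_descendsAlong
    (P := @LocallyQuasiFinite ⊓ @LocallyOfFiniteType)
    (Q := @Surjective ⊓ @Flat ⊓ @LocallyOfFinitePresentation) sq.flip (fppf_mem c)
    ⟨inferInstance, inferInstance⟩

end Groth.Agent.Helper5.SchDesc
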