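import Groth.Agent.Helper5.SchDesc4
import Groth.Agent.Helper5.QfSch12
import Groth.Agent.Helper5.Restr2
import Groth.Agent.Helper4.AlgSpPts
import Mathlib

set_option autoImplicit false
universe u
open CategoryTheory CategoryTheory.Limits AlgebraicGeometry Opposite

namespace Groth.Agent.Helper5.SchDesc

open AlgSp Groth.Agent.Helper4

variable {S : Scheme.{u}}

theorem surjective_of_isSurjectiveMor_yon_map {W T : Over S} (b : W ⟶ T)
    (hbs : IsSurjectiveMor ((yon S).map b)) : Surjective b.left := by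
  refine ⟨fun t => ?_⟩
  obtain ⟨x, hx⟩ := hbs (Points.schemeHomeo T t)
  obtain ⟨w, rfl⟩ := (Points.schemeHomeo W).surjective x
  rw [Points.map_yon_map_apply] at hx
  exact ⟨w, (Points.schemeHomeo T).injective hx⟩

set_option backward.isDefEq.respectTransparency.types false in
set_option maxHeartbeats 800000 in
/-- the key step of `S10098`: the base change of `b` to a scheme is a scheme, separated and locally
quasi-finite over it -/
theorem s10098_key {E F G H : Sp S} (a : E ⟶ F) (f : E ⟶ H) (g : F ⟶ G) (b : H ⟶ G)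
    (sq : IsPullback a f g b)
    (hg : RepBySpWith (IsSurjectiveMor ⊓ LocP @Flat ⊓ LocP @LocallyOfFinitePresentation) g.hom)
    (ha : RepBySpWith
      (IsSeparatedMor ⊓ LocP (@LocallyQuasiFinite ⊓ @LocallyOfFiniteType)) a.hom)
    ⦃T : Over S⦄ (ξ : (yon S).obj T ⟶ G) :
    ∃ (W : Over S) (k : (yon S).obj W ⟶ H) (w : W ⟶ T), IsPullback k ((yon S).map w) b ξ ∧
      IsSeparated w.left ∧ LocallyQuasiFinite w.left ∧ LocallyOfFiniteType w.left := by
  rw [repBySpWith_hom_iff] at hg ha
  -- the base change of `g`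
  have sqF : IsPullback (pullback.fst g ξ) (pullback.snd g ξ) g ξ := IsPullback.of_hasPullback g ξ
  obtain ⟨hFT, ⟨hs, hfl⟩, hlfp⟩ := hg ξ _ _ sqF
  obtain ⟨U, d, hde, hds⟩ := hFT.atlas
  obtain ⟨c, hc⟩ := (yon S).map_surjective (d ≫ pullback.snd g ξ)
  have hcomm : d ≫ pullback.snd g ξ = (yon S).map c ≫ 𝟙 _ := by rw [hc, Category.comp_id]
  haveI hcf : Flat c.left := hfl d (𝟙 _) c hde (repWith_id (@Etale.{u}) T) hcomm
  haveI hcl : LocallyOfFinitePresentation c.left :=
    hlfp d (𝟙 _) c hde (repWith_id (@Etale.{u}) T) hcomm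
  haveI hcs : Surjective c.left := by
    apply surjective_of_isSurjectiveMor_yon_map
    rw [hc]
    exact Groth.Agent.Helper5.Restr1.isSurjectiveMor_comp _ _
      (AlgSpPts.isSurjectiveMor_of_repWith d hds) hs
  -- the base change of `a` to `U`
  have sqE : IsPullback (pullback.fst a (d ≫ pullback.fst g ξ)) (pullback.snd a (d ≫ pullback.fst g ξ))
      a (d ≫ pullback.fst g ξ) := IsPullback.of_hasPullback _ _
  obtain ⟨hEU, hsep, hlqf⟩ := ha (d ≫ pullback.fst g ξ) _ _ sqE
  have hrep := Groth.Agent.Helper5.QfSch.isRepresentable_of_separated_lqf hEU _ hlqf hsep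
  obtain ⟨V, ⟨r⟩⟩ := hrep.has_representation
  let e : (yon S).obj V ≅ pullback a (d ≫ pullback.fst g ξ) := isoOfRepresentableBy r
  obtain ⟨v, hv⟩ := (yon S).map_surjective (e.hom ≫ pullback.snd a (d ≫ pullback.fst g ξ))
  have sqE' : IsPullback (e.hom ≫ pullback.fst a (d ≫ pullback.fst g ξ)) ((yon S).map v)
      a (d ≫ pullback.fst g ξ) := by
    rw [hv]
    exact IsPullback.of_iso sqE e.symm (Iso.refl _) (Iso.refl _) (Iso.refl _)
      (by simp) (by simp) (by simp) (by simp)
  obtain ⟨-, hsep', hlqf'⟩ := ha (d ≫ pullback.fst g ξ) _ _ sqE'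
  haveI : IsSeparated v.left := (isSeparatedMor_yon_map_iff v).1 hsep'
  have h2 := locP_yon_map hlqf'
  haveI : LocallyQuasiFinite v.left := h2.1
  haveI : LocallyOfFiniteType v.left := h2.2
  -- the base change of `b`
  have sqH : IsPullback (pullback.fst b ξ) (pullback.snd b ξ) b ξ := IsPullback.of_hasPullback b ξ
  -- outer rectangle
  have big : IsPullback ((e.hom ≫ pullback.fst a (d ≫ pullback.fst g ξ)) ≫ f) ((yon S).map v)
      b ((d ≫ pullback.fst g ξ) ≫ g) := sqE'.paste_horiz sq.flip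
  have hdg : (d ≫ pullback.fst g ξ) ≫ g = (yon S).map c ≫ ξ := by
    rw [Category.assoc, sqF.w, ← Category.assoc, hc]
  rw [hdg] at big
  let a' : (yon S).obj V ⟶ pullback b ξ :=
    sqH.lift ((e.hom ≫ pullback.fst a (d ≫ pullback.fst g ξ)) ≫ f) ((yon S).map v ≫ (yon S).map c)
      (by rw [big.w, Category.assoc])
  have ha'1 : a' ≫ pullback.fst b ξ = (e.hom ≫ pullback.fst a (d ≫ pullback.fst g ξ)) ≫ f :=
    sqH.lift_fst _ _ _
  have ha'2 : a' ≫ pullback.snd b ξ = (yon S).map v ≫ (yon S).map c := sqH.lift_snd _ _ _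
  have sqL : IsPullback a' ((yon S).map v) (pullback.snd b ξ) ((yon S).map c) := by
    refine IsPullback.of_right ?_ ha'2 sqH
    rw [ha'1]
    exact big
  obtain ⟨W, w, e', r', he', -, sqS⟩ := exists_scheme_of_fppf_sq c v (pullback.snd b ξ) sqL
  refine ⟨W, e'.hom ≫ pullback.fst b ξ, w, ?_, isSeparated_of_isPullback_fppf sqS,
    (lqf_lft_of_isPullback_fppf sqS).1, (lqf_lft_of_isPullback_fppf sqS).2⟩
  rw [← he']
  exact IsPullback.of_iso sqH e'.symm (Iso.refl _) (Iso.refl _) (Iso.refl _)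
    (by simp) (by simp) (by simp) (by simp)

set_option backward.isDefEq.respectTransparency.types false in
theorem s10098 {E F G H : Sp S} (a : E ⟶ F) (f : E ⟶ H) (g : F ⟶ G) (b : H ⟶ G)
    (sq : IsPullback a f g b)
    (hg : RepBySpWith (IsSurjectiveMor ⊓ LocP @Flat ⊓ LocP @LocallyOfFinitePresentation) g.hom)
    (ha : RepBySpWith
      (IsSeparatedMor ⊓ LocP (@LocallyQuasiFinite ⊓ @LocallyOfFiniteType)) a.hom) :
    RepWith @IsSeparated b ∧ RepWith (@LocallyQuasiFinite ⊓ @LocallyOfFiniteType) b := by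
  constructor
  · exact MorphismProperty.relative.of_exists (fun T ξ => by
      obtain ⟨W, k, w, sqW, h1, -, -⟩ := s10098_key a f g b sq hg ha ξ
      exact ⟨W, k, w, sqW, h1⟩)
  · exact MorphismProperty.relative.of_exists (fun T ξ => by
      obtain ⟨W, k, w, sqW, -, h2, h3⟩ := s10098_key a f g b sq hg ha ξ
      exact ⟨W, k, w, sqW, h2, h3⟩)

end Groth.Agent.Helper5.SchDesc
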