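import Groth.Agent.Helper5.SchDesc5
import Groth.Agent.Helper5.GeomConnSp5
import Groth.Agent.Helper4.AlgSpDiag
import Groth.Agent.Helper4.AlgSpLocPComp
import Groth.Agent.Helper6.DiagRep3
import Groth.Agent.Helper6.LocQ0
import Groth.Agent.S10613
import Mathlib

set_option autoImplicit false
universe u
open CategoryTheory CategoryTheory.Limits AlgebraicGeometry Opposite

namespace Groth.Agent.Helper5.SchDesc

open AlgSp Groth.Agent.Helper4

variable {S : Scheme.{u}}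

set_option backward.isDefEq.respectTransparency.types false in
/-- sections of `F` lift fppf locally along an fppf cover representable by algebraic spaces -/
theorem exists_fppf_lift {F X : Sp S} (p : X ⟶ F)
    (hp : RepBySpWith (IsSurjectiveMor ⊓ LocP @Flat ⊓ LocP @LocallyOfFinitePresentation) p.hom)
    {T : Over S} (ξ : (yon S).obj T ⟶ F) :
    ∃ (T' : Over S) (c : T' ⟶ T) (x : (yon S).obj T' ⟶ X), Flat c.left ∧
      LocallyOfFinitePresentation c.left ∧ Surjective c.left ∧ x ≫ p = (yon S).map c ≫ ξ := by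
  rw [repBySpWith_hom_iff] at hp
  have sqF : IsPullback (pullback.fst p ξ) (pullback.snd p ξ) p ξ := IsPullback.of_hasPullback p ξ
  obtain ⟨hFT, ⟨hs, hfl⟩, hlfp⟩ := hp ξ _ _ sqF
  obtain ⟨U, d, hde, hds⟩ := hFT.atlas
  obtain ⟨c, hc⟩ := (yon S).map_surjective (d ≫ pullback.snd p ξ)
  have hcomm : d ≫ pullback.snd p ξ = (yon S).map c ≫ 𝟙 _ := by rw [hc, Category.comp_id]
  refine ⟨U, c, d ≫ pullback.fst p ξ, hfl d (𝟙 _) c hde (repWith_id (@Etale.{u}) T) hcomm,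
    hlfp d (𝟙 _) c hde (repWith_id (@Etale.{u}) T) hcomm, ?_, ?_⟩
  · apply surjective_of_isSurjectiveMor_yon_map
    rw [hc]
    exact Groth.Agent.Helper5.Restr1.isSurjectiveMor_comp _ _
      (AlgSpPts.isSurjectiveMor_of_repWith d hds) hs
  · rw [Category.assoc, sqF.w, ← Category.assoc, hc]

/-- the equalizer of two sections lifted to `X`, as a base change of the equalizer downstairs -/
theorem isPullback_equalizer_lift {F X : Sp S} (p : X ⟶ F) {T T' : Over S}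
    (a b : (yon S).obj T ⟶ F) (c : T' ⟶ T) (x₁ x₂ : (yon S).obj T' ⟶ X)
    (h₁ : x₁ ≫ p = (yon S).map c ≫ a) (h₂ : x₂ ≫ p = (yon S).map c ≫ b)
    {Y : Sp S} (pr₁ : Y ⟶ (yon S).obj T') (pr₂ : Y ⟶ X) (sqY : IsPullback pr₁ pr₂ (x₁ ≫ p) p) :
    ∃ k : equalizer pr₂ (pr₁ ≫ x₂) ⟶ equalizer a b,
      IsPullback k (equalizer.ι pr₂ (pr₁ ≫ x₂) ≫ pr₁) (equalizer.ι a b) ((yon S).map c) := by
  have hY : pr₁ ≫ x₁ ≫ p = pr₂ ≫ p := sqY.w
  obtain ⟨ι, hι'⟩ : ∃ ι : equalizer pr₂ (pr₁ ≫ x₂) ⟶ Y,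
      ι = equalizer.ι pr₂ (pr₁ ≫ x₂) := ⟨_, rfl⟩
  rw [← hι']
  have hι : ι ≫ pr₂ = ι ≫ pr₁ ≫ x₂ := by rw [hι']; exact equalizer.condition _ _
  haveI : Mono ι := by rw [hι']; infer_instance
  have hk : (ι ≫ pr₁ ≫ (yon S).map c) ≫ a = (ι ≫ pr₁ ≫ (yon S).map c) ≫ b := by
    calc (ι ≫ pr₁ ≫ (yon S).map c) ≫ a = ι ≫ pr₁ ≫ x₁ ≫ p := by
          simp only [Category.assoc, h₁]
      _ = (ι ≫ pr₂) ≫ p := by rw [hY, Category.assoc]
      _ = ι ≫ pr₁ ≫ x₂ ≫ p := by rw [hι]; simp only [Category.assoc]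
      _ = (ι ≫ pr₁ ≫ (yon S).map c) ≫ b := by simp only [Category.assoc, h₂]
  let k : equalizer pr₂ (pr₁ ≫ x₂) ⟶ equalizer a b := equalizer.lift (ι ≫ pr₁ ≫ (yon S).map c) hk
  have hk' : k ≫ equalizer.ι a b = ι ≫ pr₁ ≫ (yon S).map c := equalizer.lift_ι _ _
  -- the lifts
  have hex : ∀ s : PullbackCone (equalizer.ι a b) ((yon S).map c),
      ∃ z : s.pt ⟶ equalizer pr₂ (pr₁ ≫ x₂), z ≫ ι ≫ pr₁ = s.snd ∧ z ≫ ι ≫ pr₂ = s.snd ≫ x₂ := by
    intro s
    have ht : s.snd ≫ x₁ ≫ p = (s.snd ≫ x₂) ≫ p := by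
      calc s.snd ≫ x₁ ≫ p = (s.snd ≫ (yon S).map c) ≫ a := by rw [h₁, Category.assoc]
        _ = (s.fst ≫ equalizer.ι a b) ≫ a := by rw [s.condition]
        _ = (s.fst ≫ equalizer.ι a b) ≫ b := by
            rw [Category.assoc, equalizer.condition, Category.assoc]
        _ = (s.snd ≫ x₂) ≫ p := by rw [s.condition, Category.assoc, Category.assoc, h₂]
    let y : s.pt ⟶ Y := sqY.lift s.snd (s.snd ≫ x₂) ht
    have hy1 : y ≫ pr₁ = s.snd := sqY.lift_fst _ _ _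
    have hy2 : y ≫ pr₂ = s.snd ≫ x₂ := sqY.lift_snd _ _ _
    have hyc : y ≫ pr₂ = y ≫ pr₁ ≫ x₂ := by rw [hy2, ← Category.assoc, hy1]
    refine ⟨equalizer.lift y hyc, ?_, ?_⟩
    · rw [hι', ← Category.assoc, equalizer.lift_ι, hy1]
    · rw [hι', ← Category.assoc, equalizer.lift_ι, hy2]
  choose zf hzf1 hzf2 using hex
  refine ⟨k, ⟨⟨by rw [hk', Category.assoc]⟩, ⟨PullbackCone.IsLimit.mk _ zf ?_ ?_ ?_⟩⟩⟩
  · intro s
    apply (cancel_mono (equalizer.ι a b)).1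
    rw [Category.assoc, hk', s.condition, ← hzf1 s]
    simp only [Category.assoc]
  · intro s
    exact hzf1 s
  · intro s z hz1 hz2
    apply (cancel_mono ι).1
    have e1 : (z ≫ ι) ≫ pr₁ = (zf s ≫ ι) ≫ pr₁ := by
      rw [Category.assoc, Category.assoc, hzf1 s]
      simpa using hz2
    have e2 : (z ≫ ι) ≫ pr₂ = (zf s ≫ ι) ≫ pr₂ := by
      rw [Category.assoc, Category.assoc, hzf2 s, hι, ← hz2]
      simp only [Category.assoc]
    exact sqY.hom_ext e1 e2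

end Groth.Agent.Helper5.SchDesc
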