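import Groth.Agent.Helper5.SchDesc3
import Mathlib

set_option autoImplicit false
universe u
open CategoryTheory CategoryTheory.Limits AlgebraicGeometry Opposite

namespace Groth.Agent.Helper5.SchDesc

open AlgSp Groth.Agent.Helper4

variable {S : Scheme.{u}} {V : Over S} {P : Sp S} {a : (yon S).obj V ⟶ P}

set_option backward.isDefEq.respectTransparency.types false in
/-- **Descent of schemes along an fppf covering, sheaf form**, given effectivity of the descent
datum. -/
theorem exists_scheme_of_eff {T T' : Over S} (c : T' ⟶ T) [Flat c.left] [Surjective c.left]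
    [LocallyOfFinitePresentation c.left] (v : V ⟶ T')
    (π : P ⟶ (yon S).obj T)
    (sq : IsPullback a ((yon S).map v) π ((yon S).map c))
    (heff : ∃ U : Over T.left, Nonempty ((Desc.toDD c.left).obj U ≅ dd sq)) :
    ∃ (W : Over S) (w : W ⟶ T) (e : (yon S).obj W ≅ P), e.hom ≫ π = (yon S).map w := by
  let D := dd sq
  obtain ⟨U, ⟨ι⟩⟩ := heff
  let W : Over S := Over.mk (U.hom ≫ T.hom)
  let w : W ⟶ T := Over.homMk U.hom rfl
  let W' : Over S := Over.mk (pullback.fst c.left U.hom ≫ T'.hom)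
  let p₁ : W' ⟶ T' := Over.homMk (pullback.fst c.left U.hom) rfl
  let p₂ : W' ⟶ W := Over.homMk (pullback.snd c.left U.hom) (by
    show pullback.snd c.left U.hom ≫ U.hom ≫ T.hom = pullback.fst c.left U.hom ≫ T'.hom
    rw [← Category.assoc, ← pullback.condition, Category.assoc, Over.w c])
  have sqW : IsPullback p₁ p₂ c w :=
    IsPullback.of_map (Over.forget S) (by ext; exact pullback.condition)
      (IsPullback.of_hasPullback c.left U.hom)
  have sqY := sqW.map (yon S)
  -- the isomorphism `W' ≅ V` over `T'`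
  let jl : pullback c.left U.hom ⟶ V.left := ι.hom.hom.left
  let jr : V.left ⟶ pullback c.left U.hom := ι.inv.hom.left
  have hι1 : jl ≫ v.left = pullback.fst c.left U.hom := Over.w ι.hom.hom
  have hι2 : jr ≫ pullback.fst c.left U.hom = v.left := Over.w ι.inv.hom
  have hι3 : jl ≫ jr = 𝟙 _ := by
    have h2 : Desc.SchDD.Hom.hom (ι.hom ≫ ι.inv) =
        Desc.SchDD.Hom.hom (𝟙 ((Desc.toDD c.left).obj U)) := by
      rw [ι.hom_inv_id]
    exact congrArg (fun k => k.left) h2
  have hι4 : jr ≫ jl = 𝟙 _ := by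
    have h2 : Desc.SchDD.Hom.hom (ι.inv ≫ ι.hom) = Desc.SchDD.Hom.hom (𝟙 D) := by
      rw [ι.inv_hom_id]
    exact congrArg (fun k => k.left) h2
  let j : W' ⟶ V := Over.homMk jl (by
    show jl ≫ V.hom = pullback.fst c.left U.hom ≫ T'.hom
    rw [← Over.w v, ← Category.assoc, hι1])
  let jinv : V ⟶ W' := Over.homMk jr (by
    show jr ≫ pullback.fst c.left U.hom ≫ T'.hom = V.hom
    rw [← Category.assoc, hι2, Over.w v])
  have hj1 : j ≫ jinv = 𝟙 _ := by ext; exact hι3
  have hj2 : jinv ≫ j = 𝟙 _ := by ext; exact hι4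
  have hjv : j ≫ v = p₁ := by ext; exact hι1
  let b : (yon S).obj W' ⟶ P := (yon S).map j ≫ a
  have sqb : IsPullback b ((yon S).map p₁) π ((yon S).map c) := by
    let jI : W' ≅ V := ⟨j, jinv, hj1, hj2⟩
    refine IsPullback.of_iso sq ((yon S).mapIso jI).symm (Iso.refl _) (Iso.refl _) (Iso.refl _)
      ?_ ?_ ?_ ?_
    · simp only [Iso.symm_hom, Functor.mapIso_inv, Iso.refl_hom, Category.comp_id, b]
      rw [← Category.assoc, ← Functor.map_comp]
      show a = (yon S).map (jinv ≫ j) ≫ a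
      rw [hj2, CategoryTheory.Functor.map_id, Category.id_comp]
    · simp only [Iso.symm_hom, Functor.mapIso_inv, Iso.refl_hom, Category.comp_id]
      rw [← Functor.map_comp, ← hjv, ← Category.assoc]
      show (yon S).map v = (yon S).map ((jinv ≫ j) ≫ v)
      rw [hj2, Category.id_comp]
    · simp
    · simp
  haveI : Epi ((yon S).map c) := AffDesc.epi_yon_map_of_fppf c
  haveI : Epi ((yon S).map p₂) := PbEpi.epi_of_isPullback sqY.flip
  haveI : Epi b := PbEpi.epi_of_isPullback sqb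
  haveI : EffectiveEpi ((yon S).map p₂) := by
    rw [← isRegularEpi_iff_effectiveEpi]
    exact IsRegularEpiCategory.regularEpiOfEpi _
  -- the kernel pair condition
  have hker : ∀ {Z : Sp S} (g₁ g₂ : Z ⟶ (yon S).obj W'),
      g₁ ≫ (yon S).map p₂ = g₂ ≫ (yon S).map p₂ → g₁ ≫ b = g₂ ≫ b := by
    intro Z g₁ g₂ hg
    apply AlgSpBasic.hom_ext_yon
    intro Z₀ t
    obtain ⟨y₁, hy₁⟩ := (yon S).map_surjective (t ≫ g₁)
    obtain ⟨y₂, hy₂⟩ := (yon S).map_surjective (t ≫ g₂)
    have hy : y₁ ≫ p₂ = y₂ ≫ p₂ := by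
      apply (yon S).map_injective
      rw [Functor.map_comp, Functor.map_comp, hy₁, hy₂, Category.assoc, Category.assoc, hg]
    have hyl : y₁.left ≫ pullback.snd c.left U.hom = y₂.left ≫ pullback.snd c.left U.hom :=
      congrArg (fun k => k.left) hy
    suffices key : (yon S).map (y₁ ≫ j) ≫ a = (yon S).map (y₂ ≫ j) ≫ a by
      have e1 : t ≫ g₁ ≫ b = (yon S).map (y₁ ≫ j) ≫ a := by
        rw [Functor.map_comp, hy₁, Category.assoc, Category.assoc]
      have e2 : t ≫ g₂ ≫ b = (yon S).map (y₂ ≫ j) ≫ a := by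
        rw [Functor.map_comp, hy₂, Category.assoc, Category.assoc]
      rw [e1, e2, key]
    -- use compatibility of `ι` with the descent data
    let x₀ : Z₀.left ⟶ T'.left := y₁.left ≫ pullback.fst c.left U.hom
    let x₁ : Z₀.left ⟶ T'.left := y₂.left ≫ pullback.fst c.left U.hom
    have hx : x₀ ≫ c.left = x₁ ≫ c.left := by
      simp only [x₀, x₁, Category.assoc]
      rw [pullback.condition, ← Category.assoc, hyl, Category.assoc]
    let l₀ : Desc.Lifts ((Desc.toDD c.left).obj U).obj x₀ := ⟨y₁.left, rfl⟩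
    let m₀ : Desc.Lifts D.obj x₀ := ⟨y₁.left ≫ jl, by
      show (y₁.left ≫ jl) ≫ v.left = x₀
      rw [Category.assoc, hι1]⟩
    have hcomm := ι.hom.comm x₀ x₁ hx l₀ m₀ rfl
    have hcan : (((Desc.toDD c.left).obj U).φ x₀ x₁ hx l₀).1 = y₂.left := by
      show (Desc.canMap c.left U x₀ x₁ hx l₀).1 = y₂.left
      rw [Desc.canMap_val]
      apply pullback.hom_ext
      · rw [pullback.lift_fst]
      · rw [pullback.lift_snd]; exact hyl
    rw [hcan] at hcomm
    have hrel := dd_φ_rel sq x₀ x₁ hx m₀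
    refine Rel.over (y₁ ≫ j) (y₂ ≫ j) (σ := m₀.1 ≫ V.hom) ?_
    have hcomm' : (D.φ x₀ x₁ hx m₀).1 = y₂.left ≫ jl := hcomm
    show Rel a (m₀.1 ≫ V.hom) (y₁.left ≫ jl) (y₂.left ≫ jl)
    rw [← hcomm']
    exact hrel
  let e' : (yon S).obj W ⟶ P := EffectiveEpi.desc ((yon S).map p₂) b hker
  have he' : (yon S).map p₂ ≫ e' = b := EffectiveEpi.fac _ _ _
  have heπ : e' ≫ π = (yon S).map w := by
    rw [← cancel_epi ((yon S).map p₂), ← Category.assoc, he', sqb.w, sqY.w]
  have sqtop : IsPullback ((yon S).map p₂) (𝟙 _) e' b := by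
    refine IsPullback.of_bot ?_ (by rw [he', Category.id_comp]) sqb
    rw [Category.id_comp, heπ]
    exact sqY.flip
  haveI : IsIso e' := PbEpi.isIso_of_isPullback_of_epi sqtop.flip
  exact ⟨W, w, asIso e', heπ⟩

end Groth.Agent.Helper5.SchDesc
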