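import Groth.Agent.Helper5.SchDesc8
import Groth.Agent.Helper4.RepBySp2
import Groth.Agent.S9884
import Mathlib

set_option autoImplicit false
universe u
open CategoryTheory CategoryTheory.Limits AlgebraicGeometry Opposite

namespace Groth.Agent.Helper5.SchDesc

open AlgSp Groth.Agent.Helper4

variable {S : Scheme.{u}}

set_option backward.isDefEq.respectTransparency.types false in
set_option maxHeartbeats 800000 in
theorem s9894 (P : MorphismProperty Scheme.{u})
    [P.IsStableUnderBaseChange] [P.IsLocalAtTarget Scheme.fppfPrecoverage]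
    (hdesc : ∀ ⦃X' S' : Scheme.{u}⦄ (p : X' ⟶ S'), Surjective p → Flat p →
      LocallyOfFinitePresentation p →
      ∀ D : Desc.SchDD p, P D.obj.hom → (Desc.toDD p).essImage D)
    (F : Space S) (G : Sp S) (f : G ⟶ F.obj) {U V : Over S} (q : (yon S).obj U ⟶ F.obj)
    (hqe : RepWith @Etale q) (hqs : RepWith @Surjective q) (fst : (yon S).obj V ⟶ G)
    (g : V ⟶ U) (sq : IsPullback fst ((yon S).map g) f q) (hP : P g.left) :
    IsAlgSpace G ∧ RepWith P f := by
  have hrep : Representable f := by
    intro T ξ
    have hq := hqe.rep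
    obtain ⟨T', c, x, sqT⟩ : ∃ (T' : Over S) (c : T' ⟶ T)
        (x : (yon S).obj T' ⟶ (yon S).obj U), IsPullback x ((yon S).map c) q ξ :=
      ⟨_, _, _, hq.isPullback ξ⟩
    obtain ⟨x₀, rfl⟩ := (yon S).map_surjective x
    haveI hce : Etale c.left := hqe.property ξ _ _ sqT
    haveI hcs : Surjective c.left := hqs.property ξ _ _ sqT
    have sqV : IsPullback (pullback.fst g x₀) (pullback.snd g x₀) g x₀ :=
      IsPullback.of_hasPullback g x₀
    have sqVY := sqV.map (yon S)
    have hPv : P (pullback.snd g x₀).left :=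
      MorphismProperty.of_isPullback (sqV.map (Over.forget S)) hP
    have sqH : IsPullback (pullback.fst f ξ) (pullback.snd f ξ) f ξ := IsPullback.of_hasPullback f ξ
    have big : IsPullback ((yon S).map (pullback.fst g x₀) ≫ fst)
        ((yon S).map (pullback.snd g x₀)) f ((yon S).map x₀ ≫ q) := sqVY.paste_horiz sq
    rw [sqT.w] at big
    let a' : (yon S).obj (pullback g x₀) ⟶ pullback f ξ :=
      sqH.lift ((yon S).map (pullback.fst g x₀) ≫ fst)
        ((yon S).map (pullback.snd g x₀) ≫ (yon S).map c) (by rw [big.w, Category.assoc])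
    have ha'1 : a' ≫ pullback.fst f ξ = (yon S).map (pullback.fst g x₀) ≫ fst :=
      sqH.lift_fst _ _ _
    have ha'2 : a' ≫ pullback.snd f ξ = (yon S).map (pullback.snd g x₀) ≫ (yon S).map c :=
      sqH.lift_snd _ _ _
    have sqL : IsPullback a' ((yon S).map (pullback.snd g x₀)) (pullback.snd f ξ)
        ((yon S).map c) := by
      refine IsPullback.of_right ?_ ha'2 sqH
      rw [ha'1]
      exact big
    have heff := hdesc c.left inferInstance inferInstance inferInstance (dd sqL) hPv
    obtain ⟨W, w, e, he⟩ := exists_scheme_of_eff c (pullback.snd g x₀) (pullback.snd f ξ) sqL heff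
    refine ⟨W, w, e.hom ≫ pullback.fst f ξ, ?_⟩
    rw [← he]
    exact IsPullback.of_iso sqH e.symm (Iso.refl _) (Iso.refl _) (Iso.refl _)
      (by simp) (by simp) (by simp) (by simp)
  have hepi : Epi q := Groth.Agent.Helper5.EtGlue.epi_of_etale_surjective q hqe hqs
  haveI : Sheaf.IsLocallySurjective q := PbEpi.isLocallySurjective_of_epi q
  refine ⟨RepBySp2.isAlgSpace_of_repBySp f (Representable.repBySp hrep) F.property, ?_⟩
  exact Groth.Agent.S9884.result S _ _ _ f hrep q _ fst ((yon S).map g) sq P
    ((repWith_yon_map_iff _ _).2 hP)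

end Groth.Agent.Helper5.SchDesc
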