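import Mathlib
import Groth.Agent.Helper5.SchDom1
import Groth.Agent.S0346
import Groth.Prelude

set_option autoImplicit false
set_option linter.unusedSectionVars false
set_option linter.style.haveILetI false
universe u

open CategoryTheory MonoidalCategory CartesianMonoidalCategory MonObj GrpObj AlgebraicGeometry
open Limits TopologicalSpace

namespace Groth.Agent.Helper5.SchDom

theorem pullback_map_left_fst {S : Scheme.{u}} (S₀ : S.Opens) {M N : Over S} (φ : M ⟶ N) :
    ((Over.pullback S₀.ι).map φ).left ≫ pullback.fst N.hom S₀.ι =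
      pullback.fst M.hom S₀.ι ≫ φ.left := by
  simp only [Over.pullback_map_left]
  exact pullback.lift_fst _ _ _

theorem pullback_map_left_snd {S : Scheme.{u}} (S₀ : S.Opens) {M N : Over S} (φ : M ⟶ N) :
    ((Over.pullback S₀.ι).map φ).left ≫ pullback.snd N.hom S₀.ι =
      pullback.snd M.hom S₀.ι := by
  simp only [Over.pullback_map_left]
  exact pullback.lift_snd _ _ _

/-- the key step: a section `e` of `h : H ⟶ S` whose scheme-theoretic image is étale over `S`,
with `H` separated over the open `S₀` and mapping by a monomorphism to a scheme `G` with the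
uniqueness part of the weak Néron mapping property, is a closed immersion -/
theorem isClosedImmersion_section {S : Scheme.{u}} [IsLocallyNoetherian S] (S₀ : S.Opens)
    (G : Over S)
    (hG : ∀ U : Over S, Etale U.hom →
      Function.Injective (fun g : U ⟶ G => (Over.pullback S₀.ι).map g))
    (H : Over S) [LocallyOfFiniteType H.hom] (j : H ⟶ G) [Mono j.left]
    (e : S ⟶ H.left) (he : e ≫ H.hom = 𝟙 S)
    (hal : Etale (e.ker.subschemeι ≫ H.hom))
    (h0 : IsSeparated (Limits.pullback.snd H.hom S₀.ι)) :
    IsClosedImmersion e := by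
  haveI : IsLocallyNoetherian H.left := LocallyOfFiniteType.isLocallyNoetherian H.hom
  haveI : QuasiCompact (e ≫ H.hom) := by rw [he]; infer_instance
  haveI : QuasiCompact e := QuasiCompact.of_comp e H.hom
  let ιE : e.image ⟶ H.left := e.imageι
  let e' : S ⟶ e.image := e.toImage
  let π : e.image ⟶ S := ιE ≫ H.hom
  haveI : Etale π := hal
  have he'ι : e' ≫ ιE = e := e.toImage_imageι
  have he'π : e' ≫ π = 𝟙 S := by
    show e' ≫ ιE ≫ H.hom = _
    rw [reassoc_of% he'ι, he]
  haveI : IsSchemeTheoreticallyDominant e' := isSchemeTheoreticallyDominant_toImage e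
  -- two morphisms to `G`
  let U : Over S := Over.mk π
  let a₀ : U ⟶ H := Over.homMk ιE rfl
  let b₀ : U ⟶ H := Over.homMk (π ≫ e) (by
    show (π ≫ e) ≫ H.hom = π
    rw [Category.assoc, he, Category.comp_id])
  -- they agree over `S₀`
  let d := pullback.snd e' (pullback.fst π S₀.ι)
  haveI : IsSchemeTheoreticallyDominant d := inferInstance
  have hd : d ≫ pullback.fst π S₀.ι = pullback.fst e' (pullback.fst π S₀.ι) ≫ e' :=
    pullback.condition.symm
  have hαβ : ((Over.pullback S₀.ι).map a₀).left = ((Over.pullback S₀.ι).map b₀).left := by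
    haveI : IsSeparated (pullback.snd H.hom S₀.ι) := h0
    refine ext_of_isSchemeTheoreticallyDominant_of_isSeparated (pullback.snd H.hom S₀.ι) ?_ d ?_
    · rw [pullback_map_left_snd, pullback_map_left_snd]
    · apply pullback.hom_ext
      · rw [Category.assoc, Category.assoc, pullback_map_left_fst, pullback_map_left_fst]
        show d ≫ pullback.fst π S₀.ι ≫ ιE = d ≫ pullback.fst π S₀.ι ≫ π ≫ e
        rw [reassoc_of% hd, reassoc_of% hd, he'ι, reassoc_of% he'π]
      · rw [Category.assoc, Category.assoc, pullback_map_left_snd, pullback_map_left_snd]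
  have hab : a₀ ≫ j = b₀ ≫ j := by
    apply hG U hal
    show (Over.pullback S₀.ι).map (a₀ ≫ j) = (Over.pullback S₀.ι).map (b₀ ≫ j)
    rw [Functor.map_comp, Functor.map_comp]
    congr 1
    exact Over.OverMorphism.ext hαβ
  have h1 : ιE ≫ j.left = (π ≫ e) ≫ j.left := congrArg (fun m => m.left) hab
  have h2 : ιE = π ≫ e := (cancel_mono j.left).1 h1
  have h3 : π ≫ e' = 𝟙 e.image := by
    rw [← cancel_mono ιE, Category.assoc, he'ι, Category.id_comp, ← h2]
  haveI : IsIso e' := ⟨π, he'π, h3⟩
  rw [← he'ι]
  infer_instance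

theorem s13426 {S : Scheme.{u}} [IsLocallyNoetherian S] (S₀ : S.Opens)
    (G : Over S)
    (hG : ∀ U : Over S, Etale U.hom →
      Function.Bijective (fun g : U ⟶ G => (Over.pullback S₀.ι).map g))
    (H : Over S) [GrpObj H] [Smooth H.hom] (j : H ⟶ G) [Mono j.left]
    (hal : Etale (η[H].left.ker.subschemeι ≫ H.hom))
    (h0 : IsSeparated (Limits.pullback.snd H.hom S₀.ι)) :
    IsSeparated H.hom := by
  have hsec : η[H].left ≫ H.hom = 𝟙 _ := by
    have := Over.w η[H]
    simpa using this
  have hcl : IsClosedImmersion η[H].left :=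
    isClosedImmersion_section S₀ G (fun U hU => (hG U hU).1) H j η[H].left hsec hal h0
  exact (Groth.Agent.S0346.result S H).1.2 hcl

end Groth.Agent.Helper5.SchDom
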