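import Mathlib

set_option autoImplicit false
set_option linter.unusedSectionVars false
universe u v

open CategoryTheory MonoidalCategory CartesianMonoidalCategory MonObj

namespace Groth.Agent.Helper5.SubGrp

variable {C : Type u} [Category.{v} C] [CartesianMonoidalCategory C]
variable {G K : C} [GrpObj G] (i : K ⟶ G)
  (m : K ⊗ K ⟶ K) (e : 𝟙_ C ⟶ K) (w : K ⟶ K)

theorem key (hm : m ≫ i = (i ⊗ₘ i) ≫ μ[G]) {T : C} (a b : T ⟶ K) :
    (lift a b ≫ m) ≫ i = (a ≫ i) * (b ≫ i) := by
  rw [Category.assoc, hm, Hom.mul_def]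
  simp

variable [Mono i]

/-- monoid structure induced on a subobject stable under the operations -/
@[reducible] def monObj (hm : m ≫ i = (i ⊗ₘ i) ≫ μ[G]) (he : e ≫ i = η[G]) : MonObj K where
  one := e
  mul := m
  one_mul := by
    rw [← cancel_mono i]
    have h1 : e ▷ K = lift (fst _ _ ≫ e) (snd _ _) := by ext <;> simp
    rw [h1, Category.assoc, ← Category.assoc, key i m hm, Category.assoc, he]
    have h2 : fst (𝟙_ C) K ≫ η[G] = (1 : 𝟙_ C ⊗ K ⟶ G) := by
      rw [Hom.one_def]; congr 1; exact toUnit_unique _ _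
    rw [h2, _root_.one_mul, leftUnitor_hom]
  mul_one := by
    rw [← cancel_mono i]
    have h1 : K ◁ e = lift (fst _ _) (snd _ _ ≫ e) := by ext <;> simp
    rw [h1, Category.assoc, ← Category.assoc, key i m hm, Category.assoc, he]
    have h2 : snd K (𝟙_ C) ≫ η[G] = (1 : K ⊗ 𝟙_ C ⟶ G) := by
      rw [Hom.one_def]; congr 1; exact toUnit_unique _ _
    rw [h2, _root_.mul_one, rightUnitor_hom]
  mul_assoc := by
    rw [← cancel_mono i]
    have h1 : m ▷ K = lift (lift (fst _ _ ≫ fst _ _) (fst _ _ ≫ snd _ _) ≫ m) (snd _ _) := by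
      ext <;> simp
    have h2 : (α_ K K K).hom ≫ K ◁ m =
        lift (fst _ _ ≫ fst _ _) (lift (fst _ _ ≫ snd _ _) (snd _ _) ≫ m) := by
      have h3 : (α_ K K K).hom ≫ snd K (K ⊗ K) =
          lift (fst (K ⊗ K) K ≫ snd K K) (snd (K ⊗ K) K) := by ext <;> simp
      ext
      · simp
      · simp only [Category.assoc, whiskerLeft_snd, lift_snd]
        rw [← Category.assoc, h3]
    rw [h1, Category.assoc, ← Category.assoc, key i m hm, key i m hm]
    rw [Category.assoc, ← Category.assoc, ← Category.assoc, h2]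
    rw [Category.assoc, ← Category.assoc, key i m hm, key i m hm, _root_.mul_assoc]

/-- group structure induced on a subobject stable under the operations -/
@[reducible] def grpObj (hm : m ≫ i = (i ⊗ₘ i) ≫ μ[G]) (he : e ≫ i = η[G])
    (hw : w ≫ i = i ≫ ι[G]) : GrpObj K :=
  { monObj i m e hm he with
    inv := w
    left_inv := by
      rw [← cancel_mono i]
      show (lift w (𝟙 K) ≫ m) ≫ i = (toUnit K ≫ e) ≫ i
      rw [key i m hm, hw, Category.id_comp, Category.assoc, he, ← Hom.inv_def, ← Hom.one_def,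
        inv_mul_cancel]
    right_inv := by
      rw [← cancel_mono i]
      show (lift (𝟙 K) w ≫ m) ≫ i = (toUnit K ≫ e) ≫ i
      rw [key i m hm, hw, Category.id_comp, Category.assoc, he, ← Hom.inv_def, ← Hom.one_def,
        mul_inv_cancel] }

theorem isMonHom (hm : m ≫ i = (i ⊗ₘ i) ≫ μ[G]) (he : e ≫ i = η[G])
    (hw : w ≫ i = i ≫ ι[G]) :
    letI := grpObj i m e w hm he hw
    IsMonHom i :=
  letI := grpObj i m e w hm he hw
  { one_hom := he
    mul_hom := hm }

/-- a morphism into the subobject is a homomorphism if its composite is -/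
theorem isMonHom_of_comp {H : C} [GrpObj H] [GrpObj K] [IsMonHom i] (f' : H ⟶ K)
    [IsMonHom (f' ≫ i)] : IsMonHom f' where
  one_hom := by
    rw [← cancel_mono i, Category.assoc, IsMonHom.one_hom i]
    exact IsMonHom.one_hom (f' ≫ i)
  mul_hom := by
    rw [← cancel_mono i, Category.assoc, Category.assoc, IsMonHom.mul_hom i]
    have := IsMonHom.mul_hom (f' ≫ i)
    rw [this, ← Category.assoc, tensorHom_comp_tensorHom]

end Groth.Agent.Helper5.SubGrp
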