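import Mathlib
import Groth.Prelude
import Groth.Agent.Helper5.SubGrp1
import Groth.Agent.Helper5.DomHom2
import Groth.Agent.Helper5.SchDom1
import Groth.Agent.Helper5.ProdDom

set_option autoImplicit false
set_option linter.unusedSectionVars false
set_option linter.style.haveILetI false
universe u

open AlgebraicGeometry CategoryTheory CategoryTheory.Limits TopologicalSpace
open MonoidalCategory CartesianMonoidalCategory MonObj GrpObj

namespace Groth.Agent.Helper5.SchImgGrp

open Groth.Agent.Helper5.GrpDense

section lift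
variable {S : Scheme.{u}}

/-- lifting through a closed immersion after a scheme-theoretically dominant map -/
theorem exists_lift {K G Z' Z : Over S} (i : K ⟶ G) [IsClosedImmersion i.left] (d : Z' ⟶ Z)
    [IsSchemeTheoreticallyDominant d.left] (φ : Z ⟶ G) (ψ : Z' ⟶ K) (h : ψ ≫ i = d ≫ φ) :
    ∃ φ' : Z ⟶ K, φ' ≫ i = φ := by
  have hker : i.left.ker ≤ φ.left.ker := by
    have h1 : φ.left.ker = (d.left ≫ φ.left).ker := by
      rw [Scheme.Hom.ker_comp, d.left.ker_eq_bot, Scheme.IdealSheafData.map_bot]
    have h2 : d.left ≫ φ.left = ψ.left ≫ i.left := by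
      rw [← Over.comp_left, ← Over.comp_left, h]
    rw [h1, h2, Scheme.Hom.ker_comp, ← Scheme.IdealSheafData.map_bot]
    exact Scheme.IdealSheafData.map_mono _ bot_le
  refine ⟨Over.homMk (IsClosedImmersion.lift i.left φ.left hker) ?_, ?_⟩
  · rw [← Over.w i, ← Category.assoc, IsClosedImmersion.lift_fac, Over.w]
  · ext
    simp

end lift

variable (k : Type u) [Field k] (H G : Over (Spec (CommRingCat.of k))) [GrpObj H] [GrpObj G]
  (f : H ⟶ G) [IsMonHom f] [QuasiCompact f.left]

/-- the scheme-theoretic image -/
noncomputable def img : Over (Spec (CommRingCat.of k)) := Over.mk (f.left.imageι ≫ G.hom)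

noncomputable def imgι : img k H G f ⟶ G := Over.homMk f.left.imageι rfl

noncomputable def toImg : H ⟶ img k H G f :=
  Over.homMk f.left.toImage (by
    show f.left.toImage ≫ f.left.imageι ≫ G.hom = H.hom
    rw [← Category.assoc, Scheme.Hom.toImage_imageι, Over.w])

theorem toImg_imgι : toImg k H G f ≫ imgι k H G f = f := by
  ext
  exact Scheme.Hom.toImage_imageι f.left

instance : IsClosedImmersion (imgι k H G f).left :=
  inferInstanceAs (IsClosedImmersion f.left.imageι)

instance : Mono (imgι k H G f) := by
  haveI : Mono (imgι k H G f).left := inferInstance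
  exact Over.mono_of_mono_left _

instance : IsSchemeTheoreticallyDominant (toImg k H G f).left :=
  Groth.Agent.Helper5.SchDom.isSchemeTheoreticallyDominant_toImage f.left

instance : QuasiCompact (toImg k H G f).left :=
  inferInstanceAs (QuasiCompact f.left.toImage)

instance flat_of_field (X : Over (Spec (CommRingCat.of k))) : Flat X.hom := inferInstance

/-- `toImg ⊗ toImg` is scheme-theoretically dominant -/
theorem std_tensor : IsSchemeTheoreticallyDominant
    (toImg k H G f ⊗ₘ toImg k H G f).left := by
  have hfg : toImg k H G f ⊗ₘ toImg k H G f =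
      (toImg k H G f ▷ H) ≫ (img k H G f ◁ toImg k H G f) := tensorHom_def _ _
  haveI h1 : IsSchemeTheoreticallyDominant (toImg k H G f ▷ H).left := by
    haveI : Flat (fst (img k H G f) H).left := by
      change Flat (pullback.fst (img k H G f).hom H.hom)
      infer_instance
    exact IsSchemeTheoreticallyDominant.of_isPullback
      (isPullback_whiskerRight (toImg k H G f) H).flip
  haveI h2 : IsSchemeTheoreticallyDominant (img k H G f ◁ toImg k H G f).left := by
    haveI : Flat (snd (img k H G f) (img k H G f)).left := by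
      change Flat (pullback.snd (img k H G f).hom (img k H G f).hom)
      infer_instance
    exact IsSchemeTheoreticallyDominant.of_isPullback
      (isPullback_whiskerLeft (img k H G f) (toImg k H G f)).flip
  rw [hfg, Over.comp_left]
  infer_instance

theorem exists_mul : ∃ m : img k H G f ⊗ img k H G f ⟶ img k H G f,
    m ≫ imgι k H G f = (imgι k H G f ⊗ₘ imgι k H G f) ≫ μ[G] := by
  haveI := std_tensor k H G f
  refine exists_lift (imgι k H G f) (toImg k H G f ⊗ₘ toImg k H G f)
    ((imgι k H G f ⊗ₘ imgι k H G f) ≫ μ[G]) (μ[H] ≫ toImg k H G f) ?_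
  rw [Category.assoc, toImg_imgι, IsMonHom.mul_hom f, ← Category.assoc,
    tensorHom_comp_tensorHom, toImg_imgι]

theorem exists_inv : ∃ w : img k H G f ⟶ img k H G f,
    w ≫ imgι k H G f = imgι k H G f ≫ ι[G] := by
  refine exists_lift (imgι k H G f) (toImg k H G f)
    (imgι k H G f ≫ ι[G]) (ι[H] ≫ toImg k H G f) ?_
  rw [Category.assoc, toImg_imgι, GrpObj.inv_hom f, ← Category.assoc, toImg_imgι]

theorem s3024 :
    ∃ (H' : Over (Spec (CommRingCat.of k))) (_ : GrpObj H') (i : H' ⟶ G) (f' : H ⟶ H'),
      IsMonHom i ∧ IsMonHom f' ∧ f' ≫ i = f ∧ IsClosedImmersion i.left ∧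
      f'.left.ker = ⊥ ∧ QuasiCompact f'.left ∧ Surjective f'.left := by
  obtain ⟨m, hm⟩ := exists_mul k H G f
  obtain ⟨w, hw⟩ := exists_inv k H G f
  have he : (η[H] ≫ toImg k H G f) ≫ imgι k H G f = η[G] := by
    rw [Category.assoc, toImg_imgι, IsMonHom.one_hom f]
  letI inst : GrpObj (img k H G f) :=
    Groth.Agent.Helper5.SubGrp.grpObj (imgι k H G f) m (η[H] ≫ toImg k H G f) w hm he hw
  haveI hi : IsMonHom (imgι k H G f) :=
    Groth.Agent.Helper5.SubGrp.isMonHom (imgι k H G f) m (η[H] ≫ toImg k H G f) w hm he hw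
  haveI : IsMonHom (toImg k H G f ≫ imgι k H G f) := by
    rw [toImg_imgι]; infer_instance
  haveI hf' : IsMonHom (toImg k H G f) :=
    Groth.Agent.Helper5.SubGrp.isMonHom_of_comp (imgι k H G f) (toImg k H G f)
  refine ⟨img k H G f, inst, imgι k H G f, toImg k H G f, hi, hf', toImg_imgι k H G f,
    inferInstance, (toImg k H G f).left.ker_eq_bot, inferInstance, ?_⟩
  haveI : IsDominant (toImg k H G f).left := inferInstance
  exact Groth.Agent.Helper5.DomHom.surjective_of_dominant k H (img k H G f) (toImg k H G f)
    (IsDominant.denseRange (f := (toImg k H G f).left))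

end Groth.Agent.Helper5.SchImgGrp
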