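import Groth.Agent.Helper5.SecComp2
import Groth.Agent.Helper5.FibCodim
import Groth.Agent.Helper5.EqAt10
import Mathlib

set_option autoImplicit false
universe u
open CategoryTheory CategoryTheory.Limits AlgebraicGeometry TopologicalSpace

namespace Groth.Agent.Helper5.SecComp

open Groth.Agent.Helper5.VarDim Groth.Agent.Helper5.MaxPt Groth.Agent.Helper5.GenDim
  Groth.Agent.Helper5.SubDim Groth.Agent.Helper5.EqAt

/-- (E) Two points of a fibre, one specialising to the other, with the same residue transcendence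
degree, are equal. -/
theorem eq_of_specializes_of_resTrdeg_eq {X Y : Scheme.{u}} (f : X ⟶ Y) [LocallyOfFiniteType f]
    (θ z : X) (hfz : f z = f θ) (hzθ : z ⤳ θ) (htr : Dual3.resTrdeg f θ = Dual3.resTrdeg f z) :
    θ = z := by
  obtain ⟨a, tx, tz, ha, htx, htz, hsum⟩ := fibre_codim' f θ z hfz hzθ
  have h1 : Dual3.resTrdeg f θ = (tx : Cardinal.{u}) := htx
  have h2 : Dual3.resTrdeg f z = (tz : Cardinal.{u}) := htz
  have htt : tx = tz := by
    rw [h1, h2] at htr
    exact_mod_cast htr
  have ha0 : a = 0 := by omega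
  by_contra hne
  have hle : θ ≤ z := Scheme.le_iff_specializes.2 hzθ
  have hlt : θ < z := by
    refine lt_of_le_not_ge hle ?_
    intro hge
    have h3 : θ ⤳ z := Scheme.le_iff_specializes.1 hge
    exact hne (h3.antisymm hzθ).eq
  have hpos : 0 < Order.krullDim ↥(FibIcc f θ z) := by
    rw [Order.krullDim_pos_iff]
    exact ⟨⟨θ, rfl, le_refl _, hle⟩, ⟨z, hfz, hle, le_refl _⟩, hlt⟩
  rw [ha, ha0] at hpos
  exact lt_irrefl _ hpos

set_option maxHeartbeats 1000000 in
/-- An irreducible section component lies in the closure of any maximal point of a fibre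
specialising to its base point, if its dimension is at most the residue transcendence degree. -/
theorem component_subset_closure_point {X Y : Scheme.{u}} (f : X ⟶ Y) [LocallyOfFiniteType f]
    (y : Y) (x₀ z' : X) (hx₀ : f x₀ = y) (hsp : z' ⤳ x₀) (n' : ℕ)
    (hn' : Dual3.resTrdeg f z' = (n' : Cardinal.{u}))
    (hirr : IsIrreducible (connectedComponentIn (f ⁻¹' {y}) x₀))
    (hdim : topologicalKrullDim ↥(connectedComponentIn (f ⁻¹' {y}) x₀) ≤ (n' : WithBot ℕ∞)) :
    connectedComponentIn (f ⁻¹' {y}) x₀ ⊆ closure ({z'} : Set X) := by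
  -- the generic point of the component
  obtain ⟨z, hfz, hzx, hzmax, hfd, tz, htz1, htz2⟩ :=
    Groth.Agent.Helper5.OpenAt.exists_max_generization_fibreDimAt_eq f x₀
  have hz : f z = y := hfz.trans hx₀
  have hzmax' : ∀ w : X, f w = y → w ⤳ z → w = z := fun w hw hs =>
    hzmax w (hw.trans hx₀.symm) hs
  have hCeq := component_eq_of_irreducible f y x₀ z hx₀ hz hzx hzmax' hirr
  have htz : Dual3.resTrdeg f z = (tz : Cardinal.{u}) := htz1
  have htzn : tz ≤ n' := by
    obtain ⟨n, hn1, hn2⟩ := dim_fibre_closure_point f z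
    have hnt : n = tz := by
      rw [hn1] at htz
      exact_mod_cast htz
    rw [hCeq, ← hz, hn2, hnt] at hdim
    exact_mod_cast hdim
  -- the reduced closed subscheme on the closure of z'
  let W : TopologicalSpace.Closeds X := ⟨closure {z'}, isClosed_closure⟩
  let I := Scheme.IdealSheafData.vanishingIdeal W
  let ι : I.subscheme ⟶ X := I.subschemeι
  let h : I.subscheme ⟶ Y := ι ≫ f
  have hrange : Set.range ι = closure ({z'} : Set X) := by
    rw [Scheme.IdealSheafData.range_subschemeι]; rfl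
  obtain ⟨w₀, hw₀⟩ : x₀ ∈ Set.range ι := by rw [hrange]; exact hsp.mem_closure
  obtain ⟨ξT, hξT⟩ : z' ∈ Set.range ι := by rw [hrange]; exact subset_closure rfl
  have hgen : ∀ t : ↥I.subscheme, ξT ⤳ t := by
    intro t
    rw [← ι.isEmbedding.toIsInducing.specializes_iff, hξT]
    have : ι t ∈ closure ({z'} : Set X) := hrange ▸ Set.mem_range_self t
    exact specializes_iff_mem_closure.2 this
  have hmaxξT : ∀ t : ↥I.subscheme, h t = h ξT → t ⤳ ξT → t = ξT := fun t _ hts =>
    (hts.antisymm (hgen t)).eq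
  obtain ⟨n'', hn''1, hn''2⟩ := fibreDimAt_of_maximal h ξT (coheight_asFiber_eq_zero h ξT hmaxξT)
  have hnn : n'' = n' := by
    have htr := trdeg_closedImmersion_comp ι f ξT
    have h2 : Dual3.resTrdeg f (ι ξT) = (n'' : Cardinal.{u}) := htr.symm.trans hn''1
    rw [hξT, hn'] at h2
    exact_mod_cast h2.symm
  have hchev : FlatMor.fibreDimAt h ξT ≤ FlatMor.fibreDimAt h w₀ :=
    fibreDimAt_le_of_specializes h ξT w₀ (hgen w₀)
  obtain ⟨θ, hfθ, hθw, -, hfdθ, tθ, htθ1, htθ2⟩ :=
    Groth.Agent.Helper5.OpenAt.exists_max_generization_fibreDimAt_eq h w₀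
  have hn'θ : n' ≤ tθ := by
    rw [hn''2, ← hfdθ, htθ2, hnn] at hchev
    exact_mod_cast hchev
  have hfιθ : f (ι θ) = y := by
    have : h θ = h w₀ := hfθ
    have h3 : f (ι θ) = f (ι w₀) := this
    rw [h3, hw₀, hx₀]
  have hιθx : ι θ ⤳ x₀ := by
    have := hθw.map ι.continuous
    rwa [hw₀] at this
  have htrθ : Dual3.resTrdeg f (ι θ) = (tθ : Cardinal.{u}) :=
    (trdeg_closedImmersion_comp ι f θ).symm.trans htθ1
  have hιθC : ι θ ∈ connectedComponentIn (f ⁻¹' {y}) x₀ :=
    fibre_closure_subset_component f y x₀ (ι θ) hx₀ hfιθ hιθx ⟨hfιθ, subset_closure rfl⟩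
  have hzθ : z ⤳ ι θ := by
    rw [hCeq] at hιθC
    exact specializes_iff_mem_closure.2 hιθC.2
  have hle := resTrdeg_le_of_specializes_fibre f z (ι θ) hzθ (hz.trans hfιθ.symm)
  have htθz : tθ ≤ tz := by
    rw [htrθ, htz] at hle
    exact_mod_cast hle
  have heq : ι θ = z := by
    refine eq_of_specializes_of_resTrdeg_eq f (ι θ) z (hz.trans hfιθ.symm) hzθ ?_
    rw [htrθ, htz]
    exact_mod_cast (by omega : tθ = tz)
  have hzmem : z ∈ closure ({z'} : Set X) := by
    rw [← hrange, ← heq]; exact Set.mem_range_self θ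
  rw [hCeq]
  intro w hw
  exact closure_minimal (Set.singleton_subset_iff.2 hzmem) isClosed_closure hw.2

/-- The local dimension of the fibre at a point is at most the dimension of the connected component
of the fibre. -/
theorem fibreDimAt_le_dim_component {X Y : Scheme.{u}} (f : X ⟶ Y) [LocallyOfFiniteType f]
    (y : Y) (x₀ : X) (hx₀ : f x₀ = y) :
    FlatMor.fibreDimAt f x₀ ≤ topologicalKrullDim ↥(connectedComponentIn (f ⁻¹' {y}) x₀) := by
  obtain ⟨z, hfz, hzx, hzmax, hfd, tz, htz1, htz2⟩ :=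
    Groth.Agent.Helper5.OpenAt.exists_max_generization_fibreDimAt_eq f x₀
  have hz : f z = y := hfz.trans hx₀
  obtain ⟨n, hn1, hn2⟩ := dim_fibre_closure_point f z
  have hnt : n = tz := by
    have h1 : Dual3.resTrdeg f z = (tz : Cardinal.{u}) := htz1
    rw [hn1] at h1
    exact_mod_cast h1
  rw [← hfd, htz2, ← hnt, ← hn2, hz]
  exact Groth.Agent.Helper5.FibDim.dim_subset_le
    (fibre_closure_subset_component f y x₀ z hx₀ hz hzx)

end Groth.Agent.Helper5.SecComp
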