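import Mathlib

set_option autoImplicit false
universe u

open CategoryTheory CategoryTheory.Limits AlgebraicGeometry

namespace Groth.Agent.Helper5.SecImg

variable {X Y : Scheme.{u}}

theorem s9361 (f : X ⟶ Y) [IsSeparated f] (V : Y.Opens) [QuasiCompact V.ι]
    (s : (↑V : Scheme.{u}) ⟶ X) (hs : s ≫ f = V.ι) :
    IsIso ((s.imageι ≫ f) ∣_ V) := by
  have : IsImmersion (s ≫ f) := by rw [hs]; infer_instance
  have : IsImmersion s := IsImmersion.of_comp s f
  have : QuasiCompact (s ≫ f) := by rw [hs]; infer_instance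
  have : QuasiCompact s := QuasiCompact.of_comp s f
  set g := s.imageι ≫ f with hg
  let π := s.toImage
  have hπg : π ≫ g = V.ι := by
    rw [hg, ← Category.assoc, s.toImage_imageι, hs]
  have hr : Set.range π ⊆ Set.range (g ⁻¹ᵁ V).ι := by
    rintro _ ⟨v, rfl⟩
    rw [Scheme.Opens.range_ι]
    change g (π v) ∈ V
    rw [← Scheme.Hom.comp_apply, hπg]
    exact v.2
  let t : (↑V : Scheme.{u}) ⟶ (g ⁻¹ᵁ V).toScheme := IsOpenImmersion.lift (g ⁻¹ᵁ V).ι π hr
  have ht : t ≫ (g ⁻¹ᵁ V).ι = π := IsOpenImmersion.lift_fac _ _ _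
  have ht2 : t ≫ (g ∣_ V) = 𝟙 _ := by
    rw [← cancel_mono V.ι, Category.assoc, morphismRestrict_ι, ← Category.assoc, ht, hπg,
      Category.id_comp]
  have : IsOpenImmersion (t ≫ (g ⁻¹ᵁ V).ι) := by rw [ht]; infer_instance
  have : IsOpenImmersion t := IsOpenImmersion.of_comp t (g ⁻¹ᵁ V).ι
  have : IsClosedImmersion (t ≫ (g ∣_ V)) := by rw [ht2]; infer_instance
  have : IsClosedImmersion t := IsClosedImmersion.of_comp t (g ∣_ V)
  have hd : DenseRange t := by
    have h1 : Dense (Set.range π) := π.denseRange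
    have h2 := h1.preimage (g ⁻¹ᵁ V).ι.isOpenEmbedding.isOpenMap
    have h3 : (g ⁻¹ᵁ V).ι ⁻¹' Set.range π = Set.range t := by
      ext x
      constructor
      · rintro ⟨v, hv⟩
        refine ⟨v, (g ⁻¹ᵁ V).ι.isOpenEmbedding.injective ?_⟩
        rw [← Scheme.Hom.comp_apply, ht]
        exact hv
      · rintro ⟨v, rfl⟩
        exact ⟨v, by rw [← Scheme.Hom.comp_apply, ht]⟩
    rw [h3] at h2
    exact h2
  have hsurj : Function.Surjective t := by
    rw [← Set.range_eq_univ, ← t.isClosedEmbedding.isClosed_range.closure_eq]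
    exact hd.closure_range
  have : Surjective t := ⟨hsurj⟩
  have : IsIso t := (isIso_iff_isOpenImmersion_and_surjective _).mpr ⟨inferInstance, this⟩
  have h4 : g ∣_ V = inv t := by
    rw [← cancel_epi t, ht2, IsIso.hom_inv_id]
  rw [h4]
  infer_instance

end Groth.Agent.Helper5.SecImg
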