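import Groth.Agent.Helper5.ImmImg1
import Groth.Agent.Helper5.AlgSpProper
import Groth.Agent.Helper5.FpqcIso
import Groth.Agent.S9933
import Groth.Agent.S9936
import Groth.Agent.S9965
import Mathlib

set_option autoImplicit false
universe u
open CategoryTheory CategoryTheory.Limits AlgebraicGeometry Opposite

namespace Groth.Agent.Helper5.SecImg

open AlgSp

variable {S : Scheme.{u}}

theorem isSchImage_self {Z X : Sp S} (h : Z ⟶ X) (hh : RepWith @IsClosedImmersion h) :
    IsSchImage h h :=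
  ⟨hh, ⟨𝟙 _, Category.id_comp _⟩, fun _ _ _ _ ⟨f'', hf''⟩ => ⟨f'', hf''⟩⟩

theorem s9967 {X Y V Y' : Space S} (f : X ⟶ Y) (j : V ⟶ Y)
    (hj : RepWith @IsOpenImmersion j.hom) (hjq : IsQuasiCompactMor j.hom)
    (hf : IsSeparatedMor f.hom)
    (s : V ⟶ X) (hs : s ≫ f = j) (c : Y' ⟶ X) (hc : IsSchImage s.hom c.hom)
    {P : Sp S} (fst : P ⟶ Y'.obj) (snd : P ⟶ V.obj) (sq : IsPullback fst snd (c ≫ f).hom j.hom) :
    IsIso snd := by
  have hs' : s.hom ≫ f.hom = j.hom := by rw [← hs]; rfl
  -- the open subspace `X_V`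
  have sqXV : IsPullback (pullback.fst f.hom j.hom) (pullback.snd f.hom j.hom) f.hom j.hom :=
    IsPullback.of_hasPullback _ _
  have hXV : IsAlgSpace (pullback f.hom j.hom) :=
    Groth.Agent.Helper4.AlgSpPB.isAlgSpace_of_isPullback Y.property.diag X.property V.property
      f.hom j.hom _ _ sqXV
  let XV : Space S := ⟨pullback f.hom j.hom, hXV⟩
  let jX : XV ⟶ X := ObjectProperty.homMk (pullback.fst f.hom j.hom)
  let fV : XV ⟶ V := ObjectProperty.homMk (pullback.snd f.hom j.hom)
  have hjX : RepWith @IsOpenImmersion jX.hom :=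
    (RepWith (S := S) @IsOpenImmersion).of_isPullback sqXV.flip hj
  have hjXq : IsQuasiCompactMor jX.hom :=
    Groth.Agent.Helper4.AlgSpQC.isQuasiCompactMor_of_isPullback sqXV.flip hjq
  have hfV : IsSeparatedMor fV.hom :=
    Groth.Agent.Helper5.AlgSpProper.isSeparatedMor_of_isPullback sqXV hf
  -- the section
  let sV₀ : V.obj ⟶ pullback f.hom j.hom := pullback.lift s.hom (𝟙 _) (by rw [hs', Category.id_comp])
  let sV : V ⟶ XV := ObjectProperty.homMk sV₀
  have hsV1 : sV.hom ≫ jX.hom = s.hom := pullback.lift_fst _ _ _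
  have hsV2 : sV.hom ≫ fV.hom = 𝟙 _ := pullback.lift_snd _ _ _
  have i1 := repWith_isStableUnderBaseChange (S := S) @IsClosedImmersion
  have i2 := (repWith_isMultiplicative (S := S) @IsClosedImmersion).toIsStableUnderComposition
  have hsVc : RepWith @IsClosedImmersion sV.hom := by
    apply Groth.Agent.S9933.cancel (RepWith (S := S) @IsClosedImmersion) sV.hom fV.hom hfV
    rw [hsV2]
    exact (repWith_isMultiplicative (S := S) @IsClosedImmersion).id_mem _
  have hsVq : IsQuasiCompactMor sV.hom := Groth.Agent.S9936.result sV hsVc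
  have hsq : IsQuasiCompactMor s.hom := by
    rw [← hsV1]
    exact Groth.Agent.Helper4.AlgSpQC.isQuasiCompactMor_comp hXV X.property.diag _ _ hsVq hjXq
  have hjXm : Mono jX.hom := Groth.Agent.Helper5.FpqcIso.mono_of_repWith_openImmersion _ hjX
  -- the pullback squares over `jX`
  have sq1 : IsPullback (𝟙 V.obj) sV.hom (sV.hom ≫ jX.hom) jX.hom :=
    Groth.Agent.Helper4.AlgSpPB.isPullback_of_mono sV.hom jX.hom
  rw [hsV1] at sq1
  have hP : IsAlgSpace P :=
    Groth.Agent.Helper4.AlgSpPB.isAlgSpace_of_isPullback Y.property.diag Y'.property V.property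
      _ _ _ _ sq
  let PP : Space S := ⟨P, hP⟩
  have hw : (fst ≫ c.hom) ≫ f.hom = snd ≫ j.hom := by
    rw [Category.assoc]
    exact sq.w
  let iV₀ : P ⟶ pullback f.hom j.hom := pullback.lift (fst ≫ c.hom) snd hw
  let iV : PP ⟶ XV := ObjectProperty.homMk iV₀
  let i₁ : PP ⟶ Y' := ObjectProperty.homMk fst
  have hiV1 : iV.hom ≫ jX.hom = fst ≫ c.hom := pullback.lift_fst _ _ _
  have hiV2 : iV.hom ≫ fV.hom = snd := pullback.lift_snd _ _ _
  have sq2 : IsPullback i₁.hom iV.hom c.hom jX.hom := by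
    have big : IsPullback (iV.hom ≫ fV.hom) fst j.hom (c.hom ≫ f.hom) := by
      rw [hiV2]
      exact sq.flip
    exact (IsPullback.of_right big hiV1 sqXV.flip).flip
  have himg : IsSchImage sV.hom iV.hom :=
    (Groth.Agent.S9965.result s c hsq hc).1 XV V PP jX
      (Groth.Agent.Helper5.FpqcIso.isEtaleMor_of_repWith_openImmersion _ hjX)
      (𝟙 V) sV i₁ iV sq1 sq2
  obtain ⟨e, he⟩ := Groth.Agent.Helper5.SchImg.isSchImage_unique V.property hP sV.hom sV.hom iV.hom
    (isSchImage_self sV.hom hsVc) himg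
  have h1 : e.hom ≫ snd = 𝟙 _ := by
    rw [← hiV2, ← Category.assoc, he, hsV2]
  have h2 : snd = e.inv := by
    rw [← Category.id_comp snd, ← e.inv_hom_id, Category.assoc, h1, Category.comp_id]
  rw [h2]
  infer_instance

end Groth.Agent.Helper5.SecImg
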