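import Mathlib

set_option autoImplicit false
universe u
open CategoryTheory CategoryTheory.Limits AlgebraicGeometry

namespace Groth.Agent.Helper5.SecInj

/-- ring-level key: if `p` is minimal over the annihilator of `t`, and `O` is the localisation at `p`
with a regular element in its maximal ideal, contradiction. -/
theorem key {A : Type*} [CommRing A] (t : A) (ht : t ≠ 0) :
    ∃ p : Ideal A, p.IsPrime ∧ ∀ (O : Type*) [CommRing O] [Algebra A O] [IsLocalRing O]
      [p.IsPrime] [IsLocalization.AtPrime O p],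
      algebraMap A O t ≠ 0 ∧
      ∀ a ∈ IsLocalRing.maximalIdeal O, ¬ IsSMulRegular O a := by
  classical
  set I : Ideal A := LinearMap.ker (LinearMap.toSpanSingleton A A t) with hI
  have hmem : ∀ x, x ∈ I ↔ x * t = 0 := by
    intro x
    simp [hI, LinearMap.mem_ker, LinearMap.toSpanSingleton_apply]
  have hne : I ≠ ⊤ := by
    intro h
    have : (1 : A) ∈ I := by rw [h]; trivial
    rw [hmem] at this
    exact ht (by simpa using this)
  obtain ⟨m, hm, hIm⟩ := Ideal.exists_le_maximal I hne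
  obtain ⟨p, hp, -⟩ := Ideal.exists_minimalPrimes_le (I := I) (J := m) hIm
  have hpp : p.IsPrime := hp.1.1
  refine ⟨p, hpp, ?_⟩
  intro O _ _ _ _ _
  have htz : algebraMap A O t ≠ 0 := by
    intro h
    rw [IsLocalization.map_eq_zero_iff p.primeCompl] at h
    obtain ⟨s, hs⟩ := h
    have : (s : A) ∈ I := by rw [hmem]; exact hs
    exact s.2 (hp.1.2 this)
  refine ⟨htz, ?_⟩
  intro a ha hreg
  have hrad := IsLocalization.AtPrime.radical_map_of_mem_minimalPrimes (A := O) p I hp
  rw [IsLocalization.AtPrime.map_eq_maximalIdeal p O] at hrad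
  rw [← hrad] at ha
  obtain ⟨n, hn⟩ := ha
  -- elements of `I.map` kill the image of `t`
  have hkill : I.map (algebraMap A O) ≤
      LinearMap.ker (LinearMap.toSpanSingleton O O (algebraMap A O t)) := by
    rw [Ideal.map_le_iff_le_comap]
    intro x hx
    rw [hmem] at hx
    simp only [Ideal.mem_comap, LinearMap.mem_ker, LinearMap.toSpanSingleton_apply, smul_eq_mul]
    rw [← map_mul, hx, map_zero]
  have h0 := hkill hn
  simp only [LinearMap.mem_ker, LinearMap.toSpanSingleton_apply, smul_eq_mul] at h0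
  have hreg' : IsSMulRegular O (a ^ n) := hreg.pow n
  apply htz
  apply hreg'
  simp only [smul_eq_mul, mul_zero]
  exact h0


theorem ker_ι_eq_bot (X : Scheme.{u}) (U : X.Opens) [QuasiCompact U.ι]
    (hZ : ∀ z : X, z ∉ U → ∃ a ∈ IsLocalRing.maximalIdeal (X.presheaf.stalk z),
      IsSMulRegular (X.presheaf.stalk z) a) :
    U.ι.ker = ⊥ := by
  ext W : 2
  rw [Scheme.Hom.ker_apply, Scheme.IdealSheafData.ideal_bot, Pi.bot_apply]
  rw [eq_bot_iff]
  intro t ht
  rw [RingHom.mem_ker] at ht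
  rw [Ideal.mem_bot]
  by_contra ht0
  obtain ⟨p, hpp, hkey⟩ := key t ht0
  -- the point of `W` corresponding to `p`
  let z' : (W.1 : Scheme.{u}) := W.2.isoSpec.inv (⟨p, hpp⟩ : PrimeSpectrum Γ(X, W.1))
  have hz'p : W.2.primeIdealOf z' = ⟨p, hpp⟩ := by
    dsimp only [IsAffineOpen.primeIdealOf, z']
    rw [← Scheme.Hom.comp_apply, Iso.inv_hom_id]
    rfl
  let z : X := z'.1
  have hzW : z ∈ W.1 := z'.2
  let : Algebra Γ(X, W.1) (X.presheaf.stalk z) := (X.presheaf.germ W.1 z hzW).hom.toAlgebra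
  have hloc : IsLocalization.AtPrime (X.presheaf.stalk z) (W.2.primeIdealOf z').asIdeal :=
    W.2.isLocalization_stalk z'
  have hpp' : (W.2.primeIdealOf z').asIdeal = p := by rw [hz'p]
  have hloc' : IsLocalization.AtPrime (X.presheaf.stalk z) p := by
    convert hloc using 1 <;> exact hpp'.symm
  obtain ⟨htz, hnreg⟩ := hkey (X.presheaf.stalk z)
  have hzU : z ∉ U := by
    intro hzU
    apply htz
    show (X.presheaf.germ W.1 z hzW).hom t = 0
    have hzUW : z ∈ U.ι ''ᵁ U.ι ⁻¹ᵁ W.1 := by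
      refine ⟨⟨z, hzU⟩, ?_, rfl⟩
      exact hzW
    have := X.presheaf.germ_res_apply
      (homOfLE (x := U.ι ''ᵁ U.ι ⁻¹ᵁ W.1) (Set.image_preimage_subset _ _)) z hzUW t
    rw [← this]
    have h0 : (X.presheaf.map (homOfLE (x := U.ι ''ᵁ U.ι ⁻¹ᵁ W.1)
        (Set.image_preimage_subset _ _)).op).hom t = 0 := ht
    rw [h0, map_zero]
  obtain ⟨a, ha, hreg⟩ := hZ z hzU
  exact hnreg a ha hreg


/-- two morphisms into a separated `Z`-scheme agreeing on a scheme-theoretically dense
subscheme are equal -/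
theorem ext_of_ker_eq_bot {W X Y Z : Scheme.{u}} {f g : X ⟶ Y}
    (s : Y ⟶ Z) [IsSeparated s] (h : f ≫ s = g ≫ s)
    (ι : W ⟶ X) (hι : ι.ker = ⊥) (hU : ι ≫ f = ι ≫ g) : f = g := by
  let X' : Over Z := Over.mk (f ≫ s)
  let Y' : Over Z := Over.mk s
  let U' : Over Z := Over.mk (ι ≫ f ≫ s)
  let f' : X' ⟶ Y' := Over.homMk f
  let g' : X' ⟶ Y' := Over.homMk g
  let ι' : U' ⟶ X' := Over.homMk ι
  have : IsSeparated Y'.hom := ‹_›
  have hlift : ι' ≫ f' = ι' ≫ g' := by ext1; exact hU
  have hfac : (equalizer.lift ι' hlift).left ≫ (equalizer.ι f' g').left = ι := by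
    rw [← Over.comp_left, equalizer.lift_ι]
    rfl
  have hker : (equalizer.ι f' g').left.ker = ⊥ := by
    rw [eq_bot_iff, ← hι, ← hfac]
    exact Scheme.Hom.le_ker_comp _ _
  have := (IsClosedImmersion.isIso_iff_ker_eq_bot (f := (equalizer.ι f' g').left)).2 hker
  rw [← cancel_epi (equalizer.ι f' g').left]
  exact congr($(equalizer.condition f' g').left)

end Groth.Agent.Helper5.SecInj
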