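import Mathlib
import Groth.Prelude
import Groth.Agent.Helper5.SecNbK
import Groth.Agent.Helper5.SecNbL

set_option autoImplicit false
set_option linter.style.haveILetI false
universe u

namespace Groth.Agent.Helper5.SecNb

open AlgebraicGeometry CategoryTheory CategoryTheory.Limits TopologicalSpace Topology
open Groth.Agent.Lead Groth.Agent.Helper5.ConsLc Groth.Agent.Helper5.SecComp

/-- descent of the pointwise hypothesis along a base change compatible with the sections -/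
theorem uRed_desc {X S X' S' : Scheme.{u}} (u : X ⟶ S) (s : S ⟶ X) (hs : s ≫ u = 𝟙 S)
    (u' : X' ⟶ S') (s' : S' ⟶ X') (hs' : s' ≫ u' = 𝟙 S') (q : X ⟶ X') (π : S ⟶ S')
    (H : IsPullback q u u' π) (hc : s ≫ q = π ≫ s') (y : S)
    (h : ∀ x ∈ connectedComponentIn (u ⁻¹' {y}) (s y), URed u x) :
    ∀ x₂ ∈ connectedComponentIn (u' ⁻¹' {π y}) (s' (π y)), URed u' x₂ := by
  intro x₂ hx₂
  have hux₂ : u' x₂ = π y := by
    have h0 : x₂ ∈ u' ⁻¹' {π y} := connectedComponentIn_subset _ _ hx₂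
    exact h0
  obtain ⟨x, hx1, hx2⟩ :=
    Groth.Agent.Helper5.PairPt.exists_point_of_isPullback q u u' π H x₂ y hux₂
  have hSC := s1324 u' s' hs' u q π H s hs hc
  have h1 : x ∈ MoreMor.sectionComponents u s := by
    rw [hSC]
    show q x ∈ MoreMor.sectionComponents u' s'
    rw [hx1]
    exact (mem_sectionComponents_iff u' s' hux₂).2 hx₂
  have h2 : x ∈ connectedComponentIn (u ⁻¹' {y}) (s y) :=
    (mem_sectionComponents_iff u s hx2).1 h1
  have h3 := URed.of_isPullback H x (h x h2)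
  rw [hx1] at h3
  exact h3

set_option maxHeartbeats 1600000 in
/-- the flat case over a general base -/
theorem nhd_flat_uRed {X Y : Scheme.{u}} (f : X ⟶ Y) (s : Y ⟶ X) (hs : s ≫ f = 𝟙 Y)
    [LocallyOfFinitePresentation f] [QuasiCompact f] [QuasiSeparated f] [Flat f] (y : Y)
    (hy : ∀ x ∈ connectedComponentIn (f ⁻¹' {y}) (s y), URed f x) :
    connectedComponentIn (f ⁻¹' {y}) (s y) ⊆ interior (MoreMor.sectionComponents f s) := by
  obtain ⟨_, ⟨V₀, hV, rfl⟩, hyV, -⟩ :=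
    Y.isBasis_affineOpens.exists_subset_of_mem_open (Set.mem_univ y) isOpen_univ
  let V : Y.Opens := V₀
  let U : X.Opens := f ⁻¹ᵁ V
  have sq : IsPullback U.ι (f ∣_ V) f V.ι := (isPullback_morphismRestrict f V).flip
  let sV : (V : Scheme.{u}) ⟶ (U : Scheme.{u}) :=
    sq.lift (V.ι ≫ s) (𝟙 _) (by rw [Category.assoc, hs, Category.comp_id, Category.id_comp])
  have hsV1 : sV ≫ U.ι = V.ι ≫ s := sq.lift_fst _ _ _
  have hsV2 : sV ≫ (f ∣_ V) = 𝟙 _ := sq.lift_snd _ _ _
  have hSC : MoreMor.sectionComponents (f ∣_ V) sV = U.ι ⁻¹' MoreMor.sectionComponents f s :=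
    s1324 f s hs (f ∣_ V) U.ι V.ι sq sV hsV2 hsV1
  haveI : IsAffine (V : Scheme.{u}) := hV
  let yV : ↥V := ⟨y, hyV⟩
  have hyVι : V.ι yV = y := Scheme.Opens.ι_apply V yV
  have hfι : ∀ w : ↥U, f (U.ι w) = V.ι ((f ∣_ V) w) := fun w => by
    rw [← Scheme.Hom.comp_apply, ← Scheme.Hom.comp_apply, sq.w]
  have hsι : U.ι (sV yV) = s y := by
    rw [← Scheme.Hom.comp_apply, hsV1, Scheme.Hom.comp_apply, hyVι]
  have himg : U.ι '' ((f ∣_ V) ⁻¹' {yV}) = f ⁻¹' {y} := by
    apply Set.Subset.antisymm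
    · rintro _ ⟨w, hw, rfl⟩
      show f (U.ι w) = y
      rw [hfι, hw, hyVι]
    · intro w hw
      have hw' : f w = y := hw
      have hwU : w ∈ U := by
        show f w ∈ V
        rw [hw']; exact hyV
      refine ⟨⟨w, hwU⟩, ?_, rfl⟩
      show (f ∣_ V) ⟨w, hwU⟩ = yV
      apply V.ι.isEmbedding.injective
      rw [← hfι, hyVι]
      exact hw'
  have hmem : sV yV ∈ (f ∣_ V) ⁻¹' {yV} := by
    show (f ∣_ V) (sV yV) = yV
    rw [← Scheme.Hom.comp_apply, hsV2]; rfl
  have hcomp : U.ι '' connectedComponentIn ((f ∣_ V) ⁻¹' {yV}) (sV yV) =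
      connectedComponentIn (f ⁻¹' {y}) (s y) := by
    rw [image_connectedComponentIn_of_isEmbedding U.ι.isEmbedding _ _ hmem, himg, hsι]
  have key := nhd_flat_affine (f ∣_ V) sV hsV2 yV
    (fun {X' S'} u' s' y' => ∀ x ∈ connectedComponentIn (u' ⁻¹' {y'}) (s' y'), URed u' x)
    (fun u' s' y' h => h)
    (fun u' s' hs' q π H hc h => uRed_desc (f ∣_ V) sV hsV2 u' s' hs' q π H hc yV h)
    (by
      intro xV hxV
      have h1 : U.ι xV ∈ connectedComponentIn (f ⁻¹' {y}) (s y) := by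
        rw [← hcomp]; exact ⟨xV, hxV, rfl⟩
      exact uRed_of_square f (f ∣_ V) U.ι V.ι sq.w.symm xV (hy _ h1))
  intro x hx
  rw [← hcomp] at hx
  obtain ⟨x', hx', rfl⟩ := hx
  have h1 := key hx'
  rw [hSC] at h1
  rw [mem_interior]
  refine ⟨U.ι '' interior (U.ι ⁻¹' MoreMor.sectionComponents f s), ?_,
    U.ι.isOpenEmbedding.isOpenMap _ isOpen_interior, ⟨x', h1, rfl⟩⟩
  rintro _ ⟨w, hw, rfl⟩
  have hw' : w ∈ U.ι ⁻¹' MoreMor.sectionComponents f s := interior_subset hw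
  exact hw'


theorem s4953 {X Y : Scheme.{u}} (f : X ⟶ Y) [Flat f]
    [LocallyOfFinitePresentation f] [QuasiCompact f] [QuasiSeparated f] (g : Y ⟶ X)
    (hg : g ≫ f = 𝟙 Y) (y : Y)
    (hred : ∀ x' : ↥(f.fiber y), (f.fiberι y) x' ∈ connectedComponentIn (f ⁻¹' {y}) (g y) →
      FBase.IsGeomReducedAt (f.fiberToSpecResidueField y) x') :
    connectedComponentIn (f ⁻¹' {y}) (g y) ⊆ interior (MoreMor.sectionComponents f g) := by
  apply nhd_flat_uRed f g hg y
  intro x hx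
  have hfx : f x = y := by
    have h0 : x ∈ f ⁻¹' {y} := connectedComponentIn_subset _ _ hx
    exact h0
  apply URed.of_geomReducedAt
  have key : ∀ (y' : Y) (hy : y' = y) (x₁ : ↥(f.fiber y')), (f.fiberι y') x₁ = x →
      FBase.IsGeomReducedAt (f.fiberToSpecResidueField y') x₁ := by
    intro y' hy
    subst hy
    intro x₁ h1
    apply hred
    rw [h1]; exact hx
  exact key (f x) hfx (f.asFiber x) (f.fiberι_asFiber x)

end Groth.Agent.Helper5.SecNb
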