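import Mathlib
import Groth.Agent.Helper5.SecNbF

set_option autoImplicit false
universe u

namespace Groth.Agent.Helper5.SecNb

open TopologicalSpace Topology Set

/-- a relative connected component is exhausted by the relative connected components inside
members of a directed open cover whose traces are Noetherian -/
theorem connectedComponentIn_subset_iUnion' {X : Type u} [TopologicalSpace X] (F : Set X) (p : X)
    (hp : p ∈ F) (𝒰 : Set (Set X)) (h𝒰open : ∀ U ∈ 𝒰, IsOpen U)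
    (h𝒰N : ∀ U ∈ 𝒰, NoetherianSpace ↥(U ∩ F))
    (h𝒰union : ∀ U ∈ 𝒰, ∀ U' ∈ 𝒰, U ∪ U' ∈ 𝒰) (hloc : ∀ z ∈ F, ∃ U ∈ 𝒰, z ∈ U) :
    ∀ x ∈ connectedComponentIn F p, ∃ U ∈ 𝒰, p ∈ U ∧
      x ∈ connectedComponentIn (U ∩ F) p := by
  classical
  let D : Set X := {x | ∃ U ∈ 𝒰, p ∈ U ∧ x ∈ connectedComponentIn (U ∩ F) p}
  show connectedComponentIn F p ⊆ D
  have hDF : D ⊆ F := by
    rintro x ⟨U, -, -, hx⟩
    exact (connectedComponentIn_subset _ _ hx).2
  have hpD : p ∈ D := by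
    obtain ⟨U, hU, hpU⟩ := hloc p hp
    exact ⟨U, hU, hpU, mem_connectedComponentIn ⟨hpU, hp⟩⟩
  -- `D` is relatively open
  have hopen : ∃ u : Set X, IsOpen u ∧ u ∩ F = D := by
    have hch : ∀ x : ↥D, ∃ O : Set X, IsOpen O ∧ (x : X) ∈ O ∧ O ∩ F ⊆ D := by
      rintro ⟨x, U, hU, hpU, hx⟩
      haveI : NoetherianSpace ↥(U ∩ F) := h𝒰N U hU
      obtain ⟨O, hO, hOeq⟩ := exists_open_inter_eq_connectedComponentIn (U ∩ F) p ⟨hpU, hp⟩
      refine ⟨O ∩ U, hO.inter (h𝒰open U hU), ?_, ?_⟩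
      · have : x ∈ O ∩ (U ∩ F) := by rw [hOeq]; exact hx
        exact ⟨this.1, this.2.1⟩
      · rintro w ⟨⟨hwO, hwU⟩, hwF⟩
        refine ⟨U, hU, hpU, ?_⟩
        rw [← hOeq]
        exact ⟨hwO, hwU, hwF⟩
    choose O hO hxO hOD using hch
    refine ⟨⋃ x, O x, isOpen_iUnion hO, ?_⟩
    ext w
    constructor
    · rintro ⟨hw, hwF⟩
      obtain ⟨x, hx⟩ := mem_iUnion.1 hw
      exact hOD x ⟨hx, hwF⟩
    · intro hw
      exact ⟨mem_iUnion.2 ⟨⟨w, hw⟩, hxO ⟨w, hw⟩⟩, hDF hw⟩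
  -- `F \ D` is relatively open
  have hclosed : ∃ v : Set X, IsOpen v ∧ v ∩ F = F \ D := by
    have hch : ∀ z : ↥(F \ D), ∃ O : Set X, IsOpen O ∧ (z : X) ∈ O ∧ O ∩ F ⊆ F \ D := by
      rintro ⟨z, hzF, hzD⟩
      obtain ⟨U₀, hU₀, hzU₀⟩ := hloc z hzF
      haveI : NoetherianSpace ↥(U₀ ∩ F) := h𝒰N U₀ hU₀
      obtain ⟨O, hO, hOeq⟩ := exists_open_inter_eq_connectedComponentIn (U₀ ∩ F) z ⟨hzU₀, hzF⟩
      refine ⟨O ∩ U₀, hO.inter (h𝒰open U₀ hU₀), ?_, ?_⟩
      · have : z ∈ O ∩ (U₀ ∩ F) := by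
          rw [hOeq]; exact mem_connectedComponentIn ⟨hzU₀, hzF⟩
        exact ⟨this.1, this.2.1⟩
      · rintro w ⟨⟨hwO, hwU₀⟩, hwF⟩
        refine ⟨hwF, ?_⟩
        rintro ⟨U, hU, hpU, hw⟩
        apply hzD
        refine ⟨U ∪ U₀, h𝒰union U hU U₀ hU₀, Or.inl hpU, ?_⟩
        have hw' : w ∈ connectedComponentIn (U₀ ∩ F) z := by
          rw [← hOeq]; exact ⟨hwO, hwU₀, hwF⟩
        have hpre : IsPreconnected (connectedComponentIn (U ∩ F) p ∪
            connectedComponentIn (U₀ ∩ F) z) :=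
          IsPreconnected.union w hw hw' isPreconnected_connectedComponentIn
            isPreconnected_connectedComponentIn
        have hsub : connectedComponentIn (U ∩ F) p ∪ connectedComponentIn (U₀ ∩ F) z ⊆
            connectedComponentIn ((U ∪ U₀) ∩ F) p := by
          apply hpre.subset_connectedComponentIn
          · exact Or.inl (mem_connectedComponentIn ⟨hpU, hp⟩)
          · rintro a (ha | ha)
            · have := connectedComponentIn_subset _ _ ha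
              exact ⟨Or.inl this.1, this.2⟩
            · have := connectedComponentIn_subset _ _ ha
              exact ⟨Or.inr this.1, this.2⟩
        exact hsub (Or.inr (mem_connectedComponentIn ⟨hzU₀, hzF⟩))
    choose O hO hzO hOD using hch
    refine ⟨⋃ z, O z, isOpen_iUnion hO, ?_⟩
    ext w
    constructor
    · rintro ⟨hw, hwF⟩
      obtain ⟨z, hz⟩ := mem_iUnion.1 hw
      exact hOD z ⟨hz, hwF⟩
    · intro hw
      exact ⟨mem_iUnion.2 ⟨⟨w, hw⟩, hzO ⟨w, hw⟩⟩, hw.1⟩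
  obtain ⟨u, hu, huD⟩ := hopen
  obtain ⟨v, hv, hvD⟩ := hclosed
  set S := connectedComponentIn F p with hS
  have hSF : S ⊆ F := connectedComponentIn_subset _ _
  have hSpre : IsPreconnected S := isPreconnected_connectedComponentIn
  have hcov : S ⊆ u ∪ v := by
    intro w hw
    by_cases hwD : w ∈ D
    · left
      have : w ∈ u ∩ F := by rw [huD]; exact hwD
      exact this.1
    · right
      have : w ∈ v ∩ F := by rw [hvD]; exact ⟨hSF hw, hwD⟩
      exact this.1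
  have hempty : S ∩ (u ∩ v) = ∅ := by
    rw [eq_empty_iff_forall_notMem]
    rintro w ⟨hw, hwu, hwv⟩
    have h1 : w ∈ D := by rw [← huD]; exact ⟨hwu, hSF hw⟩
    have h2 : w ∈ F \ D := by rw [← hvD]; exact ⟨hwv, hSF hw⟩
    exact h2.2 h1
  rcases (isPreconnected_iff_subset_of_disjoint.1 hSpre) u v hu hv hcov hempty with h | h
  · intro w hw
    rw [← huD]
    exact ⟨h hw, hSF hw⟩
  · exfalso
    have hpS : p ∈ S := mem_connectedComponentIn hp
    have h2 : p ∈ F \ D := by rw [← hvD]; exact ⟨h hpS, hp⟩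
    exact h2.2 hpD

end Groth.Agent.Helper5.SecNb
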