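import Mathlib
import Groth.Prelude
import Groth.Agent.Helper5.SecNbK
import Groth.Agent.Helper5.SecNbN
import Groth.Agent.Helper5.GenDim1
import Groth.Agent.Helper2.SmoothRegSch

set_option autoImplicit false
set_option linter.style.haveILetI false
universe u

namespace Groth.Agent.Helper5.SecNb

open AlgebraicGeometry CategoryTheory CategoryTheory.Limits TopologicalSpace Topology

/-- the trace of a quasi-compact open on a fibre of a l.f.t. morphism is Noetherian -/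
theorem noetherianSpace_inter_fiber {X S : Scheme.{u}} (f : X ⟶ S) [LocallyOfFiniteType f]
    (V : S.Opens) (hV : IsAffineOpen V) (U : X.Opens) (hU : IsCompact (U : Set X))
    (hUV : U ≤ f ⁻¹ᵁ V) (s : S) (hs : s ∈ V) :
    NoetherianSpace ↥((U : Set X) ∩ f ⁻¹' {s}) := by
  let fU : (U : Scheme.{u}) ⟶ (V : Scheme.{u}) := f.resLE V U hUV
  have hfU : fU ≫ V.ι = U.ι ≫ f := Scheme.Hom.resLE_comp_ι f hUV
  haveI : LocallyOfFiniteType fU := IsZariskiLocalAtSource.resLE hUV inferInstance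
  haveI : IsAffine (V : Scheme.{u}) := hV
  haveI : CompactSpace ↥(U : Scheme.{u}) := isCompact_iff_compactSpace.1 hU
  haveI : QuasiCompact fU :=
    (HasAffineProperty.iff_of_isAffine (P := @QuasiCompact)).2 inferInstance
  let s' : ↥(V : Scheme.{u}) := ⟨s, hs⟩
  have hs'ι : V.ι s' = s := Scheme.Opens.ι_apply V s'
  haveI : IsLocallyNoetherian (fU.fiber s') :=
    Groth.Agent.Helper5.GenDim.isLocallyNoetherian_fiber fU s'
  haveI : IsNoetherian (fU.fiber s') := {}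
  let φ : fU.fiber s' ⟶ X := fU.fiberι s' ≫ U.ι
  have hfι : ∀ w : ↥U, f (U.ι w) = V.ι (fU w) := fun w => by
    rw [← Scheme.Hom.comp_apply, ← Scheme.Hom.comp_apply, hfU]
  have hrange : Set.range φ = (U : Set X) ∩ f ⁻¹' {s} := by
    apply Set.Subset.antisymm
    · rintro _ ⟨z, rfl⟩
      have hz : fU (fU.fiberι s' z) = s' := by
        have h0 : fU.fiberι s' z ∈ Set.range (fU.fiberι s') := ⟨z, rfl⟩
        rw [fU.range_fiberι] at h0
        exact h0
      refine ⟨(fU.fiberι s' z).2, ?_⟩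
      show f (U.ι (fU.fiberι s' z)) = s
      rw [hfι, hz, hs'ι]
    · rintro w ⟨hwU, hws⟩
      have hws' : f w = s := hws
      have h1 : fU ⟨w, hwU⟩ = s' := by
        apply V.ι.isEmbedding.injective
        rw [← hfι, hs'ι]
        exact hws'
      have h2 : (⟨w, hwU⟩ : ↥U) ∈ Set.range (fU.fiberι s') := by
        rw [Scheme.Hom.range_fiberι]; exact h1
      obtain ⟨z, hz⟩ := h2
      refine ⟨z, ?_⟩
      show U.ι (fU.fiberι s' z) = w
      rw [hz]; rfl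
  rw [← hrange]
  exact NoetherianSpace.range φ φ.continuous

theorem s15351 {S X : Scheme.{u}} [QuasiSeparatedSpace ↥X] (f : X ⟶ S) [Smooth f]
    (e : S ⟶ X) (he : e ≫ f = 𝟙 S) :
    IsOpen (MoreMor.sectionComponents f e) := by
  rw [← interior_eq_iff_isOpen]
  apply Set.Subset.antisymm interior_subset
  intro x hx
  have hx' : x ∈ connectedComponentIn (f ⁻¹' {f x}) (e (f x)) := hx
  generalize hs : f x = s at hx'
  have hfe : ∀ v : S, f (e v) = v := fun v => by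
    rw [← Scheme.Hom.comp_apply, he]; rfl
  obtain ⟨_, ⟨V₀, hV₀, rfl⟩, hsV₀, -⟩ :=
    S.isBasis_affineOpens.exists_subset_of_mem_open (Set.mem_univ s) isOpen_univ
  -- the family of quasi-compact opens over `V₀`
  let 𝒰 : Set (Set X) := {U | IsOpen U ∧ IsCompact U ∧ U ⊆ f ⁻¹' (V₀ : Set S)}
  have h1 : ∀ U ∈ 𝒰, IsOpen U := fun U h => h.1
  have h2 : ∀ U ∈ 𝒰, NoetherianSpace ↥(U ∩ f ⁻¹' {s}) := by
    rintro U ⟨hUo, hUc, hUV⟩
    exact noetherianSpace_inter_fiber f V₀ hV₀ ⟨U, hUo⟩ hUc hUV s hsV₀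
  have h3 : ∀ U ∈ 𝒰, ∀ U' ∈ 𝒰, U ∪ U' ∈ 𝒰 := by
    rintro U ⟨a, b, c⟩ U' ⟨a', b', c'⟩
    exact ⟨a.union a', b.union b', Set.union_subset c c'⟩
  have h4 : ∀ z ∈ f ⁻¹' {s}, ∃ U ∈ 𝒰, z ∈ U := by
    intro z hz
    have hz' : f z = s := hz
    have hzV : z ∈ f ⁻¹ᵁ V₀ := by
      show f z ∈ V₀
      rw [hz']; exact hsV₀
    obtain ⟨_, ⟨W, hW, rfl⟩, hzW, hWV⟩ :=
      X.isBasis_affineOpens.exists_subset_of_mem_open hzV (f ⁻¹ᵁ V₀).2
    exact ⟨W, ⟨W.2, hW.isCompact, hWV⟩, hzW⟩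
  obtain ⟨U₀, ⟨hU₀o, hU₀c, hU₀V⟩, hpU₀, hxU⟩ :=
    connectedComponentIn_subset_iUnion' (f ⁻¹' {s}) (e s) (hfe s) 𝒰 h1 h2 h3 h4 x hx'
  let Uo : X.Opens := ⟨U₀, hU₀o⟩
  have hUoV : Uo ≤ f ⁻¹ᵁ V₀ := hU₀V
  -- a basic open neighbourhood of `s` mapping into `Uo` under `e`
  obtain ⟨r, hrle, hsr⟩ := hV₀.exists_basicOpen_le (V := e ⁻¹ᵁ Uo) ⟨s, hpU₀⟩ hsV₀
  let V : S.Opens := S.basicOpen r
  have hVaff : IsAffineOpen V := hV₀.basicOpen r
  let U' : X.Opens := Uo ⊓ f ⁻¹ᵁ V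
  have hU'c : IsCompact (U' : Set X) := by
    have h0 : U' = X.basicOpen (X.presheaf.map (homOfLE hUoV).op (f.app V₀ r)) := by
      rw [Scheme.basicOpen_res, ← Scheme.preimage_basicOpen]
    rw [h0]
    exact isCompact_basicOpen X hU₀c _
  have hsV : s ∈ V := hsr
  have e1 : U' ≤ f ⁻¹ᵁ V := inf_le_right
  have e2 : V ≤ e ⁻¹ᵁ U' := by
    intro v hv
    refine ⟨hrle hv, ?_⟩
    show f (e v) ∈ V
    rw [hfe]; exact hv
  let f' : (U' : Scheme.{u}) ⟶ (V : Scheme.{u}) := f.resLE V U' e1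
  let g' : (V : Scheme.{u}) ⟶ (U' : Scheme.{u}) := e.resLE U' V e2
  have hf' : f' ≫ V.ι = U'.ι ≫ f := Scheme.Hom.resLE_comp_ι f e1
  have hg' : g' ≫ U'.ι = V.ι ≫ e := Scheme.Hom.resLE_comp_ι e e2
  have hgf' : g' ≫ f' = 𝟙 _ := by
    rw [← cancel_mono V.ι, Category.assoc, hf', ← Category.assoc, hg', Category.assoc, he,
      Category.comp_id, Category.id_comp]
  haveI : Smooth f' := IsZariskiLocalAtSource.resLE e1 inferInstance
  haveI : IsAffine (V : Scheme.{u}) := hVaff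
  haveI : CompactSpace ↥(U' : Scheme.{u}) := isCompact_iff_compactSpace.1 hU'c
  haveI : QuasiCompact f' :=
    (HasAffineProperty.iff_of_isAffine (P := @QuasiCompact)).2 inferInstance
  haveI : QuasiSeparatedSpace ↥(U' : Scheme.{u}) :=
    U'.ι.isOpenEmbedding.quasiSeparatedSpace
  haveI : QuasiSeparated f' :=
    (HasAffineProperty.iff_of_isAffine (P := @QuasiSeparated)).2 inferInstance
  have hfι : ∀ w : ↥U', f (U'.ι w) = V.ι (f' w) := fun w => by
    rw [← Scheme.Hom.comp_apply, ← Scheme.Hom.comp_apply, hf']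
  have hgι : ∀ v : ↥V, U'.ι (g' v) = e (V.ι v) := fun v => by
    rw [← Scheme.Hom.comp_apply, ← Scheme.Hom.comp_apply, hg']
  let y' : ↥V := ⟨s, hsV⟩
  have hy'ι : V.ι y' = s := Scheme.Opens.ι_apply V y'
  have himg : ∀ v : ↥V, U'.ι '' (f' ⁻¹' {v}) ⊆ f ⁻¹' {V.ι v} := by
    rintro v _ ⟨w, hw, rfl⟩
    show f (U'.ι w) = V.ι v
    rw [hfι, hw]
  have himg' : U'.ι '' (f' ⁻¹' {y'}) = U₀ ∩ f ⁻¹' {s} := by
    apply Set.Subset.antisymm
    · rintro _ ⟨w, hw, rfl⟩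
      refine ⟨w.2.1, ?_⟩
      show f (U'.ι w) = s
      rw [hfι, hw, hy'ι]
    · rintro w ⟨hwU, hwy⟩
      have hwy' : f w = s := hwy
      have hwU' : w ∈ U' := ⟨hwU, by show f w ∈ V; rw [hwy']; exact hsV⟩
      refine ⟨⟨w, hwU'⟩, ?_, rfl⟩
      show f' ⟨w, hwU'⟩ = y'
      apply V.ι.isEmbedding.injective
      rw [← hfι]
      exact hwy'
  have hgy : U'.ι (g' y') = e s := hgι y'
  have hmem : g' y' ∈ f' ⁻¹' {y'} := by
    show f' (g' y') = y'
    rw [← Scheme.Hom.comp_apply, hgf']; rfl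
  have hcomp : U'.ι '' connectedComponentIn (f' ⁻¹' {y'}) (g' y') =
      connectedComponentIn (U₀ ∩ f ⁻¹' {s}) (e s) := by
    rw [image_connectedComponentIn_of_isEmbedding U'.ι.isEmbedding _ _ hmem, himg', hgy]
  have hxmem : x ∈ U'.ι '' connectedComponentIn (f' ⁻¹' {y'}) (g' y') := by
    rw [hcomp]; exact hxU
  obtain ⟨x'', hx'', rfl⟩ := hxmem
  have hred : GeometricallyReduced (f'.fiberToSpecResidueField y') := by
    haveI : Smooth (f'.fiberToSpecResidueField y') :=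
      inferInstanceAs (Smooth (pullback.snd f' ((V : Scheme.{u}).fromSpecResidueField y')))
    exact Groth.Agent.Helper2.SmoothRegSch.geometricallyReduced_of_smooth
      ((V : Scheme.{u}).residueField y') _ (f'.fiberToSpecResidueField y')
  have key := s1327 f' g' hgf' y' hred hx''
  rw [mem_interior]
  refine ⟨U'.ι '' interior (MoreMor.sectionComponents f' g'), ?_,
    U'.ι.isOpenEmbedding.isOpenMap _ isOpen_interior, ⟨x'', key, rfl⟩⟩
  rintro _ ⟨w, hw, rfl⟩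
  have hw' : w ∈ MoreMor.sectionComponents f' g' := interior_subset hw
  have h1 : U'.ι w ∈ U'.ι '' connectedComponentIn (f' ⁻¹' {f' w}) (g' (f' w)) := ⟨w, hw', rfl⟩
  have h2 := U'.ι.continuous.continuousOn.image_connectedComponentIn_subset
    (s := f' ⁻¹' {f' w}) (a := g' (f' w)) (by
      show f' (g' (f' w)) = f' w
      rw [← Scheme.Hom.comp_apply g' f', hgf']; rfl) h1
  rw [hgι] at h2
  have h3 := connectedComponentIn_mono (e (V.ι (f' w))) (himg (f' w)) h2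
  rw [← hfι] at h3
  exact h3

end Groth.Agent.Helper5.SecNb
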