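import Mathlib
import Groth.Agent.Helper5.SecUO2
import Groth.Agent.Lead.ValSpec

set_option autoImplicit false
set_option linter.style.haveILetI false
universe u
open CategoryTheory CategoryTheory.Limits AlgebraicGeometry TopologicalSpace Topology

namespace Groth.Agent.Helper5.SecUO

open Groth.Agent.Helper5.SecComp Groth.Agent.Helper5.SecNb Groth.Agent.Helper5.BCMin
  Groth.Agent.Helper5.PtOpen

/-- the valuation ring lifting property at `x` -/
def ValAt {X Y : Scheme.{u}} (f : X ⟶ Y) (x : X) : Prop :=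
  ∀ (A : Type u) [CommRing A] [IsDomain A] [ValuationRing A]
    (g : Spec (CommRingCat.of A) ⟶ Y), g.base (IsLocalRing.closedPoint A) = f.base x →
    ∀ x' : ↥(pullback f g), (pullback.fst f g).base x' = x →
      (pullback.snd f g).base x' = IsLocalRing.closedPoint A →
      ∃ z' : ↥(pullback f g), z' ⤳ x' ∧ (pullback.snd f g).base z' = (⊥ : PrimeSpectrum A)

set_option maxHeartbeats 800000 in
/-- universal openness at a point of a morphism locally of finite presentation can be tested on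
valuation rings -/
theorem isUnivOpenAt_of_valAt {X Y : Scheme.{u}} (f : X ⟶ Y)
    [LocallyOfFinitePresentation f] (x : X) (h : ValAt f x) : EGA43.IsUnivOpenAt f x := by
  refine isUnivOpenAt_of_hypAt f x fun n _ w hw => ?_
  refine isOpenAt_of_lifting _ w fun t₁ ht₁ => ?_
  obtain ⟨A, _, _, _, φ, hφ0, hφ1⟩ :=
    Groth.Agent.Lead.ValSpec.exists_valuationRing_of_specializes ht₁
  let π := 𝔸(ULift.{u} (Fin n); Y) ↘ Y
  let ρ : pullback f (φ ≫ π) ⟶ pullback f π :=
    pullback.lift (pullback.fst _ _) (pullback.snd _ _ ≫ φ)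
      (by rw [pullback.condition, Category.assoc])
  have hρ1 : ρ ≫ pullback.fst f π = pullback.fst f (φ ≫ π) := pullback.lift_fst _ _ _
  have hρ2 : ρ ≫ pullback.snd f π = pullback.snd f (φ ≫ π) ≫ φ := pullback.lift_snd _ _ _
  have sq : IsPullback ρ (pullback.snd f (φ ≫ π)) (pullback.snd f π) φ := by
    refine IsPullback.of_right ?_ hρ2 (IsPullback.of_hasPullback f π)
    rw [pullback.lift_fst]
    exact IsPullback.of_hasPullback f (φ ≫ π)
  obtain ⟨x', hx'1, hx'2⟩ :=
    Scheme.exists_preimage_of_isPullback sq w (IsLocalRing.closedPoint A) hφ0.symm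
  have hx'3 : pullback.fst f (φ ≫ π) x' = x := by
    rw [← hw, ← hx'1]
    exact (congrArg (fun ψ : _ ⟶ X => ψ x') hρ1).symm
  have hg0 : (φ ≫ π) (IsLocalRing.closedPoint A) = f x := by
    rw [Scheme.Hom.comp_apply]
    rw [show φ (IsLocalRing.closedPoint A) = _ from hφ0, ← hw]
    exact (congrArg (fun ψ : _ ⟶ Y => ψ w) pullback.condition).symm
  obtain ⟨z', hz', hz'2⟩ := h A (φ ≫ π) hg0 x' hx'3 hx'2
  refine ⟨ρ z', ?_, ?_⟩
  · rw [← hx'1]
    exact hz'.map ρ.continuous
  · have : pullback.snd f π (ρ z') = φ (pullback.snd f (φ ≫ π) z') :=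
      congrArg (fun ψ : pullback f (φ ≫ π) ⟶ 𝔸(ULift.{u} (Fin n); Y) => ψ z') hρ2
    rw [this]
    change φ ((pullback.snd f (φ ≫ π)).base z') = t₁
    rw [hz'2]
    exact hφ1

/-- S3458 for morphisms locally of finite presentation over an arbitrary base. -/
theorem isUnivOpenAt_of_dim_const {X Y : Scheme.{u}}
    (f : X ⟶ Y) [LocallyOfFinitePresentation f] (g : Y ⟶ X) (hg : g ≫ f = 𝟙 Y)
    (hgi : GeomIrr f g) (y : Y)
    (hc : ∃ V ∈ nhds y, ∀ z ∈ V,
      topologicalKrullDim ↥(connectedComponentIn (f.base ⁻¹' {z}) (g.base z)) =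
        topologicalKrullDim ↥(connectedComponentIn (f.base ⁻¹' {y}) (g.base y))) :
    ∀ x ∈ connectedComponentIn (f.base ⁻¹' {y}) (g.base y), EGA43.IsUnivOpenAt f x := by
  intro x hx
  have hfx : f x = y := by
    have h0 : x ∈ f ⁻¹' {y} := connectedComponentIn_subset _ _ hx
    exact h0
  apply isUnivOpenAt_of_valAt
  intro A _ _ _ c hc0 x' hx'1 hx'2
  let o : ↥(Spec (CommRingCat.of A)) := IsLocalRing.closedPoint A
  have hgen : ∀ t : ↥(Spec (CommRingCat.of A)), t ⤳ o := by
    intro t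
    exact (PrimeSpectrum.le_iff_specializes (t : PrimeSpectrum A) (IsLocalRing.closedPoint A)).1
      (IsLocalRing.le_maximalIdeal (PrimeSpectrum.isPrime t).ne_top)
  obtain ⟨z', hz'1, hz'2⟩ := exists_generization_bc f g hg c hgi y hc o
    (hc0.trans hfx) hgen x' (by rw [show pullback.fst f c x' = x from hx'1]; exact hx) hx'2
    (⊥ : PrimeSpectrum A)
  exact ⟨z', hz'1, hz'2⟩

end Groth.Agent.Helper5.SecUO
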