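import Mathlib
import Groth.Prelude
import Groth.Agent.Helper5.SecUO9
import Groth.Agent.Helper5.NeutB
import Groth.Agent.Helper5.SecCompC

set_option autoImplicit false
set_option linter.style.haveILetI false
universe u

namespace Groth.Agent.Helper5.SecUO

open AlgebraicGeometry CategoryTheory CategoryTheory.Limits MonoidalCategory
  CartesianMonoidalCategory MonObj GrpObj TopologicalSpace Topology
open Groth.Agent.Helper2 Groth.Agent.Helper3.ArtConn Groth.Agent.Helper5.Neut
  Groth.Agent.Helper5.SecComp Groth.Agent.Helper5.SecNb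

variable {S : Scheme.{u}} (G : Over S) [GrpObj G]

/-- the preimage of the neutral set in the base change to a field-valued point is irreducible -/
theorem irreducible_preimage_neutralSet (K : Type u) [Field K]
    (c : Spec (CommRingCat.of K) ⟶ S) :
    IsIrreducible ((pullback.fst G.hom c) ⁻¹' SGA3x.neutralSet G) := by
  let GK : Over (Spec (CommRingCat.of K)) := Red.bc c G
  let pt : ↥(𝟙_ (Over (Spec (CommRingCat.of K)))).left := (default : PrimeSpectrum K)
  set C0 := irreducibleComponent (η[GK].left pt) with hC0def
  have hC0 : C0 ∈ irreducibleComponents GK.left := irreducibleComponent_mem_irreducibleComponents _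
  have he : η[GK].left pt ∈ C0 := mem_irreducibleComponent
  have hcc := Groth.Agent.Helper2.HS6.connectedComponent_eq GK C0 hC0 pt he
  have h1 := s1324 G.hom (e G) (e_hom G) (pullback.snd G.hom c) (pullback.fst G.hom c) c
    (IsPullback.of_hasPullback _ _) (e GK) (e_hom GK) (Groth.Agent.Helper3.FibQC.unit_bc_fst G c)
  rw [neutralSet_eq, ← h1]
  have h2 : MoreMor.sectionComponents (pullback.snd G.hom c) (e GK) =
      connectedComponent (η[GK].left pt) := by
    ext x
    have hx : (pullback.snd G.hom c) x = pt := Subsingleton.elim (α := PrimeSpectrum K) _ _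
    have huniv : (pullback.snd G.hom c) ⁻¹' {pt} = Set.univ := by
      ext z
      simp only [Set.mem_preimage, Set.mem_singleton_iff, Set.mem_univ, iff_true]
      exact Subsingleton.elim (α := PrimeSpectrum K) _ _
    rw [mem_sectionComponents_iff _ _ hx, huniv, connectedComponentIn_univ]
  rw [h2, hcc]
  exact hC0.1

set_option maxHeartbeats 800000 in
/-- the neutral components of the fibres of a group scheme are geometrically irreducible -/
theorem geomIrr_grp : GeomIrr G.hom (e G) := by
  intro t K _ _
  let cK : Spec (CommRingCat.of K) ⟶ S :=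
    Spec.map (CommRingCat.ofHom (algebraMap (IsLocalRing.ResidueField (S.presheaf.stalk t)) K)) ≫
      S.fromSpecResidueField t
  have hirr := irreducible_preimage_neutralSet G K cK
  -- the comparison isomorphism
  have sq1 : IsPullback (G.hom.fiberι t) (G.hom.fiberToSpecResidueField t) G.hom
      (S.fromSpecResidueField t) := IsPullback.of_hasPullback _ _
  have sq2 : IsPullback (FBase.bcπ (G.hom.fiberToSpecResidueField t) K)
      (FBase.bcStr (G.hom.fiberToSpecResidueField t) K) (G.hom.fiberToSpecResidueField t)
      (Spec.map (CommRingCat.ofHom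
        (algebraMap (IsLocalRing.ResidueField (S.presheaf.stalk t)) K))) :=
    IsPullback.of_hasPullback _ _
  have sq3 : IsPullback (FBase.bcπ (G.hom.fiberToSpecResidueField t) K ≫ G.hom.fiberι t)
      (FBase.bcStr (G.hom.fiberToSpecResidueField t) K) G.hom cK := sq2.paste_horiz sq1
  let ε := sq3.isoPullback
  have hε : ε.hom ≫ pullback.fst G.hom cK =
      FBase.bcπ (G.hom.fiberToSpecResidueField t) K ≫ G.hom.fiberι t := sq3.isoPullback_hom_fst
  set q := FBase.bcπ (G.hom.fiberToSpecResidueField t) K ≫ G.hom.fiberι t with hq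
  have h3 : q ⁻¹' connectedComponentIn (G.hom ⁻¹' {t}) (e G t) =
      ε.inv '' ((pullback.fst G.hom cK) ⁻¹' SGA3x.neutralSet G) := by
    ext z
    have hqz : G.hom (q z) = t := by
      rw [hq, Scheme.Hom.comp_apply]
      exact Groth.Agent.Helper5.FibStalk.fiberι_apply G.hom t _
    constructor
    · intro hz
      refine ⟨ε.hom z, ?_, ?_⟩
      · show pullback.fst G.hom cK (ε.hom z) ∈ SGA3x.neutralSet G
        rw [← Scheme.Hom.comp_apply, hε]
        exact (mem_neutralSet_iff G hqz).2 hz
      · rw [← Scheme.Hom.comp_apply, Iso.hom_inv_id]; rfl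
    · rintro ⟨w, hw, rfl⟩
      have hw' : pullback.fst G.hom cK w ∈ SGA3x.neutralSet G := hw
      have h4 : q (ε.inv w) = pullback.fst G.hom cK w := by
        rw [← hε, ← Scheme.Hom.comp_apply, Iso.inv_hom_id_assoc]
      show q (ε.inv w) ∈ connectedComponentIn (G.hom ⁻¹' {t}) (e G t)
      rw [h4]
      have h5 : G.hom (pullback.fst G.hom cK w) = t := by rw [← h4]; exact hqz
      exact (mem_neutralSet_iff G h5).1 hw'
  show IsIrreducible (q ⁻¹' connectedComponentIn (G.hom ⁻¹' {t}) (e G t))
  rw [h3]
  exact hirr.image _ ε.inv.continuous.continuousOn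

end Groth.Agent.Helper5.SecUO
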