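import Mathlib
import Groth.Agent.Helper5.SecUO7

set_option autoImplicit false
set_option linter.style.haveILetI false
universe u
open CategoryTheory CategoryTheory.Limits AlgebraicGeometry TopologicalSpace Topology

namespace Groth.Agent.Helper5.SecUO

open Groth.Agent.Helper5.SecComp Groth.Agent.Helper5.SecNb Groth.Agent.Helper5.BCMin
  Groth.Agent.Helper5.PtOpen Groth.Agent.Helper5.GenDim

set_option maxHeartbeats 800000 in
/-- case (α), along a given discrete valuation ring -/
theorem dim_le_of_alpha_dvr {X Y : Scheme.{u}} (f : X ⟶ Y)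
    [LocallyOfFiniteType f] (g : Y ⟶ X) (hg : g ≫ f = 𝟙 Y) (hgi : GeomIrr f g)
    (A : Type u) [CommRing A] [IsDomain A] [IsDiscreteValuationRing A]
    (c : Spec (CommRingCat.of A) ⟶ Y)
    (hopen : ∀ ξ ∈ connectedComponentIn (f ⁻¹' {c (IsLocalRing.closedPoint A)})
        (g (c (IsLocalRing.closedPoint A))),
      connectedComponentIn (f ⁻¹' {c (IsLocalRing.closedPoint A)})
        (g (c (IsLocalRing.closedPoint A))) ⊆ closure {ξ} → EGA43.IsUnivOpenAt f ξ)
    (hα : FBase.IsGeomReducedAt
      (f.fiberToSpecResidueField (f (g (c (IsLocalRing.closedPoint A)))))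
      (f.asFiber (g (c (IsLocalRing.closedPoint A))))) :
    topologicalKrullDim ↥(connectedComponentIn (f ⁻¹' {c (IsLocalRing.closedPoint A)})
      (g (c (IsLocalRing.closedPoint A)))) ≤
      topologicalKrullDim ↥(connectedComponentIn (f ⁻¹' {c (gen A)}) (g (c (gen A)))) := by
  let s : ↥(Spec (CommRingCat.of A)) := IsLocalRing.closedPoint A
  let p := pullback.snd f c
  let a := bcSec f g hg c
  have hpf : ∀ t, pullback.fst f c (a t) = g (c t) := fun t =>
    congrArg (fun ψ : Spec (CommRingCat.of A) ⟶ X => ψ t) (bcSec_fst f g hg c)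
  haveI : LocallyOfFiniteType p := inferInstanceAs (LocallyOfFiniteType (pullback.snd f c))
  have key := dvr_alpha p a (bcSec_snd f g hg c) s rfl (hgi.irreducible_bc f g hg c s) ?_ ?_
  · rw [dim_ccIn_bc f g hg c hgi s] at key
    have h2 := dim_ccIn_bc f g hg c hgi (gen A)
    rw [h2] at key
    exact key
  · intro ξ' hξ' hsub
    have hξ'' := hξ'
    rw [ccIn_bc] at hξ''
    have h1 : pullback.fst f c ξ' ∈ connectedComponentIn (f ⁻¹' {c s}) (g (c s)) := hξ''.2
    have h2 : connectedComponentIn (f ⁻¹' {c s}) (g (c s)) ⊆ closure {pullback.fst f c ξ'} := by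
      intro x hx
      have hfx : f x = c s := by
        have h0 : x ∈ f ⁻¹' {c s} := connectedComponentIn_subset _ _ hx
        exact h0
      obtain ⟨w, hw1, hw2⟩ := Scheme.exists_preimage_of_isPullback
        (IsPullback.of_hasPullback f c) x s hfx
      have hwC : w ∈ connectedComponentIn (p ⁻¹' {s}) (a s) := by
        rw [ccIn_bc]
        refine ⟨hw2, ?_⟩
        rw [Set.mem_preimage]
        rw [show (pullback.fst f c) w = x from hw1]
        exact hx
      have h3 : ξ' ⤳ w := specializes_iff_mem_closure.2 (hsub hwC)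
      have h4 := h3.map (pullback.fst f c).continuous
      rw [show (pullback.fst f c) w = x from hw1] at h4
      exact h4.mem_closure
    exact hopen _ h1 h2 _ c ξ' rfl
  · have h0 : FBase.IsGeomReducedAt (f.fiberToSpecResidueField (f (pullback.fst f c (a s))))
        (f.asFiber (pullback.fst f c (a s))) := by
      rw [hpf s]
      exact hα
    exact isReduced_fiber_stalk_of_geomReducedAt f c (a s) h0

/-- a discrete valuation ring through a proper generization of a point with Noetherian local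
ring -/
theorem exists_dvr_of_noetherian_stalk {Y : Scheme.{u}} (y₀ y' : Y) (hy' : y' ⤳ y₀)
    (hne : y₀ ≠ y') [IsNoetherianRing (Y.presheaf.stalk y₀)] :
    ∃ (A : Type u) (_ : CommRing A) (_ : IsDomain A) (_ : IsDiscreteValuationRing A)
      (c : Spec (CommRingCat.of A) ⟶ Y),
      c (IsLocalRing.closedPoint A) = y₀ ∧ c (gen A) = y' := by
  let j := Y.fromSpecStalk y₀
  obtain ⟨q', hq'⟩ : y' ∈ Set.range j := by
    rw [Scheme.range_fromSpecStalk]; exact hy'
  let o : ↥(Spec (Y.presheaf.stalk y₀)) := IsLocalRing.closedPoint (Y.presheaf.stalk y₀)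
  have ho : j o = y₀ := Scheme.fromSpecStalk_closedPoint
  have hsp : q' ⤳ o :=
    (PrimeSpectrum.le_iff_specializes (q' : PrimeSpectrum (Y.presheaf.stalk y₀))
      (IsLocalRing.closedPoint _)).1 (IsLocalRing.le_maximalIdeal (PrimeSpectrum.isPrime q').ne_top)
  have hne' : o ≠ q' := by
    intro h
    apply hne
    rw [← ho, h, hq']
  obtain ⟨A, _, _, _, σ, hσ1, hσ2⟩ := exists_dvr_through o q' hsp hne'
  refine ⟨A, inferInstance, inferInstance, inferInstance, σ ≫ j, ?_, ?_⟩
  · rw [Scheme.Hom.comp_apply, hσ1, ho]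
  · rw [Scheme.Hom.comp_apply, hσ2, hq']

/-- S4956. -/
theorem s4956 {X Y : Scheme.{u}} (f : X ⟶ Y)
    [LocallyOfFinitePresentation f] [QuasiCompact f] [QuasiSeparated f] (g : Y ⟶ X) (hg : g ≫ f = 𝟙 Y)
    (hirr : GeomIrr f g)
    (y₀ : Y) (hopen : ∀ ξ ∈ connectedComponentIn (f.base ⁻¹' {y₀}) (g.base y₀), connectedComponentIn (f.base ⁻¹' {y₀}) (g.base y₀) ⊆ closure {ξ} → EGA43.IsUnivOpenAt f ξ)
    (hαβ : (FBase.IsGeomReducedAt (f.fiberToSpecResidueField (f.base (g.base y₀))) (f.asFiber (g.base y₀)) ∧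
        IsNoetherianRing (Y.presheaf.stalk y₀)) ∨
      (∀ y' : Y, y₀ ∈ closure {y'} → closure {y'} ∈ irreducibleComponents (Y : Type u) →
        topologicalKrullDim ↥(f.fiber y') = topologicalKrullDim ↥(connectedComponentIn (f.base ⁻¹' {y'}) (g.base y')))) :
    ∃ V ∈ nhds y₀, ∀ z ∈ V, topologicalKrullDim ↥(connectedComponentIn (f.base ⁻¹' {z}) (g.base z)) = topologicalKrullDim ↥(connectedComponentIn (f.base ⁻¹' {y₀}) (g.base y₀)) := by
  apply dim_const_of_ge' f g hg hirr y₀
  intro y' hy'
  rcases hαβ with ⟨hα, hN⟩ | hβ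
  · by_cases hne : y₀ = y'
    · subst hne; exact le_refl _
    haveI := hN
    obtain ⟨A, _, _, _, c, hc1, hc2⟩ := exists_dvr_of_noetherian_stalk y₀ y' hy' hne
    subst hc1
    subst hc2
    exact dim_le_of_alpha_dvr f g hg hirr A c hopen hα
  · exact dim_le_of_beta f g hg hirr y₀ hopen hβ y' hy'

end Groth.Agent.Helper5.SecUO
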