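import Mathlib
import Groth.Prelude
import Groth.Agent.Helper5.SecUO10
import Groth.Agent.Helper5.SecUO8
import Groth.Agent.Helper5.LscDim8

set_option autoImplicit false
set_option linter.style.haveILetI false
universe u

namespace Groth.Agent.Helper5.SecUO

open AlgebraicGeometry CategoryTheory CategoryTheory.Limits MonoidalCategory
  CartesianMonoidalCategory MonObj GrpObj TopologicalSpace Topology
open Groth.Agent.Helper5.Neut Groth.Agent.Helper5.SecComp Groth.Agent.Helper5.SecNb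

variable {S : Scheme.{u}} (G : Over S) [GrpObj G]

/-- the fibres of a group scheme have the dimension of their neutral components -/
theorem dim_ccIn_grp [LocallyOfFiniteType G.hom] (t : S) :
    topologicalKrullDim ↥(connectedComponentIn (G.hom ⁻¹' {t}) (e G t)) =
      topologicalKrullDim ↥(G.hom ⁻¹' {t}) := by
  rw [dim_component_eq_fibreDimAt G.hom t _ (hom_e G t) ((geomIrr_grp G).irreducible t),
    Groth.Agent.Helper5.LscDim.dim_preimage_grp G t]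

theorem neutralSet_inter_fibre (t : S) :
    SGA3x.neutralSet G ∩ G.hom ⁻¹' {t} = connectedComponentIn (G.hom ⁻¹' {t}) (e G t) := by
  rw [neutralSet_eq, sectionComponents_inter_fibre]

/-- (ii) ⟹ (i) -/
theorem grp_isUnivOpenAt_of_dim_const [LocallyOfFinitePresentation G.hom] (s : S)
    (h : ∃ U : Set S, U ∈ nhds s ∧ ∀ t ∈ U,
      topologicalKrullDim ↥(G.hom ⁻¹' {t}) = topologicalKrullDim ↥(G.hom ⁻¹' {s})) :
    ∀ x ∈ SGA3x.neutralSet G ∩ G.hom ⁻¹' {s}, EGA43.IsUnivOpenAt G.hom x := by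
  obtain ⟨U, hU, hconst⟩ := h
  rw [neutralSet_inter_fibre]
  exact isUnivOpenAt_of_dim_const G.hom (e G) (e_hom G) (geomIrr_grp G) s
    ⟨U, hU, fun z hz => by
      show topologicalKrullDim ↥(connectedComponentIn (G.hom ⁻¹' {z}) (e G z)) =
        topologicalKrullDim ↥(connectedComponentIn (G.hom ⁻¹' {s}) (e G s))
      rw [dim_ccIn_grp G z, dim_ccIn_grp G s]; exact hconst z hz⟩

/-- (i bis) ⟹ (ii) -/
theorem grp_dim_const_of_isUnivOpenAt [LocallyOfFinitePresentation G.hom] (s : S)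
    (W : G.left.Opens) (hW : e G s ∈ W)
    (h : ∀ x ∈ SGA3x.neutralSet G ∩ G.hom ⁻¹' {s}, x ∈ W → EGA43.IsUnivOpenAt G.hom x) :
    ∃ U : Set S, U ∈ nhds s ∧ ∀ t ∈ U,
      topologicalKrullDim ↥(G.hom ⁻¹' {t}) = topologicalKrullDim ↥(G.hom ⁻¹' {s}) := by
  have hgi := geomIrr_grp G
  have hopen : ∀ ξ ∈ connectedComponentIn (G.hom ⁻¹' {s}) (e G s),
      connectedComponentIn (G.hom ⁻¹' {s}) (e G s) ⊆ closure {ξ} →
        EGA43.IsUnivOpenAt G.hom ξ := by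
    intro ξ hξ hsub
    have h1 : ξ ⤳ e G s :=
      specializes_iff_mem_closure.2 (hsub (mem_connectedComponentIn (hom_e G s)))
    refine h ξ ?_ (h1.mem_open W.2 hW)
    rw [neutralSet_inter_fibre]
    exact hξ
  have hβ : ∀ y' : S, s ∈ closure {y'} → closure {y'} ∈ irreducibleComponents (S : Type u) →
      topologicalKrullDim ↥(G.hom.fiber y') =
        topologicalKrullDim ↥(connectedComponentIn (G.hom ⁻¹' {y'}) (e G y')) := by
    intro y' _ _
    rw [dim_ccIn_grp G y']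
    exact IsHomeomorph.topologicalKrullDim_eq _ (G.hom.fiberHomeo y').isHomeomorph
  obtain ⟨V, hV, hconst⟩ := dim_const_of_ge' G.hom (e G) (e_hom G) hgi s
    (fun y' hy' => dim_le_of_beta G.hom (e G) (e_hom G) hgi s hopen hβ y' hy')
  refine ⟨V, hV, fun t ht => ?_⟩
  rw [← dim_ccIn_grp G t, ← dim_ccIn_grp G s]
  exact hconst t ht

/-- S5330. -/
theorem s5330 (S : Scheme.{u}) (G : Over S) [GrpObj G]
    [LocallyOfFinitePresentation G.hom] (s : S) :
    ((∀ x ∈ (SGA3x.neutralSet G ∩ G.hom.base ⁻¹' {s}), EGA43.IsUnivOpenAt G.hom x) ↔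
      ∃ W : G.left.Opens, (∀ p : ↥(𝟙_ (Over S)).left, (𝟙_ (Over S)).hom.base p = s → η[G].left.base p ∈ W) ∧
        ∀ x ∈ (SGA3x.neutralSet G ∩ G.hom.base ⁻¹' {s}), x ∈ W → EGA43.IsUnivOpenAt G.hom x) ∧
    ((∀ x ∈ (SGA3x.neutralSet G ∩ G.hom.base ⁻¹' {s}), EGA43.IsUnivOpenAt G.hom x) ↔
      ∃ U : Set S, U ∈ nhds s ∧ ∀ t ∈ U, topologicalKrullDim ↥(G.hom.base ⁻¹' {t}) = topologicalKrullDim ↥(G.hom.base ⁻¹' {s})) := by
  have hbis : (∃ W : G.left.Opens, (∀ p : ↥(𝟙_ (Over S)).left, (𝟙_ (Over S)).hom.base p = s →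
      η[G].left.base p ∈ W) ∧
        ∀ x ∈ (SGA3x.neutralSet G ∩ G.hom.base ⁻¹' {s}), x ∈ W → EGA43.IsUnivOpenAt G.hom x) →
      ∃ U : Set S, U ∈ nhds s ∧ ∀ t ∈ U,
        topologicalKrullDim ↥(G.hom.base ⁻¹' {t}) = topologicalKrullDim ↥(G.hom.base ⁻¹' {s}) := by
    rintro ⟨W, hW1, hW2⟩
    exact grp_dim_const_of_isUnivOpenAt G s W (hW1 s rfl) hW2
  have htop : (∀ x ∈ (SGA3x.neutralSet G ∩ G.hom.base ⁻¹' {s}), EGA43.IsUnivOpenAt G.hom x) →
      ∃ W : G.left.Opens, (∀ p : ↥(𝟙_ (Over S)).left, (𝟙_ (Over S)).hom.base p = s →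
        η[G].left.base p ∈ W) ∧
        ∀ x ∈ (SGA3x.neutralSet G ∩ G.hom.base ⁻¹' {s}), x ∈ W → EGA43.IsUnivOpenAt G.hom x :=
    fun h => ⟨⊤, fun _ _ => trivial, fun x hx _ => h x hx⟩
  refine ⟨⟨htop, fun h => grp_isUnivOpenAt_of_dim_const G s (hbis h)⟩,
    ⟨fun h => hbis (htop h), fun h => grp_isUnivOpenAt_of_dim_const G s h⟩⟩

end Groth.Agent.Helper5.SecUO
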