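import Mathlib

set_option autoImplicit false
universe u
open CategoryTheory

namespace Groth.Agent.Helper5.SemiEx

variable {B : Type u} [CommRing B] (F : ModuleCat.{u} B ⥤ ModuleCat.{u} B)

/-- the property "F kills N" -/
def P (N : Type u) [AddCommGroup N] [Module B N] : Prop :=
  Limits.IsZero (F.obj (ModuleCat.of B N))

variable {F}

lemma P_of_equiv {N N' : Type u} [AddCommGroup N] [Module B N] [AddCommGroup N'] [Module B N']
    (e : N ≃ₗ[B] N') (h : P F N') : P F N :=
  Limits.IsZero.of_iso h (F.mapIso e.toModuleIso)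

lemma P_of_subsingleton [F.Additive] (N : Type u) [AddCommGroup N] [Module B N] [Subsingleton N] :
    P F N := by
  unfold P
  exact F.map_isZero (ModuleCat.isZero_of_subsingleton _)

lemma P_of_exact [F.Additive]
    (hex : ∀ S : ShortComplex (ModuleCat.{u} B), S.ShortExact → Module.Finite B S.X₂ →
      (S.map F).Exact)
    {N₁ N₂ N₃ : Type u} [AddCommGroup N₁] [Module B N₁] [AddCommGroup N₂] [Module B N₂]
    [AddCommGroup N₃] [Module B N₃] [Module.Finite B N₂]
    (f : N₁ →ₗ[B] N₂) (g : N₂ →ₗ[B] N₃) (hf : Function.Injective f) (hg : Function.Surjective g)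
    (hfg : Function.Exact f g) (h₁ : P F N₁) (h₃ : P F N₃) : P F N₂ := by
  let S : ShortComplex (ModuleCat.{u} B) :=
    ModuleCat.shortComplexOfCompEqZero f g hfg.linearMap_comp_eq_zero
  have hS : S.ShortExact := ModuleCat.shortComplex_shortExact S hfg hf hg
  have := hex S hS (inferInstanceAs (Module.Finite B N₂))
  exact this.isZero_of_both_isZero h₁ h₃

/-- `F` applied to multiplication by `x` is multiplication by `x`. -/
lemma map_smul_id [F.Additive] [F.Linear B] (N : Type u) [AddCommGroup N] [Module B N] (x : B) :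
    F.map (ModuleCat.ofHom (x • (LinearMap.id : N →ₗ[B] N))) =
      ModuleCat.ofHom (x • (LinearMap.id : F.obj (ModuleCat.of B N) →ₗ[B] _)) := by
  have h1 : ModuleCat.ofHom (x • (LinearMap.id : N →ₗ[B] N)) = x • 𝟙 (ModuleCat.of B N) := by
    ext; rfl
  rw [h1, F.map_smul, F.map_id]
  ext; rfl

lemma smul_surjective [F.Additive] [F.Linear B]
    (hex : ∀ S : ShortComplex (ModuleCat.{u} B), S.ShortExact → Module.Finite B S.X₂ →
      (S.map F).Exact)
    (p : Ideal B) [p.IsPrime]
    (IH : ∀ J : Ideal B, p < J → ∀ (N : Type u) [AddCommGroup N] [Module B N] [Module.Finite B N],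
        (∀ a ∈ J, ∀ n : N, a • n = 0) → P F N)
    (x : B) (hx : x ∉ p) (m : F.obj (ModuleCat.of B (B ⧸ p))) : ∃ m', x • m' = m := by
  let f : (B ⧸ p) →ₗ[B] (B ⧸ p) := x • LinearMap.id
  let g := (LinearMap.range f).mkQ
  have hfg : Function.Exact f g := LinearMap.exact_map_mkQ_range f
  have hf : Function.Injective f := by
    rw [← LinearMap.ker_eq_bot, LinearMap.ker_eq_bot']
    intro y hy
    obtain ⟨b, rfl⟩ := Ideal.Quotient.mk_surjective y
    have : (Ideal.Quotient.mk p) (x * b) = 0 := by
      simpa [f, Algebra.smul_def] using hy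
    rw [Ideal.Quotient.eq_zero_iff_mem] at this ⊢
    exact (Ideal.IsPrime.mem_or_mem ‹_› this).resolve_left hx
  have hg : Function.Surjective g := Submodule.mkQ_surjective _
  let S : ShortComplex (ModuleCat.{u} B) :=
    ModuleCat.shortComplexOfCompEqZero f g hfg.linearMap_comp_eq_zero
  have hS : S.ShortExact := ModuleCat.shortComplex_shortExact S hfg hf hg
  have hSF := hex S hS (inferInstanceAs (Module.Finite B (B ⧸ p)))
  have h3 : P F ((B ⧸ p) ⧸ LinearMap.range f) := by
    refine IH (p ⊔ Ideal.span {x}) ?_ _ ?_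
    · refine lt_of_le_of_ne le_sup_left ?_
      intro h
      exact hx (h ▸ (le_sup_right : Ideal.span {x} ≤ p ⊔ Ideal.span {x})
        (Ideal.mem_span_singleton_self x))
    · have : p ⊔ Ideal.span {x} ≤ Module.annihilator B ((B ⧸ p) ⧸ LinearMap.range f) := by
        refine sup_le ?_ ?_
        · intro a ha
          rw [Module.mem_annihilator]
          intro n
          obtain ⟨y, rfl⟩ := Submodule.mkQ_surjective _ n
          obtain ⟨b, rfl⟩ := Ideal.Quotient.mk_surjective y
          have : a • (Ideal.Quotient.mk p b) = 0 := by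
            rw [Algebra.smul_def, Ideal.Quotient.algebraMap_eq, ← map_mul,
              Ideal.Quotient.eq_zero_iff_mem]
            exact p.mul_mem_right _ ha
          rw [← map_smul, this, map_zero]
        · rw [Ideal.span_singleton_le_iff_mem, Module.mem_annihilator]
          intro n
          obtain ⟨y, rfl⟩ := Submodule.mkQ_surjective _ n
          rw [← map_smul, Submodule.mkQ_apply, Submodule.Quotient.mk_eq_zero]
          exact ⟨y, rfl⟩
      intro a ha n
      exact Module.mem_annihilator.1 (this ha) n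
  have hg0 : (S.map F).g = 0 := Limits.IsZero.eq_zero_of_tgt h3 _
  have hepi : Epi (S.map F).f := hSF.epi_f hg0
  have hsurj := (ModuleCat.epi_iff_surjective _).1 hepi
  have hmap : (S.map F).f = ModuleCat.ofHom (x • (LinearMap.id :
      F.obj (ModuleCat.of B (B ⧸ p)) →ₗ[B] _)) := map_smul_id (B ⧸ p) x
  rw [hmap] at hsurj
  obtain ⟨m', hm'⟩ := hsurj m
  exact ⟨m', hm'⟩

theorem main [IsNoetherianRing B] [F.Additive] [F.Linear B]
    (hfg : ∀ M : ModuleCat.{u} B, Module.Finite B M → Module.Finite B (F.obj M))
    (hex : ∀ S : ShortComplex (ModuleCat.{u} B), S.ShortExact → Module.Finite B S.X₂ →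
      (S.map F).Exact)
    (h0 : ∀ m : Ideal B, m.IsMaximal → Limits.IsZero (F.obj (ModuleCat.of B (B ⧸ m))))
    (I : Ideal B) : ∀ (N : Type u) [AddCommGroup N] [Module B N] [Module.Finite B N],
      (∀ a ∈ I, ∀ n : N, a • n = 0) → P F N := by
  induction I using WellFoundedGT.induction with
  | ind I IH =>
  intro N _ _ hNfin
  induction hNfin using IsNoetherianRing.induction_on_isQuotientEquivQuotientPrime B with
  | subsingleton N => intro _; exact P_of_subsingleton N
  | quotient N p e =>
    intro hN
    refine P_of_equiv e ?_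
    have hIp : I ≤ p.asIdeal := by
      intro a ha
      have h1 := hN a ha (e.symm (Ideal.Quotient.mk _ 1))
      rw [← map_smul, LinearEquiv.map_eq_zero_iff, Algebra.smul_def, map_one, mul_one,
        Ideal.Quotient.algebraMap_eq, Ideal.Quotient.eq_zero_iff_mem] at h1
      exact h1
    have hpkill : ∀ a ∈ p.asIdeal, ∀ n : B ⧸ p.asIdeal, a • n = 0 := by
      intro a ha n
      obtain ⟨b, rfl⟩ := Ideal.Quotient.mk_surjective n
      rw [Algebra.smul_def, Ideal.Quotient.algebraMap_eq, ← map_mul,
        Ideal.Quotient.eq_zero_iff_mem]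
      exact p.asIdeal.mul_mem_right _ ha
    rcases lt_or_eq_of_le hIp with hlt | heq
    · exact IH p.asIdeal hlt (B ⧸ p.asIdeal) hpkill
    · subst heq
      have := p.isPrime
      by_cases hmax : p.asIdeal.IsMaximal
      · exact h0 _ hmax
      · obtain ⟨m, hm, hpm⟩ := Ideal.exists_le_maximal p.asIdeal p.isPrime.ne_top
        have hne : p.asIdeal ≠ m := fun h => hmax (h ▸ hm)
        obtain ⟨x, hxm, hxp⟩ := SetLike.exists_of_lt (lt_of_le_of_ne hpm hne)
        have hsurj := smul_surjective hex p.asIdeal (fun J hJ N _ _ _ h => IH J hJ N h)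
        have : Module.Finite B (F.obj (ModuleCat.of B (B ⧸ p.asIdeal))) :=
          hfg _ (inferInstanceAs (Module.Finite B (B ⧸ p.asIdeal)))
        obtain ⟨r, hr1, hr2⟩ := Submodule.exists_sub_one_mem_and_smul_eq_zero_of_fg_of_le_smul
          (Ideal.span {x}) (⊤ : Submodule B (F.obj (ModuleCat.of B (B ⧸ p.asIdeal))))
          Module.Finite.fg_top (by
            intro n _
            obtain ⟨n', rfl⟩ := hsurj x hxp n
            exact Submodule.smul_mem_smul (Ideal.mem_span_singleton_self x) trivial)
        have hrp : r ∉ p.asIdeal := by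
          intro hr
          have h1 : (1 : B) ∈ m := by
            have : (1 : B) = r - (r - 1) := by ring
            rw [this]
            refine m.sub_mem (hpm hr) ?_
            exact ((Ideal.span_singleton_le_iff_mem _).2 hxm) hr1
          exact hm.ne_top ((Ideal.eq_top_iff_one _).2 h1)
        have : Subsingleton (F.obj (ModuleCat.of B (B ⧸ p.asIdeal))) := by
          refine ⟨fun a b => ?_⟩
          obtain ⟨a', rfl⟩ := hsurj r hrp a
          obtain ⟨b', rfl⟩ := hsurj r hrp b
          rw [hr2 a' trivial, hr2 b' trivial]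
        exact ModuleCat.isZero_of_subsingleton _
  | exact N₁ N₂ N₃ f g hf hg hfg h₁ h₃ =>
    intro hN
    refine P_of_exact hex f g hf hg hfg (h₁ ?_) (h₃ ?_)
    · intro a ha n
      apply hf
      rw [map_smul, hN a ha, map_zero]
    · intro a ha n
      obtain ⟨n₂, rfl⟩ := hg n
      rw [← map_smul, hN a ha, map_zero]

end Groth.Agent.Helper5.SemiEx
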