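import Mathlib
import Groth.Agent.Helper5.UnrGu12
import Groth.Agent.Helper5.GuNormal
import Groth.Prelude

set_option autoImplicit false
set_option linter.unusedSectionVars false
set_option linter.style.haveILetI false
universe u

open AlgebraicGeometry CategoryTheory Limits TensorProduct

namespace Groth.Agent.Helper5.SepCl

/-- an étale separated morphism to an integral scheme whose generic fibre is a single point with
trivial residue field extension is a monomorphism -/
theorem mono_of_generic_fibre {W X : Scheme.{u}} [IsIntegral X] (h : W ⟶ X) [Etale h]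
    [IsSeparated h] (ξ : W) (hξ : ∀ w : W, h w = genericPoint X → w = ξ)
    (hres : Function.Surjective (h.residueFieldMap ξ).hom) : Mono h := by
  let j := W.fromSpecResidueField ξ
  have hjh : j ≫ h = Spec.map (h.residueFieldMap ξ) ≫ X.fromSpecResidueField (h ξ) :=
    (Scheme.Hom.SpecMap_residueFieldMap_fromSpecResidueField h ξ).symm
  haveI : IsClosedImmersion (Spec.map (h.residueFieldMap ξ)) :=
    IsClosedImmersion.spec_of_surjective _ hres
  haveI : Mono (j ≫ h) := by rw [hjh]; infer_instance
  have h4 : pullback.fst (j ≫ h) (j ≫ h) = pullback.snd (j ≫ h) (j ≫ h) := by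
    rw [← cancel_mono (j ≫ h)]; exact pullback.condition
  have hΔ : Surjective (pullback.diagonal h) := by
    constructor
    intro p
    let π : pullback h h ⟶ X := pullback.fst h h ≫ h
    obtain ⟨p', hp'p, hp'⟩ := (Flat.generalizingMap π) (genericPoint_specializes (π p))
    have h1 : pullback.fst h h p' = ξ := hξ _ hp'
    have h2 : pullback.snd h h p' = ξ := by
      refine hξ _ ?_
      rw [← hp']
      show (pullback.snd h h ≫ h) p' = (pullback.fst h h ≫ h) p'
      rw [pullback.condition]
    let m := pullback.map (j ≫ h) (j ≫ h) h h j j (𝟙 X) (by simp) (by simp)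
    have h3 : p' ∈ Set.range m := by
      rw [Scheme.Pullback.range_map]
      refine ⟨?_, ?_⟩
      · show pullback.fst h h p' ∈ Set.range j
        rw [Scheme.range_fromSpecResidueField, h1]; rfl
      · show pullback.snd h h p' ∈ Set.range j
        rw [Scheme.range_fromSpecResidueField, h2]; rfl
    obtain ⟨q, hq⟩ := h3
    have hm : m = pullback.fst (j ≫ h) (j ≫ h) ≫ j ≫ pullback.diagonal h := by
      apply pullback.hom_ext
      · simp only [m, pullback.map]
        rw [pullback.lift_fst]
        simp
      · simp only [m, pullback.map]
        rw [pullback.lift_snd]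
        simp [h4]
    have h5 : pullback.diagonal h (j (pullback.fst (j ≫ h) (j ≫ h) q)) = p' := by
      rw [← hq, hm]; rfl
    have hcl : IsClosed (Set.range (pullback.diagonal h)) :=
      (pullback.diagonal h).isClosedEmbedding.isClosed_range
    exact hp'p.mem_closed hcl ⟨_, h5⟩
  haveI : IsIso (pullback.diagonal h) := by
    apply isIso_of_isOpenImmersion_of_opensRange_eq_top
    rw [eq_top_iff]
    rintro x -
    exact hΔ.surj x
  exact (pullback.isIso_diagonal_iff h).1 inferInstance

end Groth.Agent.Helper5.SepCl
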