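import Mathlib
import Groth.Agent.Helper5.SepCl1
import Groth.Prelude

set_option autoImplicit false
set_option linter.unusedSectionVars false
set_option linter.style.haveILetI false
universe u

open AlgebraicGeometry CategoryTheory Limits TensorProduct

namespace Groth.Agent.Helper5.SepCl

theorem isSepClosed_of_ringEquiv {k k' : Type*} [Field k] [Field k'] (e : k ≃+* k')
    [IsSepClosed k] : IsSepClosed k' := by
  refine ⟨fun p hp => ?_⟩
  have h1 : (p.map (e.symm : k' →+* k)).Separable := hp.map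
  have h2 := IsSepClosed.splits_of_separable _ h1
  have h3 := h2.map (e : k →+* k')
  rw [Polynomial.map_map] at h3
  have h4 : ((e : k →+* k').comp (e.symm : k' →+* k)) = RingHom.id k' := by
    ext x; simp
  rwa [h4, Polynomial.map_id] at h3

/-- the residue field of a field -/
theorem isSepClosed_residueField (F : Type*) [Field F] [IsSepClosed F] :
    IsSepClosed (IsLocalRing.ResidueField F) := by
  have hb : Function.Bijective (IsLocalRing.residue F) :=
    ⟨(IsLocalRing.residue F).injective, IsLocalRing.residue_surjective⟩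
  exact isSepClosed_of_ringEquiv (RingEquiv.ofBijective (IsLocalRing.residue F) hb)

theorem s0089 {U X : Scheme.{u}} [IsIntegral X]
    (hN : ∀ x : X, IsIntegrallyClosed (X.presheaf.stalk x))
    [IsSepClosed X.functionField] (g : U ⟶ X) [AlgebraicGeometry.Etale g] [IsSeparated g] :
    ∃ (ι : Type u) (V : ι → X.Opens) (e : (∐ fun i => (V i : Scheme.{u})) ≅ U),
      ∀ i, Sigma.ι (fun i => (V i : Scheme.{u})) i ≫ e.hom ≫ g = (V i).ι := by
  have hgu : ∀ y : X, CAlg2.IsGeomUnibranch (X.presheaf.stalk y) := fun y =>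
    haveI := hN y
    Groth.Agent.Helper5.UnrGu.gu_of_normal _
  obtain ⟨h1, h2⟩ := Groth.Agent.Helper5.UnrGu.s2787_int g hgu
  let ι : Type u := ↥(irreducibleComponents ↥U)
  let W : ι → U.Opens := fun Z => ⟨Z.1, (h2 Z.1 Z.2).1⟩
  let hZ : ∀ Z : ι, (W Z : Scheme.{u}) ⟶ X := fun Z => (W Z).ι ≫ g
  haveI hsc : IsSepClosed (X.residueField (genericPoint X)) :=
    isSepClosed_residueField (X.presheaf.stalk (genericPoint X))
  have hmono : ∀ Z, Mono (hZ Z) := by
    intro Z
    obtain ⟨-, ξ, ⟨hξZ, hξη⟩, huniq⟩ := h2 Z.1 Z.2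
    let ξ' : (W Z : Scheme.{u}) := ⟨ξ, hξZ⟩
    have hη : hZ Z ξ' = genericPoint X := hξη
    refine mono_of_generic_fibre (hZ Z) ξ' ?_ ?_
    · intro w hw
      have h3 := huniq w.1 ⟨w.2, hw⟩
      exact Subtype.ext h3
    · letI : Algebra (X.residueField (hZ Z ξ')) ((W Z : Scheme.{u}).residueField ξ') :=
        ((hZ Z).residueFieldMap ξ').hom.toAlgebra
      haveI : Algebra.IsSeparable (X.residueField (hZ Z ξ')) ((W Z : Scheme.{u}).residueField ξ') :=
        inferInstance
      haveI : IsSepClosed (X.residueField (hZ Z ξ')) := by rw [hη]; exact hsc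
      exact IsSepClosed.algebraMap_surjective (X.residueField (hZ Z ξ'))
        ((W Z : Scheme.{u}).residueField ξ')
  haveI hoi : ∀ Z, IsOpenImmersion (hZ Z) := fun Z =>
    haveI := hmono Z
    IsOpenImmersion.of_flat_of_mono (hZ Z)
  have hcov : ⨆ Z, ((W Z).ι).opensRange = ⊤ := by
    rw [eq_top_iff]
    rintro x -
    refine TopologicalSpace.Opens.mem_iSup.2
      ⟨⟨irreducibleComponent x, irreducibleComponent_mem_irreducibleComponents x⟩, ?_⟩
    rw [Scheme.Opens.opensRange_ι]
    exact mem_irreducibleComponent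
  have hdisj : Pairwise (Function.onFun Disjoint (fun Z => ((W Z).ι).opensRange)) := by
    intro Z₁ Z₂ hne
    rw [Function.onFun, Scheme.Opens.opensRange_ι, Scheme.Opens.opensRange_ι]
    rw [disjoint_iff]
    ext x
    simp only [TopologicalSpace.Opens.coe_inf, Set.mem_inter_iff, SetLike.mem_coe,
      TopologicalSpace.Opens.coe_bot, Set.mem_empty_iff_false, iff_false, not_and]
    intro hx1 hx2
    apply hne
    obtain ⟨Z₀, -, hZ₀⟩ := h1 x
    exact Subtype.ext ((hZ₀ Z₁.1 ⟨Z₁.2, hx1⟩).trans (hZ₀ Z₂.1 ⟨Z₂.2, hx2⟩).symm)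
  obtain ⟨hcolim⟩ := nonempty_isColimit_cofanMk_of (fun Z => (W Z).ι) hcov hdisj
  let V : ι → X.Opens := fun Z => (hZ Z).opensRange
  let e₁ : (∐ fun i => (V i : Scheme.{u})) ≅ (∐ fun i => (W i : Scheme.{u})) :=
    Sigma.mapIso (fun i => (hZ i).isoOpensRange.symm)
  let e₂ : (∐ fun i => (W i : Scheme.{u})) ≅ U :=
    (colimit.isColimit _).coconePointUniqueUpToIso hcolim
  have he₂ : ∀ i, Sigma.ι (fun i => (W i : Scheme.{u})) i ≫ e₂.hom = (W i).ι := fun i =>
    (colimit.isColimit _).comp_coconePointUniqueUpToIso_hom hcolim ⟨i⟩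
  refine ⟨ι, V, e₁ ≪≫ e₂, fun i => ?_⟩
  have h3 : Sigma.ι (fun i => (V i : Scheme.{u})) i ≫ e₁.hom =
      (hZ i).isoOpensRange.inv ≫ Sigma.ι (fun i => (W i : Scheme.{u})) i := by
    simp [e₁]
  rw [Iso.trans_hom, Category.assoc, reassoc_of% h3, reassoc_of% (he₂ i)]
  exact (hZ i).isoOpensRange_inv_comp

end Groth.Agent.Helper5.SepCl
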