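import Mathlib
import Groth.Prelude

set_option autoImplicit false
set_option linter.unusedSectionVars false
set_option linter.style.haveILetI false
universe u

open Polynomial

namespace Groth.Agent.Helper5.SepCl

section

variable (A K : Type*) [CommRing A] [IsDomain A] [IsIntegrallyClosed A] [Field K] [Algebra A K]
  [IsFractionRing A K] [IsSepClosed K]

include K

/-- over a normal domain with separably closed fraction field, a multiplicative "goodness" property
forcing a nonzero derivative always produces a linear factor -/
theorem exists_linear_factor (Good : A[X] → Prop)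
    (ha : ∀ f : A[X], f.Monic → Good f → derivative f ≠ 0)
    (hb : ∀ g h : A[X], g.Monic → h.Monic → g.natDegree ≠ 0 → h.natDegree ≠ 0 → Good (g * h) →
      Good g ∨ Good h) :
    ∀ (n : ℕ) (f : A[X]), f.natDegree = n → f.Monic → Good f →
      ∃ a : A, Good (X - C a) ∧ (X - C a) ∣ f := by
  intro n
  induction n using Nat.strong_induction_on with
  | _ n ih =>
    intro f hn hf hG
    by_cases hirr : Irreducible f
    · have h1 : Irreducible (f.map (algebraMap A K)) :=
        (Polynomial.Monic.irreducible_iff_irreducible_map_fraction_map (K := K) hf).1 hirr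
      have h2 : derivative (f.map (algebraMap A K)) ≠ 0 := by
        rw [Polynomial.derivative_map]
        intro h0
        apply ha f hf hG
        exact Polynomial.map_injective _ (IsFractionRing.injective A K) (by rw [h0, Polynomial.map_zero])
      have h3 : (f.map (algebraMap A K)).Separable :=
        (Polynomial.separable_iff_derivative_ne_zero h1).2 h2
      have h4 : (f.map (algebraMap A K)).degree = 1 := IsSepClosed.degree_eq_one_of_irreducible K h1 h3
      have h5 : f.natDegree = 1 := by
        have h6 : (f.map (algebraMap A K)).natDegree = 1 := Polynomial.natDegree_eq_of_degree_eq_some h4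
        rwa [hf.natDegree_map] at h6
      have h7 : f = X + C (f.coeff 0) := hf.eq_X_add_C h5
      refine ⟨-f.coeff 0, ?_, ?_⟩
      · rw [C_neg, sub_neg_eq_add, ← h7]; exact hG
      · rw [C_neg, sub_neg_eq_add, ← h7]
    · have h1 : f ≠ 1 := by
        rintro rfl
        exact ha 1 hf hG (by simp)
      rw [hf.irreducible_iff_natDegree] at hirr
      push Not at hirr
      obtain ⟨g, h, hg, hh, hgh, hg0, hh0⟩ := hirr h1
      have hdeg : g.natDegree + h.natDegree = n := by
        rw [← hn, ← hgh, hg.natDegree_mul hh]
      rw [← hgh] at hG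
      rcases hb g h hg hh hg0 hh0 hG with hGg | hGh
      · obtain ⟨a, ha1, ha2⟩ := ih g.natDegree (by omega) g rfl hg hGg
        exact ⟨a, ha1, hgh ▸ ha2.mul_right h⟩
      · obtain ⟨a, ha1, ha2⟩ := ih h.natDegree (by omega) h rfl hh hGh
        exact ⟨a, ha1, hgh ▸ ha2.mul_left g⟩

/-- a normal local domain with separably closed fraction field is henselian -/
theorem henselian_of_normal_sepClosed [IsLocalRing A] : HenselianLocalRing A := by
  refine ⟨fun f hf a₀ h1 h2 => ?_⟩
  let m := IsLocalRing.maximalIdeal A
  have hm : m.IsPrime := inferInstance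
  let Good : A[X] → Prop := fun f => f.eval a₀ ∈ m ∧ (derivative f).eval a₀ ∉ m
  have h2' : (derivative f).eval a₀ ∉ m := by
    intro h
    exact (IsLocalRing.mem_maximalIdeal _).1 h h2
  have hA : ∀ f : A[X], f.Monic → Good f → derivative f ≠ 0 := by
    rintro g - ⟨-, hg⟩ h0
    apply hg
    rw [h0]
    simp
  have hB : ∀ g h : A[X], g.Monic → h.Monic → g.natDegree ≠ 0 → h.natDegree ≠ 0 → Good (g * h) →
      Good g ∨ Good h := by
    rintro g h - - - - ⟨h3, h4⟩
    rw [eval_mul] at h3
    rw [derivative_mul, eval_add, eval_mul, eval_mul] at h4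
    rcases hm.mem_or_mem h3 with h5 | h5
    · left
      refine ⟨h5, fun h6 => h4 ?_⟩
      exact m.add_mem (m.mul_mem_right _ h6) (m.mul_mem_right _ h5)
    · right
      refine ⟨h5, fun h6 => h4 ?_⟩
      exact m.add_mem (m.mul_mem_left _ h5) (m.mul_mem_left _ h6)
  obtain ⟨a, ⟨hG1, -⟩, hdvd⟩ := exists_linear_factor A K Good hA hB f.natDegree f rfl hf ⟨h1, h2'⟩
  refine ⟨a, ?_, ?_⟩
  · exact Polynomial.dvd_iff_isRoot.1 hdvd
  · have h3 : a₀ - a ∈ m := by simpa using hG1
    have h4 : a - a₀ = -(a₀ - a) := by ring
    rw [h4]
    exact m.neg_mem h3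

/-- the residue field of a normal local domain with separably closed fraction field is
separably closed -/
theorem isSepClosed_residueField_of_normal_sepClosed [IsLocalRing A] :
    IsSepClosed (IsLocalRing.ResidueField A) := by
  refine IsSepClosed.of_exists_root _ fun p hp hirr hsep => ?_
  have hsurj : Function.Surjective (IsLocalRing.residue A) := IsLocalRing.residue_surjective
  have hl : p ∈ Polynomial.lifts (IsLocalRing.residue A) := by
    rw [Polynomial.mem_lifts]
    exact Polynomial.map_surjective _ hsurj p
  obtain ⟨P, hP1, hP2, hP3⟩ := Polynomial.lifts_and_natDegree_eq_and_monic hl hp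
  let Good : A[X] → Prop := fun f => (f.map (IsLocalRing.residue A)).Separable ∧ f.natDegree ≠ 0
  have hp0 : p.natDegree ≠ 0 := by
    intro h0
    have h1 : p = 1 := by
      rw [Polynomial.eq_C_of_natDegree_eq_zero h0]
      have h2 : p.coeff 0 = 1 := by
        have := hp.coeff_natDegree
        rwa [h0] at this
      rw [h2]; simp
    exact hirr.not_isUnit (h1 ▸ isUnit_one)
  have hA : ∀ f : A[X], f.Monic → Good f → derivative f ≠ 0 := by
    rintro g hg ⟨h1, h2⟩ h0
    have h3 : derivative (g.map (IsLocalRing.residue A)) = 0 := by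
      rw [Polynomial.derivative_map, h0, Polynomial.map_zero]
    have h4 : IsCoprime (g.map (IsLocalRing.residue A))
        (derivative (g.map (IsLocalRing.residue A))) := h1
    rw [h3] at h4
    have h5 : IsUnit (g.map (IsLocalRing.residue A)) := isCoprime_zero_right.1 h4
    have h6 : (g.map (IsLocalRing.residue A)).natDegree = 0 :=
      Polynomial.natDegree_eq_zero_of_isUnit h5
    rw [hg.natDegree_map] at h6
    exact h2 h6
  have hB : ∀ g h : A[X], g.Monic → h.Monic → g.natDegree ≠ 0 → h.natDegree ≠ 0 → Good (g * h) →
      Good g ∨ Good h := by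
    rintro g h - - hg0 - ⟨h1, -⟩
    left
    rw [Polynomial.map_mul] at h1
    exact ⟨h1.of_mul_left, hg0⟩
  obtain ⟨a, -, hdvd⟩ := exists_linear_factor A K Good hA hB P.natDegree P rfl hP3
    ⟨by rw [hP1]; exact hsep, by rw [hP2]; exact hp0⟩
  refine ⟨IsLocalRing.residue A a, ?_⟩
  have h1 : P.eval a = 0 := Polynomial.dvd_iff_isRoot.1 hdvd
  rw [← hP1, Polynomial.eval_map, Polynomial.eval₂_hom, h1, map_zero]

end

end Groth.Agent.Helper5.SepCl
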