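import Mathlib
import Groth.Agent.Helper5.ShStab18

/-!
# The maximal slope-destabilising submodule
-/

set_option autoImplicit false
set_option linter.style.haveILetI false

namespace Groth.Agent.Helper5.ShStab21

open CategoryTheory Limits AlgebraicGeometry Opposite Polynomial Filter
open Groth.Agent.Helper5.ShStab1 Groth.Agent.Helper5.ShStabPoly Groth.Agent.Helper5.ShStab3
open Groth.Agent.Helper5.ShStabPoly2 Groth.Agent.Helper5.ShStab2 Groth.Agent.Helper5.ShStab5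
open Groth.Agent.Helper5.ShStab11 Groth.Agent.Helper5.ShStab14 Groth.Agent.Helper5.ShStab15
open Groth.Agent.Helper5.ShStab16 Groth.Agent.Helper5.ShStab17 Groth.Agent.Helper5.ShStab18
open Groth.Agent.Helper5.ShStab13

universe u

section Slope

/-- comparison of slopes `α_{d-1}/α_d`, cross-multiplied -/
def SlLE (d : ℕ) (p q : ℚ[X]) : Prop :=
  StabCat.alpha d q * StabCat.alpha (d - 1) p ≤ StabCat.alpha d p * StabCat.alpha (d - 1) q

/-- strict comparison of slopes, cross-multiplied -/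
def SlLT (d : ℕ) (p q : ℚ[X]) : Prop :=
  StabCat.alpha d q * StabCat.alpha (d - 1) p < StabCat.alpha d p * StabCat.alpha (d - 1) q

theorem slLE_refl (d : ℕ) (p : ℚ[X]) : SlLE d p p := le_refl _

theorem slLE_or_slLT (d : ℕ) (p q : ℚ[X]) : SlLE d p q ∨ SlLT d q p := le_or_gt _ _

theorem slLE_of_slLT {d : ℕ} {p q : ℚ[X]} (h : SlLT d p q) : SlLE d p q := le_of_lt h

theorem not_slLT_of_slLE {d : ℕ} {p q : ℚ[X]} (h1 : SlLE d p q) (h2 : SlLT d q p) : False :=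
  absurd h2 (not_lt_of_ge h1)

theorem slLE_trans {d : ℕ} {P Q R : ℚ[X]} (haP : 0 < StabCat.alpha d P)
    (haQ : 0 < StabCat.alpha d Q) (haR : 0 < StabCat.alpha d R) (h1 : SlLE d P Q)
    (h2 : SlLE d Q R) : SlLE d P R :=
  cross_le_le haP haQ haR h1 h2

theorem slLT_of_lt_of_le {d : ℕ} {P Q R : ℚ[X]} (haP : 0 < StabCat.alpha d P)
    (haQ : 0 < StabCat.alpha d Q) (haR : 0 < StabCat.alpha d R) (h1 : SlLT d P Q)
    (h2 : SlLE d Q R) : SlLT d P R :=
  cross_lt_le haP haQ haR h1 h2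

theorem slLT_of_le_of_lt {d : ℕ} {P Q R : ℚ[X]} (haP : 0 < StabCat.alpha d P)
    (haQ : 0 < StabCat.alpha d Q) (haR : 0 < StabCat.alpha d R) (h1 : SlLE d P Q)
    (h2 : SlLT d Q R) : SlLT d P R :=
  cross_le_lt haP haQ haR h1 h2

theorem hatSlope_le_iff {d : ℕ} {p q : ℚ[X]} (hp : 0 < StabCat.alpha d p)
    (hq : 0 < StabCat.alpha d q) : StabCat.hatSlope d p ≤ StabCat.hatSlope d q ↔ SlLE d p q := by
  unfold StabCat.hatSlope SlLE
  rw [div_le_div_iff₀ hp hq]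
  constructor <;> intro h <;> linarith [mul_comm (StabCat.alpha d q) (StabCat.alpha (d - 1) p)]

theorem hatSlope_lt_iff {d : ℕ} {p q : ℚ[X]} (hp : 0 < StabCat.alpha d p)
    (hq : 0 < StabCat.alpha d q) : StabCat.hatSlope d p < StabCat.hatSlope d q ↔ SlLT d p q := by
  unfold StabCat.hatSlope SlLT
  rw [div_lt_div_iff₀ hp hq]
  constructor <;> intro h <;> linarith [mul_comm (StabCat.alpha d q) (StabCat.alpha (d - 1) p)]

end Slope

variable (k : Type u) [Field k] {X : Scheme.{u}} [X.Over (Spec (CommRingCat.of k))]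
  [IsProper (X ↘ Spec (CommRingCat.of k))]

/-- a submodule of the same multiplicity has at most the same second coefficient -/
theorem sub_alpha_pred_le {L : X.Modules} (hL : CohB1.IsAmple L) {d : ℕ} (hd : 1 ≤ d)
    {G F : X.Modules} (hGc : Coh.IsCoh G) (hFc : Coh.IsCoh F)
    (hdF : topologicalKrullDim (CohB1.support F) ≤ (d : WithBot ℕ∞)) (φ : G ⟶ F) [Mono φ]
    {pG pF : ℚ[X]} (hpG : ShStab.IsHilbPoly k X L G pG) (hpF : ShStab.IsHilbPoly k X L F pF)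
    (ha : StabCat.alpha d pG = StabCat.alpha d pF) :
    StabCat.alpha (d - 1) pG ≤ StabCat.alpha (d - 1) pF := by
  obtain ⟨pC, -, hsum, hdC, -, -, hCnn, -⟩ := sub_package k hL d hGc hFc hdF φ hpG hpF
  have haC : StabCat.alpha d pC = 0 := by
    have := alpha_add d pG pC
    rw [← hsum] at this
    linarith
  have hcoeff : pC.coeff d = 0 := by
    unfold StabCat.alpha at haC
    rcases mul_eq_zero.mp haC with h | h
    · exact absurd h (by positivity)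
    · exact h
  have hdeg : pC.natDegree ≤ d - 1 := by
    by_contra hlt
    push Not at hlt
    have heq : pC.natDegree = d := by omega
    have hlc : pC.leadingCoeff = 0 := by
      rw [Polynomial.leadingCoeff, heq]; exact hcoeff
    rw [Polynomial.leadingCoeff_eq_zero] at hlc
    rw [hlc, Polynomial.natDegree_zero] at heq
    omega
  have hbC : 0 ≤ StabCat.alpha (d - 1) pC := alpha_nonneg hdeg hCnn
  rw [hsum, alpha_add]
  linarith

/-- maximal for the order "contained in, with at most the slope" -/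
def IsMaxlMu (L : X.Modules) (d : ℕ) {F E : X.Modules} (ι : F ⟶ E) (pF : ℚ[X]) : Prop :=
  ∀ (F' : X.Modules) (ι' : F' ⟶ E) (g : F ⟶ F') (pF' : ℚ[X]), Mono ι' → Coh.IsCoh F' →
    ShStab.IsHilbPoly k X L F' pF' → g ≫ ι' = ι → SlLE d pF pF' → IsIso g

theorem exists_maxlMu {L : X.Modules} (hL : CohB1.IsAmple L) (d : ℕ) {E : X.Modules}
    (hEc : Coh.IsCoh E) (hp : ShStab.IsPure X E d) {F : X.Modules} (ι : F ⟶ E) [Mono ι]
    (hFc : Coh.IsCoh F) (hF0 : ¬ IsZero F) {pF : ℚ[X]} (hpF : ShStab.IsHilbPoly k X L F pF) :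
    ∃ (F' : X.Modules) (ι' : F' ⟶ E) (g : F ⟶ F') (pF' : ℚ[X]), Mono ι' ∧ Coh.IsCoh F' ∧
      ¬ IsZero F' ∧ ShStab.IsHilbPoly k X L F' pF' ∧ g ≫ ι' = ι ∧ SlLE d pF pF' ∧
      IsMaxlMu k L d ι' pF' := by
  haveI : CompactSpace X := hL.2.1
  haveI := isLocallyNoetherian_of_proper k (X := X)
  let P : ∀ F' : X.Modules, (F' ⟶ E) → Prop := fun F' ι' =>
    Mono ι' ∧ Coh.IsCoh F' ∧
      ∃ p' : ℚ[X], ShStab.IsHilbPoly k X L F' p' ∧ SlLE d pF p'
  obtain ⟨F', ι', ⟨hm', hFc', pF', hpF', hle⟩, ⟨g, hg⟩, hmax⟩ :=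
    Groth.Agent.Helper5.ShStab12.exists_maximal_sub E hEc P (fun _ _ h => ⟨h.1, h.2.1⟩) F ι
      ⟨inferInstance, hFc, pF, hpF, slLE_refl d pF⟩
  haveI := hm'
  haveI : Mono g := mono_of_mono_fac hg
  have hF'0 : ¬ IsZero F' := fun hz => hF0 (IsZero.of_mono g hz)
  refine ⟨F', ι', g, pF', hm', hFc', hF'0, hpF', hg, hle, ?_⟩
  intro F'' ι'' g' pF'' hm'' hFc'' hpF'' hg' hle'
  haveI := hm''
  haveI : Mono g' := mono_of_mono_fac hg'
  have hF''0 : ¬ IsZero F'' := fun hz => hF'0 (IsZero.of_mono g' hz)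
  exact hmax F'' ι'' ⟨hm'', hFc'', pF'', hpF'',
    slLE_trans (alpha_pos_sub k hL hp ι hFc hF0 hpF) (alpha_pos_sub k hL hp ι' hFc' hF'0 hpF')
      (alpha_pos_sub k hL hp ι'' hFc'' hF''0 hpF'') hle hle'⟩ g' hg'

/-- the key inequality for slopes -/
theorem keyMu {L : X.Modules} (hL : CohB1.IsAmple L) (d : ℕ) {E : X.Modules} (hEc : Coh.IsCoh E)
    (hp : ShStab.IsPure X E d) {F G : X.Modules} (ι : F ⟶ E) (κ : G ⟶ E) [Mono ι] [Mono κ]
    (hFc : Coh.IsCoh F) (hGc : Coh.IsCoh G) (hF0 : ¬ IsZero F) (hG0 : ¬ IsZero G)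
    {pF pG : ℚ[X]} (hpF : ShStab.IsHilbPoly k X L F pF) (hpG : ShStab.IsHilbPoly k X L G pG)
    (hmax : IsMaxlMu k L d ι pF) (hle : SlLE d pF pG)
    (hnot : ¬ ∃ φ : G ⟶ F, φ ≫ ι = κ) :
    Coh.IsCoh (kernel (sumMap ι κ)) ∧ ¬ IsZero (kernel (sumMap ι κ)) ∧
      ∀ pI : ℚ[X], ShStab.IsHilbPoly k X L (kernel (sumMap ι κ)) pI → SlLT d pG pI := by
  have hdE := dim_support_le_of_pure hp (𝟙 E) hEc
  obtain ⟨hIc, hSc, pI, pS, hpI, hpS, hsum⟩ := hilbPoly_sum_int k hL d hFc hGc hEc hdE ι κ hpF hpG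
  have hni : ¬ IsIso (toSumF ι κ) := fun h => hnot (exists_factor_of_isIso_toSumF ι κ h)
  have hnle : ¬ SlLE d pF pS := fun h =>
    hni (hmax _ (sumι ι κ) (toSumF ι κ) pS inferInstance hSc hpS (toSumF_ι ι κ) h)
  have hlt : SlLT d pS pF := (slLE_or_slLT d pF pS).resolve_left hnle
  have haF := alpha_pos_sub k hL hp ι hFc hF0 hpF
  have haG := alpha_pos_sub k hL hp κ hGc hG0 hpG
  obtain ⟨pC, hpC, hsumC, hdC, -, -, hCnn, -⟩ :=
    sub_package k hL d hIc hGc (dim_support_le_of_pure hp κ hGc) (intG ι κ) hpI hpG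
  have haC : 0 ≤ StabCat.alpha d pC := alpha_nonneg hdC hCnn
  have hIG : StabCat.alpha d pI ≤ StabCat.alpha d pG := by
    rw [hsumC, alpha_add]; linarith
  have ha : StabCat.alpha d pF + StabCat.alpha d pG = StabCat.alpha d pI + StabCat.alpha d pS := by
    rw [← alpha_add, ← alpha_add, hsum]
  have hv : StabCat.alpha (d - 1) pF + StabCat.alpha (d - 1) pG =
      StabCat.alpha (d - 1) pI + StabCat.alpha (d - 1) pS := by
    rw [← alpha_add, ← alpha_add, hsum]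
  have hev : SlLT d pG pI := formula_pt haF haG hIG ha hv hle hlt
  have hI0 : ¬ IsZero (kernel (sumMap ι κ)) := by
    intro hz
    have : pI = 0 := hilbPoly_unique k hpI (hilbPoly_zero k hL.1 hz)
    subst this
    unfold SlLT at hev
    simp [StabCat.alpha] at hev
  refine ⟨hIc, hI0, fun pI' hpI' => ?_⟩
  rw [hilbPoly_unique k hpI' hpI]
  exact hev

/-- the maximal slope-destabilising submodule of a pure module -/
theorem exists_muMax {L : X.Modules} (hL : CohB1.IsAmple L) {d : ℕ} (hd : 1 ≤ d) (E : X.Modules)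
    (hE : Coh.IsCoh E) (h0 : ¬ IsZero E) (hp : ShStab.IsPure X E d) :
    ∃ (F : X.Modules) (ι : F ⟶ E), Mono ι ∧ Coh.IsCoh F ∧ ¬ IsZero F ∧
      ∀ (G : X.Modules) (κ : G ⟶ E), Mono κ → Coh.IsCoh G → ¬ IsZero G →
        ∀ (pF pG : ℚ[X]), ShStab.IsHilbPoly k X L F pF → ShStab.IsHilbPoly k X L G pG →
          SlLE d pG pF ∧ (SlLE d pF pG → ∃ φ : G ⟶ F, φ ≫ ι = κ) := by
  classical
  have hdE := (hp E (𝟙 E) inferInstance hE h0).le
  let S : ℕ → Prop := fun n => ∃ (F : X.Modules) (ι : F ⟶ E) (pF : ℚ[X]), Mono ι ∧ Coh.IsCoh F ∧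
    ¬ IsZero F ∧ ShStab.IsHilbPoly k X L F pF ∧ IsMaxlMu k L d ι pF ∧ StabCat.alpha d pF = n
  have hS : ∃ n, S n := by
    obtain ⟨pE, hpE, -⟩ := exists_hilbPoly k hL.1 E hE d hdE
    obtain ⟨F', ι', g, pF', hm', hFc', hF'0, hpF', -, -, hmax⟩ :=
      exists_maxlMu k hL d hE hp (𝟙 E) hE h0 hpE
    haveI := hm'
    obtain ⟨n, hn⟩ := alpha_nat k hL F' hFc' d (dim_support_le_of_pure hp ι' hFc') hpF'
    exact ⟨n, F', ι', pF', hm', hFc', hF'0, hpF', hmax, hn⟩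
  obtain ⟨F, ι, pF, hι, hFc, hF0, hpF, hmax, hn⟩ := Nat.find_spec hS
  haveI := hι
  have haF := alpha_pos_sub k hL hp ι hFc hF0 hpF
  have hFp : ShStab.IsPure X F d := fun T τ hτ hTc hT0 => by
    haveI := hτ
    exact hp T (τ ≫ ι) inferInstance hTc hT0
  have claimB : ∀ (G₁ : X.Modules) (j₁ : G₁ ⟶ F) (pG₁ : ℚ[X]), Mono j₁ → Coh.IsCoh G₁ →
      ¬ IsZero G₁ → ShStab.IsHilbPoly k X L G₁ pG₁ → SlLT d pF pG₁ → False := by
    intro G₁ j₁ pG₁ hj₁ hG₁c hG₁0 hpG₁ hlt₁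
    haveI := hj₁
    have haG₁ := alpha_pos_sub k hL hFp j₁ hG₁c hG₁0 hpG₁
    obtain ⟨G₂, j₂, g₁, pG₂, hj₂, hG₂c, hG₂0, hpG₂, hg₁, hle₁₂, hmax₂⟩ :=
      exists_maxlMu k hL d hFc hFp j₁ hG₁c hG₁0 hpG₁
    haveI := hj₂
    have haG₂ := alpha_pos_sub k hL hFp j₂ hG₂c hG₂0 hpG₂
    have hlt₂ : SlLT d pF pG₂ := slLT_of_lt_of_le haF haG₁ haG₂ hlt₁ hle₁₂
    obtain ⟨G', κ', g₂, pG', hκ', hG'c, hG'0, hpG', hg₂, hle₂', hmax'⟩ :=
      exists_maxlMu k hL d hE hp (j₂ ≫ ι) hG₂c hG₂0 hpG₂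
    haveI := hκ'
    have haG' := alpha_pos_sub k hL hp κ' hG'c hG'0 hpG'
    have hlt' : SlLT d pF pG' := slLT_of_lt_of_le haF haG₂ haG' hlt₂ hle₂'
    have hnot : ¬ ∃ φ : G' ⟶ F, φ ≫ ι = κ' := by
      rintro ⟨φ, hφ⟩
      haveI : Mono φ := mono_of_mono_fac hφ
      obtain ⟨n', hn'⟩ := alpha_nat k hL G' hG'c d (dim_support_le_of_pure hp κ' hG'c) hpG'
      have hmin : Nat.find hS ≤ n' :=
        Nat.find_min' hS ⟨G', κ', pG', hκ', hG'c, hG'0, hpG', hmax', hn'⟩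
      have hle : StabCat.alpha d pF ≤ StabCat.alpha d pG' := by
        rw [hn, hn']; exact_mod_cast hmin
      obtain ⟨pC, -, hsumC, hdC, -, -, hCnn, -⟩ :=
        sub_package k hL d hG'c hFc (dim_support_le_of_pure hp ι hFc) φ hpG' hpF
      have haC : 0 ≤ StabCat.alpha d pC := alpha_nonneg hdC hCnn
      have hge : StabCat.alpha d pG' ≤ StabCat.alpha d pF := by
        rw [hsumC, alpha_add]; linarith
      have haeq : StabCat.alpha d pG' = StabCat.alpha d pF := le_antisymm hge hle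
      have hb := sub_alpha_pred_le k hL hd hG'c hFc (dim_support_le_of_pure hp ι hFc) φ hpG' hpF
        haeq
      unfold SlLT at hlt'
      rw [haeq] at hlt'
      have := mul_le_mul_of_nonneg_left hb haF.le
      linarith
    have hle' : SlLE d pF pG' := slLE_of_slLT hlt'
    obtain ⟨hIc, hI0, hI⟩ := keyMu k hL d hE hp ι κ' hFc hG'c hF0 hG'0 hpF hpG' hmax hle' hnot
    have hdI : topologicalKrullDim (CohB1.support (kernel (sumMap ι κ'))) ≤ (d : WithBot ℕ∞) :=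
      dim_support_le_of_mono X (intF ι κ') (dim_support_le_of_pure hp ι hFc)
    obtain ⟨pI, hpI, -⟩ := exists_hilbPoly k hL.1 _ hIc d hdI
    have hltI : SlLT d pG' pI := hI pI hpI
    have haI := alpha_pos_sub k hL hFp (intF ι κ') hIc hI0 hpI
    obtain ⟨c, hc1, hc2⟩ := int_lift ι κ' j₂ g₂ hg₂.symm
    have hle₂I : SlLE d pG₂ pI :=
      slLE_of_slLT (slLT_of_le_of_lt haG₂ haG' haI hle₂' hltI)
    haveI : IsIso c := hmax₂ _ (intF ι κ') c pI inferInstance hIc hpI hc1 hle₂I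
    have : pG₂ = pI := hilbPoly_unique k hpG₂ (hilbPoly_of_iso k (asIso c).symm hpI)
    subst this
    exact not_slLT_of_slLE hle₂' hltI
  refine ⟨F, ι, hι, hFc, hF0, ?_⟩
  intro G κ hκ hGc hG0 pF' pG hpF' hpG
  have : pF' = pF := hilbPoly_unique k hpF' hpF
  subst this
  haveI := hκ
  have haG := alpha_pos_sub k hL hp κ hGc hG0 hpG
  have claimA : SlLE d pF' pG → (¬ ∃ φ : G ⟶ F, φ ≫ ι = κ) → False := by
    intro hle hnot
    obtain ⟨hIc, hI0, hI⟩ := keyMu k hL d hE hp ι κ hFc hGc hF0 hG0 hpF hpG hmax hle hnot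
    have hdI : topologicalKrullDim (CohB1.support (kernel (sumMap ι κ))) ≤ (d : WithBot ℕ∞) :=
      dim_support_le_of_mono X (intF ι κ) (dim_support_le_of_pure hp ι hFc)
    obtain ⟨pI, hpI, -⟩ := exists_hilbPoly k hL.1 _ hIc d hdI
    have haI := alpha_pos_sub k hL hFp (intF ι κ) hIc hI0 hpI
    exact claimB _ (intF ι κ) pI inferInstance hIc hI0 hpI
      (slLT_of_le_of_lt haF haG haI hle (hI pI hpI))
  constructor
  · by_contra hnle
    have hlt : SlLT d pF' pG := (slLE_or_slLT d pG pF').resolve_left hnle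
    by_cases hex : ∃ φ : G ⟶ F, φ ≫ ι = κ
    · obtain ⟨φ, hφ⟩ := hex
      exact claimB G φ pG (mono_of_mono_fac hφ) hGc hG0 hpG hlt
    · exact claimA (slLE_of_slLT hlt) hex
  · intro heq
    by_contra hex
    exact claimA heq hex

end Groth.Agent.Helper5.ShStab21
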