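import Mathlib
import Groth.Agent.Helper5.ShStab21

/-!
# Slope Harder-Narasimhan filtrations: existence and uniqueness
-/

set_option autoImplicit false
set_option linter.style.haveILetI false

namespace Groth.Agent.Helper5.ShStab22

open CategoryTheory Limits AlgebraicGeometry Opposite Polynomial Filter
open Groth.Agent.Helper5.ShStab1 Groth.Agent.Helper5.ShStabPoly Groth.Agent.Helper5.ShStab3
open Groth.Agent.Helper5.ShStabPoly2 Groth.Agent.Helper5.ShStab2 Groth.Agent.Helper5.ShStab5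
open Groth.Agent.Helper5.ShStab11 Groth.Agent.Helper5.ShStab14 Groth.Agent.Helper5.ShStab15
open Groth.Agent.Helper5.ShStab16 Groth.Agent.Helper5.ShStab17 Groth.Agent.Helper5.ShStab18
open Groth.Agent.Helper5.ShStab13 Groth.Agent.Helper5.ShStab21

universe u

variable (k : Type u) [Field k] {X : Scheme.{u}} [X.Over (Spec (CommRingCat.of k))]
  [IsProper (X ↘ Spec (CommRingCat.of k))]

/-- a maximal slope-destabilising submodule -/
def IsMuMax (L : X.Modules) (d : ℕ) {Q T : X.Modules} (τ : T ⟶ Q) : Prop :=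
  Mono τ ∧ Coh.IsCoh T ∧ ¬ IsZero T ∧
    ∀ (G : X.Modules) (κ : G ⟶ Q), Mono κ → Coh.IsCoh G → ¬ IsZero G →
      ∀ (pT pG : ℚ[X]), ShStab.IsHilbPoly k X L T pT → ShStab.IsHilbPoly k X L G pG →
        SlLE d pG pT ∧ (SlLE d pT pG → ∃ φ : G ⟶ T, φ ≫ τ = κ)

omit [IsProper (X ↘ Spec (CommRingCat.of k))] in
theorem isMuMax_of_iso {L Q T T' : X.Modules} {d : ℕ} (e : T' ≅ T) {τ : T ⟶ Q}
    (h : IsMuMax k L d τ) : IsMuMax k L d (e.hom ≫ τ) := by
  obtain ⟨hm, hc, h0, hmax⟩ := h
  haveI := hm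
  refine ⟨inferInstance, Groth.Agent.Lead.PerfLib.isCoh_of_iso e.symm hc,
    fun hz => h0 (hz.of_iso e.symm), ?_⟩
  intro G κ hκ hGc hG0 pT' pG hpT' hpG
  obtain ⟨h1, h2⟩ := hmax G κ hκ hGc hG0 pT' pG (hilbPoly_of_iso k e hpT') hpG
  refine ⟨h1, fun heq => ?_⟩
  obtain ⟨φ, hφ⟩ := h2 heq
  exact ⟨φ ≫ e.inv, by rw [Category.assoc, Iso.inv_hom_id_assoc, hφ]⟩

omit [X.Over (Spec (CommRingCat.of k))] [IsProper (X ↘ Spec (CommRingCat.of k))] in
theorem isPure_sub {Q T : X.Modules} {d : ℕ} (hQp : ShStab.IsPure X Q d) (τ : T ⟶ Q) [Mono τ] :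
    ShStab.IsPure X T d := fun T' ι' hι' hc' h0' => by
  haveI := hι'
  exact hQp T' (ι' ≫ τ) inferInstance hc' h0'

omit [X.Over (Spec (CommRingCat.of k))] [IsProper (X ↘ Spec (CommRingCat.of k))] in
/-- a pure module has no submodule of codimension one -/
theorem no_codim_one_of_isPure {Q : X.Modules} {d : ℕ} (hQp : ShStab.IsPure X Q d)
    (F : X.Modules) (ι : F ⟶ Q) (hm : Mono ι) (hFc : Coh.IsCoh F) :
    topologicalKrullDim (CohB1.support F) + 1 ≠ (d : WithBot ℕ∞) := by
  by_cases hF0 : IsZero F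
  · rw [(Groth.Agent.Lead.EpiPull.isZero_iff_support F).mp hF0]
    have : topologicalKrullDim (∅ : Set X) = ⊥ := by
      haveI : IsEmpty (TopologicalSpace.IrreducibleCloseds ((∅ : Set X))) :=
        ⟨fun s => (Set.notMem_empty _ s.isIrreducible'.nonempty.some.2).elim⟩
      unfold topologicalKrullDim
      exact Order.krullDim_eq_bot
    rw [this, WithBot.bot_add]
    exact WithBot.bot_ne_coe
  · rw [hQp F ι hm hFc hF0]
    intro h
    have h' : ((d + 1 : ℕ) : WithBot ℕ∞) = ((d : ℕ) : WithBot ℕ∞) := by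
      rw [← h]; push_cast; rfl
    have h'' : d + 1 = d := by exact_mod_cast h'
    omega

/-- a pure module all of whose nonzero submodules have at most its slope is slope-semistable -/
theorem isMuSemistable_of_isMuMax {L : X.Modules} (hL : CohB1.IsAmple L) {d : ℕ} {Q T : X.Modules}
    (hQp : ShStab.IsPure X Q d) {τ : T ⟶ Q} (h : IsMuMax k L d τ) :
    ShStab.IsMuSemistable k X L T d := by
  obtain ⟨hm, hc, h0, hmax⟩ := h
  haveI := hm
  have hTp := isPure_sub hQp τ
  refine ⟨hc, h0, hQp T τ hm hc h0, no_codim_one_of_isPure hTp, ?_⟩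
  intro F ι hι hFc pF pT hpF hpT hpos hlt
  haveI := hι
  have hF0 : ¬ IsZero F := by
    intro hz
    rw [hilbPoly_unique k hpF (hilbPoly_zero k hL.1 hz)] at hpos
    simp [StabCat.alpha] at hpos
  exact (hatSlope_le_iff hpos (hpos.trans hlt)).mpr
    (hmax F (ι ≫ τ) inferInstance hFc hF0 pT pF hpT hpF).1

/-- the maximal slope-destabilising submodule is saturated -/
theorem isPure_cokernel_of_isMuMax {L : X.Modules} (hL : CohB1.IsAmple L) {d : ℕ} (hd : 1 ≤ d)
    {Q T : X.Modules} (hQc : Coh.IsCoh Q) (hQp : ShStab.IsPure X Q d) {τ : T ⟶ Q}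
    (h : IsMuMax k L d τ) : ShStab.IsPure X (cokernel τ) d := by
  obtain ⟨hm, hTc, hT0, hmax⟩ := h
  haveI := hm
  intro U u hu hUc hU0
  haveI := hu
  have hdQ := dim_support_le_of_pure hQp (𝟙 Q) hQc
  have hCc := Groth.Agent.Lead.PerfLib.isCoh_cokernel hTc hQc τ
  have hdC : topologicalKrullDim (CohB1.support (cokernel τ)) ≤ (d : WithBot ℕ∞) :=
    dim_support_le_of_epi X (cokernel.π τ) hdQ
  have hdU : topologicalKrullDim (CohB1.support U) ≤ (d : WithBot ℕ∞) :=
    dim_support_le_of_mono X u hdC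
  by_contra hne
  have hlt := lt_of_le_of_ne hdU hne
  obtain ⟨pU, hpU, -⟩ := exists_hilbPoly k hL.1 U hUc d hdU
  have haU := alpha_eq_zero_of_dim_lt k hL.1 U hUc d hlt hpU
  obtain ⟨pQ, hpQ, -⟩ := exists_hilbPoly k hL.1 Q hQc d hdQ
  obtain ⟨pT, hpT, -⟩ := exists_hilbPoly k hL.1 T hTc d (dim_support_le_of_mono X τ hdQ)
  have hpC := hilbPoly_sub k hL.1 (cokerSC τ) (cokerSC_shortExact τ) hTc hQc hCc hpT hpQ
  have hDc := Groth.Agent.Lead.PerfLib.isCoh_cokernel hUc hCc u
  have hpD := hilbPoly_sub k hL.1 (cokerSC u) (cokerSC_shortExact u) hUc hCc hDc hpU hpC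
  let ψ : Q ⟶ cokernel u := cokernel.π τ ≫ cokernel.π u
  have hKc : Coh.IsCoh (kernel ψ) := isCoh_kernel k hQc hDc ψ
  have hSK : (ShortComplex.mk (kernel.ι ψ) ψ (kernel.condition ψ)).ShortExact :=
    ShortComplex.ShortExact.mk' (ShortComplex.exact_of_f_is_kernel _ (kernelIsKernel ψ))
      (inferInstanceAs (Mono (kernel.ι ψ))) (inferInstanceAs (Epi ψ))
  have hpK := hilbPoly_sub' k hL.1 _ hSK hKc hQc hDc hpQ hpD
  have e : pQ - (pQ - pT - pU) = pT + pU := by ring
  rw [e] at hpK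
  have hψ : τ ≫ ψ = 0 := by
    simp only [ψ]
    rw [← Category.assoc, cokernel.condition, Limits.zero_comp]
  let l : T ⟶ kernel ψ := kernel.lift ψ τ hψ
  have hl : l ≫ kernel.ι ψ = τ := kernel.lift_ι ψ τ hψ
  haveI : Mono l := mono_of_mono_fac hl
  have hK0 : ¬ IsZero (kernel ψ) := fun hz => hT0 (IsZero.of_mono l hz)
  have haT : 0 < StabCat.alpha d pT := alpha_pos_sub k hL hQp τ hTc hT0 hpT
  have haeq : StabCat.alpha d pT = StabCat.alpha d (pT + pU) := by
    rw [alpha_add, haU, add_zero]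
  have hb := sub_alpha_pred_le k hL hd hTc hKc
    (dim_support_le_of_mono X (kernel.ι ψ) hdQ) l hpT hpK haeq
  have hle : SlLE d pT (pT + pU) := by
    unfold SlLE
    rw [← haeq]
    exact mul_le_mul_of_nonneg_left hb haT.le
  obtain ⟨φ, hφ⟩ := (hmax (kernel ψ) (kernel.ι ψ) inferInstance hKc hK0 pT (pT + pU) hpT hpK).2 hle
  have h1 : l ≫ φ = 𝟙 T := by
    apply (cancel_mono τ).mp
    rw [Category.assoc, hφ, hl, Category.id_comp]
  have h2 : φ ≫ l = 𝟙 (kernel ψ) := by
    apply (cancel_mono (kernel.ι ψ)).mp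
    rw [Category.assoc, hl, hφ, Category.id_comp]
  have h3 : pT + pU = pT :=
    hilbPoly_unique k hpK (hilbPoly_of_iso k (Iso.mk l φ h1 h2) hpT)
  have hpU0 : pU = 0 := add_eq_left.mp h3
  rw [hpU0] at hpU
  exact hU0 (isZero_of_hilbPoly_zero k hL U hUc hpU)

/-- consecutive factors of a filtration by maximal slope-destabilising submodules have strictly
decreasing slopes -/
theorem step_relMu {L : X.Modules} (hL : CohB1.IsAmple L) {d : ℕ} {E : X.Modules}
    (hdE : topologicalKrullDim (CohB1.support E) ≤ (d : WithBot ℕ∞))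
    (A B C' : Subobject E) (hAB : A ≤ B) (hBC : B < C')
    (hAc : Coh.IsCoh (A : X.Modules)) (hBc : Coh.IsCoh (B : X.Modules))
    (hCc : Coh.IsCoh (C' : X.Modules))
    (hAp : ShStab.IsPure X (cokernel A.arrow) d) (hBp : ShStab.IsPure X (cokernel B.arrow) d)
    (hstep : IsMuMax k L d (subQuotMap A B hAB))
    {p q : ℚ[X]} (hp : ShStab.IsHilbPoly k X L (cokernel (Subobject.ofLE A B hAB)) p)
    (hq : ShStab.IsHilbPoly k X L (cokernel (Subobject.ofLE B C' hBC.le)) q) :
    StabCat.hatSlope d q < StabCat.hatSlope d p := by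
  have hAC : A < C' := lt_of_le_of_lt hAB hBC
  obtain ⟨pA, hpA, -⟩ := exists_hilbPoly k hL.1 _ hAc d (dim_support_le_of_mono X A.arrow hdE)
  obtain ⟨pB, hpB, -⟩ := exists_hilbPoly k hL.1 _ hBc d (dim_support_le_of_mono X B.arrow hdE)
  obtain ⟨pC, hpC, -⟩ := exists_hilbPoly k hL.1 _ hCc d (dim_support_le_of_mono X C'.arrow hdE)
  have e1 : p = pB - pA := hilbPoly_unique k hp (hilbPoly_subQuot k hL A B hAB hAc hBc hpA hpB)
  have e2 : q = pC - pB :=
    hilbPoly_unique k hq (hilbPoly_subQuot k hL B C' hBC.le hBc hCc hpB hpC)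
  have hpAC : ShStab.IsHilbPoly k X L (cokernel (Subobject.ofLE A C' hAC.le)) (p + q) := by
    have e3 : p + q = pC - pA := by rw [e1, e2]; ring
    rw [e3]
    exact hilbPoly_subQuot k hL A C' hAC.le hAc hCc hpA hpC
  obtain ⟨hm, hTc, hT0, hmax⟩ := hstep
  have hap : 0 < StabCat.alpha d p := alpha_pos_sub k hL hAp (subQuotMap A B hAB) hTc hT0 hp
  have haq : 0 < StabCat.alpha d q :=
    alpha_pos_sub k hL hBp (subQuotMap B C' hBC.le)
      (Groth.Agent.Lead.PerfLib.isCoh_cokernel hBc hCc _) (not_isZero_cokernel_ofLE B C' hBC) hq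
  obtain ⟨h1, h2⟩ := hmax _ (subQuotMap A C' hAC.le) inferInstance
    (Groth.Agent.Lead.PerfLib.isCoh_cokernel hAc hCc _) (not_isZero_cokernel_ofLE A C' hAC)
    p (p + q) hp hpAC
  have hnle : ¬ SlLE d p (p + q) := by
    intro hle
    obtain ⟨φ, hφ⟩ := h2 hle
    exact absurd hBC (not_lt_of_ge (le_of_factor_subQuot A B C' hAB hAC.le φ hφ))
  have hlt : SlLT d (p + q) p := (slLE_or_slLT d p (p + q)).resolve_left hnle
  rw [hatSlope_lt_iff haq hap]
  unfold SlLT at hlt ⊢
  rw [alpha_add, alpha_add] at hlt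
  linarith [mul_add (StabCat.alpha d p) (StabCat.alpha (d - 1) p) (StabCat.alpha (d - 1) q),
    add_mul (StabCat.alpha d p) (StabCat.alpha d q) (StabCat.alpha (d - 1) p)]

/-- the defining properties of a slope Harder-Narasimhan filtration -/
def IsMuHN (L : X.Modules) (d : ℕ) {E : X.Modules} (s : LTSeries (Subobject E)) : Prop :=
  s.head = ⊥ ∧ s.last = ⊤ ∧
    (∀ i : Fin s.length,
      ShStab.IsPure X (StabCat.factor s i) d ∧ ShStab.IsMuSemistable k X L (StabCat.factor s i) d) ∧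
    ∀ (i j : Fin s.length), i.val + 1 = j.val →
      ∀ (p q : ℚ[X]), ShStab.IsHilbPoly k X L (StabCat.factor s i) p →
        ShStab.IsHilbPoly k X L (StabCat.factor s j) q →
        StabCat.hatSlope d q < StabCat.hatSlope d p

/-- existence of a slope Harder-Narasimhan filtration -/
theorem exists_muHN (L : X.Modules) (hL : CohB1.IsAmple L) (d : ℕ) (hd : 1 ≤ d) (E : X.Modules)
    (hE : Coh.IsCoh E) (h0 : ¬ IsZero E) (hp : ShStab.IsPure X E d) :
    ∃ s : LTSeries (Subobject E), IsMuHN k L d s := by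
  haveI : CompactSpace X := hL.2.1
  haveI := isLocallyNoetherian_of_proper k (X := X)
  have hdE := (hp E (𝟙 E) inferInstance hE h0).le
  let Inv : Subobject E → Prop := fun A =>
    Coh.IsCoh (A : X.Modules) ∧ ShStab.IsPure X (cokernel A.arrow) d
  let Step : ∀ A B : Subobject E, A ≤ B → Prop := fun A B h => IsMuMax k L d (subQuotMap A B h)
  have h0' : Inv ⊥ := by
    haveI := isIso_cokernel_π_bot (E := E)
    exact ⟨Groth.Agent.Lead.PerfLib.isCoh_of_isFinLocFree
      (Groth.Agent.Lead.PerfLib.isFinLocFree_of_isZero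
        ((isZero_zero _).of_iso Subobject.botCoeIsoZero)),
      isPure_of_iso (asIso (cokernel.π (⊥ : Subobject E).arrow)) hp⟩
  have hnext : ∀ A, Inv A → A ≠ ⊤ → ∃ (B : Subobject E) (h : A < B), Inv B ∧ Step A B h.le := by
    rintro A ⟨hAc, hAp⟩ hAtop
    have hQc := Groth.Agent.Lead.PerfLib.isCoh_cokernel hAc hE A.arrow
    have hQ0 : ¬ IsZero (cokernel A.arrow) := fun hz =>
      hAtop ((isZero_cokernel_arrow_iff A).mp hz)
    obtain ⟨T, τ, hmd⟩ := exists_muMax k hL hd _ hQc hQ0 hAp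
    have hmd' : IsMuMax k L d τ := hmd
    obtain ⟨hτ, hTc, hT0, -⟩ := hmd
    haveI := hτ
    refine ⟨nextSub A τ, lt_nextSub A τ hT0, ⟨?_, ?_⟩, ?_⟩
    · exact Groth.Agent.Lead.PerfLib.isCoh_of_iso (nextSubIso A τ).symm
        (isCoh_kernel k hE (Groth.Agent.Lead.PerfLib.isCoh_cokernel hTc hQc τ) (psi A.arrow τ))
    · exact isPure_of_iso (quotIso A τ).symm
        (isPure_cokernel_of_isMuMax k hL hd hQc hAp hmd')
    · have h1 := isMuMax_of_iso k (factorIso A τ) hmd'
      rw [factorIso_hom_τ] at h1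
      exact h1
  obtain ⟨s, hs0, hs1, hinv, hstep⟩ := exists_series E hE Inv Step (fun A h => h.1) h0' hnext
  refine ⟨s, hs0, hs1, fun i => ?_, ?_⟩
  · have hmm : IsMuMax k L d (subQuotMap (s i.castSucc) (s i.succ) (le_of_lt (s.step i))) :=
      hstep i
    exact ⟨@isPure_sub X _ _ d (hinv i.castSucc).2 _ hmm.1,
      isMuSemistable_of_isMuMax k hL (hinv i.castSucc).2 hmm⟩
  · intro i j hij p q hp hq
    obtain ⟨jv, hjv⟩ := j
    simp only at hij
    subst hij
    exact step_relMu k hL hdE (s i.castSucc) (s i.succ) (s (Fin.succ ⟨i.val + 1, hjv⟩))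
      (le_of_lt (s.step i)) (s.step ⟨i.val + 1, hjv⟩) (hinv _).1 (hinv _).1 (hinv _).1
      (hinv _).2 (hinv _).2 (hstep i) hp hq

/-- a nonzero morphism between pure slope-semistable modules does not decrease the slope -/
theorem hatSlope_le_of_hom_ne_zero {L : X.Modules} (hL : CohB1.IsAmple L) {d : ℕ} (hd : 1 ≤ d)
    {F G : X.Modules} (hFp : ShStab.IsPure X F d) (hF : ShStab.IsMuSemistable k X L F d)
    (hGp : ShStab.IsPure X G d) (hG : ShStab.IsMuSemistable k X L G d) (f : F ⟶ G) (hf : f ≠ 0)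
    {pF pG : ℚ[X]} (hpF : ShStab.IsHilbPoly k X L F pF) (hpG : ShStab.IsHilbPoly k X L G pG) :
    StabCat.hatSlope d pF ≤ StabCat.hatSlope d pG := by
  obtain ⟨hFc, hF0, hFdim, -, hFss⟩ := hF
  obtain ⟨hGc, hG0, hGdim, -, hGss⟩ := hG
  obtain ⟨pK, pI, hpK, hpI, hadd, -, -, -, -⟩ := package k hL d hFc hGc hFp hGp f hf
  have e : pF = pK + pI := hilbPoly_unique k hpF hadd
  have hIc := isCoh_coimage k hFc hGc f
  have hI0 := not_isZero_coimage f hf
  have haI : 0 < StabCat.alpha d pI :=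
    alpha_pos_sub k hL hGp (Abelian.factorThruCoimage f) hIc hI0 hpI
  have haF : 0 < StabCat.alpha d pF := alpha_pos k hL F hFc d hFdim hpF
  have haG : 0 < StabCat.alpha d pG := alpha_pos k hL G hGc d hGdim hpG
  have h1 : SlLE d pI pG := by
    obtain ⟨pC, -, hsumC, hdC, -, -, hCnn, -⟩ :=
      sub_package k hL d hIc hGc hGdim.le (Abelian.factorThruCoimage f) hpI hpG
    have haC : 0 ≤ StabCat.alpha d pC := alpha_nonneg hdC hCnn
    have hle : StabCat.alpha d pI ≤ StabCat.alpha d pG := by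
      rw [hsumC, alpha_add]; linarith
    rcases lt_or_eq_of_le hle with hlt | heq
    · exact (hatSlope_le_iff haI haG).mp
        (hGss _ (Abelian.factorThruCoimage f) inferInstance hIc pI pG hpI hpG haI hlt)
    · have hb := sub_alpha_pred_le k hL hd hIc hGc hGdim.le (Abelian.factorThruCoimage f)
        hpI hpG heq
      unfold SlLE
      rw [heq]
      exact mul_le_mul_of_nonneg_left hb haG.le
  have h2 : SlLE d pF pI := by
    by_cases hK0 : IsZero (kernel f)
    · have : pK = 0 := hilbPoly_unique k hpK (hilbPoly_zero k hL.1 hK0)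
      rw [e, this, zero_add]
      exact slLE_refl d pI
    · have hKc := isCoh_kernel k hFc hGc f
      have haK' : 0 < StabCat.alpha d pK := alpha_pos_sub k hL hFp (kernel.ι f) hKc hK0 hpK
      have hlt : StabCat.alpha d pK < StabCat.alpha d pF := by
        rw [e, alpha_add]; linarith
      have h3 := (hatSlope_le_iff haK' haF).mp
        (hFss _ (kernel.ι f) inferInstance hKc pK pF hpK hpF haK' hlt)
      unfold SlLE at h3 ⊢
      rw [e, alpha_add, alpha_add] at h3
      rw [e, alpha_add, alpha_add]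
      have h4 : StabCat.alpha d pI * StabCat.alpha (d - 1) pK ≤
          StabCat.alpha d pK * StabCat.alpha (d - 1) pI := by
        linarith [add_mul (StabCat.alpha d pK) (StabCat.alpha d pI) (StabCat.alpha (d - 1) pK),
          mul_add (StabCat.alpha d pK) (StabCat.alpha (d - 1) pK) (StabCat.alpha (d - 1) pI)]
      linarith [mul_add (StabCat.alpha d pI) (StabCat.alpha (d - 1) pK) (StabCat.alpha (d - 1) pI),
        add_mul (StabCat.alpha d pK) (StabCat.alpha d pI) (StabCat.alpha (d - 1) pI)]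
  exact (hatSlope_le_iff haF haG).mpr (slLE_trans haF haI haG h2 h1)

theorem exists_hp_of_isMuSemistable {L : X.Modules} (hL : CohB1.IsAmple L) {d : ℕ}
    {G : X.Modules} (hG : ShStab.IsMuSemistable k X L G d) :
    ∃ p : ℚ[X], ShStab.IsHilbPoly k X L G p := by
  obtain ⟨p, hp, -⟩ := exists_hilbPoly k hL.1 G hG.1 d hG.2.2.1.le
  exact ⟨p, hp⟩

theorem muhn_decreasing {L : X.Modules} (hL : CohB1.IsAmple L) {d : ℕ} {E : X.Modules}
    (s : LTSeries (Subobject E)) (hs : IsMuHN k L d s) :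
    ∀ (n : ℕ) (i j : Fin s.length), i.val + 1 + n = j.val →
      ∀ p q : ℚ[X], ShStab.IsHilbPoly k X L (StabCat.factor s i) p →
        ShStab.IsHilbPoly k X L (StabCat.factor s j) q →
        StabCat.hatSlope d q < StabCat.hatSlope d p := by
  intro n
  induction n with
  | zero =>
    intro i j hij p q hp hq
    exact hs.2.2.2 i j (by omega) p q hp hq
  | succ n ih =>
    intro i j hij p q hp hq
    let j' : Fin s.length := ⟨j.val - 1, by omega⟩
    obtain ⟨q', hq'⟩ := exists_hp_of_isMuSemistable k hL (hs.2.2.1 j').2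
    have h1 := ih i j' (by simp only [j']; omega) p q' hp hq'
    have h2 := hs.2.2.2 j' j (by simp only [j']; omega) q' q hq' hq
    exact lt_trans h2 h1

theorem muhn_compare {L : X.Modules} (hL : CohB1.IsAmple L) {d : ℕ} (hd : 1 ≤ d) {E : X.Modules}
    (s t : LTSeries (Subobject E)) (hs : IsMuHN k L d s) (ht : IsMuHN k L d t)
    (a : Fin s.length) (b : Fin t.length) (hab : s a.castSucc = t b.castSucc) {p q : ℚ[X]}
    (hp : ShStab.IsHilbPoly k X L (StabCat.factor s a) p)
    (hq : ShStab.IsHilbPoly k X L (StabCat.factor t b) q) :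
    s a.succ ≤ t b.succ ∨ StabCat.hatSlope d p < StabCat.hatSlope d q := by
  classical
  have hex : ∃ n, ∃ h : n ≤ t.length, s a.succ ≤ t ⟨n, Nat.lt_succ_of_le h⟩ := by
    refine ⟨t.length, le_refl _, ?_⟩
    have : t ⟨t.length, Nat.lt_succ_of_le (le_refl _)⟩ = ⊤ := ht.2.1
    rw [this]
    exact le_top
  obtain ⟨hn, hB⟩ := Nat.find_spec hex
  by_cases hcmp : Nat.find hex ≤ b.val + 1
  · left
    refine hB.trans (t.monotone ?_)
    exact hcmp
  · right
    push Not at hcmp
    obtain ⟨m, hm⟩ : ∃ m, Nat.find hex = m + 1 := ⟨Nat.find hex - 1, by omega⟩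
    have hmlt : m < t.length := by omega
    let mF : Fin t.length := ⟨m, hmlt⟩
    have hB' : s a.succ ≤ t mF.succ := by
      have e : mF.succ = ⟨Nat.find hex, Nat.lt_succ_of_le hn⟩ := Fin.ext (by simp [mF, hm])
      rw [e]
      exact hB
    have hnB : ¬ s a.succ ≤ t mF.castSucc := by
      intro hle
      exact Nat.find_min hex (show m < Nat.find hex by omega) ⟨hmlt.le, hle⟩
    have hA : s a.castSucc ≤ t mF.castSucc := by
      rw [hab]
      apply t.monotone
      show b.val ≤ m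
      omega
    obtain ⟨r, hr⟩ := exists_hp_of_isMuSemistable k hL (ht.2.2.1 mF).2
    have h1 : StabCat.hatSlope d p ≤ StabCat.hatSlope d r :=
      hatSlope_le_of_hom_ne_zero k hL hd (hs.2.2.1 a).1 (hs.2.2.1 a).2 (ht.2.2.1 mF).1
        (ht.2.2.1 mF).2
        (subQuotHom (s a.castSucc) (s a.succ) (t mF.castSucc) (t mF.succ)
          (le_of_lt (s.step a)) (le_of_lt (t.step mF)) hA hB')
        (subQuotHom_ne_zero _ _ _ _ _ _ hA hB' hnB) hp hr
    have h2 : StabCat.hatSlope d r < StabCat.hatSlope d q :=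
      muhn_decreasing k hL t ht (m - b.val - 1) b mF (by simp only [mF]; omega) q r hq hr
    exact lt_of_le_of_lt h1 h2

theorem muhn_le {L : X.Modules} (hL : CohB1.IsAmple L) {d : ℕ} (hd : 1 ≤ d) {E : X.Modules}
    (s t : LTSeries (Subobject E)) (hs : IsMuHN k L d s) (ht : IsMuHN k L d t)
    (a : Fin s.length) (b : Fin t.length) (hab : s a.castSucc = t b.castSucc)
    (hle : s a.succ ≤ t b.succ) {p q : ℚ[X]}
    (hp : ShStab.IsHilbPoly k X L (StabCat.factor s a) p)
    (hq : ShStab.IsHilbPoly k X L (StabCat.factor t b) q) :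
    StabCat.hatSlope d p ≤ StabCat.hatSlope d q := by
  have hn : ¬ s a.succ ≤ t b.castSucc := by
    rw [← hab]
    exact not_le_of_gt (s.step a)
  exact hatSlope_le_of_hom_ne_zero k hL hd (hs.2.2.1 a).1 (hs.2.2.1 a).2 (ht.2.2.1 b).1
    (ht.2.2.1 b).2
    (subQuotHom (s a.castSucc) (s a.succ) (t b.castSucc) (t b.succ)
      (le_of_lt (s.step a)) (le_of_lt (t.step b)) (le_of_eq hab) hle)
    (subQuotHom_ne_zero _ _ _ _ _ _ (le_of_eq hab) hle hn) hp hq

theorem muhn_succ_eq {L : X.Modules} (hL : CohB1.IsAmple L) {d : ℕ} (hd : 1 ≤ d) {E : X.Modules}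
    (s t : LTSeries (Subobject E)) (hs : IsMuHN k L d s) (ht : IsMuHN k L d t)
    (a : Fin s.length) (b : Fin t.length) (hab : s a.castSucc = t b.castSucc) :
    s a.succ = t b.succ := by
  obtain ⟨p, hp⟩ := exists_hp_of_isMuSemistable k hL (hs.2.2.1 a).2
  obtain ⟨q, hq⟩ := exists_hp_of_isMuSemistable k hL (ht.2.2.1 b).2
  rcases muhn_compare k hL hd s t hs ht a b hab hp hq with h1 | h1 <;>
  rcases muhn_compare k hL hd t s ht hs b a hab.symm hq hp with h2 | h2
  · exact le_antisymm h1 h2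
  · exact absurd h2 (not_lt_of_ge (muhn_le k hL hd s t hs ht a b hab h1 hp hq))
  · exact absurd h1 (not_lt_of_ge (muhn_le k hL hd t s ht hs b a hab.symm h2 hq hp))
  · exact absurd h2 (not_lt_of_gt h1)

theorem muhn_unique {L : X.Modules} (hL : CohB1.IsAmple L) {d : ℕ} (hd : 1 ≤ d) {E : X.Modules}
    (s t : LTSeries (Subobject E)) (hs : IsMuHN k L d s) (ht : IsMuHN k L d t) : s = t := by
  have key : ∀ n : ℕ, ∀ h : n ≤ s.length, ∃ h' : n ≤ t.length,
      s ⟨n, Nat.lt_succ_of_le h⟩ = t ⟨n, Nat.lt_succ_of_le h'⟩ := by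
    intro n
    induction n with
    | zero =>
      intro h
      refine ⟨Nat.zero_le _, ?_⟩
      have h1 : s ⟨0, Nat.lt_succ_of_le h⟩ = ⊥ := hs.1
      have h2 : t ⟨0, Nat.lt_succ_of_le (Nat.zero_le _)⟩ = ⊥ := ht.1
      rw [h1, h2]
    | succ n ih =>
      intro h
      obtain ⟨h', heq⟩ := ih (Nat.le_of_succ_le h)
      have hlt : n < t.length := by
        by_contra hge
        have hn : n = t.length := le_antisymm h' (not_lt.mp hge)
        have h1 : t ⟨n, Nat.lt_succ_of_le h'⟩ = ⊤ := by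
          have : (⟨n, Nat.lt_succ_of_le h'⟩ : Fin (t.length + 1)) = Fin.last _ := Fin.ext hn
          rw [this]
          exact ht.2.1
        have h2 : s ⟨n, Nat.lt_succ_of_le (Nat.le_of_succ_le h)⟩ = s (Fin.last _) := by
          rw [heq, h1]
          exact hs.2.1.symm
        have h3 := s.strictMono.injective h2
        have h4 : n = s.length := congrArg Fin.val h3
        omega
      refine ⟨hlt, ?_⟩
      exact muhn_succ_eq k hL hd s t hs ht ⟨n, h⟩ ⟨n, hlt⟩ heq
  obtain ⟨hle, hlast⟩ := key s.length (le_refl _)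
  have hlen : s.length = t.length := by
    have h1 : s ⟨s.length, Nat.lt_succ_of_le (le_refl _)⟩ = ⊤ := hs.2.1
    have h2 : t ⟨s.length, Nat.lt_succ_of_le hle⟩ = t (Fin.last _) := by
      rw [← hlast, h1]
      exact ht.2.1.symm
    exact congrArg Fin.val (t.strictMono.injective h2)
  apply RelSeries.ext hlen
  funext i
  obtain ⟨h', heq⟩ := key i.val (Nat.le_of_lt_succ i.isLt)
  exact heq

/-- S18833 (for any proper scheme with an ample invertible module) -/
theorem s18833 (L : X.Modules) (hL : CohB1.IsAmple L) (n : ℕ) (hn : 1 ≤ n) (F : X.Modules)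
    (hF : Coh.IsCoh F) (h0 : ¬ IsZero F) (htf : ShStab.IsPure X F n) :
    ∃! s : LTSeries (Subobject F),
      s.head = ⊥ ∧ s.last = ⊤ ∧
      (∀ i : Fin s.length,
        ShStab.IsPure X (StabCat.factor s i) n ∧
          ShStab.IsMuSemistable k X L (StabCat.factor s i) n) ∧
      ∀ (i j : Fin s.length), i.val + 1 = j.val →
        ∀ (p q : ℚ[X]), ShStab.IsHilbPoly k X L (StabCat.factor s i) p →
          ShStab.IsHilbPoly k X L (StabCat.factor s j) q →
          StabCat.hatSlope n q < StabCat.hatSlope n p := by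
  obtain ⟨s, hs⟩ := exists_muHN k L hL n hn F hF h0 htf
  exact ⟨s, hs, fun t ht => muhn_unique k hL hn t s ht hs⟩

end Groth.Agent.Helper5.ShStab22
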