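import Mathlib
import Groth.Agent.Helper5.ShStab5

/-!
# Slope semistability: vanishing of homomorphisms
-/

set_option autoImplicit false
set_option linter.style.haveILetI false

namespace Groth.Agent.Helper5.ShStab6

open CategoryTheory Limits AlgebraicGeometry Opposite Polynomial Filter
open Groth.Agent.Helper5.ShStab1 Groth.Agent.Helper5.ShStabPoly Groth.Agent.Helper5.ShStab3
open Groth.Agent.Helper5.ShStabPoly2 Groth.Agent.Helper5.ShStab2 Groth.Agent.Helper5.ShStab5

universe u

variable (k : Type u) [Field k] {X : Scheme.{u}} [X.Over (Spec (CommRingCat.of k))]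
  [IsProper (X ↘ Spec (CommRingCat.of k))]

omit [IsProper (X ↘ Spec (CommRingCat.of k))] [X.Over (Spec (CommRingCat.of k))] in
theorem coeff_eq_zero_of_alpha_eq_zero {n : ℕ} {P : ℚ[X]} (h : StabCat.alpha n P = 0) :
    P.coeff n = 0 := by
  unfold StabCat.alpha at h
  rcases mul_eq_zero.mp h with h' | h'
  · exact absurd h' (by positivity)
  · exact h'

/-- a submodule of full multiplicity has at most the slope of the ambient module -/
theorem hatSlope_le_of_alpha_eq {n : ℕ} {pQ pC : ℚ[X]} (hdC : pC.natDegree ≤ n)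
    (hCnn : ∀ᶠ m : ℕ in atTop, 0 ≤ pC.eval (m : ℚ)) (haQ : 0 < StabCat.alpha n pQ)
    (h : StabCat.alpha n pQ = StabCat.alpha n (pQ + pC)) :
    StabCat.hatSlope n pQ ≤ StabCat.hatSlope n (pQ + pC) := by
  have haC0 : StabCat.alpha n pC = 0 := by rw [alpha_add] at h; linarith
  have hdC' : pC.natDegree ≤ n - 1 :=
    Polynomial.natDegree_le_pred hdC (coeff_eq_zero_of_alpha_eq_zero haC0)
  have hx : 0 ≤ StabCat.alpha (n - 1) pC := alpha_nonneg hdC' hCnn
  unfold StabCat.hatSlope
  rw [← h, alpha_add]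
  exact div_le_div_of_nonneg_right (by linarith) haQ.le

/-- S18965 -/
theorem s18965 (n : ℕ) (L : X.Modules) (hL : CohB1.IsAmple L)
    (F G : X.Modules) (hFt : ShStab.IsPure X F n) (hGt : ShStab.IsPure X G n)
    (hF : ShStab.IsMuSemistable k X L F n) (hG : ShStab.IsMuSemistable k X L G n)
    (pF pG : ℚ[X]) (hpF : ShStab.IsHilbPoly k X L F pF) (hpG : ShStab.IsHilbPoly k X L G pG)
    (hlt : StabCat.hatSlope n pG < StabCat.hatSlope n pF) (φ : F ⟶ G) : φ = 0 := by
  by_contra hφ
  obtain ⟨hFc, hF0, hFdim, -, hFmu⟩ := hF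
  obtain ⟨hGc, hG0, hGdim, -, hGmu⟩ := hG
  obtain ⟨pK, pQ, hpK, hpQ, hadd, haK, haQ, hKnn, hQpos⟩ :=
    package k hL n hFc hGc hFt hGt φ hφ
  have hpF' : pF = pK + pQ := hilbPoly_unique k hpF hadd
  subst hpF'
  have hKc := isCoh_kernel k hFc hGc φ
  have hQc := isCoh_coimage k hFc hGc φ
  have hQ0 := not_isZero_coimage φ hφ
  have haQpos : 0 < StabCat.alpha n pQ :=
    alpha_pos k hL _ hQc n (hGt _ (Abelian.factorThruCoimage φ) inferInstance hQc hQ0) hpQ
  have c1 : StabCat.hatSlope n (pK + pQ) ≤ StabCat.hatSlope n pQ := by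
    by_cases hK0 : IsZero (kernel φ)
    · rw [hilbPoly_unique k hpK (hilbPoly_zero k hL.1 hK0), zero_add]
    · have haKpos : 0 < StabCat.alpha n pK :=
        alpha_pos k hL _ hKc n (hFt _ (kernel.ι φ) inferInstance hKc hK0) hpK
      have hmu := hFmu _ (kernel.ι φ) inferInstance hKc pK (pK + pQ) hpK hadd haKpos
        (by rw [alpha_add]; linarith)
      unfold StabCat.hatSlope at hmu ⊢
      rw [alpha_add, alpha_add] at hmu ⊢
      rw [div_le_div_iff₀ haKpos (by linarith)] at hmu
      rw [div_le_div_iff₀ (by linarith) haQpos]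
      nlinarith
  have c2 : StabCat.hatSlope n pQ ≤ StabCat.hatSlope n pG := by
    obtain ⟨pC, hpC, hsum, hdC, hdQ, hdG, hCnn, -⟩ :=
      sub_package k hL n hQc hGc hGdim.le (Abelian.factorThruCoimage φ) hpQ hpG
    have haC : 0 ≤ StabCat.alpha n pC := alpha_nonneg hdC hCnn
    have hle : StabCat.alpha n pQ ≤ StabCat.alpha n pG := by
      rw [hsum, alpha_add]; linarith
    rcases lt_or_eq_of_le hle with h | h
    · exact hGmu _ (Abelian.factorThruCoimage φ) inferInstance hQc pQ pG hpQ hpG haQpos h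
    · rw [hsum] at h ⊢
      exact hatSlope_le_of_alpha_eq hdC hCnn haQpos h
  exact absurd (c1.trans c2) (not_le.mpr hlt)

end Groth.Agent.Helper5.ShStab6
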