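import Mathlib
import Groth.Agent.Helper5.ShStab6
import Groth.Agent.Helper4.SN35
import Groth.Agent.Helper4.SN32
import Groth.Agent.S0020

/-!
# Extensions of slope-semistable sheaves of the same slope
-/

set_option autoImplicit false
set_option linter.style.haveILetI false

namespace Groth.Agent.Helper5.ShStab9

open CategoryTheory Limits AlgebraicGeometry Opposite Polynomial Filter
open Groth.Agent.Helper5.ShStab1 Groth.Agent.Helper5.ShStabPoly Groth.Agent.Helper5.ShStab3
open Groth.Agent.Helper5.ShStabPoly2 Groth.Agent.Helper5.ShStab2 Groth.Agent.Helper5.ShStab5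
open Groth.Agent.Helper5.ShStab6

universe u

section Top

variable {T : Type*} [TopologicalSpace T]

theorem dimLT_union {A B : Set T} (hA : IsClosed A) (hB : IsClosed B) {n : ℕ}
    (h1 : Groth.Agent.Helper4.SN.DimLT A n) (h2 : Groth.Agent.Helper4.SN.DimLT B n) :
    Groth.Agent.Helper4.SN.DimLT (A ∪ B) n := by
  intro S hS
  rcases (isPreirreducible_iff_isClosed_union_isClosed.mp S.isIrreducible'.isPreirreducible)
    A B hA hB hS with h | h
  · exact h1 S h
  · exact h2 S h

end Top

variable (k : Type u) [Field k] {X : Scheme.{u}} [X.Over (Spec (CommRingCat.of k))]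
  [IsProper (X ↘ Spec (CommRingCat.of k))]

omit [IsProper (X ↘ Spec (CommRingCat.of k))] [X.Over (Spec (CommRingCat.of k))] in
/-- the support of the middle term of a short exact sequence of coherent modules of dimension
`≤ n` has dimension `≤ n` -/
theorem dim_support_middle_le (T : ShortComplex X.Modules) (hT : T.ShortExact)
    (h₁ : Coh.IsCoh T.X₁) (h₃ : Coh.IsCoh T.X₃) {n : ℕ}
    (hd₁ : topologicalKrullDim (CohB1.support T.X₁) ≤ (n : WithBot ℕ∞))
    (hd₃ : topologicalKrullDim (CohB1.support T.X₃) ≤ (n : WithBot ℕ∞)) :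
    topologicalKrullDim (CohB1.support T.X₂) ≤ (n : WithBot ℕ∞) := by
  have hc₁ : IsClosed (CohB1.support T.X₁) := Groth.Agent.S0020.result _ _ h₁.2
  have hc₃ : IsClosed (CohB1.support T.X₃) := Groth.Agent.S0020.result _ _ h₃.2
  have hlt : ∀ {Z : Set X}, topologicalKrullDim Z ≤ (n : WithBot ℕ∞) →
      Groth.Agent.Helper4.SN.DimLT Z (n + 1) := by
    intro Z hZ
    apply Groth.Agent.Helper4.SN.dimLT_of_krullDim_lt
    exact lt_of_le_of_lt hZ (by exact_mod_cast Nat.lt_succ_self n)
  have hU := dimLT_union hc₁ hc₃ (hlt hd₁) (hlt hd₃)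
  have h1 := Groth.Agent.Helper4.SN.krullDim_le_of_dimLT (hc₁.union hc₃) hU
  exact (Groth.Agent.Helper4.SN.topologicalKrullDim_mono
    (Groth.Agent.Helper1.Dev.support_subset_union T hT)).trans h1

/-- the cross-multiplied slope bound for an arbitrary coherent submodule of a pure
slope-semistable module -/
theorem slope_bound {n : ℕ} {L : X.Modules} (hL : CohB1.IsAmple L) {E : X.Modules}
    (hEp : ShStab.IsPure X E n) (hE : ShStab.IsMuSemistable k X L E n) {S : X.Modules}
    (ι : S ⟶ E) [Mono ι] (hSc : Coh.IsCoh S) {pS pE : ℚ[X]}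
    (hpS : ShStab.IsHilbPoly k X L S pS) (hpE : ShStab.IsHilbPoly k X L E pE) :
    StabCat.alpha (n - 1) pS * StabCat.alpha n pE ≤ StabCat.alpha (n - 1) pE * StabCat.alpha n pS := by
  obtain ⟨hEc, hE0, hEdim, -, hEmu⟩ := hE
  by_cases hS0 : IsZero S
  · rw [hilbPoly_unique k hpS (hilbPoly_zero k hL.1 hS0)]
    simp [StabCat.alpha]
  have haS : 0 < StabCat.alpha n pS := alpha_pos k hL S hSc n (hEp S ι inferInstance hSc hS0) hpS
  obtain ⟨pC, hpC, hsum, hdC, hdS, hdE, hCnn, -⟩ := sub_package k hL n hSc hEc hEdim.le ι hpS hpE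
  have haC : 0 ≤ StabCat.alpha n pC := alpha_nonneg hdC hCnn
  have hle : StabCat.alpha n pS ≤ StabCat.alpha n pE := by
    rw [hsum, alpha_add]; linarith
  have haE : 0 < StabCat.alpha n pE := lt_of_lt_of_le haS hle
  have hmu : StabCat.hatSlope n pS ≤ StabCat.hatSlope n pE := by
    rcases lt_or_eq_of_le hle with h | h
    · exact hEmu S ι inferInstance hSc pS pE hpS hpE haS h
    · rw [hsum] at h ⊢
      exact hatSlope_le_of_alpha_eq hdC hCnn haS h
  unfold StabCat.hatSlope at hmu
  rw [div_le_div_iff₀ haS haE] at hmu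
  linarith

/-- S18967 -/
theorem s18967 (n : ℕ) (L : X.Modules) (hL : CohB1.IsAmple L)
    (T : ShortComplex X.Modules) (hT : T.ShortExact)
    (hFt : ShStab.IsPure X T.X₁ n) (hGt : ShStab.IsPure X T.X₃ n)
    (hF : ShStab.IsMuSemistable k X L T.X₁ n) (hG : ShStab.IsMuSemistable k X L T.X₃ n)
    (pF pG : ℚ[X]) (hpF : ShStab.IsHilbPoly k X L T.X₁ pF) (hpG : ShStab.IsHilbPoly k X L T.X₃ pG)
    (hμ : StabCat.hatSlope n pF = StabCat.hatSlope n pG) :
    ShStab.IsMuSemistable k X L T.X₂ n ∧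
      ∀ pH : ℚ[X], ShStab.IsHilbPoly k X L T.X₂ pH →
        StabCat.hatSlope n pH = StabCat.hatSlope n pF := by
  have hFc := hF.1
  have hGc := hG.1
  have hF0 := hF.2.1
  have hFdim := hF.2.2.1
  have hGdim := hG.2.2.1
  haveI := hT.mono_f
  haveI := hT.epi_g
  have hHc : Coh.IsCoh T.X₂ := Groth.Agent.Helper4.SN.isCoh_of_shortExact_inv T hT hFc hGc
  have hH0 : ¬ IsZero T.X₂ := fun hz => hF0 (IsZero.of_mono T.f hz)
  have hHle : topologicalKrullDim (CohB1.support T.X₂) ≤ (n : WithBot ℕ∞) :=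
    dim_support_middle_le T hT hFc hGc hFdim.le hGdim.le
  have hHdim : topologicalKrullDim (CohB1.support T.X₂) = (n : WithBot ℕ∞) := by
    refine le_antisymm hHle ?_
    rw [← hFdim]
    exact Groth.Agent.Helper4.SN.topologicalKrullDim_mono
      (Groth.Agent.Helper1.Dev.support_subset_of_mono T.f)
  have haF : 0 < StabCat.alpha n pF := alpha_pos k hL _ hFc n hFdim hpF
  have haG : 0 < StabCat.alpha n pG := alpha_pos k hL _ hGc n hGdim hpG
  have hpH : ShStab.IsHilbPoly k X L T.X₂ (pF + pG) := hilbPoly_add k hL.1 T hT hFc hHc hGc hpF hpG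
  -- the slope of the middle term
  have hμH : StabCat.hatSlope n (pF + pG) = StabCat.hatSlope n pF := by
    unfold StabCat.hatSlope at hμ ⊢
    rw [div_eq_div_iff haF.ne' haG.ne'] at hμ
    rw [alpha_add, alpha_add, div_eq_div_iff (by linarith) haF.ne']
    linarith
  -- decomposition of a submodule
  have key : ∀ (H' : X.Modules) (ι' : H' ⟶ T.X₂), Mono ι' → Coh.IsCoh H' →
      ∃ pK pQ : ℚ[X], ShStab.IsHilbPoly k X L H' (pK + pQ) ∧
        StabCat.alpha (n - 1) pK * StabCat.alpha n pF ≤ StabCat.alpha (n - 1) pF * StabCat.alpha n pK ∧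
        StabCat.alpha (n - 1) pQ * StabCat.alpha n pG ≤ StabCat.alpha (n - 1) pG * StabCat.alpha n pQ ∧
        (¬ IsZero H' → topologicalKrullDim (CohB1.support H') = (n : WithBot ℕ∞)) := by
    intro H' ι' hm hH'c
    haveI := hm
    set ψ : H' ⟶ T.X₃ := ι' ≫ T.g with hψ
    have hKc := isCoh_kernel k hH'c hGc ψ
    have hQc := isCoh_coimage k hH'c hGc ψ
    -- the kernel maps to `F`
    have hk0 : (kernel.ι ψ ≫ ι') ≫ T.g = 0 := by
      rw [Category.assoc]; exact kernel.condition ψ
    set κ : kernel ψ ⟶ T.X₁ := hT.exact.lift (kernel.ι ψ ≫ ι') hk0 with hκ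
    have hκf : κ ≫ T.f = kernel.ι ψ ≫ ι' := hT.exact.lift_f _ hk0
    haveI : Mono κ := by
      haveI : Mono (κ ≫ T.f) := by rw [hκf]; infer_instance
      exact mono_of_mono κ T.f
    have hdK : topologicalKrullDim (CohB1.support (kernel ψ)) ≤ (n : WithBot ℕ∞) :=
      dim_support_le_of_pure hFt κ hKc
    have hdQ : topologicalKrullDim (CohB1.support (Abelian.coimage ψ)) ≤ (n : WithBot ℕ∞) :=
      dim_support_le_of_pure hGt (Abelian.factorThruCoimage ψ) hQc
    obtain ⟨pK, hpK, -⟩ := exists_hilbPoly k hL.1 _ hKc n hdK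
    obtain ⟨pQ, hpQ, -⟩ := exists_hilbPoly k hL.1 _ hQc n hdQ
    have hadd := hilbPoly_add k hL.1 (cokerSC (kernel.ι ψ)) (cokerSC_shortExact _) hKc hH'c hQc
      hpK hpQ
    refine ⟨pK, pQ, hadd, slope_bound k hL hFt hF κ hKc hpK hpF,
      slope_bound k hL hGt hG (Abelian.factorThruCoimage ψ) hQc hpQ hpG, ?_⟩
    intro hH'0
    refine le_antisymm ((Groth.Agent.Helper4.SN.topologicalKrullDim_mono
      (Groth.Agent.Helper1.Dev.support_subset_of_mono ι')).trans hHle) ?_
    by_cases hK0 : IsZero (kernel ψ)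
    · -- then the coimage is nonzero
      have hQ0 : ¬ IsZero (Abelian.coimage ψ) := by
        intro hz
        apply hH'0
        haveI : Mono ψ := mono_of_isZero_kernel ψ hK0
        have hψ0 : ψ = 0 := by
          rw [← Abelian.coimage.fac ψ, hz.eq_of_tgt (Abelian.coimage.π ψ) 0, Limits.zero_comp]
        rw [IsZero.iff_id_eq_zero, ← cancel_mono ψ, hψ0]
        simp
      rw [← hGt _ (Abelian.factorThruCoimage ψ) inferInstance hQc hQ0]
      exact Groth.Agent.Helper4.SN.topologicalKrullDim_mono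
        (Groth.Agent.Helper1.Dev.support_subset_of_epi (Abelian.coimage.π ψ))
    · rw [← hFt _ κ inferInstance hKc hK0]
      exact Groth.Agent.Helper4.SN.topologicalKrullDim_mono
        (Groth.Agent.Helper1.Dev.support_subset_of_mono (kernel.ι ψ))
  refine ⟨⟨hHc, hH0, hHdim, ?_, ?_⟩, ?_⟩
  · intro H' ι' hm hH'c
    obtain ⟨-, -, -, -, -, hdim⟩ := key H' ι' hm hH'c
    by_cases hz : IsZero H'
    · rw [(Groth.Agent.Lead.EpiPull.isZero_iff_support H').mp hz]
      have : topologicalKrullDim (∅ : Set X) = ⊥ := by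
        haveI : IsEmpty (TopologicalSpace.IrreducibleCloseds ((∅ : Set X))) :=
          ⟨fun s => (Set.notMem_empty _ s.isIrreducible'.nonempty.some.2).elim⟩
        unfold topologicalKrullDim
        exact Order.krullDim_eq_bot
      rw [this, WithBot.bot_add]
      exact WithBot.bot_ne_coe
    · rw [hdim hz]
      intro h
      have h' : ((n + 1 : ℕ) : WithBot ℕ∞) = ((n : ℕ) : WithBot ℕ∞) := by
        rw [← h]; push_cast; rfl
      have h'' : n + 1 = n := by exact_mod_cast h'
      omega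
  · intro H' ι' hm hH'c pH' pH hpH' hpH2 h0 hlt
    obtain ⟨pK, pQ, hadd, hbK, hbQ, -⟩ := key H' ι' hm hH'c
    have e1 : pH' = pK + pQ := hilbPoly_unique k hpH' hadd
    have e2 : pH = pF + pG := hilbPoly_unique k hpH2 hpH
    subst e1 e2
    rw [hμH]
    have haK : 0 ≤ StabCat.alpha n pK + StabCat.alpha n pQ := by
      rw [← alpha_add]; exact h0.le
    unfold StabCat.hatSlope at hμ ⊢
    rw [div_eq_div_iff haF.ne' haG.ne'] at hμ
    rw [alpha_add, alpha_add]
    rw [alpha_add] at h0
    rw [div_le_div_iff₀ h0 haF]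
    -- xK aF ≤ xF aK, xQ aG ≤ xG aQ, xF aG = xG aF
    have h3 : StabCat.alpha (n - 1) pQ * StabCat.alpha n pF ≤
        StabCat.alpha (n - 1) pF * StabCat.alpha n pQ := by
      have h4 := mul_le_mul_of_nonneg_right hbQ haF.le
      have h5 : StabCat.alpha (n - 1) pQ * StabCat.alpha n pF * StabCat.alpha n pG ≤
          StabCat.alpha (n - 1) pF * StabCat.alpha n pQ * StabCat.alpha n pG := by
        calc StabCat.alpha (n - 1) pQ * StabCat.alpha n pF * StabCat.alpha n pG
            = StabCat.alpha (n - 1) pQ * StabCat.alpha n pG * StabCat.alpha n pF := by ring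
          _ ≤ StabCat.alpha (n - 1) pG * StabCat.alpha n pQ * StabCat.alpha n pF := h4
          _ = (StabCat.alpha (n - 1) pG * StabCat.alpha n pF) * StabCat.alpha n pQ := by ring
          _ = (StabCat.alpha (n - 1) pF * StabCat.alpha n pG) * StabCat.alpha n pQ := by rw [hμ]
          _ = StabCat.alpha (n - 1) pF * StabCat.alpha n pQ * StabCat.alpha n pG := by ring
      exact le_of_mul_le_mul_right h5 haG
    linarith
  · intro pH hpH2
    rw [hilbPoly_unique k hpH2 hpH]
    exact hμH

end Groth.Agent.Helper5.ShStab9
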