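import Mathlib

set_option autoImplicit false
universe u

namespace Groth.Agent.Helper5.SignVec

variable {Λ : Type*} [AddCommGroup Λ] [LinearOrder Λ] [IsOrderedAddMonoid Λ] {n : ℕ}

/-- evaluation of an integer vector on the weights -/
def ev (χ : Fin n → Λ) (a : Fin n → ℤ) : Λ := ∑ i, a i • χ i

theorem ev_add (χ : Fin n → Λ) (a b : Fin n → ℤ) : ev χ (a + b) = ev χ a + ev χ b := by
  simp [ev, add_smul, Finset.sum_add_distrib]

theorem ev_smul (χ : Fin n → Λ) (m : ℤ) (a : Fin n → ℤ) : ev χ (m • a) = m • ev χ a := by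
  simp [ev, mul_smul, Finset.smul_sum]

theorem ev_neg (χ : Fin n → Λ) (a : Fin n → ℤ) : ev χ (-a) = - ev χ a := by
  simp [ev]

theorem ev_sub (χ : Fin n → Λ) (a b : Fin n → ℤ) : ev χ (a - b) = ev χ a - ev χ b := by
  rw [sub_eq_add_neg, ev_add, ev_neg, sub_eq_add_neg]

theorem ev_zero (χ : Fin n → Λ) : ev χ 0 = 0 := by simp [ev]

theorem dot_self_pos (p : Fin n → ℤ) (hp : p ≠ 0) : 0 < dotProduct p p := by
  have h := dotProduct_self_eq_zero (v := p)
  have h2 : 0 ≤ dotProduct p p := by
    unfold dotProduct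
    exact Finset.sum_nonneg fun i _ => mul_self_nonneg _
  rcases h2.lt_or_eq with h3 | h3
  · exact h3
  · exact absurd (h.mp h3.symm) hp

theorem exists_beta {α : Type*} (P : List α) (f g : α → ℤ) (hg : ∀ p ∈ P, 0 < g p) :
    ∃ β : ℤ, 0 ≤ β ∧ ∀ p ∈ P, 0 < f p + β * g p := by
  induction P with
  | nil => exact ⟨0, le_refl _, fun p hp => absurd hp List.not_mem_nil⟩
  | cons p P ih =>
    obtain ⟨β, hβ0, hβ⟩ := ih fun q hq => hg q (List.mem_cons_of_mem _ hq)
    refine ⟨β + |f p| + 1, by positivity, fun q hq => ?_⟩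
    rcases List.mem_cons.mp hq with rfl | hq
    · have h1 : 0 < g q := hg q List.mem_cons_self
      have h2 : -|f q| ≤ f q := neg_abs_le _
      have h3 : 0 ≤ |f q| := abs_nonneg _
      nlinarith
    · have h1 : 0 < g q := hg q (List.mem_cons_of_mem _ hq)
      have h2 := hβ q hq
      have h3 : 0 ≤ |f p| := abs_nonneg _
      nlinarith

/-- Claim A: strictly positive vectors admit a common positive integer functional. -/
theorem claimA (χ : Fin n → Λ) : ∀ (N : ℕ) (P : List (Fin n → ℤ)), P.length = N →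
    (∀ p ∈ P, 0 < ev χ p) → ∃ r : Fin n → ℤ, ∀ p ∈ P, 0 < dotProduct p r := by
  intro N
  induction N with
  | zero =>
    intro P hP _
    rw [List.length_eq_zero_iff] at hP
    subst hP
    exact ⟨0, fun p hp => absurd hp (List.not_mem_nil)⟩
  | succ N ih =>
    intro P hP hpos
    match P, hP with
    | p₀ :: P', hP =>
      have hlen : P'.length = N := by simpa using hP
      have hp₀ : 0 < ev χ p₀ := hpos p₀ (List.mem_cons_self)
      have hP' : ∀ p ∈ P', 0 < ev χ p := fun p hp => hpos p (List.mem_cons_of_mem _ hp)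
      obtain ⟨r₁, hr₁⟩ := ih P' hlen hP'
      by_cases h0 : 0 < dotProduct p₀ r₁
      · exact ⟨r₁, fun p hp => by
          rcases List.mem_cons.mp hp with rfl | hp
          · exact h0
          · exact hr₁ p hp⟩
      · push Not at h0
        by_cases hnil : P' = []
        · subst hnil
          refine ⟨p₀, fun p hp => ?_⟩
          rw [List.mem_singleton] at hp
          subst hp
          apply dot_self_pos
          rintro rfl
          rw [ev_zero] at hp₀
          exact lt_irrefl _ hp₀
        · obtain ⟨c, hc⟩ : ∃ c : ℤ, c = -(dotProduct p₀ r₁) := ⟨_, rfl⟩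
          have hc0 : 0 ≤ c := by omega
          have hp₀r₁ : dotProduct p₀ r₁ = -c := by omega
          obtain ⟨Q, hQ⟩ : ∃ Q : List (Fin n → ℤ),
              Q = P'.map (fun p => (dotProduct p r₁) • p₀ + c • p) := ⟨_, rfl⟩
          have hQlen : Q.length = N := by rw [hQ, List.length_map, hlen]
          have hQpos : ∀ q ∈ Q, 0 < ev χ q := by
            intro q hq
            rw [hQ, List.mem_map] at hq
            obtain ⟨p, hp, rfl⟩ := hq
            rw [ev_add, ev_smul, ev_smul]
            have h1 : 0 < dotProduct p r₁ • ev χ p₀ := zsmul_pos hp₀ (hr₁ p hp)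
            have h2 : 0 ≤ c • ev χ p := zsmul_nonneg (hP' p hp).le hc0
            exact add_pos_of_pos_of_nonneg h1 h2
          obtain ⟨r₂, hr₂⟩ := ih Q hQlen hQpos
          have hr₂' : ∀ p ∈ P', 0 < dotProduct p r₁ * dotProduct p₀ r₂ + c * dotProduct p r₂ := by
            intro p hp
            have := hr₂ ((dotProduct p r₁) • p₀ + c • p) (by
              rw [hQ, List.mem_map]; exact ⟨p, hp, rfl⟩)
            rwa [add_dotProduct, smul_dotProduct, smul_dotProduct, smul_eq_mul, smul_eq_mul] at this
          obtain ⟨u, hu⟩ : ∃ u : ℤ, u = dotProduct p₀ r₂ := ⟨_, rfl⟩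
          rw [← hu] at hr₂'
          rcases hc0.eq_or_lt with hc00 | hcpos
          · -- c = 0
            obtain ⟨p₁, hp₁⟩ := List.exists_mem_of_ne_nil _ hnil
            have hupos : 0 < u := by
              have h1 := hr₂' p₁ hp₁
              have h2 := hr₁ p₁ hp₁
              rw [← hc00, zero_mul, add_zero] at h1
              by_contra hh
              push Not at hh
              nlinarith
            obtain ⟨β, _, hβ⟩ := exists_beta P' (fun p => dotProduct p r₂)
              (fun p => dotProduct p r₁) hr₁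
            refine ⟨r₂ + β • r₁, fun p hp => ?_⟩
            rw [dotProduct_add, dotProduct_smul, smul_eq_mul]
            rcases List.mem_cons.mp hp with rfl | hp
            · rw [hp₀r₁, ← hc00, ← hu]; simpa using hupos
            · exact hβ p hp
          · -- c > 0
            obtain ⟨K, _, hK⟩ := exists_beta P' (fun p => -dotProduct p r₁)
              (fun p => dotProduct p r₁ * u + c * dotProduct p r₂) hr₂'
            refine ⟨(K * c) • r₂ + (K * u - 1) • r₁, fun p hp => ?_⟩
            rw [dotProduct_add, dotProduct_smul, dotProduct_smul, smul_eq_mul, smul_eq_mul]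
            rcases List.mem_cons.mp hp with rfl | hp
            · rw [hp₀r₁, ← hu]
              have : K * c * u + (K * u - 1) * -c = c := by ring
              rw [this]; exact hcpos
            · have := hK p hp
              have h2 : K * c * dotProduct p r₂ + (K * u - 1) * dotProduct p r₁
                  = -dotProduct p r₁ + K * (dotProduct p r₁ * u + c * dotProduct p r₂) := by ring
              rw [h2]; exact this

/-- Claim B -/
theorem claimB (χ : Fin n → Λ) : ∀ (Z P : List (Fin n → ℤ)),
    (∀ z ∈ Z, ev χ z = 0) → (∀ p ∈ P, 0 < ev χ p) →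
    ∃ r : Fin n → ℤ, (∀ p ∈ P, 0 < dotProduct p r) ∧ ∀ z ∈ Z, dotProduct z r = 0 := by
  intro Z
  induction Z with
  | nil =>
    intro P _ hP
    obtain ⟨r, hr⟩ := claimA χ P.length P rfl hP
    exact ⟨r, hr, fun z hz => absurd hz List.not_mem_nil⟩
  | cons z₀ Z' ih =>
    intro P hZ hP
    have hz₀ : ev χ z₀ = 0 := hZ z₀ List.mem_cons_self
    have hZ' : ∀ z ∈ Z', ev χ z = 0 := fun z hz => hZ z (List.mem_cons_of_mem _ hz)
    obtain ⟨r, hrP, hrZ⟩ := ih P hZ' hP
    -- step lemma
    have step : ∀ z₁ : Fin n → ℤ, ev χ z₁ = 0 → 0 < dotProduct z₁ r →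
        ∃ r'' : Fin n → ℤ, (∀ p ∈ P, 0 < dotProduct p r'') ∧ (∀ z ∈ Z', dotProduct z r'' = 0) ∧
          dotProduct z₁ r'' = 0 := by
      intro z₁ hz₁ hσ
      obtain ⟨σ, hσe⟩ : ∃ σ : ℤ, σ = dotProduct z₁ r := ⟨_, rfl⟩
      rw [← hσe] at hσ
      have hP'' : ∀ q ∈ P.map (fun p => σ • p - (dotProduct p r) • z₁), 0 < ev χ q := by
        intro q hq
        rw [List.mem_map] at hq
        obtain ⟨p, hp, rfl⟩ := hq
        rw [ev_sub, ev_smul, ev_smul, hz₁, smul_zero, sub_zero]
        exact zsmul_pos (hP p hp) hσ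
      obtain ⟨r₂, hr₂P, hr₂Z⟩ := ih _ hZ' hP''
      refine ⟨σ • r₂ - (dotProduct z₁ r₂) • r, fun p hp => ?_, fun z hz => ?_, ?_⟩
      · have := hr₂P (σ • p - (dotProduct p r) • z₁) (by
          rw [List.mem_map]; exact ⟨p, hp, rfl⟩)
        rw [sub_dotProduct, smul_dotProduct, smul_dotProduct, smul_eq_mul, smul_eq_mul] at this
        rw [dotProduct_sub, dotProduct_smul, dotProduct_smul, smul_eq_mul, smul_eq_mul]
        linarith [mul_comm (dotProduct p r) (dotProduct z₁ r₂)]
      · rw [dotProduct_sub, dotProduct_smul, dotProduct_smul, hr₂Z z hz, hrZ z hz]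
        simp
      · rw [dotProduct_sub, dotProduct_smul, dotProduct_smul, smul_eq_mul, smul_eq_mul, ← hσe]
        ring
    rcases lt_trichotomy (dotProduct z₀ r) 0 with h | h | h
    · obtain ⟨r'', h1, h2, h3⟩ := step (-z₀) (by rw [ev_neg, hz₀, neg_zero])
        (by rw [neg_dotProduct]; omega)
      refine ⟨r'', h1, fun z hz => ?_⟩
      rcases List.mem_cons.mp hz with rfl | hz
      · rw [neg_dotProduct] at h3; omega
      · exact h2 z hz
    · refine ⟨r, hrP, fun z hz => ?_⟩
      rcases List.mem_cons.mp hz with rfl | hz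
      · exact h
      · exact hrZ z hz
    · obtain ⟨r'', h1, h2, h3⟩ := step z₀ hz₀ h
      refine ⟨r'', h1, fun z hz => ?_⟩
      rcases List.mem_cons.mp hz with rfl | hz
      · exact h3
      · exact h2 z hz

theorem main (χ : Fin n → Λ) (Φ : Finset (Fin n → ℤ)) :
    ∃ r : Fin n → ℤ, ∀ a ∈ Φ,
      (0 < ev χ a ↔ 0 < dotProduct a r) ∧ (ev χ a = 0 ↔ dotProduct a r = 0) := by
  classical
  obtain ⟨r, hrP, hrZ⟩ := claimB χ (Φ.filter (fun a => ev χ a = 0)).toList
    ((Φ.filter (fun a => 0 < ev χ a)).toList ++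
      ((Φ.filter (fun a => ev χ a < 0)).toList.map (fun a => -a)))
    (fun z hz => by
      rw [Finset.mem_toList, Finset.mem_filter] at hz; exact hz.2)
    (fun p hp => by
      rw [List.mem_append] at hp
      rcases hp with hp | hp
      · rw [Finset.mem_toList, Finset.mem_filter] at hp; exact hp.2
      · rw [List.mem_map] at hp
        obtain ⟨a, ha, rfl⟩ := hp
        rw [Finset.mem_toList, Finset.mem_filter] at ha
        rw [ev_neg]; exact neg_pos.mpr ha.2)
  refine ⟨r, fun a ha => ?_⟩
  rcases lt_trichotomy (ev χ a) 0 with h | h | h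
  · have h1 : 0 < dotProduct (-a) r := hrP _ (by
      rw [List.mem_append]; right
      rw [List.mem_map]
      exact ⟨a, by rw [Finset.mem_toList, Finset.mem_filter]; exact ⟨ha, h⟩, rfl⟩)
    rw [neg_dotProduct] at h1
    constructor
    · constructor
      · intro h2; exact absurd h2 (not_lt.mpr h.le)
      · intro h2; omega
    · constructor
      · intro h2; exact absurd h2 h.ne
      · intro h2; omega
  · have h1 : dotProduct a r = 0 := hrZ _ (by
      rw [Finset.mem_toList, Finset.mem_filter]; exact ⟨ha, h⟩)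
    rw [h, h1]
    simp
  · have h1 : 0 < dotProduct a r := hrP _ (by
      rw [List.mem_append]; left
      rw [Finset.mem_toList, Finset.mem_filter]; exact ⟨ha, h⟩)
    constructor
    · exact ⟨fun _ => h1, fun _ => h⟩
    · constructor
      · intro h2; exact absurd h2 h.ne'
      · intro h2; omega

end Groth.Agent.Helper5.SignVec

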