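import Groth.Agent.Helper5.QuotOpen1
import Groth.Agent.Helper5.AffDesc7
import Mathlib

/-!
# Helper5: restriction of an equivalence relation along a morphism, and the induced map of
fppf quotient sheaves
-/

set_option autoImplicit false
set_option linter.style.haveILetI false
set_option linter.unusedSectionVars false
set_option linter.unusedVariables false
universe u
open CategoryTheory CategoryTheory.Limits AlgebraicGeometry Opposite MorphismProperty

namespace Groth.Agent.Helper5.SliceEqv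

open AlgSp Groth.Agent.Helper4 Groth.Agent.Helper5.QuotEff Groth.Agent.Helper5.QuotPres
  Groth.Agent.Helper5.QuotOpen

variable {S : Scheme.{u}} {R U R' U' : Over S}

/-- `(s', t', r)` is a restriction of the relation `(s, t)` along `g` -/
structure IsRestr (s t : R ⟶ U) (g : U' ⟶ U) (s' t' : R' ⟶ U') (r : R' ⟶ R) : Prop where
  comm_s : r ≫ s = s' ≫ g
  comm_t : r ≫ t = t' ≫ g
  lift : ∀ (T : Over S) (a' b' : T ⟶ U') (ρ : T ⟶ R), ρ ≫ t = a' ≫ g → ρ ≫ s = b' ≫ g →
    ∃ ρ' : T ⟶ R', ρ' ≫ t' = a' ∧ ρ' ≫ s' = b' ∧ ρ' ≫ r = ρ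
  ext : ∀ (T : Over S) (ρ₁ ρ₂ : T ⟶ R'), ρ₁ ≫ t' = ρ₂ ≫ t' → ρ₁ ≫ s' = ρ₂ ≫ s' →
    ρ₁ ≫ r = ρ₂ ≫ r → ρ₁ = ρ₂

section Canonical

variable (s t : R ⟶ U) (g : U' ⟶ U)

/-- `R ×_{t,U,g} U' ⟶ U` -/
noncomputable abbrev sig : pullback t g ⟶ U := pullback.fst t g ≫ s

/-- the canonical restriction -/
noncomputable abbrev rR : Over S := pullback (sig s t g) g

noncomputable abbrev rs : rR s t g ⟶ U' := pullback.snd (sig s t g) g

noncomputable abbrev rt : rR s t g ⟶ U' := pullback.fst (sig s t g) g ≫ pullback.snd t g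

noncomputable abbrev rr : rR s t g ⟶ R := pullback.fst (sig s t g) g ≫ pullback.fst t g

theorem isRestr_canonical : IsRestr s t g (rs s t g) (rt s t g) (rr s t g) where
  comm_s := by
    show (pullback.fst (sig s t g) g ≫ pullback.fst t g) ≫ s = _
    rw [Category.assoc]
    exact pullback.condition
  comm_t := by
    show (pullback.fst (sig s t g) g ≫ pullback.fst t g) ≫ t =
      (pullback.fst (sig s t g) g ≫ pullback.snd t g) ≫ g
    rw [Category.assoc, Category.assoc, pullback.condition]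
  lift T a' b' ρ h1 h2 := by
    refine ⟨pullback.lift (pullback.lift ρ a' h1) b' ?_, ?_, ?_, ?_⟩
    · rw [← Category.assoc, pullback.lift_fst, h2]
    · show pullback.lift _ _ _ ≫ pullback.fst (sig s t g) g ≫ pullback.snd t g = a'
      rw [← Category.assoc, pullback.lift_fst, pullback.lift_snd]
    · exact pullback.lift_snd _ _ _
    · show pullback.lift _ _ _ ≫ pullback.fst (sig s t g) g ≫ pullback.fst t g = ρ
      rw [← Category.assoc, pullback.lift_fst, pullback.lift_fst]
  ext T ρ₁ ρ₂ h1 h2 h3 := by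
    apply pullback.hom_ext
    · apply pullback.hom_ext
      · simpa only [Category.assoc] using h3
      · simpa only [Category.assoc] using h1
    · exact h2

end Canonical

section Props

variable {s t : R ⟶ U} {g : U' ⟶ U} {s' t' : R' ⟶ U'} {r : R' ⟶ R}

theorem isEqvRel_of_isRestr (hR : IsEqvRel s t) (h : IsRestr s t g s' t' r) :
    IsEqvRel s' t' where
  injective T ρ₁ ρ₂ h1 h2 := by
    refine h.ext T ρ₁ ρ₂ h1 h2 (hR.injective T _ _ ?_ ?_)
    · rw [Category.assoc, Category.assoc, h.comm_t, ← Category.assoc, ← Category.assoc, h1]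
    · rw [Category.assoc, Category.assoc, h.comm_s, ← Category.assoc, ← Category.assoc, h2]
  equivalence T := by
    have key : ∀ a b : T ⟶ U', (∃ ρ' : T ⟶ R', ρ' ≫ t' = a ∧ ρ' ≫ s' = b) ↔
        ∃ ρ : T ⟶ R, ρ ≫ t = a ≫ g ∧ ρ ≫ s = b ≫ g := by
      intro a b
      constructor
      · rintro ⟨ρ', rfl, rfl⟩
        exact ⟨ρ' ≫ r, by rw [Category.assoc, h.comm_t, Category.assoc],
          by rw [Category.assoc, h.comm_s, Category.assoc]⟩
      · rintro ⟨ρ, h1, h2⟩
        obtain ⟨ρ', e1, e2, -⟩ := h.lift T a b ρ h1 h2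
        exact ⟨ρ', e1, e2⟩
    have E := hR.equivalence T
    refine ⟨fun a => ?_, fun {a b} hab => ?_, fun {a b c} hab hbc => ?_⟩
    · rw [key]
      exact E.refl (a ≫ g)
    · rw [key] at hab ⊢
      exact E.symm hab
    · rw [key] at hab hbc ⊢
      exact E.trans hab hbc

end Props

section Quot

variable {s t : R ⟶ U} {g : U' ⟶ U} {s' t' : R' ⟶ U'} {r : R' ⟶ R}

theorem repMap_comp {A B C : Over S} (a : A ⟶ B) (b : B ⟶ C) :
    QuotSh.repMap Scheme.fppfPrecoverage (a ≫ b) =
      QuotSh.repMap Scheme.fppfPrecoverage a ≫ QuotSh.repMap Scheme.fppfPrecoverage b := by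
  show (presheafToSheaf _ _).map _ = (presheafToSheaf _ _).map _ ≫ (presheafToSheaf _ _).map _
  rw [← Functor.map_comp, ← Functor.whiskerRight_comp, ← yoneda.map_comp]

/-- the induced map on quotient sheaves -/
noncomputable def quotMap (hs : r ≫ s = s' ≫ g) (ht : r ≫ t = t' ≫ g) :
    QuotSh.quot Scheme.fppfPrecoverage s' t' ⟶ QuotSh.quot Scheme.fppfPrecoverage s t :=
  coequalizer.desc (QuotSh.repMap Scheme.fppfPrecoverage g ≫
    QuotSh.quotπ Scheme.fppfPrecoverage s t) (by
    rw [← Category.assoc, ← repMap_comp, ← hs, repMap_comp, Category.assoc,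
      QuotSh.quot_condition, ← Category.assoc, ← repMap_comp, ht, repMap_comp, Category.assoc])

theorem quotπ_quotMap (hs : r ≫ s = s' ≫ g) (ht : r ≫ t = t' ≫ g) :
    QuotSh.quotπ Scheme.fppfPrecoverage s' t' ≫ quotMap hs ht =
      QuotSh.repMap Scheme.fppfPrecoverage g ≫ QuotSh.quotπ Scheme.fppfPrecoverage s t :=
  coequalizer.π_desc _ _

theorem mono_of_isRestr (hR : IsEqvRel s t) (h : IsRestr s t g s' t' r)
    (φ : QuotSh.quot Scheme.fppfPrecoverage s' t' ⟶ QuotSh.quot Scheme.fppfPrecoverage s t)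
    (hφ : p s' t' ≫ φ = (yon S).map g ≫ p s t) : Mono φ := by
  let ψ₀ : quotSp ((yon S).map s') ((yon S).map t') ⟶ quotSp ((yon S).map s) ((yon S).map t) :=
    (ψ s' t').hom ≫ φ ≫ (ψ s t).inv
  have hψ₀ : quotSpπ ((yon S).map s') ((yon S).map t') ≫ ψ₀ =
      (yon S).map g ≫ quotSpπ ((yon S).map s) ((yon S).map t) := by
    show _ ≫ (ψ s' t').hom ≫ φ ≫ (ψ s t).inv = _
    rw [← Category.assoc, π_ψ, ← Category.assoc, hφ, Category.assoc, ← π_ψ, Category.assoc,
      Iso.hom_inv_id, Category.comp_id]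
  have hmono : Mono ψ₀ := by
    refine mono_of_restriction _ _ (isEqvRelSp_of_isEqvRel s t hR).equivalence _ _ _ ?_ ψ₀ hψ₀
    intro T a' b' ρ h1 h2
    obtain ⟨a', rfl⟩ := (yon S).map_surjective a'
    obtain ⟨b', rfl⟩ := (yon S).map_surjective b'
    obtain ⟨ρ, rfl⟩ := (yon S).map_surjective ρ
    rw [← Functor.map_comp, ← Functor.map_comp] at h1 h2
    have h1' := (yon S).map_injective h1
    have h2' := (yon S).map_injective h2
    obtain ⟨ρ', e1, e2, -⟩ := h.lift T a' b' ρ h1' h2'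
    exact ⟨(yon S).map ρ', by rw [← Functor.map_comp, e1], by rw [← Functor.map_comp, e2]⟩
  have e : φ = (ψ s' t').inv ≫ ψ₀ ≫ (ψ s t).hom := by
    show φ = (ψ s' t').inv ≫ ((ψ s' t').hom ≫ φ ≫ (ψ s t).inv) ≫ (ψ s t).hom
    simp
  rw [e]
  infer_instance

theorem isIso_of_isRestr (hR : IsEqvRel s t) (h : IsRestr s t g s' t' r)
    (hσ : Epi ((yon S).map (sig s t g)))
    (φ : QuotSh.quot Scheme.fppfPrecoverage s' t' ⟶ QuotSh.quot Scheme.fppfPrecoverage s t)
    (hφ0 : QuotSh.quotπ Scheme.fppfPrecoverage s' t' ≫ φ =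
      QuotSh.repMap Scheme.fppfPrecoverage g ≫ QuotSh.quotπ Scheme.fppfPrecoverage s t) :
    IsIso φ := by
  have hφ := p_comp s t g s' t' φ hφ0
  haveI := mono_of_isRestr hR h φ hφ
  haveI : Epi (p s t) := QuotOpen.epi_p s t
  have e : ((yon S).map (pullback.snd t g) ≫ p s' t') ≫ φ = (yon S).map (sig s t g) ≫ p s t := by
    rw [Category.assoc, hφ, ← Category.assoc, ← Functor.map_comp, ← pullback.condition,
      Functor.map_comp, Category.assoc, ← p_cond, ← Category.assoc, ← Functor.map_comp]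
  haveI : Epi (((yon S).map (pullback.snd t g) ≫ p s' t') ≫ φ) := by
    rw [e]
    infer_instance
  haveI : Epi φ := epi_of_epi ((yon S).map (pullback.snd t g) ≫ p s' t') φ
  exact isIso_of_mono_of_epi φ

end Quot

end Groth.Agent.Helper5.SliceEqv
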