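import Groth.Agent.Helper5.SliceEqv1
import Mathlib

/-!
# Helper5: properties of the source and target maps of a restricted equivalence relation
-/

set_option autoImplicit false
set_option linter.style.haveILetI false
set_option linter.unusedSectionVars false
set_option linter.unusedVariables false
universe u
open CategoryTheory CategoryTheory.Limits AlgebraicGeometry Opposite MorphismProperty

namespace Groth.Agent.Helper5.SliceEqv

open AlgSp

variable {S : Scheme.{u}} {R U R' U' : Over S}

/-- the inverse of an equivalence relation -/
theorem exists_swap {s t : R ⟶ U} (hR : IsEqvRel s t) :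
    ∃ i : R ⟶ R, IsIso i ∧ i ≫ s = t ∧ i ≫ t = s := by
  have E := hR.equivalence R
  obtain ⟨i, h1, h2⟩ := E.symm (⟨𝟙 R, Category.id_comp _, Category.id_comp _⟩ :
    ∃ r : R ⟶ R, r ≫ t = t ∧ r ≫ s = s)
  have hii : i ≫ i = 𝟙 R := by
    apply hR.injective R
    · rw [Category.assoc, h1, h2, Category.id_comp]
    · rw [Category.assoc, h2, h1, Category.id_comp]
  exact ⟨i, ⟨i, hii, hii⟩, h2, h1⟩

variable (s t : R ⟶ U) (g : U' ⟶ U)

theorem rs_prop (P : MorphismProperty Scheme.{u}) [P.IsStableUnderBaseChange]
    (h : P (sig s t g).left) : P (rs s t g).left := by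
  have sq := Groth.Agent.Helper5.GeomFibSp.isPullback_left
    (IsPullback.of_hasPullback (sig s t g) g)
  exact MorphismProperty.of_isPullback sq h

theorem rt_prop (hR : IsEqvRel s t) (P : MorphismProperty Scheme.{u}) [P.IsStableUnderBaseChange]
    (h : P (sig s t g).left) : P (rt s t g).left := by
  have hR' := isEqvRel_of_isRestr hR (isRestr_canonical s t g)
  obtain ⟨i, hi, h1, h2⟩ := exists_swap hR'
  have : P.RespectsIso := MorphismProperty.IsStableUnderBaseChange.respectsIso
  have hl : IsIso i.left := by
    have : IsIso ((Over.forget S).map i) := inferInstance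
    exact this
  rw [← h1]
  show P (i.left ≫ (rs s t g).left)
  exact (P.cancel_left_of_respectsIso i.left _).2 (rs_prop s t g P h)

end Groth.Agent.Helper5.SliceEqv
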