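import Groth.Agent.Helper5.SliceEqv2
import Groth.Agent.Helper5.MonoQuot1
import Mathlib

/-!
# Helper5: the groupoid scheme of an equivalence relation over `S`
-/

set_option autoImplicit false
set_option linter.style.haveILetI false
set_option linter.unusedSectionVars false
set_option linter.unusedVariables false
universe u
open CategoryTheory CategoryTheory.Limits AlgebraicGeometry Opposite MorphismProperty

namespace Groth.Agent.Helper5.SliceEqv

open AlgSp Groth.Agent.Helper5.MonoQuot

variable {S : Scheme.{u}} {R U : Over S} {s t : R ⟶ U}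

theorem nonempty_eqvData (h : IsEqvRel s t) : Nonempty (EqvData U.hom s.left t.left) := by
  obtain ⟨e, he1, he2⟩ := (h.equivalence U).refl (𝟙 U)
  obtain ⟨i, hi1, hi2⟩ := (h.equivalence R).symm (⟨𝟙 R, Category.id_comp _, Category.id_comp _⟩ :
    ∃ r : R ⟶ R, r ≫ t = t ∧ r ≫ s = s)
  let P₀ : Over S := Over.mk (pullback.fst s.left t.left ≫ R.hom)
  let fst₀ : P₀ ⟶ R := Over.homMk (pullback.fst s.left t.left) rfl
  have hsnd : pullback.snd s.left t.left ≫ R.hom = pullback.fst s.left t.left ≫ R.hom := by
    calc pullback.snd s.left t.left ≫ R.hom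
        = (pullback.snd s.left t.left ≫ t.left) ≫ U.hom := by rw [Category.assoc, Over.w t]
      _ = (pullback.fst s.left t.left ≫ s.left) ≫ U.hom := by rw [pullback.condition]
      _ = pullback.fst s.left t.left ≫ R.hom := by rw [Category.assoc, Over.w s]
  let snd₀ : P₀ ⟶ R := Over.homMk (pullback.snd s.left t.left) hsnd
  have hcond : fst₀ ≫ s = snd₀ ≫ t := Over.OverMorphism.ext pullback.condition
  have h1 : ∃ r : P₀ ⟶ R, r ≫ t = fst₀ ≫ t ∧ r ≫ s = fst₀ ≫ s := ⟨fst₀, rfl, rfl⟩
  have h2 : ∃ r : P₀ ⟶ R, r ≫ t = fst₀ ≫ s ∧ r ≫ s = snd₀ ≫ s := ⟨snd₀, hcond.symm, rfl⟩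
  obtain ⟨c, hc1, hc2⟩ := (h.equivalence P₀).trans h1 h2
  refine ⟨{
    w := (Over.w s).trans (Over.w t).symm
    jm := ?_
    e := e.left
    e_s := congrArg CommaMorphism.left he2
    e_t := congrArg CommaMorphism.left he1
    i := i.left
    i_s := congrArg CommaMorphism.left hi2
    i_t := congrArg CommaMorphism.left hi1
    c := c.left
    c_s := congrArg CommaMorphism.left hc2
    c_t := congrArg CommaMorphism.left hc1 }⟩
  intro T a b hs ht
  let T₀ : Over S := Over.mk (a ≫ R.hom)
  have hb : b ≫ R.hom = a ≫ R.hom := by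
    rw [← Over.w s, ← Category.assoc, ← hs, Category.assoc]
  have := h.injective T₀ (Over.homMk a rfl) (Over.homMk b hb)
    (Over.OverMorphism.ext ht) (Over.OverMorphism.ext hs)
  exact congrArg CommaMorphism.left this

/-- the data of the equivalence relation -/
noncomputable def eqvData (h : IsEqvRel s t) : EqvData U.hom s.left t.left :=
  (nonempty_eqvData h).some

/-- the groupoid scheme of the equivalence relation -/
noncomputable abbrev grpd (h : IsEqvRel s t) : Grpd.GroupoidScheme S := (eqvData h).grpd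

theorem grpd_s (h : IsEqvRel s t) : (grpd h).s = s.left := (eqvData h).grpd_s
theorem grpd_t (h : IsEqvRel s t) : (grpd h).t = t.left := (eqvData h).grpd_t

instance (h : IsEqvRel s t) : Mono (grpd h).j := (eqvData h).mono_grpd_j

/-- the stabilizer of an equivalence relation is trivial -/
instance isIso_stabilizerToU (h : IsEqvRel s t) : IsIso (grpd h).stabilizerToU := by
  haveI hj : Mono (grpd h).j := (eqvData h).mono_grpd_j
  haveI : Mono (grpd h).stabilizerToU := by
    unfold Grpd.GroupoidScheme.stabilizerToU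
    exact pullback.snd_of_mono
  have hsec : (grpd h).eStab ≫ (grpd h).stabilizerToU = 𝟙 _ := by
    unfold Grpd.GroupoidScheme.eStab Grpd.GroupoidScheme.stabilizerToU
    exact pullback.lift_snd _ _ _
  haveI : IsSplitEpi (grpd h).stabilizerToU := ⟨⟨⟨(grpd h).eStab, hsec⟩⟩⟩
  exact isIso_of_mono_of_isSplitEpi _

end Groth.Agent.Helper5.SliceEqv
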