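import Groth.Agent.Helper5.SliceEqv3
import Groth.Agent.Helper3.GrpdCM2
import Mathlib

/-!
# Helper5: reduction to Cohen–Macaulay source and target for an equivalence relation
-/

set_option autoImplicit false
set_option linter.style.haveILetI false
set_option linter.unusedSectionVars false
set_option linter.unusedVariables false
universe u
open CategoryTheory CategoryTheory.Limits AlgebraicGeometry Opposite MorphismProperty

namespace Groth.Agent.Helper5.SliceEqv

open AlgSp Groth.Agent.Helper5.MonoQuot Groth.Agent.Helper5.OpenDesc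

variable {S : Scheme.{u}} {R U : Over S} (s t : R ⟶ U)

/-- the projections of a pullback along an open immersion, on underlying schemes -/
theorem isOpenImmersion_fst_left {A B C : Over S} (a : A ⟶ C) (b : B ⟶ C)
    [IsOpenImmersion b.left] : IsOpenImmersion (pullback.fst a b).left := by
  have sq := Groth.Agent.Helper5.GeomFibSp.isPullback_left (IsPullback.of_hasPullback a b)
  exact MorphismProperty.of_isPullback (P := @IsOpenImmersion) sq.flip inferInstance

theorem exists_cm_restriction (hR : IsEqvRel s t) [Flat s.left]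
    [LocallyOfFinitePresentation s.left] [Flat t.left] [LocallyOfFinitePresentation t.left] :
    ∃ (U₁ : Over S) (g₁ : U₁ ⟶ U), IsOpenImmersion g₁.left ∧
      Epi ((yon S).map (sig s t g₁)) ∧
      (∀ x, MoreMor.IsCMAt (rs s t g₁).left x) ∧ (∀ x, MoreMor.IsCMAt (rt s t g₁).left x) := by
  let G := grpd hR
  haveI : Flat G.s := by have h := ‹Flat s.left›; rw [← grpd_s hR] at h; exact h
  haveI : LocallyOfFinitePresentation G.s := by
    have h := ‹LocallyOfFinitePresentation s.left›; rw [← grpd_s hR] at h; exact h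
  haveI : Flat G.t := by have h := ‹Flat t.left›; rw [← grpd_t hR] at h; exact h
  haveI : LocallyOfFinitePresentation G.t := by
    have h := ‹LocallyOfFinitePresentation t.left›; rw [← grpd_t hR] at h; exact h
  obtain ⟨U₀', h1, h2, h3, h4⟩ := Groth.Agent.Helper3.GrpdCM.s1936 S G
  obtain ⟨U₀, hU₀⟩ : ∃ U₀ : U.left.Opens, U₀ = U₀' := ⟨U₀', rfl⟩
  subst hU₀
  have key : ∀ (σ τ : R.left ⟶ U.left), σ = G.s → τ = G.t →
      (∀ r : R.left, τ r ∈ U₀ ↔ MoreMor.IsCMAt σ r) ∧
      (∀ r : R.left, σ r ∈ U₀ ↔ MoreMor.IsCMAt τ r) ∧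
      (∀ u : U.left, ∃ r : R.left, τ r ∈ U₀ ∧ σ r = u) := by
    rintro σ τ rfl rfl
    refine ⟨fun r => ?_, fun r => ?_, fun u => ?_⟩
    · exact (Set.ext_iff.1 h1 r).trans (Groth.Agent.Helper3.GrpdCM.isCMAt_iff _ _)
    · exact (Set.ext_iff.1 h2 r).trans (Groth.Agent.Helper3.GrpdCM.isCMAt_iff _ _)
    · have : u ∈ ⇑G.s '' (G.t ⁻¹ᵁ U₀ : Set G.R) := by rw [h4]; trivial
      obtain ⟨r, hr1, hr2⟩ := this
      exact ⟨r, hr1, hr2⟩
  obtain ⟨h1', h2', h4'⟩ := key s.left t.left (grpd_s hR).symm (grpd_t hR).symm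
  let g₁ : opensOver U U₀ ⟶ U := opensι U U₀
  haveI : IsOpenImmersion g₁.left := inferInstanceAs (IsOpenImmersion U₀.ι)
  haveI : Flat g₁.left := inferInstance
  haveI : LocallyOfFinitePresentation g₁.left := inferInstance
  refine ⟨opensOver U U₀, g₁, inferInstance, ?_, ?_, ?_⟩
  · haveI := QuotOpen.flat_σ s t g₁
    haveI := QuotOpen.lfp_σ s t g₁
    haveI : Surjective (sig s t g₁).left := by
      refine ⟨fun u => ?_⟩
      obtain ⟨r, hr1, hr2⟩ := h4' u
      have sq := Groth.Agent.Helper5.GeomFibSp.isPullback_left (IsPullback.of_hasPullback t g₁)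
      obtain ⟨z, hz1, hz2⟩ := Scheme.exists_preimage_of_isPullback sq r ⟨t.left r, hr1⟩ rfl
      refine ⟨z, ?_⟩
      show ((pullback.fst t g₁).left ≫ s.left) z = u
      rw [Scheme.Hom.comp_apply]
      erw [hz1]
      exact hr2
    exact Groth.Agent.Helper5.AffDesc.epi_yon_map_of_fppf (sig s t g₁)
  · intro x
    have hc : (rs s t g₁).left ≫ g₁.left = (rr s t g₁).left ≫ s.left :=
      (congrArg CommaMorphism.left (isRestr_canonical s t g₁).comm_s).symm
    have ht : (rt s t g₁).left ≫ g₁.left = (rr s t g₁).left ≫ t.left :=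
      (congrArg CommaMorphism.left (isRestr_canonical s t g₁).comm_t).symm
    haveI : IsOpenImmersion (rr s t g₁).left := by
      haveI := isOpenImmersion_fst_left (sig s t g₁) g₁
      haveI := isOpenImmersion_fst_left t g₁
      show IsOpenImmersion ((pullback.fst (sig s t g₁) g₁).left ≫ (pullback.fst t g₁).left)
      infer_instance
    rw [← Groth.Agent.Helper5.SyntLC.isCMAt_comp_openImmersion _ g₁.left, hc,
      Groth.Agent.Helper3.CMSlice.isCMAt_openImmersion, ← h1']
    have : t.left ((rr s t g₁).left x) = g₁.left ((rt s t g₁).left x) := by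
      rw [← Scheme.Hom.comp_apply, ← Scheme.Hom.comp_apply, ht]
    rw [this]
    exact ((rt s t g₁).left x).2
  · intro x
    have hc : (rs s t g₁).left ≫ g₁.left = (rr s t g₁).left ≫ s.left :=
      (congrArg CommaMorphism.left (isRestr_canonical s t g₁).comm_s).symm
    have ht : (rt s t g₁).left ≫ g₁.left = (rr s t g₁).left ≫ t.left :=
      (congrArg CommaMorphism.left (isRestr_canonical s t g₁).comm_t).symm
    haveI : IsOpenImmersion (rr s t g₁).left := by
      haveI := isOpenImmersion_fst_left (sig s t g₁) g₁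
      haveI := isOpenImmersion_fst_left t g₁
      show IsOpenImmersion ((pullback.fst (sig s t g₁) g₁).left ≫ (pullback.fst t g₁).left)
      infer_instance
    rw [← Groth.Agent.Helper5.SyntLC.isCMAt_comp_openImmersion _ g₁.left, ht,
      Groth.Agent.Helper3.CMSlice.isCMAt_openImmersion, ← h2']
    have : s.left ((rr s t g₁).left x) = g₁.left ((rs s t g₁).left x) := by
      rw [← Scheme.Hom.comp_apply, ← Scheme.Hom.comp_apply, hc]
    rw [this]
    exact ((rs s t g₁).left x).2

end Groth.Agent.Helper5.SliceEqv
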