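import Mathlib

/-!
# Helper5: two scheme-level lemmas for slicing equivalence relations
-/

set_option autoImplicit false
set_option linter.style.haveILetI false
set_option linter.unusedSectionVars false
set_option linter.unusedVariables false
universe u
open CategoryTheory CategoryTheory.Limits AlgebraicGeometry Opposite MorphismProperty

namespace Groth.Agent.Helper5.SliceEqv

/-- an open subset of a scheme containing all finite type points is everything -/
theorem eq_univ_of_finiteType_points {X : Scheme.{u}} (W : Set X) (hW : IsOpen W)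
    (h : ∀ x : X, LocallyOfFiniteType (X.fromSpecResidueField x) → x ∈ W) : W = Set.univ := by
  by_contra hne
  obtain ⟨x, hx⟩ : ∃ x, x ∉ W := by
    by_contra h'
    push_neg at h'
    exact hne (Set.eq_univ_of_forall h')
  obtain ⟨_, ⟨V, hV, rfl⟩, hxV, -⟩ :=
    X.isBasis_affineOpens.exists_subset_of_mem_open (Set.mem_univ x) isOpen_univ
  obtain ⟨V₀, hV₀⟩ : ∃ V₀ : X.Opens, V₀ = V := ⟨V, rfl⟩
  subst hV₀
  haveI : IsAffine V₀.toScheme := hV
  have hcl : IsClosed (V₀.ι ⁻¹' Wᶜ) := (hW.isClosed_compl).preimage V₀.ι.continuous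
  obtain ⟨z, hz, hzc⟩ := hcl.exists_closed_singleton ⟨⟨x, hxV⟩, hx⟩
  haveI : IsClosedImmersion (V₀.toScheme.fromSpecResidueField z) :=
    isClosed_singleton_iff_isClosedImmersion.1 hzc
  have e := Scheme.Hom.SpecMap_residueFieldMap_fromSpecResidueField (f := V₀.ι) z
  have hft : LocallyOfFiniteType (X.fromSpecResidueField (V₀.ι z)) := by
    have e' : X.fromSpecResidueField (V₀.ι z) =
        inv (Spec.map (V₀.ι.residueFieldMap z)) ≫ V₀.toScheme.fromSpecResidueField z ≫ V₀.ι := by
      rw [← e, IsIso.inv_hom_id_assoc]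
    rw [e']
    infer_instance
  exact hz (h _ hft)

/-- a property local at the source holds for `W ⟶ R ⟶ U` when it holds over the members of an
open cover of `U'`, where `W = R ×_U U'` -/
theorem prop_of_cover {R₀ U₀ U'₀ W : Scheme.{u}} (σ τ : R₀ ⟶ U₀) (g₀ : U'₀ ⟶ U₀)
    (𝒰 : U'₀.OpenCover) {a : W ⟶ R₀} {b : W ⟶ U'₀} (sq : IsPullback a b τ g₀)
    (P : MorphismProperty Scheme.{u}) [IsZariskiLocalAtSource P]
    (H : ∀ i, P (pullback.snd (𝒰.f i ≫ g₀) τ ≫ σ)) : P (a ≫ σ) := by
  refine IsZariskiLocalAtSource.of_openCover (𝒰.pullback₁ b) fun i => ?_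
  have big : IsPullback (pullback.fst b (𝒰.f i) ≫ a) (pullback.snd b (𝒰.f i)) τ (𝒰.f i ≫ g₀) :=
    (IsPullback.of_hasPullback b (𝒰.f i)).paste_horiz sq
  let e := big.flip.isoPullback
  have he : e.hom ≫ pullback.snd (𝒰.f i ≫ g₀) τ = pullback.fst b (𝒰.f i) ≫ a :=
    big.flip.isoPullback_hom_snd
  have h2 : (𝒰.pullback₁ b).f i ≫ a ≫ σ = e.hom ≫ (pullback.snd (𝒰.f i ≫ g₀) τ ≫ σ) := by
    rw [← Category.assoc e.hom, he, Category.assoc]
    rfl
  rw [h2]
  exact (P.cancel_left_of_respectsIso e.hom _).2 (H i)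

end Groth.Agent.Helper5.SliceEqv
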