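import Groth.Agent.Helper5.SliceEqv4
import Groth.Agent.Helper5.SliceEqv5
import Groth.Agent.Helper3.GrpdSl15
import Mathlib

/-!
# Helper5: slicing an equivalence relation with Cohen–Macaulay source and target to a
locally quasi-finite one
-/

set_option autoImplicit false
set_option linter.style.haveILetI false
set_option linter.unusedSectionVars false
set_option linter.unusedVariables false
universe u
open CategoryTheory CategoryTheory.Limits AlgebraicGeometry Opposite MorphismProperty

namespace Groth.Agent.Helper5.SliceEqv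

open AlgSp Groth.Agent.Helper5.MonoQuot Groth.Agent.Helper5.OpenDesc

variable {S : Scheme.{u}} {R U : Over S} (s t : R ⟶ U)

theorem exists_slices (hR : IsEqvRel s t)
    [LocallyOfFinitePresentation s.left] [LocallyOfFinitePresentation t.left]
    (hs : ∀ x, MoreMor.IsCMAt s.left x) (ht : ∀ x, MoreMor.IsCMAt t.left x)
    (u : U.left) (hu : LocallyOfFiniteType (U.left.fromSpecResidueField u)) :
    ∃ (X : Scheme.{u}) (gX : X ⟶ U.left) (u' : X), gX u' = u ∧
      Flat (pullback.snd gX t.left ≫ s.left) ∧
      LocallyOfFinitePresentation (pullback.snd gX t.left ≫ s.left) ∧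
      LocallyQuasiFinite (pullback.snd gX t.left ≫ s.left) := by
  let G := grpd hR
  have key : ∀ (σ τ : R.left ⟶ U.left), σ = G.s → τ = G.t →
      LocallyOfFinitePresentation σ → LocallyOfFinitePresentation τ →
      (∀ x, MoreMor.IsCMAt σ x) → (∀ x, MoreMor.IsCMAt τ x) →
      ∃ (X : Scheme.{u}) (gX : X ⟶ U.left) (u' : X), gX u' = u ∧
        Flat (pullback.snd gX τ ≫ σ) ∧
        LocallyOfFinitePresentation (pullback.snd gX τ ≫ σ) ∧
        LocallyQuasiFinite (pullback.snd gX τ ≫ σ) := by
    rintro σ τ rfl rfl h1 h2 h3 h4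
    haveI : LocallyOfFinitePresentation G.s := h1
    haveI : LocallyOfFinitePresentation G.t := h2
    haveI : IsIso G.stabilizerToU := isIso_stabilizerToU hR
    haveI : LocallyOfFiniteType G.stabilizerToU := inferInstance
    haveI : LocallyQuasiFinite G.stabilizerToU := inferInstance
    obtain ⟨X, -, gX, u', -, -, hgu, ⟨hf, hl, -, hq⟩, -⟩ :=
      Groth.Agent.Helper3.GrpdSl.s7508 G
        (fun r => (Groth.Agent.Helper3.GrpdCM.isCMAt_iff _ _).2 (h3 r))
        (fun r => (Groth.Agent.Helper3.GrpdCM.isCMAt_iff _ _).2 (h4 r)) u hu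
    exact ⟨X, gX, u', hgu, hf, hl, hq⟩
  exact key s.left t.left (grpd_s hR).symm (grpd_t hR).symm inferInstance inferInstance hs ht

end Groth.Agent.Helper5.SliceEqv
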