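import Groth.Agent.Helper5.SliceEqv6
import Mathlib

/-!
# Helper5: the disjoint union of the slices
-/

set_option autoImplicit false
set_option linter.style.haveILetI false
set_option linter.unusedSectionVars false
set_option linter.unusedVariables false
universe u
open CategoryTheory CategoryTheory.Limits AlgebraicGeometry Opposite MorphismProperty

namespace Groth.Agent.Helper5.SliceEqv

open AlgSp Groth.Agent.Helper5.MonoQuot Groth.Agent.Helper5.OpenDesc

variable {S : Scheme.{u}} {R U : Over S} (s t : R ⟶ U)

theorem exists_lqf_restriction (hR : IsEqvRel s t)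
    [LocallyOfFinitePresentation s.left] [LocallyOfFinitePresentation t.left]
    (hs : ∀ x, MoreMor.IsCMAt s.left x) (ht : ∀ x, MoreMor.IsCMAt t.left x) :
    ∃ (U' : Over S) (g : U' ⟶ U), Epi ((yon S).map (sig s t g)) ∧ Flat (sig s t g).left ∧
      LocallyOfFinitePresentation (sig s t g).left ∧ LocallyQuasiFinite (sig s t g).left := by
  let I : Type u := {u : U.left // LocallyOfFiniteType (U.left.fromSpecResidueField u)}
  choose X gX u' hgu hf hl hq using fun i : I => exists_slices s t hR hs ht i.1 i.2
  let U'₀ : Scheme.{u} := ∐ X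
  let g₀ : U'₀ ⟶ U.left := Sigma.desc gX
  let U' : Over S := Over.mk (g₀ ≫ U.hom)
  let g : U' ⟶ U := Over.homMk g₀ rfl
  have sq : IsPullback (pullback.fst t g).left (pullback.snd t g).left t.left g₀ :=
    Groth.Agent.Helper5.GeomFibSp.isPullback_left (IsPullback.of_hasPullback t g)
  have hcov : ∀ i, (AlgebraicGeometry.sigmaOpenCover X).f i ≫ g₀ = gX i := fun i => Sigma.ι_desc _ _
  have H : ∀ (P : MorphismProperty Scheme.{u}) [IsZariskiLocalAtSource P],
      (∀ i, P (pullback.snd (gX i) t.left ≫ s.left)) → P (sig s t g).left := by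
    intro P _ h
    refine prop_of_cover s.left t.left g₀ (AlgebraicGeometry.sigmaOpenCover X) sq P (fun i => ?_)
    rw [hcov i]
    exact h i
  haveI h1 : Flat (sig s t g).left := H @Flat hf
  haveI h2 : LocallyOfFinitePresentation (sig s t g).left := H @LocallyOfFinitePresentation hl
  haveI h3 : LocallyQuasiFinite (sig s t g).left := H @LocallyQuasiFinite hq
  obtain ⟨e, he1, he2⟩ := (hR.equivalence U).refl (𝟙 U)
  have hopen : IsOpen (Set.range (sig s t g).left) := (sig s t g).left.isOpenMap.isOpen_range
  have huniv : Set.range (sig s t g).left = Set.univ := by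
    refine eq_univ_of_finiteType_points _ hopen fun u hu => ?_
    let i : I := ⟨u, hu⟩
    have hx : t.left (e.left u) = g₀ ((Sigma.ι X i) (u' i)) := by
      have e1 : t.left (e.left u) = u := by
        rw [← Scheme.Hom.comp_apply]
        have := congrArg CommaMorphism.left he1
        change e.left ≫ t.left = 𝟙 _ at this
        rw [this]
        rfl
      rw [e1, ← Scheme.Hom.comp_apply]
      have : Sigma.ι X i ≫ g₀ = gX i := Sigma.ι_desc _ _
      rw [this]
      exact (hgu i).symm
    obtain ⟨z, hz1, hz2⟩ := Scheme.exists_preimage_of_isPullback sq (e.left u)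
      ((Sigma.ι X i) (u' i)) hx
    refine ⟨z, ?_⟩
    show ((pullback.fst t g).left ≫ s.left) z = u
    rw [Scheme.Hom.comp_apply]
    erw [hz1]
    rw [← Scheme.Hom.comp_apply]
    have := congrArg CommaMorphism.left he2
    change e.left ≫ s.left = 𝟙 _ at this
    rw [this]
    rfl
  haveI : Surjective (sig s t g).left := ⟨fun u => by
    have : u ∈ Set.range (sig s t g).left := by rw [huniv]; trivial
    exact this⟩
  exact ⟨U', g, Groth.Agent.Helper5.AffDesc.epi_yon_map_of_fppf (sig s t g), h1, h2, h3⟩

end Groth.Agent.Helper5.SliceEqv
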