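import Groth.Agent.Helper5.SliceEqv7
import Mathlib

/-!
# Helper5: slicing an fppf equivalence relation to a locally quasi-finite one (S10139)
-/

set_option autoImplicit false
set_option linter.style.haveILetI false
set_option linter.unusedSectionVars false
set_option linter.unusedVariables false
universe u
open CategoryTheory CategoryTheory.Limits AlgebraicGeometry Opposite MorphismProperty

namespace Groth.Agent.Helper5.SliceEqv

open AlgSp

theorem s10139 (S : Scheme.{u}) {R U : Over S} (s t : R ⟶ U)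
    (h : AlgSp.IsEqvRel s t) [Flat s.left] [LocallyOfFinitePresentation s.left]
    [Flat t.left] [LocallyOfFinitePresentation t.left] :
    ∃ (R' U' : Over S) (s' t' : R' ⟶ U') (g : U' ⟶ U) (r : R' ⟶ R)
      (ψ : QuotSh.quot Scheme.fppfPrecoverage s' t' ⟶ QuotSh.quot Scheme.fppfPrecoverage s t),
      AlgSp.IsEqvRel s' t' ∧ r ≫ s = s' ≫ g ∧ r ≫ t = t' ≫ g ∧
      Flat s'.left ∧ LocallyOfFinitePresentation s'.left ∧ LocallyQuasiFinite s'.left ∧
      Flat t'.left ∧ LocallyOfFinitePresentation t'.left ∧ LocallyQuasiFinite t'.left ∧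
      QuotSh.quotπ Scheme.fppfPrecoverage s' t' ≫ ψ =
        QuotSh.repMap Scheme.fppfPrecoverage g ≫ QuotSh.quotπ Scheme.fppfPrecoverage s t ∧
      IsIso ψ := by
  obtain ⟨U₁, g₁, hoi, hepi₁, hcm_s, hcm_t⟩ := exists_cm_restriction s t h
  have hres₁ := isRestr_canonical s t g₁
  have hR₁ := isEqvRel_of_isRestr h hres₁
  haveI := hoi
  haveI : Flat g₁.left := inferInstance
  haveI : LocallyOfFinitePresentation g₁.left := inferInstance
  haveI : LocallyOfFinitePresentation (rs s t g₁).left :=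
    rs_prop s t g₁ @LocallyOfFinitePresentation (QuotOpen.lfp_σ s t g₁)
  haveI : LocallyOfFinitePresentation (rt s t g₁).left :=
    rt_prop s t g₁ h @LocallyOfFinitePresentation (QuotOpen.lfp_σ s t g₁)
  obtain ⟨U₂, g₂, hepi₂, hf, hl, hq⟩ :=
    exists_lqf_restriction (rs s t g₁) (rt s t g₁) hR₁ hcm_s hcm_t
  have hres₂ := isRestr_canonical (rs s t g₁) (rt s t g₁) g₂
  have hR₂ := isEqvRel_of_isRestr hR₁ hres₂
  let ψ₁ := quotMap hres₁.comm_s hres₁.comm_t
  let ψ₂ := quotMap hres₂.comm_s hres₂.comm_t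
  have hψ₁ := quotπ_quotMap hres₁.comm_s hres₁.comm_t
  have hψ₂ := quotπ_quotMap hres₂.comm_s hres₂.comm_t
  haveI : IsIso ψ₁ := isIso_of_isRestr h hres₁ hepi₁ ψ₁ hψ₁
  haveI : IsIso ψ₂ := isIso_of_isRestr hR₁ hres₂ hepi₂ ψ₂ hψ₂
  refine ⟨_, U₂, rs (rs s t g₁) (rt s t g₁) g₂, rt (rs s t g₁) (rt s t g₁) g₂, g₂ ≫ g₁,
    rr (rs s t g₁) (rt s t g₁) g₂ ≫ rr s t g₁, ψ₂ ≫ ψ₁, hR₂, ?_, ?_,
    rs_prop _ _ g₂ @Flat hf, rs_prop _ _ g₂ @LocallyOfFinitePresentation hl,
    rs_prop _ _ g₂ @LocallyQuasiFinite hq,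
    rt_prop _ _ g₂ hR₁ @Flat hf, rt_prop _ _ g₂ hR₁ @LocallyOfFinitePresentation hl,
    rt_prop _ _ g₂ hR₁ @LocallyQuasiFinite hq, ?_, inferInstance⟩
  · rw [Category.assoc, hres₁.comm_s, ← Category.assoc, hres₂.comm_s, Category.assoc]
  · rw [Category.assoc, hres₁.comm_t, ← Category.assoc, hres₂.comm_t, Category.assoc]
  · rw [← Category.assoc, hψ₂, Category.assoc, hψ₁, ← Category.assoc, ← repMap_comp]

end Groth.Agent.Helper5.SliceEqv
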