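import Mathlib
import Groth.Agent.Helper5.LciS7
import Groth.Agent.Helper5.SmSynt1
import Groth.Agent.Helper3.SmKregH
import Groth.Agent.Helper3.KosBridgeA

set_option autoImplicit false
set_option linter.style.haveILetI false
universe u
open CategoryTheory CategoryTheory.Limits AlgebraicGeometry

namespace Groth.Agent.Helper5.SmFlat

theorem s19857 {X Y S : Scheme.{u}}
    (p : X ⟶ S) (q : Y ⟶ S) [Smooth p] [Smooth q] (f : X ⟶ Y) (hf : f ≫ q = p) [Flat f] :
    Synt.IsSyntomicMor f := by
  rw [← Groth.Agent.Helper5.LciS.s9758]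
  refine ⟨inferInstance, ?_⟩
  have hp : ∀ x : X, Synt.IsKoszulAt p x :=
    ((Groth.Agent.Helper5.LciS.s9758 p).mpr (Groth.Agent.Helper5.SmSynt.s9699 p)).2
  let Γf : X ⟶ pullback p q := pullback.lift (𝟙 X) f (by rw [Category.id_comp, hf])
  have h1 : Γf ≫ pullback.fst p q = 𝟙 X := pullback.lift_fst _ _ _
  have h2 : Γf ≫ pullback.snd p q = f := pullback.lift_snd _ _ _
  haveI : IsImmersion (Γf ≫ pullback.fst p q) := by rw [h1]; infer_instance
  haveI : IsImmersion Γf := IsImmersion.of_comp Γf (pullback.fst p q)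
  have hreg : RegImm.IsRegularImmersion .koszul Γf :=
    Groth.Agent.Helper3.SmKregH.s8656 p hp (pullback.fst p q ≫ p) Γf
      (by rw [← Category.assoc, h1, Category.id_comp])
  intro x
  refine ⟨⊤, pullback p q, (⊤ : X.Opens).ι ≫ Γf, pullback.snd p q, trivial, ?_,
    Groth.Agent.Helper3.KosBridgeA.regImm_comp_openImmersion .koszul _ Γf hreg, inferInstance, ?_⟩
  · haveI : LocallyOfFiniteType (f ≫ q) := by rw [hf]; infer_instance
    haveI : LocallyOfFiniteType f := locallyOfFiniteType_of_comp f q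
    infer_instance
  · rw [Category.assoc, h2]

end Groth.Agent.Helper5.SmFlat
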