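import Mathlib
import Groth.Agent.Lead.ThickBC2

set_option autoImplicit false
set_option linter.style.haveILetI false
set_option linter.unusedSectionVars false
set_option linter.unusedVariables false
universe u
open CategoryTheory CategoryTheory.Limits AlgebraicGeometry

namespace Groth.Agent.Helper5.SmLift

section ring

variable {A B R' R : Type u} [CommRing A] [CommRing B] [CommRing R'] [CommRing R]
  [Algebra A B] [Algebra A R'] [Algebra A R]

/-- smooth algebras lift along surjections with nil kernel -/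
theorem exists_algHom_lift [Algebra.FormallySmooth A B] [Algebra.FinitePresentation A B]
    (π : R' →ₐ[A] R) (hπ : Function.Surjective π)
    (hnil : RingHom.ker (π : R' →+* R) ≤ nilradical R') (β : B →ₐ[A] R) :
    ∃ γ : B →ₐ[A] R', π.comp γ = β := by
  obtain ⟨n, f, hf, hker⟩ := (Algebra.FinitePresentation.out : ∃ (n : ℕ)
    (f : MvPolynomial (Fin n) A →ₐ[A] B), Function.Surjective f ∧ (RingHom.ker f.toRingHom).FG)
  choose r' hr' using fun j : Fin n => hπ (β (f (MvPolynomial.X j)))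
  let ψ : MvPolynomial (Fin n) A →ₐ[A] R' := MvPolynomial.aeval r'
  have hψ : π.comp ψ = β.comp f := by
    apply MvPolynomial.algHom_ext
    intro j
    simp [ψ, hr']
  let I₀ : Ideal R' := (RingHom.ker f.toRingHom).map ψ.toRingHom
  have hI₀le : I₀ ≤ RingHom.ker (π : R' →+* R) := by
    rw [Ideal.map_le_iff_le_comap]
    intro k hk
    rw [Ideal.mem_comap, RingHom.mem_ker]
    have : π (ψ k) = β (f k) := AlgHom.congr_fun hψ k
    show π (ψ k) = 0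
    rw [this, show f k = 0 from hk, map_zero]
  have hI₀fg : I₀.FG := hker.map _
  have hI₀nil : IsNilpotent I₀ :=
    (Ideal.FG.isNilpotent_iff_le_nilradical hI₀fg).2 (hI₀le.trans hnil)
  -- `ψ̄ : B → R' / I₀`
  let ψq : MvPolynomial (Fin n) A →ₐ[A] R' ⧸ I₀ := (Ideal.Quotient.mkₐ A I₀).comp ψ
  have hψq : ∀ k : MvPolynomial (Fin n) A, k ∈ RingHom.ker f.toRingHom → ψq k = 0 := by
    intro k hk
    show Ideal.Quotient.mk I₀ (ψ k) = 0
    rw [Ideal.Quotient.eq_zero_iff_mem]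
    exact Ideal.mem_map_of_mem _ hk
  let eB : (MvPolynomial (Fin n) A ⧸ RingHom.ker f.toRingHom) ≃ₐ[A] B :=
    Ideal.quotientKerAlgEquivOfSurjective hf
  let ψbar : B →ₐ[A] R' ⧸ I₀ :=
    (Ideal.Quotient.liftₐ (RingHom.ker f.toRingHom) ψq hψq).comp eB.symm.toAlgHom
  have hψbar : ∀ k, ψbar (f k) = Ideal.Quotient.mk I₀ (ψ k) := by
    intro k
    show (Ideal.Quotient.liftₐ (RingHom.ker f.toRingHom) ψq hψq) (eB.symm (f k)) = _
    have : eB.symm (f k) = Ideal.Quotient.mk _ k := by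
      apply eB.injective
      rw [AlgEquiv.apply_symm_apply]
      rfl
    rw [this]
    rfl
  have hk1 : IsNilpotent (RingHom.ker
      ((Ideal.Quotient.mkₐ A I₀ : R' →ₐ[A] R' ⧸ I₀) : R' →+* R' ⧸ I₀)) := by
    have : RingHom.ker ((Ideal.Quotient.mkₐ A I₀ : R' →ₐ[A] R' ⧸ I₀) : R' →+* R' ⧸ I₀) = I₀ := by
      ext x
      rw [RingHom.mem_ker]
      exact Ideal.Quotient.eq_zero_iff_mem
    rw [this]; exact hI₀nil
  have hk2 : IsNilpotent (RingHom.ker (Ideal.Quotient.mkₐ A I₀ : R' →ₐ[A] R' ⧸ I₀)) := by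
    have : RingHom.ker (Ideal.Quotient.mkₐ A I₀ : R' →ₐ[A] R' ⧸ I₀) = I₀ := by
      ext x
      rw [RingHom.mem_ker]
      exact Ideal.Quotient.eq_zero_iff_mem
    rw [this]; exact hI₀nil
  let γ : B →ₐ[A] R' := Algebra.FormallySmooth.liftOfSurjective ψbar (Ideal.Quotient.mkₐ A I₀)
    (Ideal.Quotient.mkₐ_surjective A I₀) hk1
  have hγ : ∀ b, Ideal.Quotient.mk I₀ (γ b) = ψbar b := fun b =>
    Algebra.FormallySmooth.liftOfSurjective_apply ψbar (Ideal.Quotient.mkₐ A I₀)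
      (Ideal.Quotient.mkₐ_surjective A I₀) hk2 b
  refine ⟨γ, ?_⟩
  ext b
  obtain ⟨k, rfl⟩ := hf b
  have h1 : Ideal.Quotient.mk I₀ (γ (f k)) = Ideal.Quotient.mk I₀ (ψ k) := by
    rw [hγ, hψbar]
  have h2 : γ (f k) - ψ k ∈ I₀ := by
    rw [← Ideal.Quotient.eq_zero_iff_mem, map_sub, h1, sub_self]
  have h3 : π (γ (f k) - ψ k) = 0 := hI₀le h2
  rw [map_sub, sub_eq_zero] at h3
  show π (γ (f k)) = β (f k)
  rw [h3]
  exact AlgHom.congr_fun hψ k

omit [Algebra A B] [Algebra A R'] [Algebra A R] in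
/-- ring hom version -/
theorem exists_ringHom_lift (φ : A →+* B) (hφ : φ.Smooth) (π : R' →+* R)
    (hπ : Function.Surjective π) (hnil : RingHom.ker π ≤ nilradical R') (α : A →+* R')
    (β : B →+* R) (hcomm : β.comp φ = π.comp α) :
    ∃ γ : B →+* R', γ.comp φ = α ∧ π.comp γ = β := by
  letI := φ.toAlgebra
  letI := α.toAlgebra
  letI : Algebra A R := (π.comp α).toAlgebra
  haveI : Algebra.Smooth A B := hφ
  haveI : Algebra.FormallySmooth A B := Algebra.Smooth.formallySmooth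
  haveI : Algebra.FinitePresentation A B := Algebra.Smooth.finitePresentation
  let πa : R' →ₐ[A] R := { π with commutes' := fun a => rfl }
  have hβc : ∀ a : A, β (φ a) = π (α a) := fun a => RingHom.congr_fun hcomm a
  let βa : B →ₐ[A] R := { β with commutes' := hβc }
  obtain ⟨γ, hγ⟩ := exists_algHom_lift πa hπ hnil βa
  refine ⟨γ.toRingHom, ?_, ?_⟩
  · ext a
    exact γ.commutes a
  · ext b
    exact AlgHom.congr_fun hγ b

end ring

end Groth.Agent.Helper5.SmLift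

namespace Groth.Agent.Helper5.SmLift

section scheme

variable {V V' UX UY : Scheme.{u}}

/-- restriction to an affine open and the comparison with `Spec` -/
theorem morphismRestrict_isoSpec (j : V ⟶ V') {O : V'.Opens} (hO : IsAffineOpen O)
    (hO' : IsAffineOpen (j ⁻¹ᵁ O)) :
    (j ∣_ O) ≫ hO.isoSpec.hom = hO'.isoSpec.hom ≫ Spec.map (j.app O) := by
  rw [← cancel_mono hO.fromSpec]
  have h1 : hO.isoSpec.hom ≫ hO.fromSpec = O.ι := by
    rw [IsAffineOpen.fromSpec, Iso.hom_inv_id_assoc]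
  have h2 : hO'.isoSpec.hom ≫ hO'.fromSpec = (j ⁻¹ᵁ O).ι := by
    rw [IsAffineOpen.fromSpec, Iso.hom_inv_id_assoc]
  have h3 : Spec.map (j.app O) ≫ hO.fromSpec = hO'.fromSpec ≫ j := by
    have := IsAffineOpen.SpecMap_appLE_fromSpec j hO hO' le_rfl
    rwa [← Scheme.Hom.app_eq_appLE] at this
  rw [Category.assoc, h1, Category.assoc, h3, ← Category.assoc, h2, morphismRestrict_ι]

/-- smooth morphisms lift Zariski locally along thickenings of schemes -/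
theorem exists_local_lift_of_smooth (j : V ⟶ V') [IsClosedImmersion j] [Surjective j]
    (h : UX ⟶ UY) [Smooth h] (a₁ : V ⟶ UX) (b₁ : V' ⟶ UY) (w : a₁ ≫ h = j ≫ b₁) (v' : V') :
    ∃ (O : V'.Opens) (ℓ : (O : Scheme.{u}) ⟶ UX), v' ∈ O ∧ ℓ ≫ h = O.ι ≫ b₁ ∧
      (j ∣_ O) ≫ ℓ = (j ⁻¹ᵁ O).ι ≫ a₁ := by
  obtain ⟨v, rfl⟩ := j.surjective v'
  have hpt : h (a₁ v) = b₁ (j v) := by
    rw [← Scheme.Hom.comp_apply, ← Scheme.Hom.comp_apply, w]
  -- affine opens in `UY`, `UX`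
  obtain ⟨Ao, hAo, hvA⟩ : ∃ Ao : UY.Opens, IsAffineOpen Ao ∧ h (a₁ v) ∈ Ao := by
    obtain ⟨O, hO, hv, -⟩ := (TopologicalSpace.Opens.isBasis_iff_nbhd.mp UY.isBasis_affineOpens)
      (show h (a₁ v) ∈ (⊤ : UY.Opens) from trivial)
    exact ⟨O, hO, hv⟩
  obtain ⟨Bo, hBo, hvB, hBA⟩ : ∃ Bo : UX.Opens, IsAffineOpen Bo ∧ a₁ v ∈ Bo ∧ Bo ≤ h ⁻¹ᵁ Ao := by
    obtain ⟨O, hO, hv, hle⟩ := (TopologicalSpace.Opens.isBasis_iff_nbhd.mp UX.isBasis_affineOpens)
      (show a₁ v ∈ h ⁻¹ᵁ Ao from hvA)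
    exact ⟨O, hO, hv, hle⟩
  -- the open of `V'` corresponding to `a₁⁻¹ Bo`
  have hjcl : IsClosedMap j := j.isClosedEmbedding.isClosedMap
  have hjinj : Function.Injective j := j.isClosedEmbedding.injective
  let O₂ : V'.Opens := ⟨(j '' ((a₁ ⁻¹ᵁ Bo : V.Opens) : Set V)ᶜ)ᶜ,
    (hjcl _ (a₁ ⁻¹ᵁ Bo).isOpen.isClosed_compl).isOpen_compl⟩
  have hO₂ : ∀ z : V, j z ∈ O₂ ↔ a₁ z ∈ Bo := by
    intro z
    constructor
    · intro hz
      by_contra hn
      exact hz ⟨z, hn, rfl⟩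
    · rintro hz ⟨z', hz', hzz⟩
      rw [hjinj hzz] at hz'
      exact hz' hz
  obtain ⟨O, hO, hvO, hOle⟩ : ∃ O : V'.Opens, IsAffineOpen O ∧ j v ∈ O ∧ O ≤ b₁ ⁻¹ᵁ Ao ⊓ O₂ := by
    obtain ⟨O, hO, hv, hle⟩ := (TopologicalSpace.Opens.isBasis_iff_nbhd.mp V'.isBasis_affineOpens)
      (show j v ∈ b₁ ⁻¹ᵁ Ao ⊓ O₂ from ⟨by show b₁ (j v) ∈ Ao; rw [← hpt]; exact hvA,
        (hO₂ v).2 hvB⟩)
    exact ⟨O, hO, hv, hle⟩
  have hO' : IsAffineOpen (j ⁻¹ᵁ O) := hO.preimage j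
  have hOA : O ≤ b₁ ⁻¹ᵁ Ao := hOle.trans inf_le_left
  have hO'B : j ⁻¹ᵁ O ≤ a₁ ⁻¹ᵁ Bo := by
    intro z hz
    exact (hO₂ z).1 (hOle hz).2
  -- the rings
  have hφ : (h.appLE Ao Bo hBA).hom.Smooth := Smooth.smooth_appLE h hAo hBo hBA
  have hπ : Function.Surjective (j.app O).hom := j.app_surjective O hO
  have hnil : RingHom.ker (j.app O).hom ≤ nilradical Γ(V', O) :=
    Groth.Agent.Lead.ThickBC.ker_le_nilradical j ⟨O, hO⟩
  have hcomm : (a₁.appLE Bo (j ⁻¹ᵁ O) hO'B).hom.comp (h.appLE Ao Bo hBA).hom =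
      (j.app O).hom.comp (b₁.appLE Ao O hOA).hom := by
    have key : ∀ (f g : V ⟶ UY) (hfg : f = g) (e₁ : j ⁻¹ᵁ O ≤ f ⁻¹ᵁ Ao) (e₂ : j ⁻¹ᵁ O ≤ g ⁻¹ᵁ Ao),
        f.appLE Ao (j ⁻¹ᵁ O) e₁ = g.appLE Ao (j ⁻¹ᵁ O) e₂ := by
      rintro f g rfl _ _; rfl
    rw [← CommRingCat.hom_comp, ← CommRingCat.hom_comp, Scheme.Hom.appLE_comp_appLE,
      Scheme.Hom.app_eq_appLE, Scheme.Hom.appLE_comp_appLE]
    congr 1
    exact key _ _ w _ _
  obtain ⟨γ, hγ1, hγ2⟩ := exists_ringHom_lift _ hφ _ hπ hnil _ _ hcomm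
  refine ⟨O, hO.isoSpec.hom ≫ Spec.map (CommRingCat.ofHom γ) ≫ hBo.fromSpec, hvO, ?_, ?_⟩
  · have e1 : hBo.fromSpec ≫ h = Spec.map (h.appLE Ao Bo hBA) ≫ hAo.fromSpec :=
      (IsAffineOpen.SpecMap_appLE_fromSpec h hAo hBo hBA).symm
    have e2 : hO.fromSpec ≫ b₁ = Spec.map (b₁.appLE Ao O hOA) ≫ hAo.fromSpec :=
      (IsAffineOpen.SpecMap_appLE_fromSpec b₁ hAo hO hOA).symm
    have e3 : hO.isoSpec.hom ≫ hO.fromSpec = O.ι := by
      rw [IsAffineOpen.fromSpec, Iso.hom_inv_id_assoc]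
    have e4 : Spec.map (CommRingCat.ofHom γ) ≫ Spec.map (h.appLE Ao Bo hBA) =
        Spec.map (b₁.appLE Ao O hOA) := by
      rw [← Spec.map_comp]
      congr 1
      apply CommRingCat.hom_ext
      exact hγ1
    rw [Category.assoc, Category.assoc, e1, ← Category.assoc (Spec.map _), e4, ← e2,
      ← Category.assoc, e3]
  · have e1 : hO'.fromSpec ≫ a₁ = Spec.map (a₁.appLE Bo (j ⁻¹ᵁ O) hO'B) ≫ hBo.fromSpec :=
      (IsAffineOpen.SpecMap_appLE_fromSpec a₁ hBo hO' hO'B).symm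
    have e3 : hO'.isoSpec.hom ≫ hO'.fromSpec = (j ⁻¹ᵁ O).ι := by
      rw [IsAffineOpen.fromSpec, Iso.hom_inv_id_assoc]
    have e4 : Spec.map (j.app O) ≫ Spec.map (CommRingCat.ofHom γ) =
        Spec.map (a₁.appLE Bo (j ⁻¹ᵁ O) hO'B) := by
      rw [← Spec.map_comp]
      congr 1
      apply CommRingCat.hom_ext
      exact hγ2
    rw [← Category.assoc, morphismRestrict_isoSpec j hO hO', Category.assoc,
      ← Category.assoc (Spec.map _), e4, ← e1, ← Category.assoc, e3]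

end scheme

end Groth.Agent.Helper5.SmLift
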