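import Mathlib

/-!
# Smoothness modulo a regular element (local Jacobian criterion)

`L` a local ring, formally smooth over `R` with finite free differentials, `K ≤ K₁ = K + (a)` ideals
with `a` a non-zero-divisor modulo `K`.  If `L ⧸ K₁` is formally smooth over `R`, so is `L ⧸ K`.
-/

set_option autoImplicit false
set_option linter.style.haveILetI false

namespace Groth.Agent.Helper5.SmRegPt
open TensorProduct IsLocalRing KaehlerDifferential

universe u v

section Residue
variable {L : Type u} [CommRing L] [IsLocalRing L] {M : Type v} [AddCommGroup M] [Module L M]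

/-- elements of `k ⊗ M` are pure tensors `1 ⊗ m`. -/
lemma exists_one_tmul (z : ResidueField L ⊗[L] M) : ∃ m : M, z = (1 : ResidueField L) ⊗ₜ[L] m := by
  induction z using TensorProduct.induction_on with
  | zero => exact ⟨0, by simp⟩
  | tmul c m =>
    obtain ⟨c, rfl⟩ := IsLocalRing.residue_surjective c
    refine ⟨c • m, ?_⟩
    rw [← TensorProduct.smul_tmul]
    congr 1
    rw [Algebra.smul_def, mul_one]
    rfl
  | add x y hx hy =>
    obtain ⟨m, rfl⟩ := hx
    obtain ⟨n, rfl⟩ := hy
    exact ⟨m + n, by rw [TensorProduct.tmul_add]⟩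

lemma mem_smul_top_of_one_tmul_eq_zero (m : M)
    (h : (1 : ResidueField L) ⊗ₜ[L] m = 0) : m ∈ maximalIdeal L • (⊤ : Submodule L M) := by
  have h' : (1 : L ⧸ maximalIdeal L) ⊗ₜ[L] m = 0 := h
  have := congrArg (TensorProduct.quotTensorEquivQuotSMul M (maximalIdeal L)) h'
  rw [TensorProduct.quotTensorEquivQuotSMul_mk_one_tmul, map_zero] at this
  exact (Submodule.Quotient.mk_eq_zero _).mp this

lemma one_tmul_eq_zero_of_mem_smul_top (m : M)
    (h : m ∈ maximalIdeal L • (⊤ : Submodule L M)) : (1 : ResidueField L) ⊗ₜ[L] m = 0 := by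
  refine Submodule.smul_induction_on h ?_ ?_
  · intro c hc n _
    rw [← TensorProduct.smul_tmul, Algebra.smul_def, mul_one]
    have : algebraMap L (ResidueField L) c = 0 := (IsLocalRing.residue_eq_zero_iff c).mpr hc
    rw [this, TensorProduct.zero_tmul]
  · intro x y hx hy
    rw [TensorProduct.tmul_add, hx, hy, add_zero]

end Residue

section Incl
variable {L : Type u} [CommRing L] [IsLocalRing L]

theorem lTensor_inclusion_injective (I I₁ : Ideal L) (a : L) (hI₁ : I₁ = I ⊔ Ideal.span {a})
    (hne : I₁ ≠ ⊤) (hreg : ∀ x, a * x ∈ I → x ∈ I) (hle : I ≤ I₁) :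
    Function.Injective (LinearMap.lTensor (ResidueField L) (Submodule.inclusion hle)) := by
  have ha : a ∈ maximalIdeal L := by
    apply IsLocalRing.le_maximalIdeal hne
    rw [hI₁]
    exact Ideal.mem_sup_right (Ideal.mem_span_singleton_self a)
  rw [injective_iff_map_eq_zero]
  intro z hz
  obtain ⟨x, rfl⟩ := exists_one_tmul z
  rw [LinearMap.lTensor_tmul] at hz
  have h1 := mem_smul_top_of_one_tmul_eq_zero _ hz
  rw [Submodule.mem_smul_top_iff] at h1
  have h2 : (x : L) ∈ maximalIdeal L * I₁ := h1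
  rw [hI₁, Ideal.mul_sup] at h2
  obtain ⟨y, hy, w, hw, hyw⟩ := Submodule.mem_sup.mp h2
  obtain ⟨c, hc, rfl⟩ := Ideal.mem_mul_span_singleton.mp hw
  have hyI : y ∈ I := Ideal.mul_le_right hy
  have hca : a * c ∈ I := by
    have : c * a = (x : L) - y := by rw [← hyw]; ring
    rw [mul_comm, this]
    exact I.sub_mem x.2 hyI
  have hcI := hreg c hca
  have hx : (x : L) ∈ maximalIdeal L * I := by
    rw [← hyw]
    refine add_mem hy ?_
    rw [mul_comm c a]
    exact Ideal.mul_mem_mul ha hcI
  apply one_tmul_eq_zero_of_mem_smul_top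
  rw [Submodule.mem_smul_top_iff]
  exact hx

end Incl

section L1
variable {R L : Type u} [CommRing R] [CommRing L] [Algebra R L] [IsLocalRing L]
  [Algebra.FormallySmooth R L] [Module.Free L Ω[L⁄R]] [Module.Finite L Ω[L⁄R]]

/-- the residue field of `L` as an algebra over a proper quotient. -/
noncomputable def quotResidue (K : Ideal L) (hK : K ≠ ⊤) : L ⧸ K →+* ResidueField L :=
  Ideal.Quotient.lift K (IsLocalRing.residue L)
    (fun x hx => (IsLocalRing.residue_eq_zero_iff x).mpr (IsLocalRing.le_maximalIdeal hK hx))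

lemma maximalIdeal_le_ker_quotResidue (K : Ideal L) (hK : K ≠ ⊤) [IsLocalRing (L ⧸ K)] :
    maximalIdeal (L ⧸ K) ≤ RingHom.ker (quotResidue K hK) := by
  intro x hx
  obtain ⟨y, rfl⟩ := Ideal.Quotient.mk_surjective x
  rw [RingHom.mem_ker, quotResidue, Ideal.Quotient.lift_mk, IsLocalRing.residue_eq_zero_iff]
  by_contra hy
  have hu : IsUnit y := by
    rwa [IsLocalRing.mem_maximalIdeal, mem_nonunits_iff, not_not] at hy
  exact hx (hu.map (Ideal.Quotient.mk K))

theorem L1 (K K₁ : Ideal L) (a : L) (hK₁ : K₁ = K ⊔ Ideal.span {a}) (hne : K₁ ≠ ⊤) (hfg : K.FG)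
    (hreg : ∀ x, a * x ∈ K → x ∈ K) (h : Algebra.FormallySmooth R (L ⧸ K₁)) :
    Algebra.FormallySmooth R (L ⧸ K) := by
  have hle : K ≤ K₁ := hK₁ ▸ le_sup_left
  have hKne : K ≠ ⊤ := fun h => hne (top_le_iff.mp (h ▸ hle))
  have hfg₁ : K₁.FG := hK₁ ▸ Submodule.FG.sup hfg (Submodule.fg_span_singleton a)
  haveI : Nontrivial (L ⧸ K) := Ideal.Quotient.nontrivial_iff.mpr hKne
  haveI : Nontrivial (L ⧸ K₁) := Ideal.Quotient.nontrivial_iff.mpr hne
  haveI : IsLocalRing (L ⧸ K) :=
    IsLocalRing.of_surjective' (Ideal.Quotient.mk K) Ideal.Quotient.mk_surjective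
  haveI : IsLocalRing (L ⧸ K₁) :=
    IsLocalRing.of_surjective' (Ideal.Quotient.mk K₁) Ideal.Quotient.mk_surjective
  letI alg : Algebra (L ⧸ K) (ResidueField L) := (quotResidue K hKne).toAlgebra
  letI alg₁ : Algebra (L ⧸ K₁) (ResidueField L) := (quotResidue K₁ hne).toAlgebra
  haveI : IsScalarTower L (L ⧸ K) (ResidueField L) :=
    IsScalarTower.of_algebraMap_eq' (by ext; rfl)
  haveI : IsScalarTower L (L ⧸ K₁) (ResidueField L) :=
    IsScalarTower.of_algebraMap_eq' (by ext; rfl)
  have hs : Function.Surjective (algebraMap L (L ⧸ K)) := Ideal.Quotient.mk_surjective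
  have hs₁ : Function.Surjective (algebraMap L (L ⧸ K₁)) := Ideal.Quotient.mk_surjective
  have hker : RingHom.ker (algebraMap L (L ⧸ K)) = K := by
    rw [Ideal.Quotient.algebraMap_eq, Ideal.mk_ker]
  have hker₁ : RingHom.ker (algebraMap L (L ⧸ K₁)) = K₁ := by
    rw [Ideal.Quotient.algebraMap_eq, Ideal.mk_ker]
  have h3 : maximalIdeal (L ⧸ K) ≤ RingHom.ker (algebraMap (L ⧸ K) (ResidueField L)) :=
    maximalIdeal_le_ker_quotResidue K hKne
  have h3₁ : maximalIdeal (L ⧸ K₁) ≤ RingHom.ker (algebraMap (L ⧸ K₁) (ResidueField L)) :=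
    maximalIdeal_le_ker_quotResidue K₁ hne
  rw [Algebra.FormallySmooth.iff_injective_cotangentComplexBaseChange (R := R) L (ResidueField L)
    hs (by rw [hker]; exact hfg) h3]
  rw [Algebra.FormallySmooth.iff_injective_cotangentComplexBaseChange (R := R) L (ResidueField L)
    hs₁ (by rw [hker₁]; exact hfg₁) h3₁] at h
  have hle' : RingHom.ker (algebraMap L (L ⧸ K)) ≤ RingHom.ker (algebraMap L (L ⧸ K₁)) := by
    rw [hker, hker₁]; exact hle
  have hinj := lTensor_inclusion_injective (RingHom.ker (algebraMap L (L ⧸ K)))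
    (RingHom.ker (algebraMap L (L ⧸ K₁))) a (by rw [hker, hker₁]; exact hK₁)
    (by rw [hker₁]; exact hne) (by rw [hker]; exact hreg) hle'
  have key : ∀ z, cotangentComplexBaseChange R (L ⧸ K) L (ResidueField L) z =
      cotangentComplexBaseChange R (L ⧸ K₁) L (ResidueField L)
        (LinearMap.lTensor (ResidueField L) (Submodule.inclusion hle') z) := by
    intro z
    induction z using TensorProduct.induction_on with
    | zero => simp
    | tmul c b => rfl
    | add x y hx hy => rw [map_add, map_add, map_add, hx, hy]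
  rw [injective_iff_map_eq_zero]
  intro z hz
  rw [key] at hz
  have := (injective_iff_map_eq_zero _).mp h _ hz
  exact (injective_iff_map_eq_zero _).mp hinj _ this

end L1

end Groth.Agent.Helper5.SmRegPt
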