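import Mathlib
import Groth.Agent.Helper5.SmRegPt1
import Groth.Agent.Helper8.RegSeqA

/-!
# Smoothness modulo a regular sequence (local form)
-/

set_option autoImplicit false
set_option linter.style.haveILetI false

namespace Groth.Agent.Helper5.SmRegPt
open TensorProduct IsLocalRing KaehlerDifferential Groth.Agent.Helper8.RegSeqA

universe u

section L2
variable {R L : Type u} [CommRing R] [CommRing L] [Algebra R L] [IsLocalRing L]
  [Algebra.FormallySmooth R L] [Module.Free L Ω[L⁄R]] [Module.Finite L Ω[L⁄R]]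

theorem L2 {O : Type u} [CommRing O] (g : L →+* O) (hg : Function.Surjective g)
    (hKfg : (RingHom.ker g).FG) (rs : List L) :
    ∀ K' : Ideal L, K' = RingHom.ker g ⊔ Ideal.ofList rs → K' ≠ ⊤ → Colon (rs.map g) →
      Algebra.FormallySmooth R (L ⧸ K') → Algebra.FormallySmooth R (L ⧸ RingHom.ker g) := by
  induction rs using List.reverseRecOn with
  | nil =>
    intro K' hK' _ _ h
    rw [Ideal.ofList_nil, sup_bot_eq] at hK'
    subst hK'
    exact h
  | append_singleton l r ih =>
    intro K' hK' hne hcol h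
    have hKl : RingHom.ker g ⊔ Ideal.ofList l = Ideal.comap g (Ideal.ofList (l.map g)) := by
      rw [comap_ofList_map g hg, sup_comm]
    have hK₁ : K' = (RingHom.ker g ⊔ Ideal.ofList l) ⊔ Ideal.span {r} := by
      rw [hK', Ideal.ofList_append, Ideal.ofList_singleton, sup_assoc]
    have hle : RingHom.ker g ⊔ Ideal.ofList l ≤ K' := hK₁ ▸ le_sup_left
    have hne' : RingHom.ker g ⊔ Ideal.ofList l ≠ ⊤ := fun h' => hne (top_le_iff.mp (h' ▸ hle))
    have hfg : (RingHom.ker g ⊔ Ideal.ofList l).FG :=
      Submodule.FG.sup hKfg (Submodule.fg_span (List.finite_toSet l))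
    have hreg : ∀ x, r * x ∈ RingHom.ker g ⊔ Ideal.ofList l →
        x ∈ RingHom.ker g ⊔ Ideal.ofList l := by
      intro x hx
      rw [hKl, Ideal.mem_comap] at hx ⊢
      rw [map_mul] at hx
      exact hcol (l.map g) (g r) [] (by simp) (g x) hx
    have h1 := L1 (R := R) (RingHom.ker g ⊔ Ideal.ofList l) K' r hK₁ hne hfg hreg h
    refine ih _ rfl hne' ?_ h1
    intro l₁ r' l₂ hsplit x hx
    exact hcol l₁ r' (l₂ ++ [g r]) (by rw [List.map_append, hsplit]; simp) x hx

end L2

end Groth.Agent.Helper5.SmRegPt
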