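import Mathlib
import Groth.Agent.Helper5.SmRegPt2

/-!
# Smoothness modulo a regular sequence: essentially finitely presented local algebras
-/

set_option autoImplicit false
set_option linter.style.haveILetI false

namespace Groth.Agent.Helper5.SmRegPt
open TensorProduct IsLocalRing KaehlerDifferential Groth.Agent.Helper8.RegSeqA

universe u

theorem ring_main {R A O O' : Type u} [CommRing R] [CommRing A] [CommRing O] [CommRing O']
    [Algebra R A] [Algebra.FinitePresentation R A] [Algebra A O] [Algebra R O]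
    [IsScalarTower R A O] (q : Ideal A) [q.IsPrime] [IsLocalization.AtPrime O q]
    [Algebra R O'] (ψ : O →ₐ[R] O') (hψ : Function.Surjective ψ) (rs : List O)
    (hcol : Colon rs) (hne : Ideal.ofList rs ≠ ⊤) (hker : RingHom.ker ψ = Ideal.ofList rs)
    (hsm : Algebra.FormallySmooth R O') : Algebra.FormallySmooth R O := by
  obtain ⟨n, f₀, hf₀⟩ := Algebra.FiniteType.iff_quotient_mvPolynomial''.mp
    (inferInstance : Algebra.FiniteType R A)
  let M := q.primeCompl
  let q' : Ideal (MvPolynomial (Fin n) R) := q.comap (f₀ : MvPolynomial (Fin n) R →+* A)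
  haveI : q'.IsPrime := Ideal.comap_isPrime _ _
  let P' := Localization.AtPrime q'
  let fP : P' →ₐ[R] O := IsLocalization.liftAlgHom (M := q'.primeCompl)
      (f := (IsScalarTower.toAlgHom R A O).comp f₀) fun x ↦ by
    have hx : f₀ x.1 ∈ q.primeCompl := x.2
    simpa using IsLocalization.map_units (M := q.primeCompl) O ⟨f₀ x.1, hx⟩
  have hf₁ : Function.Surjective fP := by
    intro x
    obtain ⟨x, ⟨s, hs⟩, rfl⟩ := IsLocalization.exists_mk'_eq M x
    obtain ⟨x, rfl⟩ := hf₀ x
    obtain ⟨s, rfl⟩ := hf₀ s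
    refine ⟨IsLocalization.mk' (M := q'.primeCompl) _ x ⟨s, hs⟩, ?_⟩
    simp [fP, IsLocalization.lift_mk', Units.mul_inv_eq_iff_eq_mul, IsUnit.liftRight]
  have hfP : (RingHom.ker fP).FG := by
    have := Algebra.FinitePresentation.ker_fG_of_surjective _ hf₀
    convert! this.map (algebraMap _ P')
    refine le_antisymm ?_ (Ideal.map_le_iff_le_comap.mpr fun x hx ↦ by simp_all [fP])
    intro x hx
    obtain ⟨x, s, rfl⟩ := IsLocalization.exists_mk'_eq q'.primeCompl x
    obtain ⟨a, ha, e⟩ : ∃ a ∈ M, a * f₀ x = 0 := by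
      simpa [fP, IsLocalization.lift_mk', IsLocalization.map_eq_zero_iff M] using hx
    obtain ⟨a, rfl⟩ := hf₀ a
    rw [IsLocalization.mk'_mem_map_algebraMap_iff]
    exact ⟨a, ha, by simpa⟩
  have : Algebra.FormallyEtale (MvPolynomial (Fin n) R) P' := .of_isLocalization q'.primeCompl
  have : Algebra.FormallySmooth R P' := .comp _ (MvPolynomial (Fin n) R) _
  have : Module.Free P' Ω[P'⁄R] :=
    .of_equiv (KaehlerDifferential.tensorKaehlerEquivOfFormallyEtale R (MvPolynomial (Fin n) R) P')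
  -- lift the regular sequence
  obtain ⟨rs', hrs'⟩ := exists_map_eq (fP : P' →+* O) hf₁ rs
  subst hrs'
  let Φ : P' →ₐ[R] O' := ψ.comp fP
  have hΦ : Function.Surjective Φ := hψ.comp hf₁
  have hK' : RingHom.ker Φ = RingHom.ker (fP : P' →+* O) ⊔ Ideal.ofList rs' := by
    have : RingHom.ker Φ = Ideal.comap (fP : P' →+* O) (RingHom.ker ψ) := by
      ext x
      simp [Φ, RingHom.mem_ker]
    rw [this, hker, comap_ofList_map (fP : P' →+* O) hf₁ rs', sup_comm]
  have hne' : RingHom.ker Φ ≠ ⊤ := by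
    intro htop
    apply hne
    rw [← hker, Ideal.eq_top_iff_one, RingHom.mem_ker]
    have h1 : (1 : P') ∈ RingHom.ker Φ := by rw [htop]; trivial
    rw [RingHom.mem_ker] at h1
    simpa [Φ] using h1
  have hsm' : Algebra.FormallySmooth R (P' ⧸ RingHom.ker Φ) :=
    Algebra.FormallySmooth.of_equiv (Ideal.quotientKerAlgEquivOfSurjective hΦ).symm
  have h2 := L2 (R := R) (fP : P' →+* O) hf₁ hfP rs' (RingHom.ker Φ) hK' hne' hcol hsm'
  have e : (P' ⧸ RingHom.ker (fP : P' →+* O)) ≃ₐ[R] O :=
    Ideal.quotientKerAlgEquivOfSurjective hf₁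
  exact Algebra.FormallySmooth.of_equiv (A := P' ⧸ RingHom.ker (fP : P' →+* O)) e

end Groth.Agent.Helper5.SmRegPt
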