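import Mathlib
import Groth.Prelude
import Groth.Agent.Helper5.SmRegPt3

/-!
# Smoothness at a point of the ambient scheme from a smooth, regularly immersed subscheme
-/

set_option autoImplicit false
set_option linter.style.haveILetI false

namespace Groth.Agent.Helper5.SmRegPt
open AlgebraicGeometry CategoryTheory TopologicalSpace Groth.Agent.Helper8.RegSeqA
open RingTheory.Sequence

universe u

theorem backward {X S Y : Scheme.{u}} (f : X ⟶ S) [LocallyOfFinitePresentation f]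
    (ι : Y ⟶ X) [SurjectiveOnStalks ι] (x : Y)
    (hY : ((ι ≫ f).stalkMap x).hom.FormallySmooth)
    (rs : List (X.presheaf.stalk (ι x))) (hreg : IsRegular (X.presheaf.stalk (ι x)) rs)
    (hker : RingHom.ker (ι.stalkMap x).hom = Ideal.ofList rs) :
    (f.stalkMap (ι x)).hom.FormallySmooth := by
  obtain ⟨_, ⟨W, hW, rfl⟩, hxW, -⟩ :=
    S.isBasis_affineOpens.exists_subset_of_mem_open (Set.mem_univ (f (ι x))) isOpen_univ
  obtain ⟨_, ⟨U, hU, rfl⟩, hxU, hUW⟩ :=
    X.isBasis_affineOpens.exists_subset_of_mem_open hxW (W.2.preimage f.continuous)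
  have hle : U ≤ f ⁻¹ᵁ W := hUW
  have hfp := f.finitePresentation_appLE hW hU hle
  letI algRA : Algebra Γ(S, W) Γ(X, U) := (f.appLE W U hle).hom.toAlgebra
  haveI : Algebra.FinitePresentation Γ(S, W) Γ(X, U) := hfp
  letI algAO : Algebra Γ(X, U) (X.presheaf.stalk (ι x)) :=
    X.presheaf.algebra_section_stalk ⟨ι x, hxU⟩
  haveI locO := hU.isLocalization_stalk ⟨ι x, hxU⟩
  letI algRR₀ : Algebra Γ(S, W) (S.presheaf.stalk (f (ι x))) :=
    S.presheaf.algebra_section_stalk ⟨f (ι x), hxW⟩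
  haveI locR₀ := hW.isLocalization_stalk ⟨f (ι x), hxW⟩
  letI algR₀O : Algebra (S.presheaf.stalk (f (ι x))) (X.presheaf.stalk (ι x)) :=
    (f.stalkMap (ι x)).hom.toAlgebra
  letI algRO : Algebra Γ(S, W) (X.presheaf.stalk (ι x)) :=
    ((algebraMap Γ(X, U) (X.presheaf.stalk (ι x))).comp (algebraMap Γ(S, W) Γ(X, U))).toAlgebra
  haveI : IsScalarTower Γ(S, W) Γ(X, U) (X.presheaf.stalk (ι x)) :=
    IsScalarTower.of_algebraMap_eq' rfl
  haveI : IsScalarTower Γ(S, W) (S.presheaf.stalk (f (ι x))) (X.presheaf.stalk (ι x)) := by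
    refine IsScalarTower.of_algebraMap_eq' ?_
    ext a
    simp only [RingHom.algebraMap_toAlgebra, Scheme.Hom.appLE,
      homOfLE_leOfHom, CommRingCat.hom_comp, RingHom.coe_comp, Function.comp_apply,
      X.presheaf.germ_res_apply]
    erw [Scheme.Hom.germ_stalkMap_apply]
  letI algOO' : Algebra (X.presheaf.stalk (ι x)) (Y.presheaf.stalk x) :=
    (ι.stalkMap x).hom.toAlgebra
  letI algR₀O' : Algebra (S.presheaf.stalk (f (ι x))) (Y.presheaf.stalk x) :=
    ((ι ≫ f).stalkMap x).hom.toAlgebra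
  haveI : IsScalarTower (S.presheaf.stalk (f (ι x))) (X.presheaf.stalk (ι x))
      (Y.presheaf.stalk x) := by
    refine IsScalarTower.of_algebraMap_eq' ?_
    change ((ι ≫ f).stalkMap x).hom = (ι.stalkMap x).hom.comp (f.stalkMap (ι x)).hom
    rw [Scheme.Hom.stalkMap_comp]
    rfl
  letI algRO' : Algebra Γ(S, W) (Y.presheaf.stalk x) :=
    ((algebraMap (S.presheaf.stalk (f (ι x))) (Y.presheaf.stalk x)).comp
      (algebraMap Γ(S, W) (S.presheaf.stalk (f (ι x))))).toAlgebra
  haveI : IsScalarTower Γ(S, W) (S.presheaf.stalk (f (ι x))) (Y.presheaf.stalk x) :=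
    IsScalarTower.of_algebraMap_eq' rfl
  haveI : IsScalarTower Γ(S, W) (X.presheaf.stalk (ι x)) (Y.presheaf.stalk x) := by
    refine IsScalarTower.of_algebraMap_eq' ?_
    ext a
    rw [IsScalarTower.algebraMap_apply Γ(S, W) (S.presheaf.stalk (f (ι x))) (Y.presheaf.stalk x),
      IsScalarTower.algebraMap_apply (S.presheaf.stalk (f (ι x))) (X.presheaf.stalk (ι x))
        (Y.presheaf.stalk x), RingHom.comp_apply,
      ← IsScalarTower.algebraMap_apply Γ(S, W) (S.presheaf.stalk (f (ι x)))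
        (X.presheaf.stalk (ι x))]
  haveI : Algebra.FormallySmooth (S.presheaf.stalk (f (ι x))) (Y.presheaf.stalk x) := hY
  haveI : Algebra.FormallyEtale Γ(S, W) (S.presheaf.stalk (f (ι x))) :=
    Algebra.FormallyEtale.of_isLocalization (hW.primeIdealOf ⟨f (ι x), hxW⟩).asIdeal.primeCompl
  haveI hsm : Algebra.FormallySmooth Γ(S, W) (Y.presheaf.stalk x) :=
    Algebra.FormallySmooth.comp Γ(S, W) (S.presheaf.stalk (f (ι x))) (Y.presheaf.stalk x)
  let ψ : (X.presheaf.stalk (ι x)) →ₐ[Γ(S, W)] (Y.presheaf.stalk x) :=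
    IsScalarTower.toAlgHom Γ(S, W) (X.presheaf.stalk (ι x)) (Y.presheaf.stalk x)
  have hψ : Function.Surjective ψ := ι.stalkMap_surjective x
  obtain ⟨hcol, hne⟩ := (isRegular_iff_colon rs).mp hreg
  have hkerψ : RingHom.ker ψ = Ideal.ofList rs := hker
  have key := ring_main (R := Γ(S, W)) (A := Γ(X, U)) (O := X.presheaf.stalk (ι x))
    (O' := Y.presheaf.stalk x) (hU.primeIdealOf ⟨ι x, hxU⟩).asIdeal ψ hψ rs hcol hne hkerψ hsm
  exact (Algebra.FormallySmooth.iff_restrictScalars (R := Γ(S, W))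
    (A := S.presheaf.stalk (f (ι x))) (B := X.presheaf.stalk (ι x))).mp key

end Groth.Agent.Helper5.SmRegPt
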