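import Mathlib
import Groth.Agent.Helper5.SyntReg1

/-!
# A closed immersion of a syntomic scheme into a smooth scheme is regular: the relative case
-/

set_option autoImplicit false
set_option linter.style.haveILetI false
set_option linter.unusedSectionVars false
set_option linter.unusedVariables false
universe u
open CategoryTheory CategoryTheory.Limits AlgebraicGeometry TopologicalSpace IsLocalRing

namespace Groth.Agent.Helper5.SyntReg

theorem main {X Y S : Scheme.{u}} (p : X ⟶ S) [Smooth p] (i : Y ⟶ X)
    [IsClosedImmersion i] (hY : CInt.IsCIMorphism (i ≫ p)) : Mor2.IsRegularClosedImmersion i := by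
  obtain ⟨hfl, hfp, hci⟩ := hY
  haveI := hfl
  haveI := hfp
  refine ((Groth.Agent.Helper3.FibReg.s2890 i p).2 ⟨fun y => Flat.stalkMap p (i y), hfl,
    fun s => ?_⟩).2
  have hpb := Groth.Agent.Helper3.FibReg.isPullback_fiberMap i p s
  haveI : IsClosedImmersion (CInt.fiberMap i p s) :=
    MorphismProperty.of_isPullback (P := @IsClosedImmersion) hpb inferInstance
  haveI : Smooth (p.fiberToSpecResidueField s) :=
    MorphismProperty.pullback_snd (P := @Smooth) _ _ inferInstance
  haveI : IsLocallyNoetherian (p.fiber s) :=
    LocallyOfFiniteType.isLocallyNoetherian (p.fiberToSpecResidueField s)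
  apply regularClosed_of_ci_into_regular
  · intro x
    exact Groth.Agent.Helper2.SmoothRegSch.stalk_regular_of_smooth (S.residueField s) (p.fiber s)
      (p.fiberToSpecResidueField s) x
  · intro z
    obtain ⟨e⟩ := Groth.Agent.Helper5.CMAff.fibre_stalk_equiv_asFiber (i ≫ p) s z
    have h1 := hci ((i ≫ p).fiberι s z)
    haveI : LocallyOfFiniteType (i ≫ p) := inferInstance
    haveI : LocallyOfFiniteType ((i ≫ p).fiberToSpecResidueField s) :=
      MorphismProperty.pullback_snd (P := @LocallyOfFiniteType) _ _ inferInstance
    haveI : IsLocallyNoetherian ((i ≫ p).fiber s) :=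
      LocallyOfFiniteType.isLocallyNoetherian ((i ≫ p).fiberToSpecResidueField s)
    haveI : LocallyOfFiniteType
        ((i ≫ p).fiberToSpecResidueField ((i ≫ p) ((i ≫ p).fiberι s z))) :=
      MorphismProperty.pullback_snd (P := @LocallyOfFiniteType) _ _ inferInstance
    haveI : IsLocallyNoetherian ((i ≫ p).fiber ((i ≫ p) ((i ≫ p).fiberι s z))) :=
      LocallyOfFiniteType.isLocallyNoetherian
        ((i ≫ p).fiberToSpecResidueField ((i ≫ p) ((i ≫ p).fiberι s z)))
    exact Groth.Agent.Helper7.CKd.isCI_of_ringEquiv e.symm h1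

end Groth.Agent.Helper5.SyntReg
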