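import Mathlib
import Groth.Prelude
import Groth.Agent.Helper5.SmRegPt4
import Groth.Agent.Helper5.SyntReg2
import Groth.Agent.Helper5.SmSynt1
import Groth.Agent.Helper5.CIOpen4
import Groth.Agent.Helper8.RegSeqB

/-!
# SGA 1 II 4.10: smooth subscheme, ambient scheme smooth at `x` iff the immersion is regular at `x`
-/

set_option autoImplicit false
set_option linter.style.haveILetI false

namespace Groth.Agent.Helper5.SmRegPt
open AlgebraicGeometry CategoryTheory TopologicalSpace Groth.Agent.Helper8.RegSeqA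
open Groth.Agent.Helper8.RegSeqB RingTheory.Sequence

universe u

theorem forward {X S Y : Scheme.{u}} (f : X ⟶ S) [LocallyOfFinitePresentation f]
    (ι : Y ⟶ X) [IsClosedImmersion ι] [LocallyOfFinitePresentation (ι ≫ f)] (x : Y)
    (hY : x ∈ (ι ≫ f).smoothLocus) (hX : ι x ∈ f.smoothLocus) :
    ∃ rs : List (X.presheaf.stalk (ι x)), IsRegular (X.presheaf.stalk (ι x)) rs ∧
      RingHom.ker (ι.stalkMap x).hom = Ideal.ofList rs := by
  obtain ⟨V2', hV2'⟩ : ∃ V2' : X.Opens, ι ⁻¹ᵁ V2' = (ι ≫ f).smoothLocus := by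
    obtain ⟨t, ht, hts⟩ := ι.isEmbedding.isInducing.isOpen_iff.mp ((ι ≫ f).smoothLocus.2)
    exact ⟨⟨t, ht⟩, Opens.ext hts⟩
  let V : X.Opens := f.smoothLocus ⊓ V2'
  have hyV : ι x ∈ V := by
    refine ⟨hX, ?_⟩
    have : x ∈ ι ⁻¹ᵁ V2' := by rw [hV2']; exact hY
    exact this
  haveI : Smooth (V.ι ≫ f) := by
    rw [← Scheme.Hom.smoothLocus_eq_top_iff, ← Scheme.Hom.preimage_smoothLocus_eq]
    ext z
    simp only [Scheme.Hom.coe_preimage, Set.mem_preimage, SetLike.mem_coe, Opens.coe_top,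
      Set.mem_univ, iff_true]
    exact z.2.1
  have hcomp : (ι ∣_ V) ≫ V.ι ≫ f = (ι ⁻¹ᵁ V).ι ≫ ι ≫ f := by
    rw [← Category.assoc, morphismRestrict_ι, Category.assoc]
  haveI : Smooth ((ι ∣_ V) ≫ V.ι ≫ f) := by
    rw [hcomp, ← Scheme.Hom.smoothLocus_eq_top_iff, ← Scheme.Hom.preimage_smoothLocus_eq]
    ext z
    simp only [Scheme.Hom.coe_preimage, Set.mem_preimage, SetLike.mem_coe, Opens.coe_top,
      Set.mem_univ, iff_true]
    have hz : (ι ⁻¹ᵁ V).ι z ∈ ι ⁻¹ᵁ V2' := z.2.2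
    rw [hV2'] at hz
    exact hz
  have hci : CInt.IsCIMorphism ((ι ∣_ V) ≫ V.ι ≫ f) :=
    (Groth.Agent.Helper5.CIOpen.isSyntomicMor_iff_isCIMorphism _).mp
      (Groth.Agent.Helper5.SmSynt.s9699 _)
  have hreg := Groth.Agent.Helper5.SyntReg.main (V.ι ≫ f) (ι ∣_ V) hci
  have hRA := (exists_restrict_iff_regAt ι x).mp ⟨V, hyV, hreg⟩
  exact stalk_of_regAt ι x hRA

theorem main {X S : Scheme.{u}} (f : X ⟶ S)
    [LocallyOfFinitePresentation f] (I : X.IdealSheafData)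
    [LocallyOfFinitePresentation (I.subschemeι ≫ f)] (x : ↥I.subscheme)
    (hY : x ∈ (I.subschemeι ≫ f).smoothLocus) :
    I.subschemeι.base x ∈ f.smoothLocus ↔
      CInt.IsRegularIdeal (RingHom.ker (I.subschemeι.stalkMap x).hom) := by
  constructor
  · intro hX
    obtain ⟨rs, hrs, hker⟩ := forward f I.subschemeι x hY hX
    exact ⟨rs, hrs, hker.symm⟩
  · rintro ⟨rs, hrs, hker⟩
    exact backward f I.subschemeι x hY rs hrs hker.symm

end Groth.Agent.Helper5.SmRegPt
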