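import Mathlib
import Groth.Agent.Helper3.SepClosedPts
import Groth.Agent.Helper4.GeomIrrGen
import Groth.Agent.Helper5.GeomRed

/-!
# S10490: points with finite separable residue field are dense in a smooth algebraic space over a
field
-/

set_option autoImplicit false
set_option linter.style.haveILetI false
set_option linter.unusedVariables false
universe u

namespace Groth.Agent.Helper5.SmSepPts

open CategoryTheory CategoryTheory.Limits AlgebraicGeometry Opposite AlgSp

attribute [local instance] Curv2.resAlgebra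

variable {S : Scheme.{u}}

/-- replacing the structure morphism of a field point by an equal one -/
theorem exists_val_of_str_eq {F : Sp S} (p : FieldPt F)
    (s' : Spec (CommRingCat.of p.K) ⟶ S) (h : s' = p.str) :
    ∃ v : F.obj.obj (op (Over.mk s')), (⟨p.K, s', v⟩ : FieldPt F) = p := by
  subst h
  exact ⟨p.val, rfl⟩

set_option backward.isDefEq.respectTransparency.types false in
theorem s10490 (k : Type u) [Field k] (X : AlgSp.Space (Spec (CommRingCat.of k))) (p : X.obj ⟶ (AlgSp.yon (Spec (CommRingCat.of k))).obj (Over.mk (𝟙 _))) (hp : AlgSp.LocP @Smooth p) :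
    Dense {x : AlgSp.Points X.obj | ∃ (k' : Type u) (_ : Field k') (_ : Algebra k k'),
      Module.Finite k k' ∧ Algebra.IsSeparable k k' ∧
        ∃ v : X.obj.obj.obj (Opposite.op (Over.mk (Spec.map (CommRingCat.ofHom (algebraMap k k'))))),
          AlgSp.Points.mk ⟨k', Spec.map (CommRingCat.ofHom (algebraMap k k')), v⟩ = x} := by
  rw [dense_iff_inter_open]
  rintro O hO ⟨x₀, hx₀⟩
  obtain ⟨U, a, u₀, ha, hu₀⟩ := Groth.Agent.Helper5.GeomRed.exists_chart_point X.property x₀
  letI : U.left.Over (Spec (CommRingCat.of k)) := ⟨U.hom⟩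
  -- `U` is smooth over `k`
  let h : U ⟶ Over.mk (𝟙 (Spec (CommRingCat.of k))) := Over.homMk U.hom
  have comm : a ≫ p = (yon _).map h ≫ 𝟙 _ := by
    rw [Category.comp_id]
    obtain ⟨m, hm⟩ := (yon _).map_surjective (a ≫ p)
    rw [← hm]
    congr 1
    exact Over.mkIdTerminal.hom_ext _ _
  haveI hsm : Smooth (U.left ↘ Spec (CommRingCat.of k)) :=
    hp a (𝟙 _) h ha (repWith_id _ _) comm
  have hdense := Groth.Agent.Helper3.SepClosedPts.main k U.left
  have hopen : IsOpen (Points.ofPt a ⁻¹' O) := hO.preimage (Points.continuous_ofPt a)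
  obtain ⟨u', hu'O, -, hfin, hsep⟩ :=
    hdense.inter_open_nonempty _ hopen ⟨u₀, by show Points.ofPt a u₀ ∈ O; rw [hu₀]; exact hx₀⟩
  refine ⟨Points.ofPt a u', hu'O, ?_⟩
  have hstr : Spec.map (CommRingCat.ofHom (algebraMap k (U.left.residueField u'))) =
      (FieldPt.ofPt a u').str :=
    Groth.Agent.Helper4.GeomIrrGen.specMap_resMap (k := k) u'
  obtain ⟨v, hv⟩ := exists_val_of_str_eq (FieldPt.ofPt a u') _ hstr
  refine ⟨U.left.residueField u', inferInstance, inferInstance, hfin, hsep, v, ?_⟩
  exact congrArg Points.mk hv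

end Groth.Agent.Helper5.SmSepPts
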