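import Groth.Agent.Helper5.SpCoprod2
import Mathlib

set_option autoImplicit false
set_option linter.style.haveILetI false
set_option linter.unusedSectionVars false
set_option linter.unusedVariables false
universe u
open CategoryTheory CategoryTheory.Limits AlgebraicGeometry Opposite

namespace Groth.Agent.Helper5.SpCoprod

open AlgSp Groth.Agent.Helper5.ZarGlue

variable {S : Scheme.{u}}

/-- the index scheme `∐_ι S` -/
noncomputable def idx (ι : Type u) (S : Scheme.{u}) : Over S :=
  Groth.Agent.Helper5.YonCoprod.sigmaOver (fun _ : ι => Over.mk (𝟙 S))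

/-- the inclusions into the index scheme -/
noncomputable def idxι {ι : Type u} (i : ι) : Over.mk (𝟙 S) ⟶ idx ι S :=
  Groth.Agent.Helper5.YonCoprod.sigmaι (fun _ : ι => Over.mk (𝟙 S)) i

theorem idxι_left {ι : Type u} (i : ι) :
    (idxι (S := S) i).left = Sigma.ι (fun _ : ι => S) i := rfl

instance {ι : Type u} (i : ι) : IsOpenImmersion (idxι (S := S) i).left :=
  (inferInstance : IsOpenImmersion (Sigma.ι (fun _ : ι => S) i))

instance {ι : Type u} (i : ι) : IsClosedImmersion (idxι (S := S) i).left :=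
  (IsClosedImmersion.of_isPreimmersion (Sigma.ι (fun _ : ι => S) i)
    (isClosed_range_sigmaι _ i) : IsClosedImmersion (Sigma.ι (fun _ : ι => S) i))

instance {ι : Type u} (i : ι) : Mono (idxι (S := S) i) := by
  haveI : Mono ((Over.forget S).map (idxι (S := S) i)) :=
    inferInstanceAs (Mono (idxι (S := S) i).left)
  exact (Over.forget S).mono_of_mono_map this

theorem isEmpty_of_ne {ι : Type u} {V : Over S} {i j : ι} (hij : i ≠ j)
    (v w : V ⟶ Over.mk (𝟙 S)) (h : v ≫ idxι i = w ≫ idxι j) : IsEmpty V.left := by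
  have h' : v.left ≫ Sigma.ι (fun _ : ι => S) i = w.left ≫ Sigma.ι (fun _ : ι => S) j :=
    congrArg (fun t => t.left) h
  exact isEmpty_of_commSq_sigmaι_of_ne ⟨h'⟩ hij

section Cofan

variable {ι : Type u} {F : ι → Sp S} (c : Cofan F) (hc : IsColimit c)

/-- the characteristic map of a coproduct -/
noncomputable def chi : c.pt ⟶ (yon S).obj (idx ι S) :=
  Cofan.IsColimit.desc hc (fun i => toOne (F i) ≫ (yon S).map (idxι i))

theorem inj_chi (i : ι) : c.inj i ≫ chi c hc = toOne (F i) ≫ (yon S).map (idxι i) :=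
  Cofan.IsColimit.fac hc _ i

include hc in
theorem mono_inj (i : ι) : Mono (c.inj i) := MonoCoprod.mono_inj F c hc i

include hc in
theorem isEmpty_of_inj_eq {V : Over S} {i j : ι} (hij : i ≠ j) (a : (yon S).obj V ⟶ F i)
    (b : (yon S).obj V ⟶ F j) (h : a ≫ c.inj i = b ≫ c.inj j) : IsEmpty V.left := by
  have h1 : (a ≫ c.inj i) ≫ chi c hc = (b ≫ c.inj j) ≫ chi c hc := by rw [h]
  rw [Category.assoc, Category.assoc, inj_chi, inj_chi, ← Category.assoc, ← Category.assoc,
    comp_toOne, comp_toOne, ← Functor.map_comp, ← Functor.map_comp] at h1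
  exact isEmpty_of_ne hij _ _ ((yon S).map_injective h1)

include hc in
/-- local lifting to the summands -/
theorem local_lift (T : Over S) (s : (yon S).obj T ⟶ c.pt) :
    ∃ R ∈ J S T, ∀ ⦃V : Over S⦄ (γ : V ⟶ T),
      R γ → ∃ (i : ι) (a : (yon S).obj V ⟶ F i), (yon S).map γ ≫ s = a ≫ c.inj i := by
  have e : Cofan.IsColimit.desc hc (fun i => c.inj i) = 𝟙 c.pt := by
    apply Cofan.IsColimit.hom_ext hc
    intro i
    rw [Cofan.IsColimit.fac, Category.comp_id]
  exact exists_local_lift (fun i => c.inj i) c hc (by rw [e]; infer_instance) T s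

end Cofan

end Groth.Agent.Helper5.SpCoprod
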