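import Groth.Agent.Helper5.SpCoprod3
import Groth.Agent.Helper5.GrpLoc2
import Mathlib

set_option autoImplicit false
set_option linter.style.haveILetI false
set_option linter.unusedSectionVars false
set_option linter.unusedVariables false
universe u
open CategoryTheory CategoryTheory.Limits AlgebraicGeometry Opposite

namespace Groth.Agent.Helper5.SpCoprod

open AlgSp Groth.Agent.Helper5.ZarGlue

variable {S : Scheme.{u}}

section Cofan

variable {ι : Type u} {F : ι → Sp S} (c : Cofan F) (hc : IsColimit c)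

include hc in
/-- the base change of a coproduct inclusion to a scheme is an open and closed subscheme -/
theorem exists_piece {T : Over S} (g : (yon S).obj T ⟶ c.pt) (i : ι) :
    ∃ (Ti : Over S) (ti : Ti ⟶ T) (gi : (yon S).obj Ti ⟶ F i),
      IsPullback gi ((yon S).map ti) (c.inj i) g ∧ IsOpenImmersion ti.left ∧
      IsClosedImmersion ti.left ∧
      ∃ (τ : T ⟶ idx ι S) (vi : Ti ⟶ Over.mk (𝟙 S)), (yon S).map τ = g ≫ chi c hc ∧
        IsPullback ti vi τ (idxι i) := by
  obtain ⟨τ, hτ⟩ := (yon S).map_surjective (g ≫ chi c hc)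
  haveI := mono_inj c hc i
  obtain ⟨Ti, ti, vi, sq⟩ : ∃ (Ti : Over S) (ti : Ti ⟶ T) (vi : Ti ⟶ Over.mk (𝟙 S)),
      IsPullback ti vi τ (idxι i) := ⟨_, _, _, IsPullback.of_hasPullback τ (idxι i)⟩
  have sqL : IsPullback ti.left vi.left τ.left (idxι (S := S) i).left :=
    Groth.Agent.Helper5.GeomFibSp.isPullback_left sq
  have hoi : IsOpenImmersion ti.left :=
    MorphismProperty.of_isPullback (P := @IsOpenImmersion) sqL.flip inferInstance
  have hci : IsClosedImmersion ti.left :=
    MorphismProperty.of_isPullback (P := @IsClosedImmersion) sqL.flip inferInstance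
  haveI : Mono ti := by
    haveI : Mono ((Over.forget S).map ti) := inferInstanceAs (Mono ti.left)
    exact (Over.forget S).mono_of_mono_map this
  haveI : Mono ((yon S).map ti) := Groth.Agent.Helper4.AlgSpOpenImage.mono_yon_map ti
  -- the lift
  obtain ⟨gi, hgi⟩ : ∃ gi : (yon S).obj Ti ⟶ F i, gi ≫ c.inj i = (yon S).map ti ≫ g := by
    obtain ⟨R, hR, hR'⟩ := local_lift c hc Ti ((yon S).map ti ≫ g)
    refine exists_lift_of_local_lift (c.inj i) _ R hR (fun V γ hγ => ?_)
    obtain ⟨j, a, ha⟩ := hR' γ hγ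
    by_cases hji : j = i
    · subst hji
      exact ⟨a, ha.symm⟩
    · have h1 : ((yon S).map γ ≫ (yon S).map ti ≫ g) ≫ chi c hc = (a ≫ c.inj j) ≫ chi c hc := by
        rw [ha]
      rw [Category.assoc, Category.assoc, ← hτ, Category.assoc, inj_chi, ← Category.assoc a,
        comp_toOne, ← Functor.map_comp, ← Functor.map_comp, ← Functor.map_comp, sq.w,
        ← Category.assoc] at h1
      haveI : IsEmpty V.left := isEmpty_of_ne (Ne.symm hji) _ _ ((yon S).map_injective h1)
      obtain ⟨a', -⟩ := existsUnique_hom_of_isEmpty (F i) V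
      obtain ⟨b, hb⟩ := existsUnique_hom_of_isEmpty c.pt V
      exact ⟨a', (hb _).trans (hb _).symm⟩
  refine ⟨Ti, ti, gi, ?_, hoi, hci, τ, vi, hτ, sq⟩
  -- the pullback property
  have key : ∀ s : PullbackCone (c.inj i) g, ∃ l : s.pt ⟶ (yon S).obj Ti,
      l ≫ (yon S).map ti = s.snd := by
    intro s
    apply Groth.Agent.Helper4.AlgSpOpenImage.exists_lift_of_mono
    intro U σ'
    obtain ⟨u₀, hu₀⟩ := (yon S).map_surjective (σ' ≫ s.snd)
    have e1 : (σ' ≫ s.fst) ≫ toOne (F i) =
        (yon S).map (Over.homMk U.hom : U ⟶ Over.mk (𝟙 S)) := comp_toOne _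
    have h1 : (yon S).map (u₀ ≫ τ) =
        (yon S).map ((Over.homMk U.hom : U ⟶ Over.mk (𝟙 S)) ≫ idxι i) := by
      calc (yon S).map (u₀ ≫ τ) = (σ' ≫ s.snd) ≫ g ≫ chi c hc := by
            rw [Functor.map_comp, hu₀, hτ]
        _ = σ' ≫ (s.fst ≫ c.inj i) ≫ chi c hc := by
            rw [s.condition]; simp only [Category.assoc]
        _ = ((σ' ≫ s.fst) ≫ toOne (F i)) ≫ (yon S).map (idxι i) := by
            simp only [Category.assoc, inj_chi]
        _ = _ := by rw [e1, Functor.map_comp]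
    have h2 := (yon S).map_injective h1
    refine ⟨(yon S).map (sq.lift u₀ _ h2), ?_⟩
    rw [← Functor.map_comp, sq.lift_fst, hu₀]
  choose l hl using key
  refine ⟨⟨hgi⟩, ⟨PullbackCone.IsLimit.mk _ l ?_ hl ?_⟩⟩
  · intro s
    rw [← cancel_mono (c.inj i), Category.assoc, hgi, ← Category.assoc, hl, s.condition]
  · intro s m _ hm2
    rw [← cancel_mono ((yon S).map ti), hm2, hl]

include hc in
theorem repWith_inj (i : ι) : RepWith (@IsOpenImmersion ⊓ @IsClosedImmersion) (c.inj i) := by
  haveI : (@IsOpenImmersion ⊓ @IsClosedImmersion : MorphismProperty Scheme.{u}).RespectsIso :=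
    inferInstance
  apply repWith_of_exists
  intro T g
  obtain ⟨Ti, ti, gi, sq, h1, h2, -⟩ := exists_piece c hc g i
  exact ⟨Ti, ti, gi, sq, h1, h2⟩

include hc in
theorem repWith_oi_inj (i : ι) : RepWith @IsOpenImmersion (c.inj i) :=
  Groth.Agent.Helper4.AlgSpSrc.repWith_mono (fun g hg => hg.1) (repWith_inj c hc i)

include hc in
theorem repWith_ci_inj (i : ι) : RepWith @IsClosedImmersion (c.inj i) :=
  Groth.Agent.Helper4.AlgSpSrc.repWith_mono (fun g hg => hg.2) (repWith_inj c hc i)

include hc in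
/-- S9881 -/
theorem isAlgSpace_pt (h : ∀ i, IsAlgSpace (F i)) : IsAlgSpace c.pt :=
  isAlgSpace_of_cover (fun i => c.inj i) h (repWith_oi_inj c hc) (local_lift c hc)

include hc in
/-- S9880 -/
theorem isAlgSpace_summand (h : IsAlgSpace c.pt) (i : ι) : IsAlgSpace (F i) :=
  Groth.Agent.Helper5.GrpLoc.isAlgSpace_of_openImmersion (c.inj i) (repWith_oi_inj c hc i) h

end Cofan

end Groth.Agent.Helper5.SpCoprod
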