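import Groth.Agent.Helper5.SpCoprod4
import Mathlib

set_option autoImplicit false
set_option linter.style.haveILetI false
set_option linter.unusedSectionVars false
set_option linter.unusedVariables false
universe u
open CategoryTheory CategoryTheory.Limits AlgebraicGeometry Opposite

namespace Groth.Agent.Helper5.SpCoprod

open AlgSp Groth.Agent.Helper5.ZarGlue

variable {S : Scheme.{u}}

/-- the family attached to a pair -/
def pairFam (F G : Sp S) : ULift.{u} WalkingPair → Sp S
  | ⟨.left⟩ => F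
  | ⟨.right⟩ => G

/-- the cofan attached to a binary cofan -/
def pairCofan {F G : Sp S} (c : BinaryCofan F G) : Cofan (pairFam F G) :=
  Cofan.mk c.pt (fun j => match j with
    | ⟨.left⟩ => c.inl
    | ⟨.right⟩ => c.inr)

/-- the cofan attached to a colimit binary cofan is a colimit -/
noncomputable def pairCofanIsColimit {F G : Sp S} (c : BinaryCofan F G) (hc : IsColimit c) :
    IsColimit (pairCofan c) := by
  refine Cofan.IsColimit.mk _
    (fun s => (BinaryCofan.IsColimit.desc' hc (s.inj ⟨.left⟩) (s.inj ⟨.right⟩)).1) ?_ ?_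
  · rintro s ⟨j | j⟩
    · exact (BinaryCofan.IsColimit.desc' hc (s.inj ⟨.left⟩) (s.inj ⟨.right⟩)).2.1
    · exact (BinaryCofan.IsColimit.desc' hc (s.inj ⟨.left⟩) (s.inj ⟨.right⟩)).2.2
  · intro s m hm
    apply BinaryCofan.IsColimit.hom_ext hc
    · rw [(BinaryCofan.IsColimit.desc' hc (s.inj ⟨.left⟩) (s.inj ⟨.right⟩)).2.1]
      exact hm ⟨.left⟩
    · rw [(BinaryCofan.IsColimit.desc' hc (s.inj ⟨.left⟩) (s.inj ⟨.right⟩)).2.2]
      exact hm ⟨.right⟩

/-- S9878 -/
theorem repWith_inl {F G : Sp S} (c : BinaryCofan F G) (hc : IsColimit c) :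
    RepWith (@IsOpenImmersion ⊓ @IsClosedImmersion) c.inl :=
  repWith_inj (pairCofan c) (pairCofanIsColimit c hc) ⟨.left⟩

end Groth.Agent.Helper5.SpCoprod
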