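import Groth.Agent.Helper5.FlatBC2
import Groth.Agent.Helper5.GrpdDim1
import Groth.Agent.Helper5.HasAtChart
import Groth.Agent.Helper5.EtDim
import Groth.Agent.Helper5.RelDimSp5
import Groth.Agent.Helper2.TopDim
import Mathlib

set_option autoImplicit false
set_option linter.style.haveILetI false
set_option linter.unusedSectionVars false
set_option linter.unusedVariables false
universe u
open CategoryTheory CategoryTheory.Limits AlgebraicGeometry Opposite TopologicalSpace

namespace Groth.Agent.Helper5.SpFldDim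

open AlgSp Groth.Agent.Helper4 Groth.Agent.Helper4.AlgSpPtsDesc

variable {S : Scheme.{u}}

/-- the local dimension is etale local -/
theorem localDim_etLocal (d : WithBot ℕ∞) {A B : Scheme.{u}} (g : A ⟶ B) [Etale g] (x : ↥A) :
    FlatMor.localDim ↥A x = d ↔ FlatMor.localDim ↥B (g x) = d := by
  rw [Groth.Agent.Helper5.EtDim.localDim_eq_of_etale g x]

/-- uniqueness of the local dimension at a point of a sheaf -/
theorem hasAt_unique {X : Sp S} (x : Points X) (a b : WithBot ℕ∞)
    (ha : HasAt (fun U u => FlatMor.localDim ↥U u = a) X x)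
    (hb : HasAt (fun U u => FlatMor.localDim ↥U u = b) X x) : a = b := by
  obtain ⟨U, α, u, hα, hu, hdim⟩ := ha
  obtain ⟨V, β, v, hβ, hv, hdim'⟩ := hb
  have := Groth.Agent.Helper5.HasAtChart.chart_indep (fun U u => FlatMor.localDim ↥U u = a)
    (fun g _ x => localDim_etLocal a g x) α β hα hβ u v (by rw [hu, hv]) hdim
  rw [← this, ← hdim']

/-- all charts see the local dimension -/
theorem localDim_chart {X : Sp S} {x : Points X} {a : WithBot ℕ∞}
    (ha : HasAt (fun U u => FlatMor.localDim ↥U u = a) X x) {V : Over S}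
    (β : (yon S).obj V ⟶ X) (hβ : RepWith @Etale β) (v : ↥V.left) (hv : Points.ofPt β v = x) :
    FlatMor.localDim ↥V.left v = a := by
  obtain ⟨U, α, u, hα, hu, hdim⟩ := ha
  exact Groth.Agent.Helper5.HasAtChart.chart_indep (fun U u => FlatMor.localDim ↥U u = a)
    (fun g _ x => localDim_etLocal a g x) α β hα hβ u v (by rw [hu, hv]) hdim

/-- transport of `HasAt` along an isomorphism -/
theorem hasAt_map_iso (Q : ∀ U : Scheme.{u}, ↥U → Prop) {X X' : Sp S} (τ : X ⟶ X') [IsIso τ]
    (x : Points X) (h : HasAt Q X x) : HasAt Q X' (Points.map τ x) := by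
  obtain ⟨U, α, u, hα, hu, hQ⟩ := h
  refine ⟨U, α ≫ τ, u, MorphismProperty.RespectsIso.postcomp _ τ α hα, ?_, hQ⟩
  rw [← Points.map_ofPt, hu]

variable (k : Type u) [Field k] (σ : Spec (CommRingCat.of k) ⟶ S)

/-- charts of a space locally of finite type over a field are locally of finite type over it -/
theorem chart_lft {X : Sp S} (a : X ⟶ (yon S).obj (Over.mk σ))
    (ha : LocP @LocallyOfFiniteType a) {U : Over S} (α : (yon S).obj U ⟶ X)
    (hα : RepWith @Etale α) :
    ∃ h : U ⟶ Over.mk σ, α ≫ a = (yon S).map h ∧ LocallyOfFiniteType h.left := by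
  obtain ⟨h, hh⟩ := (yon S).map_surjective (X := U) (Y := Over.mk σ) (α ≫ a)
  have hid := Groth.Agent.Helper5.RelDimSp.repWith_etale_id (Over.mk σ)
  exact ⟨h, hh.symm, ha α (𝟙 _) h hα hid (by rw [Category.comp_id, hh])⟩

/-- local dimensions of a space locally of finite type over a field are natural numbers -/
theorem exists_nat_hasAt {X : Sp S} (hX : IsAlgSpace X) (a : X ⟶ (yon S).obj (Over.mk σ))
    (ha : LocP @LocallyOfFiniteType a) (x : Points X) :
    ∃ n : ℕ, HasAt (fun U u => FlatMor.localDim ↥U u = (n : WithBot ℕ∞)) X x := by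
  obtain ⟨U, α, hαe, hαs⟩ := hX.atlas
  obtain ⟨u, rfl⟩ := Groth.Agent.Helper5.AlgSpOpen.ofPt_surjective_of_repWith α hαs x
  obtain ⟨h, -, hl⟩ := chart_lft k σ a ha α hαe
  haveI := hl
  obtain ⟨n, hn⟩ := Groth.Agent.Helper5.GrpDim.exists_nat_localDim k h.left u
  exact ⟨n, U, α, u, hαe, rfl, hn⟩

set_option backward.isDefEq.respectTransparency.types false in
/-- additivity of the local dimension for fibre products over a field -/
theorem hasAt_add_of_isPullback {X Y P : Sp S} (hX : IsAlgSpace X) (hY : IsAlgSpace Y)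
    (a : X ⟶ (yon S).obj (Over.mk σ)) (b : Y ⟶ (yon S).obj (Over.mk σ))
    (ha : LocP @LocallyOfFiniteType a) (hb : LocP @LocallyOfFiniteType b)
    (p₁ : P ⟶ X) (p₂ : P ⟶ Y) (sq : IsPullback p₁ p₂ a b) (w : Points P) :
    ∃ m n : ℕ, HasAt (fun U u => FlatMor.localDim ↥U u = (m : WithBot ℕ∞)) X (Points.map p₁ w) ∧
      HasAt (fun U u => FlatMor.localDim ↥U u = (n : WithBot ℕ∞)) Y (Points.map p₂ w) ∧
      HasAt (fun U u => FlatMor.localDim ↥U u = ((m + n : ℕ) : WithBot ℕ∞)) P w := by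
  have hid := Groth.Agent.Helper5.RelDimSp.repWith_etale_id (Over.mk σ)
  have hids : RepWith @Surjective (𝟙 ((yon S).obj (Over.mk σ))) := by
    rw [← (yon S).map_id]
    exact (repWith_yon_map_iff _ _).2 (by dsimp; infer_instance)
  obtain ⟨V', b', g₀, hb'e, hb's, cc⟩ :=
    Groth.Agent.Helper5.FlatBC.exists_chart_surj hY b (𝟙 _) hid hids
  obtain ⟨U, U', α, α', h, q₁, q₂, hαe, hα'e, hα's, c1, sqU, hα'1, hα'2, -⟩ :=
    Groth.Agent.Helper5.FlatBC.exists_cube_over hX sq (𝟙 _) b' g₀ hid hb'e hb's cc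
  obtain ⟨z, rfl⟩ := Groth.Agent.Helper5.AlgSpOpen.ofPt_surjective_of_repWith α' hα's w
  haveI hl1 : LocallyOfFiniteType h.left := ha α (𝟙 _) h hαe hid c1
  haveI hl2 : LocallyOfFiniteType g₀.left := hb b' (𝟙 _) g₀ hb'e hid cc
  have sq' : IsPullback q₁.left q₂.left h.left g₀.left := sqU.map (Over.forget S)
  have hadd := Groth.Agent.Helper5.GrpdDim.localDim_of_isPullback k h.left g₀.left _ _ sq' z
  obtain ⟨m, hm⟩ := Groth.Agent.Helper5.GrpDim.exists_nat_localDim k h.left (q₁.left z)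
  obtain ⟨n, hn⟩ := Groth.Agent.Helper5.GrpDim.exists_nat_localDim k g₀.left (q₂.left z)
  refine ⟨m, n, ⟨U, α, q₁.left z, hαe, ?_, hm⟩, ⟨V', b', q₂.left z, hb'e, ?_, hn⟩,
    ⟨U', α', z, hα'e, rfl, ?_⟩⟩
  · rw [Points.map_ofPt, hα'1, ofPt_yon_map_comp]
  · rw [Points.map_ofPt, hα'2, ofPt_yon_map_comp]
  · show FlatMor.localDim ↥U'.left z = ((m + n : ℕ) : WithBot ℕ∞)
    rw [hadd, hm, hn]
    push_cast
    rfl

end Groth.Agent.Helper5.SpFldDim
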