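import Groth.Agent.Helper5.SpFldDim1
import Groth.Agent.Helper5.Gpd2
import Groth.Agent.Helper4.AlgSpPB
import Mathlib

set_option autoImplicit false
set_option linter.style.haveILetI false
set_option linter.unusedSectionVars false
set_option linter.unusedVariables false
universe u
open CategoryTheory CategoryTheory.Limits AlgebraicGeometry Opposite TopologicalSpace

namespace Groth.Agent.Helper5.SpFldDim

open AlgSp Groth.Agent.Helper4 Groth.Agent.Helper4.AlgSpPtsDesc

variable {S : Scheme.{u}}

/-- if the local dimension is constant on a nonempty space, it is the dimension -/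
theorem dim_eq_of_const {X : Sp S} (n : WithBot ℕ∞)
    (hall : ∀ x : Points X, HasAt (fun U u => FlatMor.localDim ↥U u = n) X x)
    (x₀ : Points X) : AlgSp.dim X = n := by
  apply le_antisymm
  · unfold AlgSp.dim
    refine iSup_le fun V => iSup_le fun b => iSup_le fun hb => ?_
    rw [Groth.Agent.Helper2.TopDim.dim_eq_iSup_localDim]
    refine iSup_le fun v => ?_
    exact (localDim_chart (hall (Points.ofPt b v)) b hb v rfl).le
  · obtain ⟨U, α, u, hα, -, hdim⟩ := hall x₀
    rw [← hdim]
    refine (Groth.Agent.Helper2.TopDim.localDim_le_dim u).trans ?_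
    unfold AlgSp.dim
    exact le_iSup_of_le U (le_iSup_of_le α (le_iSup_of_le hα le_rfl))

end Groth.Agent.Helper5.SpFldDim

namespace Groth.Agent.Helper5.SpFldDim

open AlgSp Groth.Agent.Helper4 Groth.Agent.Helper4.AlgSpPtsDesc Groth.Agent.Helper5.Gpd1

variable {S : Scheme.{u}}

/-- `LocP` is invariant under postcomposition with an isomorphism -/
theorem locP_comp_iso (P : MorphismProperty Scheme.{u}) {X Y Y' : Sp S} (f : X ⟶ Y) (e : Y ≅ Y')
    (hf : LocP P f) : LocP P (f ≫ e.hom) := by
  intro U V a b h ha hb comm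
  refine hf a (b ≫ e.inv) h ha (MorphismProperty.RespectsIso.postcomp _ e.inv b hb) ?_
  rw [← Category.assoc, ← comm, Category.assoc, Category.assoc, e.hom_inv_id, Category.comp_id]

/-- the space of points of the spectrum of a field is a subsingleton -/
theorem subsingleton_points_of_iso (k : Type u) [Field k] (σ : Spec (CommRingCat.of k) ⟶ S)
    {U : Sp S} (eU : U ≅ (yon S).obj (Over.mk σ)) : Subsingleton (Points U) := by
  haveI : Subsingleton ↥(Over.mk σ).left :=
    inferInstanceAs (Subsingleton (PrimeSpectrum k))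
  haveI : Subsingleton (Points ((yon S).obj (Over.mk σ))) :=
    (Points.schemeHomeo (Over.mk σ)).symm.injective.subsingleton
  have hinj : Function.Injective (Points.map eU.hom) := by
    intro x y hxy
    have := congrArg (Points.map eU.inv) hxy
    rwa [← Points.map_comp, ← Points.map_comp, eU.hom_inv_id, Points.map_id, Points.map_id] at this
  exact hinj.subsingleton

variable {B : Sp S} (G : GroupoidSp B) (k : Type u) [Field k]
  (σ : Spec (CommRingCat.of k) ⟶ S) (eU : G.U ≅ (yon S).obj (Over.mk σ))

include eU in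
/-- the local dimension of the arrows of a groupoid in algebraic spaces over a field point is
constant -/
theorem gpd_localDim_const (hR : IsAlgSpace G.R) (hs : LocP @LocallyOfFiniteType G.s)
    (ht : LocP @LocallyOfFiniteType G.t) (r r' : Points G.R) (m : ℕ)
    (hm : HasAt (fun U u => FlatMor.localDim ↥U u = (m : WithBot ℕ∞)) G.R r) :
    HasAt (fun U u => FlatMor.localDim ↥U u = (m : WithBot ℕ∞)) G.R r' := by
  have hsk := locP_comp_iso @LocallyOfFiniteType G.s eU hs
  have htk := locP_comp_iso @LocallyOfFiniteType G.t eU ht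
  haveI := subsingleton_points_of_iso k σ eU
  -- a point over `(r, r')`
  have sqT : IsPullback (pullback.fst G.t G.t) (pullback.snd G.t G.t) G.t G.t :=
    IsPullback.of_hasPullback _ _
  obtain ⟨z, hz1, hz2⟩ := exists_point_of_isPullback sqT r r' (Subsingleton.elim _ _)
  -- the shear map
  have hw : (pullback.fst G.t G.t ≫ G.i) ≫ G.s = pullback.snd G.t G.t ≫ G.t := by
    rw [Category.assoc, G.i_s, pullback.condition]
  let φ : pullback G.t G.t ⟶ pullback G.s G.t :=
    pullback.lift (pullback.fst G.t G.t)
      (comp G (pullback.fst G.t G.t ≫ G.i) (pullback.snd G.t G.t) hw)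
      (by rw [comp_t, Category.assoc, G.i_t])
  have h1 : φ ≫ pullback.fst G.s G.t = pullback.fst G.t G.t := pullback.lift_fst _ _ _
  have h2 : φ ≫ pullback.snd G.s G.t =
      comp G (pullback.fst G.t G.t ≫ G.i) (pullback.snd G.t G.t) hw := pullback.lift_snd _ _ _
  obtain ⟨-, h3⟩ := part2 G φ h1 h2
  let w := Points.map φ z
  have hw1 : Points.map (pullback.fst G.s G.t) w = r := by
    show Points.map (pullback.fst G.s G.t) (Points.map φ z) = r
    rw [← Points.map_comp, h1, hz1]
  have hw3 : Points.map G.c w = r' := by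
    show Points.map G.c (Points.map φ z) = r'
    rw [← Points.map_comp, h3, hz2]
  have sqA : IsPullback (pullback.fst G.s G.t) (pullback.snd G.s G.t) (G.s ≫ eU.hom)
      (G.t ≫ eU.hom) :=
    Groth.Agent.Helper5.GrpdDim.isPullback_comp_mono (IsPullback.of_hasPullback G.s G.t) eU.hom
  have sqB : IsPullback G.c (pullback.snd G.s G.t) (G.s ≫ eU.hom) (G.s ≫ eU.hom) :=
    Groth.Agent.Helper5.GrpdDim.isPullback_comp_mono (isPullback_c G) eU.hom
  obtain ⟨a, b, hA1, hA2, hA3⟩ :=
    hasAt_add_of_isPullback k σ hR hR _ _ hsk htk _ _ sqA w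
  obtain ⟨a', b', hB1, hB2, hB3⟩ :=
    hasAt_add_of_isPullback k σ hR hR _ _ hsk hsk _ _ sqB w
  rw [hw1] at hA1
  rw [hw3] at hB1
  have e1 : a = m := by exact_mod_cast hasAt_unique _ _ _ hA1 hm
  have e2 : b = b' := by exact_mod_cast hasAt_unique _ _ _ hA2 hB2
  have e3 : a + b = a' + b' := by exact_mod_cast hasAt_unique _ _ _ hA3 hB3
  have e4 : a' = m := by omega
  rw [e4] at hB1
  exact hB1

include eU in
theorem s10135 (hR : IsAlgSpace G.R) (hs : LocP @LocallyOfFiniteType G.s)
    (ht : LocP @LocallyOfFiniteType G.t) (r : Points G.R) :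
    HasAt (fun V v => FlatMor.localDim ↥V v = AlgSp.dim G.R) G.R r := by
  have hsk := locP_comp_iso @LocallyOfFiniteType G.s eU hs
  obtain ⟨m, hm⟩ := exists_nat_hasAt k σ hR _ hsk r
  have hall : ∀ x : Points G.R, HasAt (fun U u => FlatMor.localDim ↥U u = (m : WithBot ℕ∞)) G.R x :=
    fun x => gpd_localDim_const G k σ eU hR hs ht r x m hm
  rw [dim_eq_of_const _ hall r]
  exact hm

end Groth.Agent.Helper5.SpFldDim
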