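import Groth.Agent.Helper5.SpFldDim2
import Groth.Agent.Helper5.GrpLoc1
import Mathlib

set_option autoImplicit false
set_option linter.style.haveILetI false
set_option linter.unusedSectionVars false
set_option linter.unusedVariables false
universe u
open CategoryTheory CategoryTheory.Limits AlgebraicGeometry Opposite TopologicalSpace
open MonoidalCategory CartesianMonoidalCategory MonObj

namespace Groth.Agent.Helper5.SpFldDim

section General

variable {C : Type*} [Category C] [CartesianMonoidalCategory C] (A : C) [GrpObj A]

/-- the map `(g, h) ↦ (g h⁻¹, h)` -/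
noncomputable def divMap : A ⊗ A ⟶ A ⊗ A := lift (fst A A * (snd A A)⁻¹) (snd A A)

theorem divMap_snd : divMap A ≫ snd A A = snd A A := by simp [divMap]

theorem divMap_shear_snd :
    divMap A ≫ Groth.Agent.Helper5.GrpLoc.shear A ≫ snd A A = fst A A := by
  simp only [Groth.Agent.Helper5.GrpLoc.shear, divMap, lift_snd]
  rw [MonObj.comp_mul, lift_fst, lift_snd]
  simp

end General

open AlgSp Groth.Agent.Helper4 Groth.Agent.Helper4.AlgSpPtsDesc Groth.Agent.Helper5.GrpLoc

set_option backward.isDefEq.respectTransparency.types false in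
theorem s10136 (k : Type u) [Field k]
    (G : Over ((AlgSp.yon (Spec (CommRingCat.of k))).obj (Over.mk (𝟙 _)))) [GrpObj G]
    (hG : AlgSp.IsAlgSpace G.left)
    (hlft : AlgSp.LocP @LocallyOfFiniteType G.hom) (g : AlgSp.Points G.left) :
    AlgSp.HasAt (fun V v => FlatMor.localDim ↥V v = AlgSp.dim G.left) G.left g := by
  let σ : Spec (CommRingCat.of k) ⟶ Spec (CommRingCat.of k) := 𝟙 _
  have sq0 := (isPullback_fst_snd G).map (Over.forget _)
  have sq : IsPullback (fst G G).left (snd G G).left G.hom G.hom := sq0
  haveI i1 : IsIso (shear G) := ⟨shearInv G, shear_shearInv G, shearInv_shear G⟩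
  haveI i2 : IsIso (shear G).left := (Over.forget _).map_isIso (shear G)
  have e1 : (shear G).left ≫ (fst G G).left = (fst G G).left := by
    rw [← Over.comp_left, shear_fst]
  have e2 : (divMap G).left ≫ (snd G G).left = (snd G G).left := by
    rw [← Over.comp_left, divMap_snd]
  have e3 : (divMap G).left ≫ (shear G).left ≫ (snd G G).left = (fst G G).left := by
    rw [← Over.comp_left, ← Over.comp_left, divMap_shear_snd]
  haveI : Subsingleton (Points ((AlgSp.yon (Spec (CommRingCat.of k))).obj (Over.mk (𝟙 _)))) :=
    subsingleton_points_of_iso k σ (Iso.refl _)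
  -- constancy of the local dimension
  have hconst : ∀ (g g' : Points G.left) (m : ℕ),
      HasAt (fun U u => FlatMor.localDim ↥U u = (m : WithBot ℕ∞)) G.left g →
      HasAt (fun U u => FlatMor.localDim ↥U u = (m : WithBot ℕ∞)) G.left g' := by
    intro g g' m hm
    obtain ⟨w', hw'1, hw'2⟩ := exists_point_of_isPullback sq g' g (Subsingleton.elim _ _)
    let w := Points.map (divMap G).left w'
    have hw2 : Points.map (snd G G).left w = g := by
      show Points.map (snd G G).left (Points.map (divMap G).left w') = g
      rw [← Points.map_comp, e2, hw'2]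
    have hw3 : Points.map (snd G G).left (Points.map (shear G).left w) = g' := by
      show Points.map (snd G G).left (Points.map (shear G).left (Points.map (divMap G).left w')) = g'
      rw [← Points.map_comp, ← Points.map_comp, e3, hw'1]
    have hw1 : Points.map (fst G G).left (Points.map (shear G).left w) =
        Points.map (fst G G).left w := by
      rw [← Points.map_comp, e1]
    obtain ⟨a, b, hA1, hA2, hA3⟩ :=
      hasAt_add_of_isPullback k σ hG hG G.hom G.hom hlft hlft _ _ sq w
    obtain ⟨a', b', hB1, hB2, hB3⟩ :=
      hasAt_add_of_isPullback k σ hG hG G.hom G.hom hlft hlft _ _ sq (Points.map (shear G).left w)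
    rw [hw1] at hB1
    rw [hw2] at hA2
    rw [hw3] at hB2
    have hA3' := hasAt_map_iso _ (shear G).left w hA3
    have e4 : a = a' := by exact_mod_cast hasAt_unique _ _ _ hA1 hB1
    have e5 : a + b = a' + b' := by exact_mod_cast hasAt_unique _ _ _ hA3' hB3
    have e6 : b = m := by exact_mod_cast hasAt_unique _ _ _ hA2 hm
    have e7 : b' = m := by omega
    rw [e7] at hB2
    exact hB2
  obtain ⟨m, hm⟩ := exists_nat_hasAt k σ hG G.hom hlft g
  have hall : ∀ x : Points G.left,
      HasAt (fun U u => FlatMor.localDim ↥U u = (m : WithBot ℕ∞)) G.left x :=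
    fun x => hconst g x m hm
  rw [dim_eq_of_const _ hall g]
  exact hm

end Groth.Agent.Helper5.SpFldDim
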