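import Mathlib
import Groth.Agent.Helper5.MonoQuot8
import Groth.Agent.Helper5.DegStr10
import Groth.Agent.Helper5.Decent3
import Groth.Agent.Helper5.Decent2
import Groth.Agent.Helper5.AlgSpOpen
import Groth.Agent.Helper4.AlgSpQC
import Groth.Agent.Helper4.AlgSpQC2

/-!
# S10201: the space of points of a quasi-compact and quasi-separated algebraic space is spectral
-/

set_option autoImplicit false
universe u

namespace Groth.Agent.Helper5.SpecSp

open CategoryTheory CategoryTheory.Limits AlgebraicGeometry Opposite AlgSp TopologicalSpace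
open Groth.Agent.Helper4.AlgSpPtsDesc

variable {S : Scheme.{u}}

/-- the saturation of an open of a chart for the relation -/
theorem preimage_image_ofPt {X : Sp S} {W R : Over S} (a : (yon S).obj W ⟶ X) (s t : R ⟶ W)
    (hR : IsPullback ((yon S).map t) ((yon S).map s) a a) (V : Set ↥W.left) :
    Points.ofPt a ⁻¹' (Points.ofPt a '' V) = t.left '' (s.left ⁻¹' V) := by
  ext w
  constructor
  · rintro ⟨v, hv, hvw⟩
    obtain ⟨r, hr1, hr2⟩ :=
      Groth.Agent.Helper5.Decent2.exists_scheme_point_of_isPullback hR w v hvw.symm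
    exact ⟨r, by show s.left r ∈ V; rw [hr2]; exact hv, hr1⟩
  · rintro ⟨r, hr, rfl⟩
    refine ⟨s.left r, hr, ?_⟩
    rw [← ofPt_yon_map_comp, ← ofPt_yon_map_comp, hR.w]

/-- S10201 -/
theorem s10201 [QuasiSeparatedSpace ↥S] (X : Space S) (hqc : IsQuasiCompactSp X.obj)
    (hqs : IsQuasiSeparatedSp X.obj) : SpectralSpace (Points X.obj) := by
  have hdec : IsDecent X.obj := Groth.Agent.Helper5.MonoQuot.s10350 X hqs
  haveI := Groth.Agent.Helper5.Decent3.t0Space_of_isDecent X.property hdec
  haveI := Groth.Agent.Helper5.DegStr.s10339 X hdec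
  haveI := Groth.Agent.Helper4.AlgSpQC2.compactSpace_points_of_isQuasiCompactSp hqc
  obtain ⟨W, a, hae, has, hW⟩ := Groth.Agent.Helper4.AlgSpQC.exists_affine_chart hqc
  haveI : IsAffine W.left := hW
  have hsurj := Groth.Agent.Helper5.AlgSpOpen.ofPt_surjective_of_repWith a has
  have hopen := Groth.Agent.Helper5.Decent3.isOpenMap_ofPt X.property a hae
  have hcont := Points.continuous_ofPt a
  -- the relation is quasi-compact
  obtain ⟨R, s, t, hR, -, -⟩ := Groth.Agent.Helper5.MonoQuot.exists_relation a hae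
  haveI : QuasiCompact W.hom := quasiCompact_of_compactSpace _
  have hqa : RepWith @QuasiCompact a :=
    Groth.Agent.Helper5.MonoQuot.repWith_qc_of_qs X.property hqs a
  haveI : QuasiCompact s.left := hqa.property a ((yon S).map t) s hR
  -- the basis of images of affine opens
  let B : Set (Set (Points X.obj)) :=
    {O | ∃ V : W.left.Opens, IsAffineOpen V ∧ O = Points.ofPt a '' (V : Set ↥W.left)}
  have hB : IsTopologicalBasis B := by
    apply isTopologicalBasis_of_isOpen_of_nhds
    · rintro _ ⟨V, -, rfl⟩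
      exact hopen _ V.isOpen
    · intro x O hx hO
      obtain ⟨w, rfl⟩ := hsurj x
      obtain ⟨_, ⟨(V : W.left.Opens), hV, rfl⟩, hwV, hVO⟩ :=
        W.left.isBasis_affineOpens.exists_subset_of_mem_open
          (show w ∈ Points.ofPt a ⁻¹' O from hx) (hO.preimage hcont)
      refine ⟨_, ⟨V, hV, rfl⟩, ⟨w, hwV, rfl⟩, ?_⟩
      rintro _ ⟨v, hv, rfl⟩
      exact hVO hv
  have hBc : ∀ O ∈ B, IsCompact O := by
    rintro _ ⟨V, hV, rfl⟩
    exact hV.isCompact.image hcont
  haveI : PrespectralSpace (Points X.obj) := PrespectralSpace.of_isTopologicalBasis hB hBc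
  -- preimages of basis elements are compact
  have hBpre : ∀ O ∈ B, IsCompact (Points.ofPt a ⁻¹' O) := by
    rintro _ ⟨V, hV, rfl⟩
    rw [preimage_image_ofPt a s t hR]
    exact (QuasiCompact.isCompact_preimage (f := s.left) _ V.isOpen hV.isCompact).image
      t.left.continuous
  have key : ∀ U : Set (Points X.obj), IsOpen U → IsCompact U →
      IsCompact (Points.ofPt a ⁻¹' U) := by
    intro U hUo hUc
    have hex : ∀ x ∈ U, ∃ O ∈ B, x ∈ O ∧ O ⊆ U := fun x hx =>
      hB.exists_subset_of_mem_open hx hUo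
    choose! O hOB hxO hOU using hex
    obtain ⟨T, hcov⟩ := hUc.elim_nhds_subcover' (fun x hx => O x)
      (fun x hx => (hB.isOpen (hOB x hx)).mem_nhds (hxO x hx))
    have heq : Points.ofPt a ⁻¹' U = ⋃ x ∈ T, Points.ofPt a ⁻¹' (O x.1) := by
      ext w
      simp only [Set.mem_preimage, Set.mem_iUnion]
      constructor
      · intro hw
        have := hcov hw
        simp only [Set.mem_iUnion] at this
        exact this
      · rintro ⟨x, -, hx⟩
        exact hOU x.1 x.2 hx
    rw [heq]
    exact T.isCompact_biUnion (fun x _ => hBpre _ (hOB x.1 x.2))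
  have : QuasiSeparatedSpace (Points X.obj) := by
    constructor
    intro U V hUo hUc hVo hVc
    have h1 : IsCompact (Points.ofPt a ⁻¹' U ∩ Points.ofPt a ⁻¹' V) :=
      QuasiSeparatedSpace.inter_isCompact _ _ (hUo.preimage hcont) (key U hUo hUc)
        (hVo.preimage hcont) (key V hVo hVc)
    have h2 : U ∩ V = Points.ofPt a '' (Points.ofPt a ⁻¹' U ∩ Points.ofPt a ⁻¹' V) := by
      rw [← Set.preimage_inter, Set.image_preimage_eq _ hsurj]
    rw [h2]
    exact h1.image hcont
  exact {}

end Groth.Agent.Helper5.SpecSp
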