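import Mathlib
import Groth.Agent.Helper9.SyntRoot
import Groth.Agent.Helper9.SyntFin

set_option autoImplicit false
set_option linter.style.haveILetI false
set_option linter.unusedSectionVars false
universe u
open Polynomial

namespace Groth.Agent.Helper5.Split

/-- a monic polynomial splits over a finite free algebra with a square presentation -/
theorem exists_split : ∀ (d : ℕ) (A : Type u) [CommRing A] (P : A[X]), P.Monic → P.natDegree = d →
    ∃ (A' : Type u) (_ : CommRing A') (_ : Algebra A A') (n : ℕ),
      Nonempty (Algebra.Presentation A A' (Fin n) (Fin n)) ∧ Module.Finite A A' ∧ Module.Free A A' ∧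
        Module.FaithfullyFlat A A' ∧
        ∃ s : Multiset A', P.map (algebraMap A A') = (s.map fun b => X - C b).prod := by
  intro d
  induction d with
  | zero =>
    intro A _ P hP hd
    refine ⟨A, inferInstance, inferInstance, 0,
      ⟨(Algebra.Presentation.id A : Algebra.Presentation A A PEmpty.{1} PEmpty.{1}).reindex
        (Equiv.equivPEmpty _) (Equiv.equivPEmpty _)⟩,
      inferInstance, inferInstance, inferInstance, 0, ?_⟩
    have : P = 1 := Polynomial.eq_one_of_monic_natDegree_zero hP hd
    rw [this]
    simp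
  | succ d ih =>
    intro A _ P hP hd
    -- adjoin a root
    haveI : Module.Finite A (AdjoinRoot P) := hP.finite_adjoinRoot
    haveI : Module.Free A (AdjoinRoot P) := hP.free_adjoinRoot
    have hdpos : 0 < P.natDegree := by omega
    haveI : Module.FaithfullyFlat A (AdjoinRoot P) := by
      haveI : Nonempty (Fin (AdjoinRoot.powerBasis' hP).dim) :=
        ⟨⟨0, by rw [AdjoinRoot.powerBasis'_dim]; exact hdpos⟩⟩
      exact Groth.Agent.Helper9.SyntRoot.faithfullyFlat_of_basis (AdjoinRoot.powerBasis' hP).basis
    set r := AdjoinRoot.root P with hr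
    set P₀ := P.map (algebraMap A (AdjoinRoot P)) with hP₀
    have hP₀m : P₀.Monic := hP.map _
    have hroot : P₀.IsRoot r := by
      rw [Polynomial.IsRoot, hP₀, Polynomial.eval_map, ← Polynomial.aeval_def]
      exact AdjoinRoot.aeval_eq P ▸ (by simp [AdjoinRoot.mk_self])
    set P₁ := P₀ /ₘ (X - C r) with hP₁
    have hmul : (X - C r) * P₁ = P₀ := Polynomial.mul_divByMonic_eq_iff_isRoot.2 hroot
    have hP₁m : P₁.Monic := (Polynomial.monic_X_sub_C r).of_mul_monic_left (hmul ▸ hP₀m)
    haveI : Nontrivial A := by
      by_contra hA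
      rw [not_nontrivial_iff_subsingleton] at hA
      have : P = 0 := Subsingleton.elim _ _
      rw [this, Polynomial.natDegree_zero] at hd
      omega
    haveI : Nontrivial (AdjoinRoot P) :=
      (FaithfulSMul.algebraMap_injective A (AdjoinRoot P)).nontrivial
    have hP₁d : P₁.natDegree = d := by
      have h1 := congrArg Polynomial.natDegree hmul
      have h2 : P₀.natDegree = P.natDegree := hP.natDegree_map _
      rw [Polynomial.Monic.natDegree_mul (Polynomial.monic_X_sub_C r) hP₁m,
        Polynomial.natDegree_X_sub_C, h2] at h1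
      omega
    obtain ⟨A', _, _, n, ⟨Q⟩, hfin, hfree, hff, s, hs⟩ := ih (AdjoinRoot P) P₁ hP₁m hP₁d
    letI : Algebra A A' := ((algebraMap (AdjoinRoot P) A').comp (algebraMap A (AdjoinRoot P))).toAlgebra
    haveI : IsScalarTower A (AdjoinRoot P) A' := IsScalarTower.of_algebraMap_eq fun _ => rfl
    refine ⟨A', inferInstance, inferInstance, n + 1, ?_, ?_, ?_, ?_, ?_⟩
    · exact ⟨(Q.comp (Groth.Agent.Helper9.SyntRoot.presAdjoinRoot P)).reindex
        finSumFinEquiv.symm finSumFinEquiv.symm⟩
    · exact Module.Finite.trans (AdjoinRoot P) A'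
    · exact Module.Free.of_basis ((Module.Free.chooseBasis A (AdjoinRoot P)).smulTower
        (Module.Free.chooseBasis (AdjoinRoot P) A'))
    · exact Module.FaithfullyFlat.trans A (AdjoinRoot P) A'
    · refine ⟨algebraMap (AdjoinRoot P) A' r ::ₘ s, ?_⟩
      rw [Multiset.map_cons, Multiset.prod_cons, ← hs, IsScalarTower.algebraMap_eq A (AdjoinRoot P) A',
        ← Polynomial.map_map, ← hP₀, ← hmul, Polynomial.map_mul, Polynomial.map_sub,
        Polynomial.map_X, Polynomial.map_C]

end Groth.Agent.Helper5.Split

namespace Groth.Agent.Helper5.Split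

theorem s9149 (A : Type u) [CommRing A] (P : A[X]) (hP : P.Monic) :
    ∃ (A' : Type u) (_ : CommRing A') (_ : Algebra A A'),
      Synt.IsSyntomic A A' ∧ Module.Finite A A' ∧ Module.Free A A' ∧ Module.FaithfullyFlat A A' ∧
        ∃ s : Multiset A', P.map (algebraMap A A') = (s.map fun b => X - C b).prod := by
  obtain ⟨A', _, _, n, ⟨Q⟩, hfin, hfree, hff, hs⟩ := exists_split P.natDegree A P hP rfl
  haveI := hfin
  haveI := hff
  exact ⟨A', inferInstance, inferInstance,
    Groth.Agent.Helper9.SyntFin.isSyntomic_of_free_presentation n Q, hfin, hfree, hff, hs⟩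

end Groth.Agent.Helper5.Split
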