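import Groth.Agent.Helper5.SrcFlat
import Groth.Agent.Helper5.AlgSpEt
import Mathlib

/-! `LocP P` is τ-local on the source when `P` is τ-local on the source for schemes
(τ = fppf, smooth, etale). -/

set_option autoImplicit false
set_option linter.style.haveILetI false
set_option linter.unusedSectionVars false
set_option linter.unusedVariables false
universe u
open CategoryTheory CategoryTheory.Limits AlgebraicGeometry Opposite MorphismProperty

namespace Groth.Agent.Helper5.SrcLoc

open AlgSp Groth.Agent.Helper4.SDClasses Groth.Agent.Helper5.FpqcRef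
open Groth.Agent.Helper4.AlgSpPtsDesc

variable {S : Scheme.{u}}

set_option backward.isDefEq.respectTransparency.types false in
/-- a chart of the base change of a morphism through a given point, good for all properties -/
theorem exists_chart_bc {X Y : Sp S} (hX : IsAlgSpace X) (hY : IsAlgSpace Y) (f : Y ⟶ X)
    (Z : Over S) (h : (yon S).obj Z ⟶ X) (z : ↥Z.left) (y : Points Y)
    (hy : Points.map f y = Points.map h (Points.schemeHomeo Z z)) :
    ∃ (V : Over S) (c : V ⟶ Z) (l : (yon S).obj V ⟶ Y) (v : ↥V.left),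
      (∀ Q : MorphismProperty Scheme.{u}, Good Q → LocP Q f → Q c.left) ∧ c.left v = z ∧
      l ≫ f = (yon S).map c ≫ h ∧ (RepWith @Etale h → RepWith @Etale l) := by
  have sq : IsPullback (pullback.fst f h) (pullback.snd f h) f h := IsPullback.of_hasPullback _ _
  have hF : IsAlgSpace (pullback f h) :=
    Groth.Agent.Helper4.AlgSpPB.isAlgSpace_of_isPullback hX.diag hY (IsAlgSpace.yon_obj Z)
      f h _ _ sq
  obtain ⟨w, hw1, hw2⟩ := exists_point_of_isPullback sq y _ hy
  obtain ⟨A, a, hae, has⟩ := hF.atlas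
  obtain ⟨r, hr⟩ := Groth.Agent.Helper4.AlgSpPts.isSurjectiveMor_of_repWith a has w
  obtain ⟨v, rfl⟩ := (Points.schemeHomeo A).surjective r
  obtain ⟨c, hc⟩ := (yon S).map_surjective (a ≫ pullback.snd f h)
  have hide : RepWith @Etale (𝟙 ((yon S).obj Z)) := repWith_id _ _
  have hcomm : a ≫ pullback.snd f h = (yon S).map c ≫ 𝟙 _ := by
    rw [hc, Category.comp_id]
  refine ⟨A, c, a ≫ pullback.fst f h, v, ?_, ?_, ?_, fun hh => ?_⟩
  · intro Q hG hf1
    have hs1 : LocP Q (pullback.snd f h) := by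
      have := hG.bc
      have := hG.comp
      exact Groth.Agent.Helper4.AlgSpLocPBC.locP_of_isPullback Q hG.etale_le hG.sd hY hX
        f h _ _ sq hf1
    exact hs1 _ _ c hae hide hcomm
  · apply (Points.schemeHomeo Z).injective
    rw [← Points.map_yon_map_apply, hc, Points.map_comp, hr, hw2]
  · rw [Category.assoc, sq.w, ← Category.assoc, hc]
  · have i1 := repWith_isStableUnderBaseChange (S := S) @Etale
    have hfst : RepWith @Etale (pullback.fst f h) := MorphismProperty.of_isPullback sq.flip hh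
    exact Groth.Agent.Helper4.AlgSpSrc.repWith_comp _ hae hfst

/-- precomposition with a `Q`-morphism of algebraic spaces keeps `LocP P` -/
theorem locP_precomp_gen (P Q : MorphismProperty Scheme.{u})
    (h1 : ∀ {A B C : Scheme.{u}} (s : A ⟶ B) (c : B ⟶ C), Q s → P c → P (s ≫ c))
    (h2 : ∀ {A B C : Scheme.{u}} (e : A ⟶ B) (h : B ⟶ C), Etale e → Surjective e →
      P (e ≫ h) → P h)
    {X Y Z : Sp S} (hY : IsAlgSpace Y) (f : X ⟶ Y) (g : Y ⟶ Z)
    (hf : LocP Q f) (hg : LocP P g) : LocP P (f ≫ g) := by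
  intro U W a b h ha hb comm
  obtain ⟨V₀, y₀, hy₀e, hy₀s⟩ := hY.atlas
  have hbr := hb.rep
  have hpbV : IsPullback (hbr.fst (y₀ ≫ g)) ((yon S).map (hbr.snd (y₀ ≫ g))) b (y₀ ≫ g) :=
    hbr.isPullback _
  obtain ⟨c, hc⟩ := (yon S).map_surjective (hbr.fst (y₀ ≫ g))
  rw [← hc] at hpbV
  have hee : Etale (hbr.snd (y₀ ≫ g)).left := hb.property _ _ _ hpbV
  generalize hbr.snd (y₀ ≫ g) = e at hpbV hee
  have hey₀ : RepWith @Etale ((yon S).map e ≫ y₀) :=
    Groth.Agent.Helper4.AlgSpSrc.repWith_comp _ ((repWith_yon_map_iff _ _).2 hee) hy₀e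
  have hPc : P c.left := hg ((yon S).map e ≫ y₀) b c hey₀ hb
    (by rw [Category.assoc]; exact hpbV.w.symm)
  have hr := hy₀e.rep
  have hpbU : IsPullback (hr.fst (a ≫ f)) ((yon S).map (hr.snd (a ≫ f))) y₀ (a ≫ f) :=
    hr.isPullback _
  obtain ⟨r₂, hr₂⟩ := (yon S).map_surjective (hr.fst (a ≫ f))
  rw [← hr₂] at hpbU
  have hr₁e : Etale (hr.snd (a ≫ f)).left := hy₀e.property _ _ _ hpbU
  have hr₁s : Surjective (hr.snd (a ≫ f)).left := hy₀s.property _ _ _ hpbU
  generalize hr.snd (a ≫ f) = r₁ at hpbU hr₁e hr₁s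
  have hw : (yon S).map (r₁ ≫ h) ≫ b = (yon S).map r₂ ≫ (y₀ ≫ g) := by
    rw [Functor.map_comp, Category.assoc, ← comm, ← Category.assoc ((yon S).map r₂),
      hpbU.w]
    simp
  obtain ⟨s, hs⟩ := (yon S).map_surjective (hpbV.lift _ _ hw)
  have hs1 : (yon S).map s ≫ (yon S).map c = (yon S).map (r₁ ≫ h) := by
    rw [hs]; exact hpbV.lift_fst _ _ hw
  have hs2 : (yon S).map s ≫ (yon S).map e = (yon S).map r₂ := by
    rw [hs]; exact hpbV.lift_snd _ _ hw
  have hr₁a : RepWith @Etale ((yon S).map r₁ ≫ a) :=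
    Groth.Agent.Helper4.AlgSpSrc.repWith_comp _ ((repWith_yon_map_iff _ _).2 hr₁e) ha
  have hQs : Q s.left := hf ((yon S).map r₁ ≫ a) ((yon S).map e ≫ y₀) s hr₁a hey₀ (by
    rw [Category.assoc, ← hpbU.w, ← Category.assoc, hs2])
  have heq : r₁ ≫ h = s ≫ c := by
    apply (yon S).map_injective
    rw [← hs1, Functor.map_comp]
  have hP : P (r₁ ≫ h).left := by
    rw [heq]
    show P (s.left ≫ c.left)
    exact h1 _ _ hQs hPc
  exact h2 r₁.left h.left hr₁e hr₁s hP

/-- the two closure properties for a property local at the source for `precoverage Q` -/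
theorem comp_of_isLocalAtSource (P Q : MorphismProperty Scheme.{u}) [Q.ContainsIdentities]
    [P.IsLocalAtSource (Scheme.precoverage Q)]
    {A B C : Scheme.{u}} (s : A ⟶ B) (c : B ⟶ C) (hs : Q s) (hc : P c) : P (s ≫ c) := by
  let Xs : Bool → Scheme.{u} := fun b => if b then A else B
  let fs : ∀ b, Xs b ⟶ B := fun b => match b with
    | true => s
    | false => 𝟙 B
  have hmem : Presieve.ofArrows Xs fs ∈ Scheme.precoverage Q B := by
    rw [Scheme.ofArrows_mem_precoverage_iff]
    refine ⟨fun x => ⟨false, x, rfl⟩, fun b => ?_⟩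
    cases b
    · exact Q.id_mem B
    · exact hs
  exact IsLocalAtSource.comp (P := P) hmem s (Presieve.ofArrows.mk true) hc

theorem descend_of_isLocalAtSource (P Q : MorphismProperty Scheme.{u})
    (hEt : ∀ {A B : Scheme.{u}} (g : A ⟶ B), Etale g → Q g)
    [P.IsLocalAtSource (Scheme.precoverage Q)]
    {A B C : Scheme.{u}} (e : A ⟶ B) (h : B ⟶ C) (he : Etale e) (hs : Surjective e)
    (hP : P (e ≫ h)) : P h := by
  have hmem : Presieve.singleton e ∈ Scheme.precoverage Q B := by
    rw [Scheme.singleton_mem_precoverage_iff]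
    exact ⟨e.surjective, hEt e he⟩
  refine IsLocalAtSource.of_forall_comp (P := P) hmem ?_
  rintro _ _ ⟨⟩
  exact hP

theorem of_family_of_isLocalAtSource (P Q : MorphismProperty Scheme.{u})
    [P.IsLocalAtSource (Scheme.precoverage Q)]
    {U V : Scheme.{u}} (k : U ⟶ V)
    (H : ∀ u : U, ∃ (A : Scheme.{u}) (e : A ⟶ U) (a : A), Q e ∧ e a = u ∧ P (e ≫ k)) : P k := by
  choose A e a hQ hea hP using H
  have hmem : Presieve.ofArrows A e ∈ Scheme.precoverage Q U := by
    rw [Scheme.ofArrows_mem_precoverage_iff]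
    exact ⟨fun u => ⟨u, a u, hea u⟩, hQ⟩
  refine IsLocalAtSource.of_forall_comp (P := P) hmem ?_
  rintro _ _ ⟨u⟩
  exact hP u

end Groth.Agent.Helper5.SrcLoc
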