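import Groth.Agent.Helper5.SrcLoc1
import Mathlib

/-! `LocP P` is τ-local on the source when `P` is τ-local on the source for schemes
(τ = fppf, smooth, etale). -/

set_option autoImplicit false
set_option linter.style.haveILetI false
set_option linter.unusedSectionVars false
set_option linter.unusedVariables false
universe u
open CategoryTheory CategoryTheory.Limits AlgebraicGeometry Opposite MorphismProperty

namespace Groth.Agent.Helper5.SrcLoc

open AlgSp Groth.Agent.Helper4.SDClasses Groth.Agent.Helper5.FpqcRef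
open Groth.Agent.Helper4.AlgSpPtsDesc

variable {S : Scheme.{u}}

set_option backward.isDefEq.respectTransparency.types false in
/-- the generic statement for a precoverage of the form `precoverage Q` -/
theorem isLocalOnSource_gen (P Q : MorphismProperty Scheme.{u}) [Q.ContainsIdentities]
    (hEt : ∀ {A B : Scheme.{u}} (g : A ⟶ B), Etale g → Q g)
    [P.IsLocalAtSource (Scheme.precoverage Q)]
    (C : MorphismProperty (Sp S)) (hC : ∀ {X Y : Sp S} (g : X ⟶ Y), C g → LocP Q g)
    (hC' : ∀ {X Y : Sp S} (g : X ⟶ Y), C g → ∀ {A B : Scheme.{u}} (c : A ⟶ B),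
      (∀ Q' : MorphismProperty Scheme.{u}, Good Q' → LocP Q' g → Q' c) → Q c) :
    IsLocalOnSource (fun _ _ Y g => IsCover C Y g) (LocP P) := by
  intro ι X Xi g hX hXi hcov Y f hY
  constructor
  · intro hf i
    exact locP_precomp_gen P Q (fun s c hs hc => comp_of_isLocalAtSource P Q s c hs hc)
      (fun e h he hs hP => descend_of_isLocalAtSource P Q hEt e h he hs hP) hX (g i) f
      (hC _ (hcov.1 i)) hf
  · intro hgf U V a b k hae hbe hcomm
    refine of_family_of_isLocalAtSource P Q k.left fun u => ?_
    obtain ⟨i, xi, hxi⟩ := hcov.2 (Points.map a (Points.schemeHomeo U u))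
    obtain ⟨A, e, l, v, hQ, hev, hl, hle⟩ := exists_chart_bc hX (hXi i) (g i) U a u xi hxi
    refine ⟨A.left, e.left, v, hC' _ (hcov.1 i) e.left hQ, hev, ?_⟩
    have : l ≫ (g i ≫ f) = (yon S).map (e ≫ k) ≫ b := by
      rw [← Category.assoc, hl, Category.assoc, hcomm, Functor.map_comp, Category.assoc]
    exact hgf i l b (e ≫ k) (hle hae) hbe this

theorem isLocalOnSource_fppf (P : MorphismProperty Scheme.{u})
    (h : P.IsLocalAtSource Scheme.fppfPrecoverage) :
    IsLocalOnSource (IsFppfCover (S := S)) (LocP P) := by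
  haveI : P.IsLocalAtSource (Scheme.precoverage (@Flat ⊓ @LocallyOfFinitePresentation)) := h
  haveI : (@Flat ⊓ @LocallyOfFinitePresentation : MorphismProperty Scheme.{u}).ContainsIdentities :=
    ⟨fun X => ⟨inferInstance, inferInstance⟩⟩
  refine isLocalOnSource_gen P (@Flat ⊓ @LocallyOfFinitePresentation)
    (fun g hg => ⟨inferInstance, inferInstance⟩) _ ?_ ?_
  · intro X Y g hg U V a b k ha hb w
    exact ⟨hg.1 a b k ha hb w, hg.2 a b k ha hb w⟩
  · intro X Y g hg A B c hc
    exact ⟨hc _ good_flat hg.1, hc _ good_lfp hg.2⟩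

theorem isLocalOnSource_smooth (P : MorphismProperty Scheme.{u})
    (h : P.IsLocalAtSource (Scheme.precoverage @Smooth)) :
    IsLocalOnSource (IsSmCover (S := S)) (LocP P) := by
  haveI := h
  haveI : MorphismProperty.ContainsIdentities (@Smooth : MorphismProperty Scheme.{u}) :=
    ⟨fun X => inferInstance⟩
  refine isLocalOnSource_gen P @Smooth (fun g hg => inferInstance) _ ?_ ?_
  · intro X Y g hg
    exact hg
  · intro X Y g hg A B c hc
    exact hc _ good_smooth hg

theorem isLocalOnSource_etale (P : MorphismProperty Scheme.{u})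
    (h : P.IsLocalAtSource Scheme.etalePrecoverage) :
    IsLocalOnSource (IsEtCover (S := S)) (LocP P) := by
  haveI : P.IsLocalAtSource (Scheme.precoverage @Etale) := h
  refine isLocalOnSource_gen P @Etale (fun g hg => hg) _ ?_ ?_
  · intro X Y g hg
    exact Groth.Agent.Helper5.AlgSpEt.locP_etale_of_isEtaleMor g hg
  · intro X Y g hg A B c hc
    exact hc _ good_etale (Groth.Agent.Helper5.AlgSpEt.locP_etale_of_isEtaleMor g hg)

end Groth.Agent.Helper5.SrcLoc
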