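import Groth.Agent.Helper5.SrcLoc1
import Mathlib

/-! `LocP P` is fpqc-local on the source when `P` is fpqc-local on the source for schemes:
the two closure properties. -/

set_option autoImplicit false
set_option linter.style.haveILetI false
set_option linter.unusedSectionVars false
set_option linter.unusedVariables false
universe u
open CategoryTheory CategoryTheory.Limits AlgebraicGeometry Opposite MorphismProperty

namespace Groth.Agent.Helper5.SrcLoc

open AlgSp Groth.Agent.Helper4.SDClasses Groth.Agent.Helper5.FpqcRef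
open Groth.Agent.Helper4.AlgSpPtsDesc

variable {S : Scheme.{u}}

theorem fpqc_comp (P : MorphismProperty Scheme.{u}) [P.IsLocalAtSource Scheme.fpqcPrecoverage]
    {A B C : Scheme.{u}} (s : A ⟶ B) (c : B ⟶ C) (hs : Flat s) (hc : P c) : P (s ≫ c) := by
  let E : PreZeroHypercover.{0} B :=
    { I₀ := Bool
      X := fun b => if b then A else B
      f := fun b => match b with
        | true => s
        | false => 𝟙 B }
  have hqc : QuasiCompactCover E := by
    refine ⟨fun {Z} hZ => ?_⟩
    refine IsCompactOpenCovered.of_finite (κ := Unit) (fun _ => false) (fun _ => Z)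
      (fun _ => hZ.isCompact) ?_
    ext x
    simp only [E, Set.mem_iUnion, Set.mem_image, SetLike.mem_coe]
    constructor
    · rintro ⟨_, y, hy, rfl⟩
      exact hy
    · intro hx
      exact ⟨(), x, hx, rfl⟩
  have hmem : E.presieve₀ ∈ Scheme.fpqcPrecoverage B := by
    refine ⟨Scheme.presieve₀_mem_qcPrecoverage_iff.2 hqc, ?_⟩
    show Presieve.ofArrows E.X E.f ∈ Scheme.precoverage @Flat B
    rw [Scheme.ofArrows_mem_precoverage_iff]
    refine ⟨fun x => ⟨false, x, rfl⟩, fun b => ?_⟩
    cases b
    · exact (inferInstance : Flat (𝟙 B))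
    · exact hs
  exact IsLocalAtSource.comp (P := P) hmem s (Presieve.ofArrows.mk (true : E.I₀)) hc

theorem fpqc_descend (P : MorphismProperty Scheme.{u}) [P.IsLocalAtSource Scheme.fpqcPrecoverage]
    {A B C : Scheme.{u}} (e : A ⟶ B) (h : B ⟶ C) (he : Etale e) (hs : Surjective e)
    (hP : P (e ≫ h)) : P h := by
  have hmem : Presieve.singleton e ∈ Scheme.fpqcPrecoverage B :=
    Scheme.fppfPrecoverage_le_fpqcPrecoverage _ (Scheme.Hom.singleton_mem_fppfPrecoverage e)
  refine IsLocalAtSource.of_forall_comp (P := P) hmem ?_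
  rintro _ _ ⟨⟩
  exact hP

end Groth.Agent.Helper5.SrcLoc
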