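import Groth.Agent.Helper5.SrcLoc3
import Mathlib

/-! fpqc coverings of algebraic spaces: a quasi-compact flat covering of an etale chart by charts
of the members. -/

set_option autoImplicit false
set_option linter.style.haveILetI false
set_option linter.unusedSectionVars false
set_option linter.unusedVariables false
universe u
open CategoryTheory CategoryTheory.Limits AlgebraicGeometry Opposite MorphismProperty

namespace Groth.Agent.Helper5.SrcLoc

open AlgSp Groth.Agent.Helper4.SDClasses Groth.Agent.Helper5.FpqcRef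
open Groth.Agent.Helper4.AlgSpPtsDesc

variable {S : Scheme.{u}}

/-- a surjective open map from a scheme onto a quasi-compact scheme is covered by a compact open -/
theorem exists_compact_open_image_eq_univ {A B : Scheme.{u}} (p : A ⟶ B) [CompactSpace B]
    (ho : IsOpenMap p) (hs : Function.Surjective p) :
    ∃ V : A.Opens, IsCompact (V : Set A) ∧ p '' (V : Set A) = Set.univ := by
  have h := IsCompactOpenCovered.of_isOpenMap (S := B) (ι := Unit) (X := fun _ => A)
    (f := fun _ => p) (fun _ => p.continuous) (fun _ => ho) (U := Set.univ)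
    (fun x _ => ⟨(), hs x⟩) isOpen_univ isCompact_univ
  rw [IsCompactOpenCovered.iff_of_unique] at h
  exact h

set_option backward.isDefEq.respectTransparency.types false in
/-- the data over one affine open of an etale chart -/
theorem exists_cover_data (P : MorphismProperty Scheme.{u})
    {ι : Type u} {X : Sp S} (Xi : ι → Sp S) (g : ∀ i, Xi i ⟶ X) (hX : IsAlgSpace X)
    (hXi : ∀ i, IsAlgSpace (Xi i)) (hcov : IsFpqcCover Xi g) {Y : Sp S} (f : X ⟶ Y)
    (hgf : ∀ i, LocP P (g i ≫ f))
    {U V : Over S} (a : (yon S).obj U ⟶ X) (b : (yon S).obj V ⟶ Y) (k : U ⟶ V)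
    (hae : RepWith @Etale a) (hbe : RepWith @Etale b) (hcomm : a ≫ f = (yon S).map k ≫ b)
    (Z : U.left.affineOpens) :
    ∃ (m : ℕ) (A : Fin m → Scheme.{u}) (e : ∀ j, A j ⟶ U.left),
      (∀ j, Flat (e j)) ∧ (∀ j, P (e j ≫ k.left)) ∧
      IsCompactOpenCovered (fun j => ⇑(e j)) (Z.1 : Set U.left) := by
  have hZe : RepWith @Etale ((yon S).map (affι U Z) ≫ a) :=
    Groth.Agent.Helper4.AlgSpSrc.repWith_comp _
      ((repWith_yon_map_iff _ _).2 (show Etale Z.1.ι from inferInstance)) hae
  obtain ⟨m, W, c, hWa, hcf, hcs, hl⟩ := hcov.2 (affOver U Z) Z.2 ((yon S).map (affι U Z) ≫ a)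
  choose i l hl using hl
  set hZ := (yon S).map (affι U Z) ≫ a with hhZ
  have main : ∀ j : Fin m, ∃ (A : Over S) (e : A ⟶ affOver U Z) (W' : Over S) (s : W' ⟶ W j)
      (t : W' ⟶ A), Flat e.left ∧ P (e.left ≫ Z.1.ι ≫ k.left) ∧ Etale s.left ∧
      Surjective s.left ∧ t ≫ e = s ≫ c j := by
    intro j
    have sq : IsPullback (pullback.fst (g (i j)) hZ) (pullback.snd (g (i j)) hZ) (g (i j)) hZ :=
      IsPullback.of_hasPullback _ _
    have hF : IsAlgSpace (pullback (g (i j)) hZ) :=
      Groth.Agent.Helper4.AlgSpPB.isAlgSpace_of_isPullback hX.diag (hXi (i j))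
        (IsAlgSpace.yon_obj _) (g (i j)) hZ _ _ sq
    obtain ⟨A, aA, haAe, haAs⟩ := hF.atlas
    obtain ⟨e, he⟩ := (yon S).map_surjective (aA ≫ pullback.snd (g (i j)) hZ)
    have hide : RepWith @Etale (𝟙 ((yon S).obj (affOver U Z))) := repWith_id _ _
    have hcomm' : aA ≫ pullback.snd (g (i j)) hZ = (yon S).map e ≫ 𝟙 _ := by
      rw [he, Category.comp_id]
    have hs1 : LocP @Flat (pullback.snd (g (i j)) hZ) := by
      have hG1 := good_flat.{u}
      have := hG1.bc
      have := hG1.comp
      exact Groth.Agent.Helper4.AlgSpLocPBC.locP_of_isPullback @Flat hG1.etale_le hG1.sd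
        (hXi (i j)) hX (g (i j)) hZ _ _ sq (hcov.1 (i j))
    have hflat : Flat e.left := hs1 _ _ e haAe hide hcomm'
    have hfst : RepWith @Etale (pullback.fst (g (i j)) hZ) := by
      have i1 := repWith_isStableUnderBaseChange (S := S) @Etale
      exact MorphismProperty.of_isPullback sq.flip hZe
    have hchart : RepWith @Etale (aA ≫ pullback.fst (g (i j)) hZ) :=
      Groth.Agent.Helper4.AlgSpSrc.repWith_comp _ haAe hfst
    have hP : P (e ≫ affι U Z ≫ k).left := by
      refine hgf (i j) (aA ≫ pullback.fst (g (i j)) hZ) b (e ≫ affι U Z ≫ k) hchart hbe ?_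
      rw [Category.assoc, ← Category.assoc (pullback.fst _ _), sq.w, Category.assoc,
        ← Category.assoc aA, ← he, hhZ, Category.assoc, hcomm]
      simp only [Functor.map_comp, Category.assoc]
    let l' : (yon S).obj (W j) ⟶ pullback (g (i j)) hZ :=
      pullback.lift (l j) ((yon S).map (c j)) (hl j)
    have hrep := haAe.rep
    have sqW := hrep.isPullback l'
    obtain ⟨t, ht⟩ := (yon S).map_surjective (hrep.fst l')
    refine ⟨A, e, hrep.pullback l', hrep.snd l', t, hflat, hP, haAe.property _ _ _ sqW,
      haAs.property _ _ _ sqW, ?_⟩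
    apply (yon S).map_injective
    rw [Functor.map_comp, Functor.map_comp, ht, he, ← Category.assoc, sqW.w, Category.assoc]
    congr 1
    exact pullback.lift_snd _ _ _
  choose A e W' s t hflat hP hse hss hte using main
  refine ⟨m, fun j => (A j).left, fun j => (e j).left ≫ Z.1.ι, fun j => ?_, hP, ?_⟩
  · haveI := hflat j
    infer_instance
  · -- compact open covering
    have hV : ∀ j, ∃ V : (W' j).left.Opens, IsCompact (V : Set (W' j).left) ∧
        (s j).left '' (V : Set (W' j).left) = Set.univ := by
      intro j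
      haveI : IsAffine (W j).left := hWa j
      haveI := hse j
      haveI := hss j
      exact exists_compact_open_image_eq_univ (s j).left (s j).left.isOpenMap (s j).left.surjective
    choose V' hV'c hV'i using hV
    have hg : IsCompactOpenCovered
        (fun j : Fin m => ⇑((s j).left ≫ (c j).left ≫ Z.1.ι)) (Z.1 : Set U.left) := by
      refine IsCompactOpenCovered.of_finite (κ := Fin m) id V' hV'c ?_
      ext x
      simp only [Set.mem_iUnion, Set.mem_image, SetLike.mem_coe, id]
      constructor
      · rintro ⟨j, w', hw', rfl⟩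
        rw [Scheme.Hom.comp_apply, Scheme.Hom.comp_apply]
        have : Z.1.ι ((c j).left ((s j).left w')) ∈ Set.range Z.1.ι := ⟨_, rfl⟩
        rw [Scheme.Opens.range_ι] at this
        exact this
      · intro hx
        have hxr : x ∈ Set.range Z.1.ι := by rw [Scheme.Opens.range_ι]; exact hx
        obtain ⟨z, rfl⟩ := hxr
        obtain ⟨j, w, hw⟩ := hcs z
        have : w ∈ (s j).left '' (V' j : Set (W' j).left) := by rw [hV'i j]; trivial
        obtain ⟨w', hw', rfl⟩ := this
        refine ⟨j, w', hw', ?_⟩
        rw [Scheme.Hom.comp_apply, Scheme.Hom.comp_apply, hw]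
    refine IsCompactOpenCovered.of_comp (f := fun j : Fin m => ⇑((e j).left ≫ Z.1.ι))
      (fun j : Fin m => ⇑((s j).left ≫ (c j).left ≫ Z.1.ι)) (a := id)
      (fun j => ⇑(t j).left) (fun j => (t j).left.continuous) ?_
      (fun j => ((e j).left ≫ Z.1.ι).continuous) Z.1.2 hg
    intro j
    have h1 := congrArg (fun q => q.left) (hte j)
    simp only [Over.comp_left] at h1
    funext w
    simp only [Function.comp, id]
    rw [← Scheme.Hom.comp_apply, ← Category.assoc, ← h1, Category.assoc]

end Groth.Agent.Helper5.SrcLoc
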