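import Groth.Agent.Helper5.SrcLoc4
import Groth.Agent.Helper5.SrcLoc2
import Mathlib

/-! `LocP P` is τ-local on the source when `P` is τ-local on the source for schemes. -/

set_option autoImplicit false
set_option linter.style.haveILetI false
set_option linter.unusedSectionVars false
set_option linter.unusedVariables false
universe u
open CategoryTheory CategoryTheory.Limits AlgebraicGeometry Opposite MorphismProperty

namespace Groth.Agent.Helper5.SrcLoc

open AlgSp Groth.Agent.Helper4.SDClasses Groth.Agent.Helper5.FpqcRef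
open Groth.Agent.Helper4.AlgSpPtsDesc

variable {S : Scheme.{u}}

set_option backward.isDefEq.respectTransparency.types false in
theorem isLocalOnSource_fpqc (P : MorphismProperty Scheme.{u})
    (h : P.IsLocalAtSource Scheme.fpqcPrecoverage) :
    IsLocalOnSource (IsFpqcCover (S := S)) (LocP P) := by
  haveI := h
  intro ι X Xi g hX hXi hcov Y f hY
  constructor
  · intro hf i
    exact locP_precomp_gen P @Flat (fun s c hs hc => fpqc_comp P s c hs hc)
      (fun e h he hs hP => fpqc_descend P e h he hs hP) hX (g i) f (hcov.1 i) hf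
  · intro hgf U V a b k hae hbe hcomm
    choose m A e hflat hP hcov' using
      exists_cover_data P Xi g hX hXi hcov f hgf a b k hae hbe hcomm
    let E : PreZeroHypercover.{u} U.left :=
      { I₀ := Σ Z : U.left.affineOpens, Fin (m Z)
        X := fun p => A p.1 p.2
        f := fun p => e p.1 p.2 }
    have hqc : QuasiCompactCover E := by
      refine ⟨fun {Z₀} hZ₀ => ?_⟩
      exact IsCompactOpenCovered.of_comp (f := fun p : E.I₀ => ⇑(E.f p))
        (fun j : Fin (m ⟨Z₀, hZ₀⟩) => ⇑(e ⟨Z₀, hZ₀⟩ j)) (a := fun j => ⟨⟨Z₀, hZ₀⟩, j⟩)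
        (fun j => id) (fun j => continuous_id) (fun j => rfl) (fun p => (E.f p).continuous)
        Z₀.2 (hcov' ⟨Z₀, hZ₀⟩)
    have hmem : E.presieve₀ ∈ Scheme.fpqcPrecoverage U.left := by
      refine ⟨Scheme.presieve₀_mem_qcPrecoverage_iff.2 hqc, ?_⟩
      show Presieve.ofArrows E.X E.f ∈ Scheme.precoverage @Flat U.left
      rw [Scheme.ofArrows_mem_precoverage_iff]
      refine ⟨fun x => ?_, fun p => hflat p.1 p.2⟩
      obtain ⟨Z, hZ, hxZ, -⟩ := exists_isAffineOpen_mem_and_subset
        (show x ∈ (⊤ : U.left.Opens) from trivial)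
      obtain ⟨s, hs, V', hc, hU⟩ := hcov' ⟨Z, hZ⟩
      have hx : x ∈ ⋃ (i) (h : i ∈ s), (e ⟨Z, hZ⟩ i) '' (V' i h) := by rw [hU]; exact hxZ
      simp only [Set.mem_iUnion] at hx
      obtain ⟨j, hj, y, hy, rfl⟩ := hx
      exact ⟨⟨⟨Z, hZ⟩, j⟩, y, rfl⟩
    refine IsLocalAtSource.of_forall_comp (P := P) hmem ?_
    rintro _ _ ⟨p⟩
    exact hP p.1 p.2

theorem s10580 (S : Scheme.{u}) (P : MorphismProperty Scheme.{u}) :
    (P.IsLocalAtSource Scheme.fpqcPrecoverage →
      AlgSp.IsLocalOnSource (AlgSp.IsFpqcCover (S := S)) (AlgSp.LocP P)) ∧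
    (P.IsLocalAtSource Scheme.fppfPrecoverage →
      AlgSp.IsLocalOnSource (AlgSp.IsFppfCover (S := S)) (AlgSp.LocP P)) ∧
    (P.IsLocalAtSource (Scheme.precoverage @Smooth) →
      AlgSp.IsLocalOnSource (AlgSp.IsSmCover (S := S)) (AlgSp.LocP P)) ∧
    (P.IsLocalAtSource Scheme.etalePrecoverage →
      AlgSp.IsLocalOnSource (AlgSp.IsEtCover (S := S)) (AlgSp.LocP P)) :=
  ⟨isLocalOnSource_fpqc P, isLocalOnSource_fppf P, isLocalOnSource_smooth P,
    isLocalOnSource_etale P⟩

end Groth.Agent.Helper5.SrcLoc
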