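import Mathlib
import Groth.Prelude
import Groth.Agent.Helper5.FlatOrbit1
import Groth.Agent.Helper5.OrbQ4
import Groth.Agent.Helper9.SubGrpObj

set_option autoImplicit false
set_option linter.unusedSectionVars false
set_option linter.style.haveILetI false
universe u

open AlgebraicGeometry CategoryTheory CategoryTheory.Limits
open MonoidalCategory CartesianMonoidalCategory MonObj

namespace Groth.Agent.Helper5.StabGrp

open Groth.Agent.Helper5.FlatOrbit Groth.Agent.Helper5.OrbQ

variable {S : Scheme.{u}} {G X : Over S} [GrpObj G] (a : AlgGrp.Action G X)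
  (x : 𝟙_ (Over S) ⟶ X) {H : Over S} (j : H ⟶ G)

/-- the constant `T`-point at `x` -/
noncomputable abbrev cst (T : Over S) : T ⟶ X := toUnit T ≫ x

theorem comp_cst {T T' : Over S} (f : T' ⟶ T) : f ≫ cst x T = cst x T' := by
  rw [cst, ← Category.assoc, toUnit_unique (f ≫ toUnit T) (toUnit T')]

variable {a x j}

theorem mono_of_isPullback (hpb : IsPullback j (toUnit H) (a.orbitMap x) x) : Mono j := by
  constructor
  intro T u v huv
  exact hpb.hom_ext huv (toUnit_unique _ _)

/-- a `T`-point of `G` fixing `x` -/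
theorem fixes_iff {T : Over S} (g : T ⟶ G) :
    g ≫ a.orbitMap x = toUnit T ≫ x ↔ sm a g (cst x T) = cst x T := by
  rw [comp_orbitMap]

theorem fixes_comp (hpb : IsPullback j (toUnit H) (a.orbitMap x) x) {T : Over S} (h : T ⟶ H) :
    sm a (h ≫ j) (cst x T) = cst x T := by
  rw [← fixes_iff, Category.assoc, hpb.w, ← Category.assoc, toUnit_unique (h ≫ toUnit H) (toUnit T)]

theorem fixes_one {T : Over S} : sm a (1 : T ⟶ G) (cst x T) = cst x T := one_sm a _

theorem fixes_mul {T : Over S} (g g' : T ⟶ G) (hg : sm a g (cst x T) = cst x T)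
    (hg' : sm a g' (cst x T) = cst x T) : sm a (g * g') (cst x T) = cst x T := by
  rw [mul_sm, hg', hg]

theorem fixes_inv {T : Over S} (g : T ⟶ G) (hg : sm a g (cst x T) = cst x T) :
    sm a g⁻¹ (cst x T) = cst x T := by
  conv_lhs => rw [← hg]
  rw [← mul_sm, inv_mul_cancel, one_sm]

/-- the unit of the stabiliser -/
noncomputable def stabOne (hpb : IsPullback j (toUnit H) (a.orbitMap x) x) : 𝟙_ (Over S) ⟶ H :=
  hpb.lift (1 : 𝟙_ (Over S) ⟶ G) (toUnit _) ((fixes_iff _).2 fixes_one)

/-- the multiplication of the stabiliser -/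
noncomputable def stabMul (hpb : IsPullback j (toUnit H) (a.orbitMap x) x) : H ⊗ H ⟶ H :=
  hpb.lift ((fst H H ≫ j) * (snd H H ≫ j)) (toUnit _)
    ((fixes_iff _).2 (fixes_mul _ _ (fixes_comp hpb _) (fixes_comp hpb _)))

/-- the inverse of the stabiliser -/
noncomputable def stabInv (hpb : IsPullback j (toUnit H) (a.orbitMap x) x) : H ⟶ H :=
  hpb.lift (j⁻¹) (toUnit _)
    ((fixes_iff _).2 (fixes_inv _ (by
      have := fixes_comp hpb (𝟙 H)
      rwa [Category.id_comp] at this)))

theorem stabOne_comp (hpb : IsPullback j (toUnit H) (a.orbitMap x) x) :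
    stabOne hpb ≫ j = η[G] := by
  rw [stabOne, hpb.lift_fst, Hom.one_def, toUnit_unique (toUnit (𝟙_ (Over S))) (𝟙 _),
    Category.id_comp]

theorem stabMul_comp (hpb : IsPullback j (toUnit H) (a.orbitMap x) x) :
    stabMul hpb ≫ j = (j ⊗ₘ j) ≫ μ[G] := by
  rw [stabMul, hpb.lift_fst, Hom.mul_def]
  congr 1

theorem stabInv_comp (hpb : IsPullback j (toUnit H) (a.orbitMap x) x) :
    stabInv hpb ≫ j = j ≫ ι[G] := by
  rw [stabInv, hpb.lift_fst, Hom.inv_def]

/-- **The stabiliser of a section is a group object.** -/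
@[reducible] noncomputable def grpObj (hpb : IsPullback j (toUnit H) (a.orbitMap x) x) :
    GrpObj H :=
  haveI := mono_of_isPullback hpb
  Groth.Agent.Helper9.SubGrpObj.grpObjOfMono j (stabOne hpb) (stabMul hpb) (stabInv hpb)
    (stabOne_comp hpb) (stabMul_comp hpb) (stabInv_comp hpb)

theorem isMonHom (hpb : IsPullback j (toUnit H) (a.orbitMap x) x) :
    letI := grpObj hpb
    IsMonHom j := by
  haveI := mono_of_isPullback hpb
  exact Groth.Agent.Helper9.SubGrpObj.isMonHom_of_grpObjOfMono j (stabOne hpb) (stabMul hpb)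
    (stabInv hpb) (stabOne_comp hpb) (stabMul_comp hpb) (stabInv_comp hpb)

end Groth.Agent.Helper5.StabGrp
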