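import Mathlib
import Groth.Prelude
import Groth.Agent.Helper5.StabGrp1

set_option autoImplicit false
set_option linter.unusedSectionVars false
set_option linter.style.haveILetI false
universe u

open AlgebraicGeometry CategoryTheory CategoryTheory.Limits
open MonoidalCategory CartesianMonoidalCategory MonObj

namespace Groth.Agent.Helper5.StabGrp

open Groth.Agent.Helper5.FlatOrbit

variable {B : Scheme.{u}} {G X : Over B} [GrpObj G] (a : AlgGrp.Action G X)

/-- `ψ = (g,x) ↦ (g x, x)` -/
noncomputable abbrev Ψ : G ⊗ X ⟶ X ⊗ X := GIT.psi a (𝟙 X)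

/-- the diagonal -/
noncomputable abbrev Δ' (X : Over B) : X ⟶ X ⊗ X := lift (𝟙 X) (𝟙 X)

/-- the universal stabiliser as a scheme -/
noncomputable abbrev St : Scheme.{u} := pullback (Ψ a).left (Δ' X).left

/-- the projection of the universal stabiliser to `X` -/
noncomputable abbrev stπ : St a ⟶ X.left := pullback.snd (Ψ a).left (Δ' X).left

/-- the universal stabiliser as an `X`-scheme -/
noncomputable abbrev StO : Over X.left := Over.mk (stπ a)

/-- the diagonal section of `X ×_B X → X` -/
noncomputable def δ (X : Over B) : 𝟙_ (Over X.left) ⟶ Red.bc X.hom X :=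
  Over.homMk (pullback.lift (𝟙 X.left) (𝟙 X.left) rfl) (by
    change pullback.lift (𝟙 X.left) (𝟙 X.left) rfl ≫ pullback.snd X.hom X.hom = 𝟙 _
    rw [pullback.lift_snd])

theorem δ_left : (δ X).left = (Δ' X).left := by
  apply pullback.hom_ext
  · change pullback.lift (𝟙 X.left) (𝟙 X.left) rfl ≫ pullback.fst X.hom X.hom =
      (Δ' X).left ≫ (fst X X).left
    rw [pullback.lift_fst, ← Over.comp_left, lift_fst]
    rfl
  · change pullback.lift (𝟙 X.left) (𝟙 X.left) rfl ≫ pullback.snd X.hom X.hom =
      (Δ' X).left ≫ (snd X X).left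
    rw [pullback.lift_snd, ← Over.comp_left, lift_snd]
    rfl

/-- the orbit map of the diagonal section for the base-changed action -/
noncomputable abbrev orbδ : Red.bc X.hom G ⟶ Red.bc X.hom X := (a.bc X.hom).orbitMap (δ X)

theorem orbδ_left_snd : (orbδ a).left ≫ pullback.snd X.hom X.hom = pullback.snd G.hom X.hom :=
  Over.w (orbδ a)

theorem psi_left_fst : (Ψ a).left ≫ pullback.fst X.hom X.hom = a.act.left := by
  change (Ψ a).left ≫ (fst X X).left = _
  rw [← Over.comp_left, show Ψ a = lift ((G ◁ 𝟙 X) ≫ a.act) (snd G X) from rfl, lift_fst,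
    MonoidalCategory.whiskerLeft_id, Category.id_comp]

theorem psi_left_snd : (Ψ a).left ≫ pullback.snd X.hom X.hom = pullback.snd G.hom X.hom := by
  change (Ψ a).left ≫ (snd X X).left = (snd G X).left
  rw [← Over.comp_left, show Ψ a = lift ((G ◁ 𝟙 X) ≫ a.act) (snd G X) from rfl, lift_snd]

theorem orbδ_left_fst : (orbδ a).left ≫ pullback.fst X.hom X.hom = a.act.left := by
  rw [show orbδ a = lift (𝟙 (Red.bc X.hom G)) (toUnit (Red.bc X.hom G) ≫ δ X) ≫
      (a.bc X.hom).act from rfl, AlgGrp.Action.bc_act, Over.comp_left, Over.comp_left,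
    Category.assoc, Category.assoc, ActBC.pullback_map_left_fst]
  have h : (lift (𝟙 (Red.bc X.hom G)) (toUnit (Red.bc X.hom G) ≫ δ X)).left ≫
      (Functor.LaxMonoidal.μ (Over.pullback X.hom) G X).left ≫
        pullback.fst (G ⊗ X).hom X.hom = 𝟙 (pullback G.hom X.hom) := by
    apply pullback.hom_ext
    · rw [Category.assoc, Category.assoc, ActBC.μ_left_fst_fst]
      change (lift (𝟙 (Red.bc X.hom G)) (toUnit (Red.bc X.hom G) ≫ δ X)).left ≫
        (fst (Red.bc X.hom G) (Red.bc X.hom X)).left ≫ _ = _
      rw [← Over.comp_left_assoc, lift_fst]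
      rfl
    · rw [Category.assoc, Category.assoc, ActBC.μ_left_fst_snd]
      change (lift (𝟙 (Red.bc X.hom G)) (toUnit (Red.bc X.hom G) ≫ δ X)).left ≫
        (snd (Red.bc X.hom G) (Red.bc X.hom X)).left ≫ _ = _
      rw [← Over.comp_left_assoc, lift_snd, Over.comp_left, Category.assoc]
      change (toUnit (Red.bc X.hom G)).left ≫ pullback.lift (𝟙 X.left) (𝟙 X.left) rfl ≫
        pullback.fst X.hom X.hom = _
      rw [pullback.lift_fst]
      exact (Category.comp_id _).trans (((Over.w (toUnit (Red.bc X.hom G))).trans rfl).trans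
        (Category.id_comp _).symm)
  rw [reassoc_of% h]
  exact Category.id_comp _

theorem orbδ_left : (orbδ a).left = (Ψ a).left := by
  apply pullback.hom_ext
  · rw [orbδ_left_fst, psi_left_fst]
  · rw [orbδ_left_snd, psi_left_snd]


theorem diag_left_snd : (Δ' X).left ≫ pullback.snd X.hom X.hom = 𝟙 X.left := by
  change (Δ' X).left ≫ (snd X X).left = _
  rw [← Over.comp_left, lift_snd]
  rfl

/-- inclusion of the universal stabiliser into `G_X` -/
noncomputable def stj : StO a ⟶ Red.bc X.hom G :=
  Over.homMk (pullback.fst (Ψ a).left (Δ' X).left) (by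
    change pullback.fst _ _ ≫ pullback.snd G.hom X.hom = stπ a
    rw [← psi_left_snd, pullback.condition_assoc, diag_left_snd, Category.comp_id])

theorem stj_left : (stj a).left = pullback.fst (Ψ a).left (Δ' X).left := rfl

theorem isPullback_st : IsPullback (stj a) (toUnit (StO a)) (orbδ a) (δ X) := by
  have hw : stj a ≫ orbδ a = toUnit (StO a) ≫ δ X := by
    ext1
    rw [Over.comp_left, Over.comp_left, orbδ_left, δ_left, stj_left, Over.toUnit_left]
    exact pullback.condition
  refine IsPullback.of_map (Over.forget X.left) hw ?_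
  change IsPullback (stj a).left (toUnit (StO a)).left (orbδ a).left (δ X).left
  rw [orbδ_left, δ_left, stj_left, Over.toUnit_left]
  exact IsPullback.of_hasPullback _ _

/-- **The universal stabiliser is a group scheme over `X`.** -/
@[reducible] noncomputable def stGrp : GrpObj (StO a) := grpObj (isPullback_st a)

theorem stj_isMonHom :
    letI := stGrp a
    IsMonHom (stj a) := isMonHom (isPullback_st a)

end Groth.Agent.Helper5.StabGrp
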