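import Mathlib
import Groth.Prelude
import Groth.Agent.Helper5.StabGrp2
import Groth.Agent.Helper5.ProdDom
import Groth.Agent.Helper5.GrpDimSc

set_option autoImplicit false
set_option linter.unusedSectionVars false
set_option linter.style.haveILetI false
universe u

open AlgebraicGeometry CategoryTheory CategoryTheory.Limits
open MonoidalCategory CartesianMonoidalCategory MonObj

namespace Groth.Agent.Helper5.StabGrp

open Groth.Agent.Helper5.FlatOrbit Groth.Agent.Helper5.GrpDense

variable {B : Scheme.{u}} {G X : Over B} [GrpObj G] (a : AlgGrp.Action G X)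

theorem psi_snd {T : Over B} (f : T ⟶ X) : GIT.psi a f ≫ snd X T = snd G T := by
  rw [GIT.psi, lift_snd]

theorem psi_fst {T : Over B} (f : T ⟶ X) : GIT.psi a f ≫ fst X T = (G ◁ f) ≫ a.act := by
  rw [GIT.psi, lift_fst]

theorem whiskerLeft_psi {T : Over B} (f : T ⟶ X) :
    (G ◁ f) ≫ Ψ a = GIT.psi a f ≫ (X ◁ f) := by
  apply CartesianMonoidalCategory.hom_ext
  · rw [Category.assoc, Category.assoc, psi_fst, whiskerLeft_fst, psi_fst,
      MonoidalCategory.whiskerLeft_id, Category.id_comp]
  · rw [Category.assoc, Category.assoc, psi_snd, whiskerLeft_snd, whiskerLeft_snd,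
      ← Category.assoc, psi_snd]

/-- `G × T → X × T` is the base change of `G × X → X × X` along `X × T → X × X` -/
theorem isPullback_psi {T : Over B} (f : T ⟶ X) :
    IsPullback (G ◁ f).left (GIT.psi a f).left (Ψ a).left (X ◁ f).left := by
  have hw : (G ◁ f).left ≫ (Ψ a).left = (GIT.psi a f).left ≫ (X ◁ f).left := by
    rw [← Over.comp_left, ← Over.comp_left, whiskerLeft_psi]
  have hr : IsPullback (X ◁ f).left (snd X T).left (snd X X).left f.left :=
    isPullback_whiskerLeft X f
  have ho : IsPullback (G ◁ f).left ((GIT.psi a f).left ≫ (snd X T).left)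
      ((Ψ a).left ≫ (snd X X).left) f.left := by
    rw [← Over.comp_left, ← Over.comp_left, psi_snd, psi_snd]
    exact isPullback_whiskerLeft G f
  exact IsPullback.of_bot ho hw hr

/-- the stabiliser of a `T`-point is the base change of the universal stabiliser -/
theorem isPullback_stab {T : Over B} (f : T ⟶ X) :
    ∃ u : GLinSh.stab a f ⟶ St a, IsPullback u (GLinSh.stabTo a f) (stπ a) f.left := by
  let p1 : GLinSh.stab a f ⟶ (G ⊗ T).left := pullback.fst (GIT.psi a f).left (lift f (𝟙 T)).left
  have h1 : IsPullback p1 (GLinSh.stabTo a f) (GIT.psi a f).left (lift f (𝟙 T)).left :=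
    IsPullback.of_hasPullback _ _
  have h2 := h1.paste_horiz (isPullback_psi a f)
  have e : (lift f (𝟙 T)).left ≫ (X ◁ f).left = f.left ≫ (Δ' X).left := by
    rw [← Over.comp_left, ← Over.comp_left]
    congr 1
    apply CartesianMonoidalCategory.hom_ext
    · rw [Category.assoc, whiskerLeft_fst, lift_fst, Category.assoc, lift_fst, Category.comp_id]
    · rw [Category.assoc, whiskerLeft_snd, lift_snd_assoc, Category.id_comp, Category.assoc,
        lift_snd, Category.comp_id]
  rw [e] at h2
  have h3 : IsPullback (pullback.fst (Ψ a).left (Δ' X).left) (stπ a) (Ψ a).left (Δ' X).left :=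
    IsPullback.of_hasPullback _ _
  refine ⟨h3.lift (p1 ≫ (G ◁ f).left) (GLinSh.stabTo a f ≫ f.left)
      (h2.w.trans (Category.assoc _ _ _).symm),
    IsPullback.of_right ?_ (h3.lift_snd _ _ _) h3⟩
  rw [h3.lift_fst]
  exact h2


/-- dimension of the stabiliser of a point = dimension of the fibre of the universal stabiliser -/
theorem dim_stab_eq (x : X.left) :
    topologicalKrullDim (GLinSh.stab a (Over.homMk (X.left.fromSpecResidueField x) rfl :
        Over.mk (X.left.fromSpecResidueField x ≫ X.hom) ⟶ X)) =
      topologicalKrullDim ↥((stπ a) ⁻¹' {x}) := by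
  obtain ⟨u, hu⟩ := isPullback_stab a (Over.homMk (X.left.fromSpecResidueField x) rfl :
        Over.mk (X.left.fromSpecResidueField x ≫ X.hom) ⟶ X)
  have e : GLinSh.stab a (Over.homMk (X.left.fromSpecResidueField x) rfl :
        Over.mk (X.left.fromSpecResidueField x ≫ X.hom) ⟶ X) ≅ (stπ a).fiber x :=
    hu.isoPullback
  let h1 := Scheme.homeoOfIso e
  let h2 := (stπ a).fiberHomeo x
  exact IsHomeomorph.topologicalKrullDim_eq _ (h1.trans h2).isHomeomorph

theorem locallyOfFiniteType_stπ (k : Type u) [Field k] {G X : Over (Spec (CommRingCat.of k))}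
    [GrpObj G] [LocallyOfFiniteType G.hom] [LocallyOfFiniteType X.hom] (a : AlgGrp.Action G X) :
    LocallyOfFiniteType (stπ a) := by
  haveI : LocallyOfFiniteType (G ⊗ X).hom := by
    rw [Over.tensorObj_hom]; infer_instance
  haveI : LocallyOfFiniteType ((Ψ a).left ≫ (X ⊗ X).hom) := by
    rw [Over.w]; infer_instance
  haveI : LocallyOfFiniteType (Ψ a).left := locallyOfFiniteType_of_comp (Ψ a).left (X ⊗ X).hom
  show LocallyOfFiniteType (pullback.snd (Ψ a).left (Δ' X).left)
  infer_instance

/-- **Upper semicontinuity of the stabiliser dimension.** -/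
theorem s19426 (k : Type u) [Field k] (G X : Over (Spec (CommRingCat.of k))) [GrpObj G]
    [LocallyOfFiniteType G.hom] [LocallyOfFiniteType X.hom]
    (a : AlgGrp.Action G X) (n : WithBot ℕ∞) :
    IsClosed {x : X.left | n ≤ topologicalKrullDim
      (GLinSh.stab a (Over.homMk (X.left.fromSpecResidueField x) rfl :
        Over.mk (X.left.fromSpecResidueField x ≫ X.hom) ⟶ X))} := by
  letI := stGrp a
  haveI : LocallyOfFiniteType (StO a).hom := locallyOfFiniteType_stπ k a
  have h := Groth.Agent.Helper5.GrpDimSc.usc (StO a)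
  have h2 := h.isClosed_preimage n
  convert h2 using 1
  ext x
  simp only [Set.mem_ofPred_eq, Set.mem_preimage, Set.mem_Ici]
  rw [dim_stab_eq]
  rfl

end Groth.Agent.Helper5.StabGrp
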