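import Mathlib
import Groth.Prelude
import Groth.Agent.Helper5.FibGrp9

set_option autoImplicit false
set_option linter.unusedSectionVars false
set_option linter.style.haveILetI false
set_option linter.unusedVariables false
universe u

open AlgebraicGeometry CategoryTheory CategoryTheory.Limits

namespace Groth.Agent.Helper5.TrivFib

open Groth.Agent.Helper5.FibGrp

variable {S X : Scheme.{u}} (s : S ⟶ X)

/-- a morphism with trivial fibres is universally injective -/
theorem universallyInjective_of_trivial_fibres
    (htriv : ∀ x : X, IsIso (s.fiberToSpecResidueField x)) : UniversallyInjective s := by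
  have h := (tfae_universallyInjective s).out 1 0
  rw [← h]
  intro K _ g₁ g₂ hg
  have hg' : g₁ ≫ s = g₂ ≫ s := hg
  let pt : Spec (CommRingCat.of K) := IsLocalRing.closedPoint K
  let x : X := (g₁ ≫ s) pt
  let h' : Spec (CommRingCat.of K) ⟶ Spec (X.residueField x) :=
    Spec.map (Scheme.descResidueField (Scheme.stalkClosedPointTo (g₁ ≫ s)))
  have hh' : h' ≫ X.fromSpecResidueField x = g₁ ≫ s :=
    Scheme.descResidueField_stalkClosedPointTo_fromSpecResidueField K X (g₁ ≫ s)
  let ĝ₁ : Spec (CommRingCat.of K) ⟶ s.fiber x := pullback.lift g₁ h' hh'.symm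
  let ĝ₂ : Spec (CommRingCat.of K) ⟶ s.fiber x := pullback.lift g₂ h' (by rw [hh', hg'])
  haveI := htriv x
  have h1 : ĝ₁ ≫ s.fiberToSpecResidueField x = ĝ₂ ≫ s.fiberToSpecResidueField x := by
    have e1 : ĝ₁ ≫ s.fiberToSpecResidueField x = h' := pullback.lift_snd _ _ _
    have e2 : ĝ₂ ≫ s.fiberToSpecResidueField x = h' := pullback.lift_snd _ _ _
    rw [e1, e2]
  have h2 : ĝ₁ = ĝ₂ := (cancel_mono (s.fiberToSpecResidueField x)).1 h1
  have h3 : ĝ₁ ≫ s.fiberι x = g₁ := pullback.lift_fst _ _ _
  have h4 : ĝ₂ ≫ s.fiberι x = g₂ := pullback.lift_fst _ _ _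
  rw [← h3, ← h4, h2]

/-- a morphism locally of finite type with trivial fibres is unramified -/
theorem formallyUnramified_of_trivial_fibres [LocallyOfFiniteType s]
    (htriv : ∀ x : X, IsIso (s.fiberToSpecResidueField x)) : FormallyUnramified s := by
  rw [formallyUnramified_iff_forall_unrAt]
  intro z
  let x : X := s z
  have hsq : IsPullback (s.fiberι x) (s.fiberToSpecResidueField x) s (X.fromSpecResidueField x) :=
    IsPullback.of_hasPullback s (X.fromSpecResidueField x)
  obtain ⟨z', hz'1, -⟩ := Scheme.Pullback.exists_preimage_pullback (f := s)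
    (g := X.fromSpecResidueField x) z
    (show Spec (X.residueField x) from IsLocalRing.closedPoint (X.residueField x))
    (Scheme.fromSpecResidueField_apply x _).symm
  have hz' : s.fiberι x z' = z := hz'1
  rw [← hz', ← bcInv_unrAt s (X.fromSpecResidueField x) (s.fiberι x)
    (s.fiberToSpecResidueField x) hsq z']
  haveI := htriv x
  show ((s.fiberToSpecResidueField x).stalkMap z').hom.FormallyUnramified
  haveI : IsIso ((s.fiberToSpecResidueField x).stalkMap z') :=
    ((isIso_iff_isIso_stalkMap (s.fiberToSpecResidueField x)).1 inferInstance).2 z'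
  exact RingHom.FormallyUnramified.of_surjective
    (ConcreteCategory.bijective_of_isIso ((s.fiberToSpecResidueField x).stalkMap z')).2

/-- **a morphism locally of finite type with trivial fibres is a monomorphism** -/
theorem mono_of_trivial_fibres [LocallyOfFiniteType s]
    (htriv : ∀ x : X, IsIso (s.fiberToSpecResidueField x)) : Mono s := by
  haveI := universallyInjective_of_trivial_fibres s htriv
  haveI := formallyUnramified_of_trivial_fibres s htriv
  haveI : IsOpenImmersion (pullback.diagonal s) := inferInstance
  haveI : Surjective (pullback.diagonal s) := (UniversallyInjective.iff_diagonal s).1 inferInstance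
  haveI : Epi (pullback.diagonal s).base :=
    (TopCat.epi_iff_surjective _).2 (pullback.diagonal s).surjective
  haveI : IsIso (pullback.diagonal s) := IsOpenImmersion.isIso _
  haveI : IsIso (pullback.fst s s) := by
    have h : pullback.diagonal s ≫ pullback.fst s s = 𝟙 _ := pullback.diagonal_fst s
    haveI : IsIso (pullback.diagonal s ≫ pullback.fst s s) := by rw [h]; infer_instance
    exact IsIso.of_isIso_comp_left (pullback.diagonal s) (pullback.fst s s)
  have hk : IsKernelPair s (pullback.fst s s) (pullback.snd s s) := IsPullback.of_hasPullback s s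
  exact hk.mono_of_isIso_fst

end Groth.Agent.Helper5.TrivFib
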