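import Mathlib
import Groth.Prelude
import Groth.Agent.Helper5.StabGrp3
import Groth.Agent.Helper5.TrivFib1
import Groth.Agent.Helper7.CartierSch
import Groth.Agent.Helper2.HS6

set_option autoImplicit false
set_option linter.unusedSectionVars false
set_option linter.style.haveILetI false
universe u

open AlgebraicGeometry CategoryTheory CategoryTheory.Limits
open MonoidalCategory CartesianMonoidalCategory MonObj

namespace Groth.Agent.Helper5.StabGrp

/-- universally injective + unramified + locally of finite type ⇒ monomorphism -/
theorem mono_of_universallyInjective_of_formallyUnramified {S X : Scheme.{u}} (s : S ⟶ X)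
    [LocallyOfFiniteType s] [UniversallyInjective s] [FormallyUnramified s] : Mono s := by
  haveI : IsOpenImmersion (pullback.diagonal s) := inferInstance
  haveI : Surjective (pullback.diagonal s) := (UniversallyInjective.iff_diagonal s).1 inferInstance
  haveI : Epi (pullback.diagonal s).base :=
    (TopCat.epi_iff_surjective _).2 (pullback.diagonal s).surjective
  haveI : IsIso (pullback.diagonal s) := IsOpenImmersion.isIso _
  haveI : IsIso (pullback.fst s s) := by
    have h : pullback.diagonal s ≫ pullback.fst s s = 𝟙 _ := pullback.diagonal_fst s
    haveI : IsIso (pullback.diagonal s ≫ pullback.fst s s) := by rw [h]; infer_instance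
    exact IsIso.of_isIso_comp_left (pullback.diagonal s) (pullback.fst s s)
  have hk : IsKernelPair s (pullback.fst s s) (pullback.snd s s) := IsPullback.of_hasPullback s s
  exact hk.mono_of_isIso_fst

theorem isIso_of_mono_of_section {S X : Scheme.{u}} (s : S ⟶ X) [Mono s] (σ : X ⟶ S)
    (h : σ ≫ s = 𝟙 X) : IsIso s :=
  ⟨σ, by rw [← cancel_mono s, Category.assoc, h, Category.comp_id, Category.id_comp], h⟩

/-- a group scheme locally of finite type over a field of characteristic zero whose structure
morphism is universally injective is trivial. -/
theorem isIso_hom_of_universallyInjective {K : Type u} [Field K] [CharZero K]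
    (H : Over (Spec (CommRingCat.of K))) [GrpObj H] [LocallyOfFiniteType H.hom]
    [UniversallyInjective H.hom] : IsIso H.hom := by
  let σ : Spec (CommRingCat.of K) ⟶ H.left := η[H].left
  have hσ : σ ≫ H.hom = 𝟙 _ := Over.w η[H]
  haveI : IsSeparated H.hom := Groth.Agent.Helper2.HS6.isSeparated_grp H
  haveI : IsClosedImmersion (σ ≫ H.hom) := by rw [hσ]; infer_instance
  haveI : IsClosedImmersion σ := IsClosedImmersion.of_comp σ H.hom
  have hpt : ∀ z : H.left, z = σ (IsLocalRing.closedPoint K) := by
    intro z
    apply H.hom.injective
    exact Subsingleton.elim _ _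
  haveI : Surjective σ := ⟨fun z => ⟨IsLocalRing.closedPoint K, (hpt z).symm⟩⟩
  haveI : IsReduced H.left := by
    haveI : ∀ z : H.left, _root_.IsReduced (H.left.presheaf.stalk z) := by
      intro z
      rw [hpt z]
      exact Groth.Agent.Helper7.CartierSch.isReduced_stalk H
    exact isReduced_of_isReduced_stalk H.left
  haveI : IsIso σ := isIso_of_isClosedImmersion_of_surjective σ
  have : H.hom = inv σ := by
    rw [← cancel_epi σ, hσ, IsIso.hom_inv_id]
  rw [this]
  infer_instance


variable {k : Type u} [Field k] {G X : Over (Spec (CommRingCat.of k))} [GrpObj G]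
  (a : AlgGrp.Action G X)

/-- the fibre of the universal stabiliser over `x` as a group scheme over `κ(x)` -/
noncomputable abbrev Fx (x : X.left) : Over (Spec (CommRingCat.of ↑(X.left.residueField x))) :=
  Red.bc (X.left.fromSpecResidueField x) (StO a)

theorem Fx_hom (x : X.left) : (Fx a x).hom = (stπ a).fiberToSpecResidueField x := rfl

theorem charZero_residueField [CharZero k] (x : X.left) : CharZero ↑(X.left.residueField x) := by
  let φ : CommRingCat.of k ⟶ X.left.residueField x :=
    Spec.preimage (X.left.fromSpecResidueField x ≫ X.hom)
  exact charZero_of_injective_ringHom φ.hom.injective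

theorem formallyUnramified_stπ [Etale G.hom] : FormallyUnramified (stπ a) := by
  haveI : Etale (snd G X).left := by
    rw [Over.snd_left]; infer_instance
  haveI : FormallyUnramified ((Ψ a).left ≫ (snd X X).left) := by
    rw [← Over.comp_left, psi_snd]; infer_instance
  haveI : FormallyUnramified (Ψ a).left := FormallyUnramified.of_comp (Ψ a).left (snd X X).left
  exact MorphismProperty.of_isPullback (P := @FormallyUnramified)
    (IsPullback.of_hasPullback (Ψ a).left (Δ' X).left) inferInstance

/-- **set-theoretically free ⇒ trivial stabilisers** (char. zero, or `G` étale) -/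
theorem trivial_fibres [LocallyOfFiniteType G.hom] [LocallyOfFiniteType X.hom]
    (hG : CharZero k ∨ Etale G.hom) (hinj : UniversallyInjective (stπ a)) (x : X.left) :
    IsIso ((stπ a).fiberToSpecResidueField x) := by
  letI := stGrp a
  haveI : LocallyOfFiniteType (stπ a) := locallyOfFiniteType_stπ k a
  haveI : LocallyOfFiniteType (Fx a x).hom := by
    show LocallyOfFiniteType (pullback.snd (stπ a) (X.left.fromSpecResidueField x))
    infer_instance
  haveI : UniversallyInjective (Fx a x).hom := by
    exact MorphismProperty.of_isPullback (P := @UniversallyInjective)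
      (IsPullback.of_hasPullback (stπ a) (X.left.fromSpecResidueField x)) hinj
  rcases hG with h0 | het
  · haveI := h0
    haveI := charZero_residueField (X := X) x
    exact isIso_hom_of_universallyInjective (Fx a x)
  · haveI := het
    haveI := formallyUnramified_stπ a
    haveI : FormallyUnramified (Fx a x).hom := by
      exact MorphismProperty.of_isPullback (P := @FormallyUnramified)
        (IsPullback.of_hasPullback (stπ a) (X.left.fromSpecResidueField x)) inferInstance
    haveI := mono_of_universallyInjective_of_formallyUnramified (Fx a x).hom
    exact isIso_of_mono_of_section (Fx a x).hom η[Fx a x].left (Over.w η[Fx a x])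

/-- **S18508** -/
theorem s18508 [LocallyOfFiniteType G.hom] [LocallyOfFiniteType X.hom]
    (hG : CharZero k ∨ (IsFinite G.hom ∧ Etale G.hom)) :
    UniversallyInjective (stπ a) ↔
      ∀ x : X.left, IsIso ((stπ a).fiberToSpecResidueField x) :=
  ⟨fun h x => trivial_fibres a (hG.imp id (fun h => h.2)) h x,
    fun h => Groth.Agent.Helper5.TrivFib.universallyInjective_of_trivial_fibres _ h⟩

end Groth.Agent.Helper5.StabGrp
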