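import Mathlib
import Groth.Prelude
import Groth.Agent.Helper5.TrivFib1
import Groth.Agent.Helper5.FlatOrbit1

set_option autoImplicit false
set_option linter.unusedSectionVars false
set_option linter.style.haveILetI false
set_option linter.unusedVariables false
universe u

open AlgebraicGeometry CategoryTheory CategoryTheory.Limits
open MonoidalCategory CartesianMonoidalCategory MonObj

namespace Groth.Agent.Helper5.TrivFib

open Groth.Agent.Helper5.FlatOrbit

variable {S : Scheme.{u}} {G X : Over S} [GrpObj G] (a : AlgGrp.Action G X)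

theorem comp_psi {T : Over S} (u : T ⟶ G ⊗ X) :
    u ≫ GIT.psi a (𝟙 X) = lift (sm a (u ≫ fst G X) (u ≫ snd G X)) (u ≫ snd G X) := by
  unfold GIT.psi
  refine CartesianMonoidalCategory.hom_ext _ _ ?_ ?_
  · simp only [Category.assoc, lift_fst, MonoidalCategory.whiskerLeft_id, Category.id_comp]
    rw [act_eq a, comp_sm]
  · simp

/-- if the stabilizer group scheme is trivial then `(σ, p₂)` is a monomorphism -/
theorem mono_psi_of_mono_stab
    (h : Mono (pullback.snd (GIT.psi a (𝟙 X)) (lift (𝟙 X) (𝟙 X)))) :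
    Mono (GIT.psi a (𝟙 X)) := by
  constructor
  intro T u v huv
  rw [comp_psi, comp_psi] at huv
  have h2 : u ≫ snd G X = v ≫ snd G X := by
    have := congrArg (fun m => m ≫ snd X X) huv
    simpa using this
  have h1 : sm a (u ≫ fst G X) (u ≫ snd G X) = sm a (v ≫ fst G X) (u ≫ snd G X) := by
    have := congrArg (fun m => m ≫ fst X X) huv
    simp only [lift_fst] at this
    rw [this, h2]
  set g := u ≫ fst G X with hg
  set g' := v ≫ fst G X with hg'
  set x := u ≫ snd G X with hx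
  let w : T ⟶ G ⊗ X := lift (g'⁻¹ * g) x
  let w₀ : T ⟶ G ⊗ X := lift 1 x
  have hw : w ≫ GIT.psi a (𝟙 X) = x ≫ lift (𝟙 X) (𝟙 X) := by
    rw [comp_psi]
    simp only [w, lift_fst, lift_snd]
    rw [mul_sm, h1, ← mul_sm, inv_mul_cancel, one_sm]
    refine CartesianMonoidalCategory.hom_ext _ _ ?_ ?_ <;> simp
  have hw₀ : w₀ ≫ GIT.psi a (𝟙 X) = x ≫ lift (𝟙 X) (𝟙 X) := by
    rw [comp_psi]
    simp only [w₀, lift_fst, lift_snd]
    rw [one_sm]
    refine CartesianMonoidalCategory.hom_ext _ _ ?_ ?_ <;> simp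
  let t : T ⟶ pullback (GIT.psi a (𝟙 X)) (lift (𝟙 X) (𝟙 X)) := pullback.lift w x hw
  let t₀ : T ⟶ pullback (GIT.psi a (𝟙 X)) (lift (𝟙 X) (𝟙 X)) := pullback.lift w₀ x hw₀
  have ht : t = t₀ := by
    rw [← cancel_mono (pullback.snd (GIT.psi a (𝟙 X)) (lift (𝟙 X) (𝟙 X)))]
    have e1 : t ≫ pullback.snd _ _ = x := pullback.lift_snd _ _ _
    have e2 : t₀ ≫ pullback.snd _ _ = x := pullback.lift_snd _ _ _
    rw [e1, e2]
  have hww : w = w₀ := by
    have e1 : t ≫ pullback.fst _ _ = w := pullback.lift_fst _ _ _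
    have e2 : t₀ ≫ pullback.fst _ _ = w₀ := pullback.lift_fst _ _ _
    rw [← e1, ← e2, ht]
  have hgg : g'⁻¹ * g = 1 := by
    have := congrArg (fun m => m ≫ fst G X) hww
    simpa [w, w₀] using this
  have hgg' : g = g' := by
    have := inv_mul_eq_one.1 hgg
    exact this.symm
  refine CartesianMonoidalCategory.hom_ext _ _ ?_ ?_
  · exact hgg'
  · exact h2

end Groth.Agent.Helper5.TrivFib
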