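import Mathlib
import Groth.Prelude
import Groth.Agent.Helper5.TrivFib2

set_option autoImplicit false
set_option linter.unusedSectionVars false
set_option linter.style.haveILetI false
set_option linter.unusedVariables false
universe u

open AlgebraicGeometry CategoryTheory CategoryTheory.Limits
open MonoidalCategory CartesianMonoidalCategory MonObj

namespace Groth.Agent.Helper5.TrivFib

/-- **A proper action with trivial stabilizers is free.** -/
theorem s18503 {S : Scheme.{u}} (G X : Over S) [GrpObj G]
    (a : AlgGrp.Action G X) (hp : IsProper (GIT.psi a (𝟙 X)).left)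
    (htriv : ∀ x : ↥X.left, IsIso ((Limits.pullback.snd (GIT.psi a (𝟙 X)).left
      (CartesianMonoidalCategory.lift (𝟙 X) (𝟙 X)).left).fiberToSpecResidueField x)) :
    IsClosedImmersion (GIT.psi a (𝟙 X)).left := by
  set ψ := GIT.psi a (𝟙 X) with hψ
  set Δ : X ⟶ X ⊗ X := lift (𝟙 X) (𝟙 X) with hΔ
  haveI : LocallyOfFiniteType (pullback.snd ψ.left Δ.left) := inferInstance
  have hmono : Mono (pullback.snd ψ.left Δ.left) := mono_of_trivial_fibres _ htriv
  have hmonoO : Mono (pullback.snd ψ Δ) := by
    apply (Over.forget S).mono_of_mono_map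
    rw [← PreservesPullback.iso_hom_snd (Over.forget S) ψ Δ]
    haveI : Mono (pullback.snd ((Over.forget S).map ψ) ((Over.forget S).map Δ)) := hmono
    infer_instance
  haveI : Mono ψ := mono_psi_of_mono_stab a hmonoO
  haveI : Mono ψ.left := (Over.forget S).map_mono ψ
  exact (IsClosedImmersion.iff_isProper_and_mono _).2 ⟨hp, inferInstance⟩

end Groth.Agent.Helper5.TrivFib
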