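import Mathlib
import Groth.Prelude
import Groth.Agent.Helper5.StabGrp4
import Groth.Agent.Helper5.TrivFib3

set_option autoImplicit false
set_option linter.unusedSectionVars false
set_option linter.style.haveILetI false
universe u

open AlgebraicGeometry CategoryTheory CategoryTheory.Limits
open MonoidalCategory CartesianMonoidalCategory MonObj

namespace Groth.Agent.Helper5.StabGrp

variable {k : Type u} [Field k] {G X : Over (Spec (CommRingCat.of k))} [GrpObj G]
  (a : AlgGrp.Action G X)

/-- **S18509** -/
theorem s18509 [LocallyOfFiniteType G.hom] [LocallyOfFiniteType X.hom]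
    (hG : CharZero k ∨ (IsFinite G.hom ∧ Etale G.hom)) :
    IsClosedImmersion (GIT.psi a (𝟙 X)).left ↔
      IsProper (GIT.psi a (𝟙 X)).left ∧ UniversallyInjective (stπ a) := by
  constructor
  · intro h
    refine ⟨inferInstance, ?_⟩
    haveI : Mono (Ψ a).left := inferInstance
    haveI : Mono (stπ a) := by
      show Mono (pullback.snd (Ψ a).left (Δ' X).left)
      infer_instance
    infer_instance
  · rintro ⟨hp, hinj⟩
    exact Groth.Agent.Helper5.TrivFib.s18503 G X a hp ((s18508 a hG).1 hinj)

end Groth.Agent.Helper5.StabGrp
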