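import Groth.Agent.Helper5.IsoNatFp1
import Groth.Agent.Helper6.AlgStPts
import Groth.Agent.Helper6.FpTools
import Mathlib

set_option autoImplicit false
set_option linter.style.haveILetI false
set_option linter.unusedSectionVars false
set_option linter.unusedVariables false
universe u
open CategoryTheory CategoryTheory.Limits AlgebraicGeometry Opposite

namespace Groth.Agent.Helper5.StkSetoid

open Functor FibCat IsoNat Groth.Agent.Helper3 Groth.Agent.Helper6.FpTools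
  Groth.Agent.Helper6.AlgStPts Groth.Agent.Helper5.IsoNatFp

variable {S : Scheme.{u}} {𝒳 : AlgSt.Cat S}

/-- a category fibred in groupoids with trivial automorphism groups is fibred in setoids -/
theorem isFibSetoid_of_aut_trivial (h : IsFibGrpd 𝒳.p)
    (haut : ∀ (T : Over S) (x : 𝒳.obj) (α : x ⟶ x), 𝒳.p.IsHomLift (𝟙 T) α → α = 𝟙 x) :
    IsFibSetoid 𝒳.p := by
  refine ⟨h, fun T => fun a b => ⟨fun γ δ => ?_⟩⟩
  haveI hγ : 𝒳.p.IsHomLift (𝟙 T) γ.1 := γ.2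
  haveI hδ : 𝒳.p.IsHomLift (𝟙 T) δ.1 := δ.2
  haveI : IsIso δ.1 := FibGrpd.isIso_of_lift_id h (U := T) δ.1
  have h1 : 𝒳.p.IsHomLift (𝟙 T) (γ.1 ≫ inv δ.1) := by
    have h2 : 𝒳.p.IsHomLift (𝟙 T ≫ 𝟙 T) (γ.1 ≫ inv δ.1) := inferInstance
    rw [Category.comp_id] at h2
    exact h2
  have h3 := haut T a.1 (γ.1 ≫ inv δ.1) h1
  apply Functor.Fiber.hom_ext
  change γ.1 = δ.1
  rw [← cancel_mono (inv δ.1), h3, IsIso.hom_inv_id]

section Psh

variable (h : IsFibGrpd 𝒳.p)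

include h in
theorem exists_pb {T' T : Over S} (g : T' ⟶ T) (x : 𝒳.p.Fiber T) :
    ∃ (y : 𝒳.p.Fiber T') (a : y.1 ⟶ x.1), 𝒳.p.IsHomLift g a := by
  obtain ⟨y, φ, hφ⟩ := FibGrpd.exists_lift' h x.2 g
  haveI := hφ
  exact ⟨⟨y, IsHomLift.domain_eq 𝒳.p g φ⟩, φ, hφ⟩

/-- a chosen pullback -/
noncomputable def pb {T' T : Over S} (g : T' ⟶ T) (x : 𝒳.p.Fiber T) : 𝒳.p.Fiber T' :=
  (exists_pb h g x).choose

noncomputable def pbHom {T' T : Over S} (g : T' ⟶ T) (x : 𝒳.p.Fiber T) : (pb h g x).1 ⟶ x.1 :=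
  (exists_pb h g x).choose_spec.choose

theorem pbHom_lift {T' T : Over S} (g : T' ⟶ T) (x : 𝒳.p.Fiber T) :
    𝒳.p.IsHomLift g (pbHom h g x) :=
  (exists_pb h g x).choose_spec.choose_spec

include h in
/-- two pullbacks of isomorphic objects are isomorphic -/
theorem cls_eq_of_homs {T' T : Over S} (g : T' ⟶ T) (x₁ x₂ : 𝒳.p.Fiber T) (hx : cls x₁ = cls x₂)
    (y₁ y₂ : 𝒳.p.Fiber T') (a₁ : y₁.1 ⟶ x₁.1) (a₂ : y₂.1 ⟶ x₂.1) (h₁ : 𝒳.p.IsHomLift g a₁)
    (h₂ : 𝒳.p.IsHomLift g a₂) : cls y₁ = cls y₂ := by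
  obtain ⟨ε, hε⟩ := exists_iso_of_cls_eq _ _ hx
  haveI := h₁
  haveI := hε
  have h3 : 𝒳.p.IsHomLift g (a₁ ≫ ε.hom) := by
    have h4 : 𝒳.p.IsHomLift (g ≫ 𝟙 T) (a₁ ≫ ε.hom) := inferInstance
    rw [Category.comp_id] at h4
    exact h4
  obtain ⟨χ, hχ, -⟩ := exists_fill h g g (𝟙 _) (Category.id_comp _) (a₁ ≫ ε.hom) a₂ h3 h₂
  haveI := hχ
  haveI : IsIso χ := FibGrpd.isIso_of_lift_id h (U := T') χ
  exact cls_eq_of_iso _ _ (asIso χ) hχ

/-- pullback of isomorphism classes -/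
noncomputable def pullCls {T' T : Over S} (g : T' ⟶ T) : IsoCl 𝒳 T → IsoCl 𝒳 T' :=
  Quotient.lift (fun x => cls (pb h g x)) (fun x₁ x₂ hx =>
    cls_eq_of_homs h g x₁ x₂ (Quotient.sound hx) _ _ (pbHom h g x₁) (pbHom h g x₂)
      (pbHom_lift h g x₁) (pbHom_lift h g x₂))

theorem pullCls_eq {T' T : Over S} (g : T' ⟶ T) (x : 𝒳.p.Fiber T) (y : 𝒳.p.Fiber T')
    (a : y.1 ⟶ x.1) (ha : 𝒳.p.IsHomLift g a) : pullCls h g (cls x) = cls y :=
  cls_eq_of_homs h g x x rfl _ _ (pbHom h g x) a (pbHom_lift h g x) ha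

/-- the presheaf of isomorphism classes -/
noncomputable def clsPsh : (Over S)ᵒᵖ ⥤ Type (u + 1) where
  obj T := IsoCl 𝒳 T.unop
  map g := ↾(pullCls h g.unop)
  map_id T := by
    ext c
    induction c using Quotient.inductionOn with
    | h x => exact pullCls_eq h (𝟙 _) x x (𝟙 _) (IsHomLift.id x.2)
  map_comp {T₁ T₂ T₃} g g' := by
    ext c
    induction c using Quotient.inductionOn with
    | h x =>
      have h1 := pbHom_lift h g.unop x
      have h2 := pbHom_lift h g'.unop (pb h g.unop x)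
      haveI := h1
      haveI := h2
      have h3 : 𝒳.p.IsHomLift (g'.unop ≫ g.unop)
          (pbHom h g'.unop (pb h g.unop x) ≫ pbHom h g.unop x) := inferInstance
      have e1 := pullCls_eq h (g'.unop ≫ g.unop) x _ _ h3
      have e2 : pullCls h g.unop (cls x) = cls (pb h g.unop x) := rfl
      have e3 : pullCls h g'.unop (cls (pb h g.unop x)) = cls (pb h g'.unop (pb h g.unop x)) := rfl
      change pullCls h (g'.unop ≫ g.unop) (cls x) = pullCls h g'.unop (pullCls h g.unop (cls x))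
      rw [e1, e2, e3]

theorem clsPsh_map_cls {T' T : Over S} (g : T' ⟶ T) (x : 𝒳.p.Fiber T) (y : 𝒳.p.Fiber T')
    (a : y.1 ⟶ x.1) (ha : 𝒳.p.IsHomLift g a) : (clsPsh h).map g.op (cls x) = cls y :=
  pullCls_eq h g x y a ha

/-- the functor to the category of the presheaf of isomorphism classes -/
noncomputable def toCls : 𝒳 ⥤ᵇ Stk.ofPsh (clsPsh h) where
  toFunctor :=
    { obj := fun x => ⟨𝒳.p.obj x, cls (⟨x, rfl⟩ : 𝒳.p.Fiber (𝒳.p.obj x))⟩
      map := fun {x' x} a => ⟨𝒳.p.map a,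
        clsPsh_map_cls h (𝒳.p.map a) ⟨x, rfl⟩ ⟨x', rfl⟩ a inferInstance⟩
      map_id := fun x => Stk.EltObj.Hom.ext (𝒳.p.map_id x)
      map_comp := fun a b => Stk.EltObj.Hom.ext (𝒳.p.map_comp a b) }
  w := rfl

end Psh

end Groth.Agent.Helper5.StkSetoid
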