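import Groth.Agent.Helper5.StkSetoid1
import Groth.Agent.Helper6.StkTools
import Groth.Agent.S12796
import Mathlib

set_option autoImplicit false
set_option linter.style.haveILetI false
set_option linter.unusedSectionVars false
set_option linter.unusedVariables false
universe u
open CategoryTheory CategoryTheory.Limits AlgebraicGeometry Opposite

namespace Groth.Agent.Helper5.StkSetoid

open Functor FibCat IsoNat Groth.Agent.Helper3 Groth.Agent.Helper6.FpTools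
  Groth.Agent.Helper6.AlgStPts Groth.Agent.Helper5.IsoNatFp

variable {S : Scheme.{u}} {𝒳 : AlgSt.Cat S}

/-- a category fibred in setoids is equivalent to the category of its presheaf of classes -/
theorem isEquivOver_toCls (hs : IsFibSetoid 𝒳.p) : IsEquivOver (toCls hs.1) := by
  rw [isEquivOver_iff]
  refine ⟨⟨fun {x' x} m => ?_⟩, ⟨fun {x' x} a b hab => ?_⟩, fun y => ?_⟩
  · let xf : 𝒳.p.Fiber (𝒳.p.obj x) := ⟨x, rfl⟩
    let x'f : 𝒳.p.Fiber (𝒳.p.obj x') := ⟨x', rfl⟩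
    let g : 𝒳.p.obj x' ⟶ 𝒳.p.obj x := m.hom
    have h1 : cls (pb hs.1 g xf) = cls x'f := m.map_sec
    obtain ⟨ε, hε⟩ := exists_iso_of_cls_eq _ _ h1
    have h2 := pbHom_lift hs.1 g xf
    haveI := h2
    haveI := hε
    have hεi : 𝒳.p.IsHomLift (𝟙 (𝒳.p.obj x')) ε.inv := inferInstance
    have h3 : 𝒳.p.IsHomLift g (ε.inv ≫ pbHom hs.1 g xf) := by
      have h4 : 𝒳.p.IsHomLift (𝟙 _ ≫ g) (ε.inv ≫ pbHom hs.1 g xf) := inferInstance
      rw [Category.id_comp] at h4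
      exact h4
    refine ⟨ε.inv ≫ pbHom hs.1 g xf, ?_⟩
    apply Stk.EltObj.Hom.ext
    haveI := h3
    exact (IsHomLift.eq_of_isHomLift 𝒳.p g (ε.inv ≫ pbHom hs.1 g xf)).symm
  · have h1 : 𝒳.p.map a = 𝒳.p.map b := congrArg Stk.EltObj.Hom.hom hab
    haveI : 𝒳.p.IsHomLift (𝒳.p.map a) b := by rw [h1]; infer_instance
    exact FibGrpd.hom_ext_of_isFibSetoid hs (𝒳.p.map a) a b
  · obtain ⟨T, c⟩ := y
    have hc : ∃ x : 𝒳.p.Fiber T, cls x = c := Quotient.exists_rep (show IsoCl 𝒳 T from c)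
    obtain ⟨⟨x1, hx1⟩, rfl⟩ := hc
    subst hx1
    exact ⟨x1, Iso.refl _, IsHomLift.id rfl⟩

/-- the sheaf of isomorphism classes of a stack in setoids -/
noncomputable def clsSp (h𝒳 : Stk.IsStack (AlgSp.J S) 𝒳) (hs : IsFibSetoid 𝒳.p) : AlgSp.Sp S :=
  ⟨clsPsh hs.1, (isSheaf_iff_isSheaf_of_type _ _).2
    ((Groth.Agent.S12796.result (AlgSp.J S) (clsPsh hs.1)).1
      ((Groth.Agent.Helper6.StkTools.isStack_iff_of_isEquivOver (AlgSp.J S) (toCls hs.1)
        (isEquivOver_toCls hs)).1 h𝒳))⟩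

/-- the equivalence with the category of the sheaf of classes -/
noncomputable def toClsSp (h𝒳 : Stk.IsStack (AlgSp.J S) 𝒳) (hs : IsFibSetoid 𝒳.p) :
    𝒳 ⥤ᵇ AlgSt.ofSp (clsSp h𝒳 hs) := toCls hs.1

theorem isEquivOver_toClsSp (h𝒳 : Stk.IsStack (AlgSp.J S) 𝒳) (hs : IsFibSetoid 𝒳.p) :
    IsEquivOver (toClsSp h𝒳 hs) := isEquivOver_toCls hs

end Groth.Agent.Helper5.StkSetoid
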