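import Groth.Agent.Helper5.StkSetoid2
import Groth.Agent.Helper5.FppfLift
import Groth.Agent.Helper6.OpenSub4
import Groth.Agent.Helper6.StkLocal
import Mathlib

set_option autoImplicit false
set_option linter.style.haveILetI false
set_option linter.unusedSectionVars false
set_option linter.unusedVariables false
universe u
open CategoryTheory CategoryTheory.Limits AlgebraicGeometry Opposite

namespace Groth.Agent.Helper5.StkSetoid

open Functor FibCat IsoNat Groth.Agent.Helper3 Groth.Agent.Helper6.FpTools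
  Groth.Agent.Helper6.AlgStPts Groth.Agent.Helper5.IsoNatFp Groth.Agent.Helper6.OpenSub3
  Groth.Agent.Helper6.StTop Groth.Agent.Helper6.StPts

variable {S : Scheme.{u}} {𝒳 : AlgSt.Cat S}

/-- an algebraic stack covered by open substacks with trivial automorphism groups is fibred in
setoids -/
theorem isFibSetoid_of_cover {ι : Type*} (h𝒳 : AlgSt.IsAlgStack Scheme.fppfPrecoverage 𝒳)
    (Tset : ι → Set (AlgSt.Points 𝒳)) (hTo : ∀ i, IsOpen (Tset i))
    (hcov : ⋃ i, Tset i = Set.univ)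
    (haut : ∀ (i : ι) (s : 𝒳.obj), QT (Tset i) s → ∀ (V : Over S) (β : s ⟶ s),
      𝒳.p.IsHomLift (𝟙 V) β → β = 𝟙 s) : IsFibSetoid 𝒳.p := by
  have hfg : IsFibGrpd 𝒳.p := h𝒳.isStack.1
  apply isFibSetoid_of_aut_trivial hfg
  intro T x α hα
  haveI := hα
  have ht : 𝒳.p.obj x = T := IsHomLift.domain_eq 𝒳.p (𝟙 T) α
  haveI := TwoYoneda.evalAtId_isEquivalence_of_isFibGrpd T hfg
  obtain ⟨xh, ⟨j₀⟩⟩ := Functor.EssSurj.mem_essImage (F := FibCat.evalAtId 𝒳 T)
    (⟨x, ht⟩ : 𝒳.p.Fiber T)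
  let j₁ : xh.obj (Over.mk (𝟙 T)) ≅ x := Functor.Fiber.fiberInclusion.mapIso j₀
  have hj₁ : 𝒳.p.IsHomLift (𝟙 T) j₁.hom := j₀.hom.2
  have hi : ∀ t : T.left, ∃ i, AlgSt.Points.ofChart xh t ∈ Tset i := by
    intro t
    have : AlgSt.Points.ofChart xh t ∈ ⋃ i, Tset i := by rw [hcov]; trivial
    exact Set.mem_iUnion.1 this
  choose idx hidx using hi
  let Tk : T.left → Over S := fun t => chartOver (Tset (idx t)) h𝒳 (hTo _) xh
  let c : ∀ t, Tk t ⟶ T := fun t => chartIncl (Tset (idx t)) h𝒳 (hTo _) xh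
  have hcl : ∀ t, (c t).left = (chartOpen (Tset (idx t)) h𝒳 (hTo _) xh).ι := fun t => rfl
  have hR : Sieve.ofArrows Tk c ∈ AlgSp.J S T := by
    refine Groth.Agent.Helper5.FppfLift.ofArrows_mem_J Tk c (fun t => ?_) (fun t => ?_) (fun z => ?_)
    · change Flat (chartOpen (Tset (idx t)) h𝒳 (hTo _) xh).ι
      infer_instance
    · change LocallyOfFinitePresentation (chartOpen (Tset (idx t)) h𝒳 (hTo _) xh).ι
      infer_instance
    · refine ⟨z, ?_⟩
      change z ∈ Set.range (chartOpen (Tset (idx z)) h𝒳 (hTo _) xh).ι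
      rw [Scheme.Opens.range_ι]
      exact hidx z
  haveI : (Stk.resSieve (Sieve.ofArrows Tk c) 𝒳).IsEquivalence := h𝒳.isStack.2 _ hR
  haveI : 𝒳.p.IsHomLift (𝟙 T) (𝟙 x) := IsHomLift.id ht
  refine Groth.Agent.Helper6.StkLocal.hom_ext_of_locally hfg (Sieve.ofArrows Tk c) ht α (𝟙 x) ?_
  intro V' f hf s ψ hψ
  rw [Category.comp_id]
  rw [Sieve.mem_ofArrows_iff] at hf
  obtain ⟨t, g, rfl⟩ := hf
  haveI := hψ
  -- `s` lies in the open substack
  have hQ : QT (Tset (idx t)) s := by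
    have h1 := chart_lands (Tset (idx t)) h𝒳 (hTo _) xh (Over.mk g)
    let m : (Over.mk (g ≫ c t) : Over T) ⟶ Over.mk (𝟙 T) := Over.homMk (g ≫ c t) (Category.comp_id _)
    have hm : 𝒳.p.IsHomLift (g ≫ c t) (xh.map m) := by
      haveI : (overCat T).p.IsHomLift (g ≫ c t) m := by
        change (overCat T).p.IsHomLift ((overCat T).p.map m) m
        infer_instance
      infer_instance
    haveI := hm
    haveI := hj₁
    have hm' : 𝒳.p.IsHomLift (g ≫ c t) (xh.map m ≫ j₁.hom) := by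
      have h3 : 𝒳.p.IsHomLift ((g ≫ c t) ≫ 𝟙 T) (xh.map m ≫ j₁.hom) := inferInstance
      rw [Category.comp_id] at h3
      exact h3
    obtain ⟨χ, -, -⟩ := exists_fill hfg (g ≫ c t) (g ≫ c t) (𝟙 _) (Category.id_comp _) ψ
      (xh.map m ≫ j₁.hom) hψ hm'
    exact QT_of_hom _ χ h1
  obtain ⟨β, hβ, hβψ⟩ := exists_fill hfg (g ≫ c t) (g ≫ c t) (𝟙 _) (Category.id_comp _) (ψ ≫ α) ψ
    (by
      have h3 : 𝒳.p.IsHomLift ((g ≫ c t) ≫ 𝟙 T) (ψ ≫ α) := inferInstance
      rw [Category.comp_id] at h3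
      exact h3) hψ
  have h4 := haut (idx t) s hQ V' β hβ
  rw [← hβψ, h4, Category.id_comp]

end Groth.Agent.Helper5.StkSetoid
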