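import Groth.Agent.Helper5.StkSetoid3
import Groth.Agent.Helper6.OpenSub5
import Groth.Agent.Helper6.AlgStDiagIff
import Groth.Agent.S12787
import Mathlib

set_option autoImplicit false
set_option linter.style.haveILetI false
set_option linter.unusedSectionVars false
set_option linter.unusedVariables false
universe u
open CategoryTheory CategoryTheory.Limits AlgebraicGeometry Opposite

namespace Groth.Agent.Helper5.StkSetoid

open Functor FibCat IsoNat Groth.Agent.Helper3 Groth.Agent.Helper6.FpTools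
  Groth.Agent.Helper6.AlgStPts Groth.Agent.Helper5.IsoNatFp Groth.Agent.Helper6.OpenSub3
  Groth.Agent.Helper6.StTop Groth.Agent.Helper6.StPts

variable {S : Scheme.{u}} {𝒳 : AlgSt.Cat S}

/-- every object of a stack covered by open sets of points lies, locally, in one of the
corresponding open substacks -/
theorem exists_cover_QT {ι : Type*} (h𝒳 : AlgSt.IsAlgStack Scheme.fppfPrecoverage 𝒳)
    (Tset : ι → Set (AlgSt.Points 𝒳)) (hTo : ∀ i, IsOpen (Tset i))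
    (hcov : ⋃ i, Tset i = Set.univ) {T : Over S} (x : 𝒳.obj) (ht : 𝒳.p.obj x = T) :
    ∃ R ∈ AlgSp.J S T, ∀ ⦃V : Over S⦄ (γ : V ⟶ T), R γ → ∃ i, ∀ (s : 𝒳.obj) (ψ : s ⟶ x),
      𝒳.p.IsHomLift γ ψ → QT (Tset i) s := by
  have hfg : IsFibGrpd 𝒳.p := h𝒳.isStack.1
  haveI := TwoYoneda.evalAtId_isEquivalence_of_isFibGrpd T hfg
  obtain ⟨xh, ⟨j₀⟩⟩ := Functor.EssSurj.mem_essImage (F := FibCat.evalAtId 𝒳 T)
    (⟨x, ht⟩ : 𝒳.p.Fiber T)
  let j₁ : xh.obj (Over.mk (𝟙 T)) ≅ x := Functor.Fiber.fiberInclusion.mapIso j₀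
  have hj₁ : 𝒳.p.IsHomLift (𝟙 T) j₁.hom := j₀.hom.2
  have hi : ∀ t : T.left, ∃ i, AlgSt.Points.ofChart xh t ∈ Tset i := by
    intro t
    have : AlgSt.Points.ofChart xh t ∈ ⋃ i, Tset i := by rw [hcov]; trivial
    exact Set.mem_iUnion.1 this
  choose idx hidx using hi
  let Tk : T.left → Over S := fun t => chartOver (Tset (idx t)) h𝒳 (hTo _) xh
  let c : ∀ t, Tk t ⟶ T := fun t => chartIncl (Tset (idx t)) h𝒳 (hTo _) xh
  have hcl : ∀ t, (c t).left = (chartOpen (Tset (idx t)) h𝒳 (hTo _) xh).ι := fun t => rfl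
  have hR : Sieve.ofArrows Tk c ∈ AlgSp.J S T := by
    refine Groth.Agent.Helper5.FppfLift.ofArrows_mem_J Tk c (fun t => ?_) (fun t => ?_) (fun z => ?_)
    · change Flat (chartOpen (Tset (idx t)) h𝒳 (hTo _) xh).ι
      infer_instance
    · change LocallyOfFinitePresentation (chartOpen (Tset (idx t)) h𝒳 (hTo _) xh).ι
      infer_instance
    · refine ⟨z, ?_⟩
      change z ∈ Set.range (chartOpen (Tset (idx z)) h𝒳 (hTo _) xh).ι
      rw [Scheme.Opens.range_ι]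
      exact hidx z
  refine ⟨Sieve.ofArrows Tk c, hR, ?_⟩
  intro V' f hf
  rw [Sieve.mem_ofArrows_iff] at hf
  obtain ⟨t, g, rfl⟩ := hf
  refine ⟨idx t, fun s ψ hψ => ?_⟩
  haveI := hψ
  have h1 := chart_lands (Tset (idx t)) h𝒳 (hTo _) xh (Over.mk g)
  let m : (Over.mk (g ≫ c t) : Over T) ⟶ Over.mk (𝟙 T) := Over.homMk (g ≫ c t) (Category.comp_id _)
  have hm : 𝒳.p.IsHomLift (g ≫ c t) (xh.map m) := by
    haveI : (overCat T).p.IsHomLift (g ≫ c t) m := by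
      change (overCat T).p.IsHomLift ((overCat T).p.map m) m
      infer_instance
    infer_instance
  haveI := hm
  haveI := hj₁
  have hm' : 𝒳.p.IsHomLift (g ≫ c t) (xh.map m ≫ j₁.hom) := by
    have h3 : 𝒳.p.IsHomLift ((g ≫ c t) ≫ 𝟙 T) (xh.map m ≫ j₁.hom) := inferInstance
    rw [Category.comp_id] at h3
    exact h3
  obtain ⟨χ, -, -⟩ := exists_fill hfg (g ≫ c t) (g ≫ c t) (𝟙 _) (Category.id_comp _) ψ
    (xh.map m ≫ j₁.hom) hψ hm'
  exact QT_of_hom _ χ h1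

/-- automorphisms over the identity of an object of a full subcategory fibred in setoids are
trivial -/
theorem aut_trivial_of_fullSub (Q : 𝒳.obj → Prop) (hs : IsFibSetoid (AlgSt.fullSub 𝒳 Q).p)
    (s : 𝒳.obj) (hQs : Q s) (V : Over S) (β : s ⟶ s) (hβ : 𝒳.p.IsHomLift (𝟙 V) β) : β = 𝟙 s := by
  let s' : (AlgSt.fullSub 𝒳 Q).obj := ⟨s, hQs⟩
  let β' : s' ⟶ s' := ObjectProperty.homMk β
  haveI h1 : (AlgSt.fullSub 𝒳 Q).p.IsHomLift (𝟙 V) β' :=
    (BasedFunctor.isHomLift_iff (AlgSt.subIncl 𝒳 Q) (𝟙 V) β').1 hβ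
  haveI := hβ
  have hd : 𝒳.p.obj s = V := IsHomLift.domain_eq 𝒳.p (𝟙 V) β
  haveI h2 : (AlgSt.fullSub 𝒳 Q).p.IsHomLift (𝟙 V) (𝟙 s') := IsHomLift.id hd
  have h3 := FibGrpd.hom_ext_of_isFibSetoid hs (𝟙 V) β' (𝟙 s')
  exact congrArg (fun k => (AlgSt.subIncl 𝒳 Q).map k) h3

/-- a scheme is an algebraic space, for categories over the base -/
theorem repByAlgSp_of_isRepresentable {𝒴 : AlgSt.Cat S} (h : FibCat.IsRepresentable 𝒴) :
    AlgSt.RepByAlgSp 𝒴 := by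
  obtain ⟨U, F, hF⟩ := h
  exact Groth.Agent.Helper6.AlgStDiagIff.repByAlgSp_of_isEquivOver F hF
    (Groth.Agent.Helper6.AlgStDiagIff.repByAlgSp_overCat U)

/-- an algebraic stack covered by open substacks which are algebraic spaces is fibred in setoids -/
theorem isFibSetoid_of_open_cover {ι : Type*} (h𝒳 : AlgSt.IsAlgStack Scheme.fppfPrecoverage 𝒳)
    (Q : ι → 𝒳.obj → Prop) (hQ : ∀ i, AlgSt.IsOpenSubstack 𝒳 (Q i) Scheme.fppfPrecoverage)
    (hcov : ⋃ i, Set.range (AlgSt.Points.map (AlgSt.subIncl 𝒳 (Q i))) = Set.univ)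
    (hsp : ∀ i, AlgSt.RepByAlgSp (AlgSt.fullSub 𝒳 (Q i))) : IsFibSetoid 𝒳.p := by
  refine isFibSetoid_of_cover h𝒳 (fun i => Set.range (AlgSt.Points.map (AlgSt.subIncl 𝒳 (Q i))))
    (fun i => Groth.Agent.Helper6.OpenSub1.isOpen_range_of_isOpenSubstack h𝒳 (Q i) (hQ i)) hcov ?_
  intro i s hs V β hβ
  have hQs : Q i s := (Groth.Agent.Helper6.OpenSub5.Q_iff_QT_range h𝒳 (Q i) (hQ i) s).2 hs
  exact aut_trivial_of_fullSub (Q i)
    (Groth.Agent.S12787.result (hQ i).2.1.isStack.1 (hsp i)) s hQs V β hβ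

end Groth.Agent.Helper5.StkSetoid
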