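import Groth.Agent.Helper5.StkSetoid4
import Groth.Agent.Helper5.ZarGlue12
import Groth.Agent.Helper6.AlgStPsh
import Groth.Agent.Helper6.AlgStInv
import Groth.Agent.Helper6.AlgStSpMap
import Groth.Agent.Helper6.ChartOver
import Groth.Agent.Helper6.ToSpace
import Mathlib

set_option autoImplicit false
set_option linter.style.haveILetI false
set_option linter.unusedSectionVars false
set_option linter.unusedVariables false
universe u
open CategoryTheory CategoryTheory.Limits AlgebraicGeometry Opposite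

namespace Groth.Agent.Helper5.StkSetoid

open Functor FibCat IsoNat Groth.Agent.Helper3 Groth.Agent.Helper6.FpTools
  Groth.Agent.Helper6.AlgStPts Groth.Agent.Helper5.IsoNatFp Groth.Agent.Helper6.OpenSub3
  Groth.Agent.Helper6.StTop Groth.Agent.Helper6.StPts Groth.Agent.Helper6.OfPsh
  Groth.Agent.Helper6.OfPshHom

variable {S : Scheme.{u}} {𝒳 : AlgSt.Cat S}

/-- a morphism of sheaves all of whose base changes to schemes are representable with `P` is
representable with `P` -/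
theorem repWith_of_repBySpWith (P : MorphismProperty Scheme.{u}) [P.RespectsIso]
    {F G : AlgSp.Sp S} (f : F ⟶ G) (h : AlgSp.RepBySpWith (AlgSp.RepWith P) f.hom) :
    AlgSp.RepWith P f := by
  apply Groth.Agent.Helper5.ZarGlue.repWith_of_exists P f
  intro T g
  have sq := IsPullback.of_hasPullback f g
  obtain ⟨-, h2⟩ := (AlgSp.repBySpWith_hom_iff _ f).1 h g (pullback.fst f g) (pullback.snd f g) sq
  obtain ⟨W, i, fst', sq'⟩ := h2.1 (𝟙 ((AlgSp.yon S).obj T))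
  have hP : P i.left := h2.2 _ _ _ sq'
  refine ⟨W, i, fst' ≫ pullback.fst f g, ?_, hP⟩
  have h3 := sq'.paste_horiz sq
  rw [Category.id_comp] at h3
  exact h3

/-- the sections of a functor followed by the functor of isomorphism classes -/
theorem sec_comp_toCls (h : IsFibGrpd 𝒳.p) {𝒜 : AlgSt.Cat S} (G : 𝒜 ⥤ᵇ 𝒳) (a : 𝒜.obj) :
    sec (clsPsh h) (BasedFunctor.comp G (toCls h)) a =
      cls (⟨G.obj a, G.w_obj a⟩ : 𝒳.p.Fiber (𝒜.p.obj a)) := by
  have key : ∀ (V : Over S) (z : 𝒳.obj) (hz : 𝒳.p.obj z = V),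
      tr (clsPsh h) (⟨𝒳.p.obj z, cls (⟨z, rfl⟩ : 𝒳.p.Fiber (𝒳.p.obj z))⟩ : Stk.EltObj (clsPsh h)) hz =
        cls (⟨z, hz⟩ : 𝒳.p.Fiber V) := by
    intro V z hz
    subst hz
    rw [tr_rfl]
  exact key (𝒜.p.obj a) (G.obj a) (G.w_obj a)

section Cov

variable (h𝒳 : AlgSt.IsAlgStack Scheme.fppfPrecoverage 𝒳) (hs : IsFibSetoid 𝒳.p)
  (Q : 𝒳.obj → Prop) (Fi : AlgSp.Sp S) (e : AlgSt.ofSp Fi ⥤ᵇ AlgSt.fullSub 𝒳 Q)

/-- the functor from the category of a sheaf representing an open substack -/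
noncomputable def covFun : AlgSt.ofSp Fi ⥤ᵇ AlgSt.ofSp (clsSp h𝒳.isStack hs) :=
  BasedFunctor.comp (BasedFunctor.comp e (AlgSt.subIncl 𝒳 Q)) (toClsSp h𝒳.isStack hs)

/-- the corresponding map of sheaves -/
noncomputable def covMap : Fi ⟶ clsSp h𝒳.isStack hs :=
  ObjectProperty.homMk (homOf (covFun h𝒳 hs Q Fi e))

theorem repWith_covMap (hQ : AlgSt.IsOpenSubstack 𝒳 Q Scheme.fppfPrecoverage)
    (he : IsEquivOver e) : AlgSp.RepWith @IsOpenImmersion (covMap h𝒳 hs Q Fi e) := by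
  have h0 : AlgSt.RepByAlgSpWith (AlgSp.RepWith @IsOpenImmersion)
      (BasedFunctor.comp (AlgSt.subIncl 𝒳 Q) (toClsSp h𝒳.isStack hs)) :=
    (Groth.Agent.Helper6.AlgStInv.repByAlgSpWith_comp_equiv _ (AlgSt.subIncl 𝒳 Q)
      (toClsSp h𝒳.isStack hs) (isEquivOver_toClsSp h𝒳.isStack hs)).1 hQ.2.2
  have h1 : AlgSt.RepByAlgSpWith (AlgSp.RepWith @IsOpenImmersion) (covFun h𝒳 hs Q Fi e) :=
    Groth.Agent.Helper6.ChartOver.rep_equiv_comp _ e he _ h0
  have h2 : AlgSt.RepByAlgSpWith (AlgSp.RepWith @IsOpenImmersion)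
      (Stk.ofPshMap (homOf (covFun h𝒳 hs Q Fi e))) :=
    Groth.Agent.Helper6.AlgStSpMap.repByAlgSpWith_of_iso _ (isoHomOf (covFun h𝒳 hs Q Fi e)).symm h1
  have h3 : AlgSp.RepBySp (homOf (covFun h𝒳 hs Q Fi e)) :=
    (Groth.Agent.Helper6.AlgStPsh.repBySp_iff_repByAlgSp1 _).2
      (Groth.Agent.Helper6.ToSpace.repByAlgSp1_of_with h2)
  have h4 : AlgSp.RepBySpWith (AlgSp.RepWith @IsOpenImmersion) (homOf (covFun h𝒳 hs Q Fi e)) :=
    Groth.Agent.Helper6.AlgStPsh.repBySpWith_of_repByAlgSpWith _ _ h3 h2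
  exact repWith_of_repBySpWith @IsOpenImmersion (covMap h𝒳 hs Q Fi e) h4

end Cov

end Groth.Agent.Helper5.StkSetoid
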