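import Groth.Agent.Helper5.StkSetoid5
import Mathlib

set_option autoImplicit false
set_option linter.style.haveILetI false
set_option linter.unusedSectionVars false
set_option linter.unusedVariables false
universe u
open CategoryTheory CategoryTheory.Limits AlgebraicGeometry Opposite

namespace Groth.Agent.Helper5.StkSetoid

open Functor FibCat IsoNat Groth.Agent.Helper3 Groth.Agent.Helper6.FpTools
  Groth.Agent.Helper6.AlgStPts Groth.Agent.Helper5.IsoNatFp Groth.Agent.Helper6.OpenSub3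
  Groth.Agent.Helper6.StTop Groth.Agent.Helper6.StPts Groth.Agent.Helper6.OfPsh
  Groth.Agent.Helper6.OfPshHom

variable {S : Scheme.{u}} {𝒳 : AlgSt.Cat S}

/-- every section of the sheaf of classes factors, locally, through one of the open pieces -/
theorem exists_local_factor {ι : Type*} (h𝒳 : AlgSt.IsAlgStack Scheme.fppfPrecoverage 𝒳)
    (hs : IsFibSetoid 𝒳.p)
    (Q : ι → 𝒳.obj → Prop) (hQ : ∀ i, AlgSt.IsOpenSubstack 𝒳 (Q i) Scheme.fppfPrecoverage)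
    (hcov : ⋃ i, Set.range (AlgSt.Points.map (AlgSt.subIncl 𝒳 (Q i))) = Set.univ)
    (Fi : ι → AlgSp.Sp S) (e : ∀ i, AlgSt.ofSp (Fi i) ⥤ᵇ AlgSt.fullSub 𝒳 (Q i))
    (he : ∀ i, IsEquivOver (e i)) (T : Over S)
    (s : (AlgSp.yon S).obj T ⟶ clsSp h𝒳.isStack hs) :
    ∃ R ∈ AlgSp.J S T, ∀ ⦃V : Over S⦄ (γ : V ⟶ T), R γ →
      ∃ (i : ι) (a : (AlgSp.yon S).obj V ⟶ Fi i),
        (AlgSp.yon S).map γ ≫ s = a ≫ covMap h𝒳 hs (Q i) (Fi i) (e i) := by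
  obtain ⟨x, hx⟩ : ∃ x : 𝒳.p.Fiber T, cls x = (AlgSp.J S).uliftYonedaEquiv.{u+1} s :=
    Quotient.exists_rep (show IsoCl 𝒳 T from (AlgSp.J S).uliftYonedaEquiv.{u+1} s)
  obtain ⟨R, hR, hRQ⟩ := exists_cover_QT h𝒳
    (fun i => Set.range (AlgSt.Points.map (AlgSt.subIncl 𝒳 (Q i))))
    (fun i => Groth.Agent.Helper6.OpenSub1.isOpen_range_of_isOpenSubstack h𝒳 (Q i) (hQ i)) hcov
    x.1 x.2
  refine ⟨R, hR, fun V γ hγ => ?_⟩
  obtain ⟨i, hi⟩ := hRQ γ hγ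
  obtain ⟨y, a, ha⟩ := exists_pb hs.1 γ x
  obtain ⟨y1, hy⟩ := y
  subst hy
  have hQy : Q i y1 :=
    (Groth.Agent.Helper6.OpenSub5.Q_iff_QT_range h𝒳 (Q i) (hQ i) y1).2 (hi y1 a ha)
  let y' : (AlgSt.fullSub 𝒳 (Q i)).obj := ⟨y1, hQy⟩
  obtain ⟨w, φ, hφ⟩ := ((isEquivOver_iff (e i)).1 (he i)).2.2 y'
  have hφ' : 𝒳.p.IsHomLift (𝟙 (𝒳.p.obj y1)) ((AlgSt.subIncl 𝒳 (Q i)).map φ.hom) :=
    (BasedFunctor.isHomLift_iff (AlgSt.subIncl 𝒳 (Q i)) _ φ.hom).2 hφ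
  haveI := hφ'
  have hw : w.base = 𝒳.p.obj y1 :=
    ((e i).w_obj w).symm.trans
      (@IsHomLift.domain_eq _ _ _ _ 𝒳.p _ _ _ _ _ _ hφ')
  obtain ⟨wb, ws⟩ := w
  dsimp only at hw
  subst hw
  refine ⟨i, (AlgSp.J S).uliftYonedaEquiv.{u+1}.symm ws, ?_⟩
  apply (AlgSp.J S).uliftYonedaEquiv.{u+1}.injective
  have eL : (AlgSp.J S).uliftYonedaEquiv.{u+1} ((AlgSp.yon S).map γ ≫ s) =
      (clsSp h𝒳.isStack hs).obj.map γ.op ((AlgSp.J S).uliftYonedaEquiv.{u+1} s) :=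
    (GrothendieckTopology.uliftYonedaEquiv_naturality _ _ _).symm
  have eR : (AlgSp.J S).uliftYonedaEquiv.{u+1} ((AlgSp.J S).uliftYonedaEquiv.{u+1}.symm ws ≫
      covMap h𝒳 hs (Q i) (Fi i) (e i)) = (covMap h𝒳 hs (Q i) (Fi i) (e i)).hom.app _ ws := by
    rw [GrothendieckTopology.uliftYonedaEquiv_comp, Equiv.apply_symm_apply]
  rw [eL, eR, ← hx]
  have e1 : (clsSp h𝒳.isStack hs).obj.map γ.op (cls x) =
      cls (⟨y1, rfl⟩ : 𝒳.p.Fiber (𝒳.p.obj y1)) :=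
    clsPsh_map_cls hs.1 γ x ⟨y1, rfl⟩ a ha
  rw [e1]
  have e2 : (covMap h𝒳 hs (Q i) (Fi i) (e i)).hom.app (op (𝒳.p.obj y1)) ws =
      sec (clsPsh hs.1) (BasedFunctor.comp (BasedFunctor.comp (e i) (AlgSt.subIncl 𝒳 (Q i)))
        (toCls hs.1)) (⟨𝒳.p.obj y1, ws⟩ : Stk.EltObj (Fi i).obj) := rfl
  rw [e2, sec_comp_toCls]
  exact (cls_eq_of_iso _ _ ((AlgSt.subIncl 𝒳 (Q i)).toFunctor.mapIso φ) hφ').symm

end Groth.Agent.Helper5.StkSetoid
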