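import Groth.Agent.Helper5.StkSetoid6
import Groth.Agent.Helper6.StTop2
import Mathlib

set_option autoImplicit false
set_option linter.style.haveILetI false
set_option linter.unusedSectionVars false
set_option linter.unusedVariables false
universe w u
open CategoryTheory CategoryTheory.Limits AlgebraicGeometry Opposite

namespace Groth.Agent.Helper5.StkSetoid

open Functor FibCat IsoNat Groth.Agent.Helper3 Groth.Agent.Helper6.FpTools
  Groth.Agent.Helper6.AlgStPts Groth.Agent.Helper5.IsoNatFp Groth.Agent.Helper6.OpenSub3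
  Groth.Agent.Helper6.StTop Groth.Agent.Helper6.StPts Groth.Agent.Helper6.OfPsh
  Groth.Agent.Helper6.OfPshHom

variable {S : Scheme.{u}} {𝒳 : AlgSt.Cat S}

/-- a cover by open substacks can be reindexed by a small type -/
theorem exists_small_cover {ι : Type w} (h𝒳 : AlgSt.IsAlgStack Scheme.fppfPrecoverage 𝒳)
    (Q : ι → 𝒳.obj → Prop)
    (hcov : ⋃ i, Set.range (AlgSt.Points.map (AlgSt.subIncl 𝒳 (Q i))) = Set.univ) :
    ∃ (ι' : Type u) (r : ι' → ι),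
      ⋃ j, Set.range (AlgSt.Points.map (AlgSt.subIncl 𝒳 (Q (r j)))) = Set.univ := by
  obtain ⟨U₀, a, -, ha₂⟩ := h𝒳.atlas
  have hsurj := ofChart_surjective h𝒳.isStack.1 a ha₂
  have hi : ∀ t : U₀.left, ∃ i, AlgSt.Points.ofChart a t ∈
      Set.range (AlgSt.Points.map (AlgSt.subIncl 𝒳 (Q i))) := by
    intro t
    have : AlgSt.Points.ofChart a t ∈
        ⋃ i, Set.range (AlgSt.Points.map (AlgSt.subIncl 𝒳 (Q i))) := by rw [hcov]; trivial
    exact Set.mem_iUnion.1 this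
  choose idx hidx using hi
  refine ⟨U₀.left, idx, ?_⟩
  apply Set.eq_univ_of_forall
  intro p
  obtain ⟨t, rfl⟩ := hsurj p
  exact Set.mem_iUnion.2 ⟨t, hidx t⟩

/-- S12863 -/
theorem s12863 {ι : Type w} (h𝒳 : AlgSt.IsAlgStack Scheme.fppfPrecoverage 𝒳)
    (Q : ι → 𝒳.obj → Prop) (hQ : ∀ i, AlgSt.IsOpenSubstack 𝒳 (Q i) Scheme.fppfPrecoverage)
    (hcov : ⋃ i, Set.range (AlgSt.Points.map (AlgSt.subIncl 𝒳 (Q i))) = Set.univ)
    (hsp : ∀ i, AlgSt.RepByAlgSp (AlgSt.fullSub 𝒳 (Q i))) : AlgSt.RepByAlgSp 𝒳 := by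
  obtain ⟨ι', r, hcov'⟩ := exists_small_cover h𝒳 Q hcov
  have hs : IsFibSetoid 𝒳.p :=
    isFibSetoid_of_open_cover h𝒳 (fun j => Q (r j)) (fun j => hQ (r j)) hcov' (fun j => hsp (r j))
  choose Fi e he using fun j => hsp (r j)
  have hF : AlgSp.IsAlgSpace (clsSp h𝒳.isStack hs) :=
    Groth.Agent.Helper5.ZarGlue.isAlgSpace_of_cover
      (fun j => covMap h𝒳 hs (Q (r j)) (Fi j).obj (e j)) (fun j => (Fi j).property)
      (fun j => repWith_covMap h𝒳 hs (Q (r j)) (Fi j).obj (e j) (hQ (r j)) (he j))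
      (fun T s => exists_local_factor h𝒳 hs (fun j => Q (r j)) (fun j => hQ (r j)) hcov'
        (fun j => (Fi j).obj) e he T s)
  obtain ⟨K, hK, -, -⟩ := EquivOver.symm (isEquivOver_toClsSp h𝒳.isStack hs)
  exact ⟨⟨clsSp h𝒳.isStack hs, hF⟩, K, hK⟩

/-- S12864 -/
theorem s12864 {ι : Type w} (h𝒳 : AlgSt.IsAlgStack Scheme.fppfPrecoverage 𝒳)
    (Q : ι → 𝒳.obj → Prop) (hQ : ∀ i, AlgSt.IsOpenSubstack 𝒳 (Q i) Scheme.fppfPrecoverage)
    (hcov : ⋃ i, Set.range (AlgSt.Points.map (AlgSt.subIncl 𝒳 (Q i))) = Set.univ)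
    (hsch : ∀ i, FibCat.IsRepresentable (AlgSt.fullSub 𝒳 (Q i))) : FibCat.IsRepresentable 𝒳 := by
  obtain ⟨ι', r, hcov'⟩ := exists_small_cover h𝒳 Q hcov
  have hs : IsFibSetoid 𝒳.p :=
    isFibSetoid_of_open_cover h𝒳 (fun j => Q (r j)) (fun j => hQ (r j)) hcov'
      (fun j => repByAlgSp_of_isRepresentable (hsch (r j)))
  choose U G hG using fun j => hsch (r j)
  have hK : ∀ j, ∃ K : overCat (U j) ⥤ᵇ AlgSt.fullSub 𝒳 (Q (r j)), IsEquivOver K := fun j => by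
    obtain ⟨K, hK, -, -⟩ := EquivOver.symm (hG j)
    exact ⟨K, hK⟩
  choose K hK using hK
  let e : ∀ j, AlgSt.ofSp ((AlgSp.yon S).obj (U j)) ⥤ᵇ AlgSt.fullSub 𝒳 (Q (r j)) := fun j =>
    BasedFunctor.comp (AlgSt.toOverCat (U j)) (K j)
  have he : ∀ j, IsEquivOver (e j) := fun j =>
    isEquivOver_comp (Groth.Agent.Helper6.AlgStEquiv.isEquivOver_toOverCat (U j)) (hK j)
  obtain ⟨W, ε, -, -, -, -⟩ := Groth.Agent.Helper5.ZarGlue.exists_glue
    (fun j => covMap h𝒳 hs (Q (r j)) ((AlgSp.yon S).obj (U j)) (e j))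
    (fun j => repWith_covMap h𝒳 hs (Q (r j)) ((AlgSp.yon S).obj (U j)) (e j) (hQ (r j)) (he j))
    (fun T s => by
      obtain ⟨R, hR, h⟩ := exists_local_factor h𝒳 hs (fun j => Q (r j)) (fun j => hQ (r j)) hcov'
        (fun j => (AlgSp.yon S).obj (U j)) e he T s
      refine ⟨R, hR, fun V γ hγ => ?_⟩
      obtain ⟨j, a, ha⟩ := h γ hγ
      exact ⟨j, (AlgSp.yon S).preimage a, by rw [Functor.map_preimage]; exact ha⟩)
  let ε' : (clsSp h𝒳.isStack hs).obj ≅ ((AlgSp.yon S).obj W).obj :=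
    (sheafToPresheaf _ _).mapIso ε.symm
  have h1 : IsEquivOver (Stk.ofPshMap ε'.hom) := isEquivOver_ofPshMap_iso ε'
  have h2 : IsEquivOver (BasedFunctor.comp (toClsSp h𝒳.isStack hs) (Stk.ofPshMap ε'.hom)) :=
    isEquivOver_comp (isEquivOver_toClsSp h𝒳.isStack hs) h1
  exact ⟨W, BasedFunctor.comp (BasedFunctor.comp (toClsSp h𝒳.isStack hs) (Stk.ofPshMap ε'.hom))
    (AlgSt.toOverCat W),
    isEquivOver_comp h2 (Groth.Agent.Helper6.AlgStEquiv.isEquivOver_toOverCat W)⟩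

end Groth.Agent.Helper5.StkSetoid
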