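import Groth.Agent.Helper5.MaxPt6

set_option autoImplicit false
universe u
open AlgebraicGeometry CategoryTheory TopologicalSpace

namespace Groth.Agent.Helper5.SubDim

theorem krullDim_mono_set {α : Type*} [Preorder α] {A B : Set α} (h : A ⊆ B) :
    Order.krullDim ↥A ≤ Order.krullDim ↥B :=
  Order.krullDim_le_of_strictMono (fun t : ↥A => (⟨t.1, h t.2⟩ : ↥B)) (fun _ _ hst => hst)

/-- Lemma E: the coheight of a point of a scheme embedded in another scheme, computed in the
ambient scheme. -/
theorem coheight_eq_krullDim_of_isEmbedding {T X : Scheme.{u}} (j : T ⟶ X)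
    (hj : Topology.IsEmbedding j) (v : T) :
    ((Order.coheight v : ℕ∞) : WithBot ℕ∞) =
      Order.krullDim ↥{t : X | t ∈ Set.range j ∧ j v ≤ t} := by
  rw [Order.coheight_eq_krullDim_Ici]
  have hle : ∀ a b : T, a ≤ b ↔ j a ≤ j b := by
    intro a b
    rw [Scheme.le_iff_specializes, Scheme.le_iff_specializes, hj.toIsInducing.specializes_iff]
  have hlt : ∀ a b : T, a < b ↔ j a < j b := by
    intro a b
    rw [lt_iff_le_not_ge, lt_iff_le_not_ge, hle a b, hle b a]
  apply le_antisymm
  · refine Order.krullDim_le_of_strictMono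
      (fun s : ↥(Set.Ici v) => (⟨j s.1, ⟨s.1, rfl⟩, (hle v s.1).1 s.2⟩ :
        ↥{t : X | t ∈ Set.range j ∧ j v ≤ t})) ?_
    intro a b hab
    exact (hlt a.1 b.1).1 hab
  · have hex : ∀ t : ↥{t : X | t ∈ Set.range j ∧ j v ≤ t}, ∃ s : T, j s = t.1 := fun t => t.2.1
    refine Order.krullDim_le_of_strictMono
      (fun t => (⟨(hex t).choose, by
        show v ≤ (hex t).choose
        rw [hle, (hex t).choose_spec]
        exact t.2.2⟩ : ↥(Set.Ici v))) ?_
    intro a b hab
    show (hex a).choose < (hex b).choose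
    rw [hlt, (hex a).choose_spec, (hex b).choose_spec]
    exact hab

end Groth.Agent.Helper5.SubDim
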