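import Groth.Agent.Helper5.SubDim2

set_option autoImplicit false
universe u
open AlgebraicGeometry CategoryTheory TopologicalSpace

namespace Groth.Agent.Helper5.SubDim

open Groth.Agent.Helper5.LocDE Groth.Agent.Helper5.VarDim Groth.Agent.Helper5.MaxPt

/-- The fibre of a morphism as a subspace of the source has the dimension of the fibre scheme. -/
theorem dim_preimage_singleton_eq {X Y : Scheme.{u}} (g : X ⟶ Y) (y : Y) :
    topologicalKrullDim ↥(g ⁻¹' {y}) = topologicalKrullDim ↥(g.fiber y) := by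
  have h1 := Groth.Agent.Helper5.FibDim.dim_fiber_preimage_eq g y Set.univ
  rw [Set.univ_inter, Set.preimage_univ] at h1
  rw [← h1]
  exact (IsHomeomorph.topologicalKrullDim_eq _
    (Homeomorph.Set.univ ↥(g.fiber y)).isHomeomorph)

/-- The numerical data attached to a closed irreducible subscheme. -/
theorem sub_data {X Y T TY : Scheme.{u}} [IsLocallyNoetherian Y] (f : X ⟶ Y)
    [LocallyOfFiniteType f] (ιX : T ⟶ X) [IsClosedImmersion ιX] (ιY : TY ⟶ Y)
    [IsClosedImmersion ιY] (w : T) (v : TY) (hv : ιY v = f (ιX w)) (ξT : T)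
    (hξT : closure ({ξT} : Set T) = Set.univ)
    (hrY : Set.range ιY = closure {f (ιX ξT)}) :
    ∃ D k a c t e k' : ℕ,
      ringKrullDim (Y.presheaf.stalk (f (ιX w))) = D ∧
      ringKrullDim ((f.fiber (f (ιX w))).presheaf.stalk (f.asFiber (ιX w))) = k ∧
      ringKrullDim (T.presheaf.stalk w) = a ∧
      ringKrullDim (TY.presheaf.stalk v) = c ∧
      ringKrullDim (((ιX ≫ f).fiber ((ιX ≫ f) w)).presheaf.stalk ((ιX ≫ f).asFiber w)) = k' ∧
      FlatMor.fibreDimAt (ιX ≫ f) w = ((k' + t : ℕ) : WithBot ℕ∞) ∧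
      topologicalKrullDim ↥(Set.range ιX ∩ f ⁻¹' {f (ιX ξT)}) = e ∧
      a + t ≤ c + e ∧ e ≤ k' + t ∧ c ≤ D ∧ k' ≤ k := by
  let g : T ⟶ Y := ιX ≫ f
  have hX : IsLocallyNoetherian X := LocallyOfFiniteType.isLocallyNoetherian f
  have hT : IsLocallyNoetherian T := LocallyOfFiniteType.isLocallyNoetherian g
  have hξTw : ξT ⤳ w := by rw [specializes_iff_mem_closure, hξT]; trivial
  have hξTall : ∀ z : T, ξT ⤳ z := fun z => by rw [specializes_iff_mem_closure, hξT]; trivial
  obtain ⟨a, c, t, e, ha, hc, ht, he, hsum⟩ := scheme_dimension_inequality_Icc g w ξT hξTw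
  obtain ⟨D, hD1, hD2⟩ := ringKrullDim_stalk_nat Y (f (ιX w))
  -- fibres
  have hftF : LocallyOfFiniteType (f.fiberToSpecResidueField (f (ιX w))) :=
    inferInstanceAs (LocallyOfFiniteType (Limits.pullback.snd f (Y.fromSpecResidueField _)))
  have hF : IsLocallyNoetherian (f.fiber (f (ιX w))) :=
    LocallyOfFiniteType.isLocallyNoetherian (f.fiberToSpecResidueField (f (ιX w)))
  have hftF' : LocallyOfFiniteType (g.fiberToSpecResidueField (g w)) :=
    inferInstanceAs (LocallyOfFiniteType (Limits.pullback.snd g (Y.fromSpecResidueField _)))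
  have hF' : IsLocallyNoetherian (g.fiber (g w)) :=
    LocallyOfFiniteType.isLocallyNoetherian (g.fiberToSpecResidueField (g w))
  obtain ⟨k, hk1, hk2⟩ := ringKrullDim_stalk_nat (f.fiber (f (ιX w))) (f.asFiber (ιX w))
  obtain ⟨k', hk'1, hk'2⟩ := ringKrullDim_stalk_nat (g.fiber (g w)) (g.asFiber w)
  have hfd : FlatMor.fibreDimAt g w = ((k' + t : ℕ) : WithBot ℕ∞) := by
    obtain ⟨n', hn'1, hn'2, -⟩ := localDim_formula (Y.residueField (g w))
      (g.fiberToSpecResidueField (g w)) (g.asFiber w)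
    have hnt : n' = t := by
      have h1 := trdeg_fiber g w
      have : (n' : Cardinal.{u}) = (t : Cardinal.{u}) := hn'1.symm.trans (h1.trans ht)
      exact_mod_cast this
    show FlatMor.localDim ↥(g.fiber (g w)) (g.asFiber w) = _
    rw [hn'2, hk'1, hnt]
    push_cast
    rfl
  refine ⟨D, k, a, c, t, e, k', hD1, hk1, ?_, ?_, hk'1, hfd, ?_, hsum, ?_, ?_, ?_⟩
  · -- dB' = a
    rw [ringKrullDim_stalk_eq_coheight, Order.coheight_eq_krullDim_Ici, ← ha]
    have : Set.Ici w = Set.Icc w ξT := by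
      ext z
      simp only [Set.mem_Icc, Set.mem_Ici, iff_self_and]
      intro _
      exact Scheme.le_iff_specializes.2 (hξTall z)
    rw [this]
  · -- dA' = c
    rw [ringKrullDim_stalk_eq_coheight, coheight_eq_krullDim_of_isEmbedding ιY ιY.isEmbedding v,
      ← hc]
    have : {s : Y | s ∈ Set.range ιY ∧ ιY v ≤ s} = Set.Icc (g w) (g ξT) := by
      ext s
      simp only [Set.mem_ofPred_eq, Set.mem_Icc]
      rw [hrY, hv, ← specializes_iff_mem_closure, ← Scheme.le_iff_specializes]
      exact and_comm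
    rw [this]
  · -- e' = e
    obtain ⟨m, hm1, hm2⟩ := Groth.Agent.Helper5.UCat.generic_fibre_dim_eq_trdeg g ξT hξT
    have hme : m = e := by
      have : (m : Cardinal.{u}) = (e : Cardinal.{u}) := hm2.symm.trans he
      exact_mod_cast this
    rw [Groth.Agent.Helper5.FibDim.dim_range_inter_eq ιX ιX.isEmbedding]
    show topologicalKrullDim ↥(g ⁻¹' {g ξT}) = _
    rw [dim_preimage_singleton_eq, hm1, hme]
  · -- Chevalley
    have hmaxξ : ∀ z : T, g z = g ξT → z ⤳ ξT → z = ξT :=
      fun z _ hz => (hz.antisymm (hξTall z)).eq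
    obtain ⟨e1, he1a, he1b⟩ := fibreDimAt_of_maximal g ξT (coheight_asFiber_eq_zero g ξT hmaxξ)
    have he1 : e1 = e := by
      have : (e1 : Cardinal.{u}) = (e : Cardinal.{u}) := he1a.symm.trans he
      exact_mod_cast this
    have hchev := fibreDimAt_le_of_specializes g ξT w hξTw
    rw [he1b, hfd, he1] at hchev
    exact_mod_cast hchev
  · -- c ≤ D
    have h1 := krullDim_Icc_le_coheight (g w) (g ξT)
    rw [hc] at h1
    have h2 : Order.coheight (g w) = (D : ℕ∞) := hD2
    rw [h2] at h1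
    exact_mod_cast h1
  · -- k' ≤ k
    have hemb1 : Topology.IsEmbedding (g.fiberι (g w) ≫ ιX) := (g.fiberι (g w) ≫ ιX).isEmbedding
    have e1 := coheight_eq_krullDim_of_isEmbedding (g.fiberι (g w) ≫ ιX) hemb1 (g.asFiber w)
    have e2 := coheight_eq_krullDim_of_isEmbedding (f.fiberι (f (ιX w)))
      (f.fiberι (f (ιX w))).isEmbedding (f.asFiber (ιX w))
    have hsub : {s : X | s ∈ Set.range (g.fiberι (g w) ≫ ιX) ∧
          (g.fiberι (g w) ≫ ιX) (g.asFiber w) ≤ s} ⊆
        {s : X | s ∈ Set.range (f.fiberι (f (ιX w))) ∧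
          f.fiberι (f (ιX w)) (f.asFiber (ιX w)) ≤ s} := by
      rintro s ⟨⟨z, rfl⟩, hle⟩
      refine ⟨?_, ?_⟩
      · rw [Scheme.Hom.range_fiberι]
        show f (ιX (g.fiberι (g w) z)) = f (ιX w)
        exact apply_fiberι g (g w) z
      · rw [f.fiberι_asFiber]
        have : (g.fiberι (g w) ≫ ιX) (g.asFiber w) = ιX w := by
          show ιX (g.fiberι (g w) (g.asFiber w)) = ιX w
          rw [g.fiberι_asFiber]
        rw [this] at hle
        exact hle
    have := krullDim_mono_set hsub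
    rw [← e1, ← e2, hk'2, hk2] at this
    exact_mod_cast this

end Groth.Agent.Helper5.SubDim
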