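import Groth.Agent.Helper5.SubDim3

set_option autoImplicit false
universe u
open AlgebraicGeometry CategoryTheory TopologicalSpace

namespace Groth.Agent.Helper5.SubDim

theorem arith_iff (D k a c t e k' : ℕ) (h1 : a + t ≤ c + e) (h2 : e ≤ k' + t) (h3 : c ≤ D)
    (h4 : k' ≤ k) :
    ((a : WithBot ℕ∞) = (D : WithBot ℕ∞) + (k : WithBot ℕ∞) ↔
      ((c : WithBot ℕ∞) = (D : WithBot ℕ∞) ∧ (k' : WithBot ℕ∞) = (k : WithBot ℕ∞) ∧
        ((k' + t : ℕ) : WithBot ℕ∞) = (e : WithBot ℕ∞) ∧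
        (a : WithBot ℕ∞) = (c : WithBot ℕ∞) + (k' : WithBot ℕ∞))) := by
  have e1 : ((a : WithBot ℕ∞) = (D : WithBot ℕ∞) + (k : WithBot ℕ∞)) ↔ a = D + k := by norm_cast
  have e2 : ((c : WithBot ℕ∞) = (D : WithBot ℕ∞)) ↔ c = D := by norm_cast
  have e3 : ((k' : WithBot ℕ∞) = (k : WithBot ℕ∞)) ↔ k' = k := by norm_cast
  have e4 : (((k' + t : ℕ) : WithBot ℕ∞) = (e : WithBot ℕ∞)) ↔ k' + t = e := by norm_cast
  have e5 : ((a : WithBot ℕ∞) = (c : WithBot ℕ∞) + (k' : WithBot ℕ∞)) ↔ a = c + k' := by norm_cast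
  rw [e1, e2, e3, e4, e5]
  omega

/-- EGA IV 13.3.?: the criterion for `dim O_{X',x} = dim O_{Y,y} + dim O_{X_y,x}`. -/
theorem dim_subscheme_iff {X Y : Scheme.{u}} [IsLocallyNoetherian Y] (f : X ⟶ Y)
    [LocallyOfFiniteType f] (X' : TopologicalSpace.Closeds X) (hirr : IsIrreducible (X' : Set X))
    (w : ↥(Scheme.IdealSheafData.vanishingIdeal X').subscheme)
    (v : ↥(Scheme.IdealSheafData.vanishingIdeal
      (⟨closure (f '' (X' : Set X)), isClosed_closure⟩ : TopologicalSpace.Closeds Y)).subscheme)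
    (hv : (Scheme.IdealSheafData.vanishingIdeal
      (⟨closure (f '' (X' : Set X)), isClosed_closure⟩ : TopologicalSpace.Closeds Y)).subschemeι v =
        f ((Scheme.IdealSheafData.vanishingIdeal X').subschemeι w))
    (η' : Y) (hη' : closure ({η'} : Set Y) = closure (f '' (X' : Set X))) :
    ∃ D k a c t e k' : ℕ,
      ringKrullDim (Y.presheaf.stalk (f ((Scheme.IdealSheafData.vanishingIdeal X').subschemeι w))) = D ∧
      ringKrullDim ((f.fiber (f ((Scheme.IdealSheafData.vanishingIdeal X').subschemeι w))).presheaf.stalk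
        (f.asFiber ((Scheme.IdealSheafData.vanishingIdeal X').subschemeι w))) = k ∧
      ringKrullDim ((Scheme.IdealSheafData.vanishingIdeal X').subscheme.presheaf.stalk w) = a ∧
      ringKrullDim ((Scheme.IdealSheafData.vanishingIdeal
        (⟨closure (f '' (X' : Set X)), isClosed_closure⟩ :
          TopologicalSpace.Closeds Y)).subscheme.presheaf.stalk v) = c ∧
      ringKrullDim ((((Scheme.IdealSheafData.vanishingIdeal X').subschemeι ≫ f).fiber
        (((Scheme.IdealSheafData.vanishingIdeal X').subschemeι ≫ f) w)).presheaf.stalk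
          (((Scheme.IdealSheafData.vanishingIdeal X').subschemeι ≫ f).asFiber w)) = k' ∧
      FlatMor.fibreDimAt ((Scheme.IdealSheafData.vanishingIdeal X').subschemeι ≫ f) w =
        ((k' + t : ℕ) : WithBot ℕ∞) ∧
      topologicalKrullDim ↥((X' : Set X) ∩ f ⁻¹' {η'}) = e ∧
      a + t ≤ c + e ∧ e ≤ k' + t ∧ c ≤ D ∧ k' ≤ k := by
  obtain ⟨ξT, hξT, hgξ⟩ := subscheme_data1 f X' hirr w η' hη'
  have hrX : Set.range (Scheme.IdealSheafData.vanishingIdeal X').subschemeι = (X' : Set X) := by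
    rw [Scheme.IdealSheafData.range_subschemeι]
    rfl
  have hgξ' : f ((Scheme.IdealSheafData.vanishingIdeal X').subschemeι ξT) = η' := hgξ
  have hrY : Set.range (Scheme.IdealSheafData.vanishingIdeal
      (⟨closure (f '' (X' : Set X)), isClosed_closure⟩ : TopologicalSpace.Closeds Y)).subschemeι =
      closure {f ((Scheme.IdealSheafData.vanishingIdeal X').subschemeι ξT)} := by
    rw [Scheme.IdealSheafData.range_subschemeι, hgξ', hη']
    rfl
  obtain ⟨D, k, a, c, t, e, k', hD, hk, ha, hc, hk', hfd, he, h1, h2, h3, h4⟩ :=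
    sub_data f (Scheme.IdealSheafData.vanishingIdeal X').subschemeι
      (Scheme.IdealSheafData.vanishingIdeal
        (⟨closure (f '' (X' : Set X)), isClosed_closure⟩ : TopologicalSpace.Closeds Y)).subschemeι
      w v hv ξT hξT hrY
  refine ⟨D, k, a, c, t, e, k', hD, hk, ha, hc, hk', hfd, ?_, h1, h2, h3, h4⟩
  rw [← hrX, ← hgξ']
  exact he

end Groth.Agent.Helper5.SubDim
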