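import Groth.Agent.Helper5.SubDim5

set_option autoImplicit false
universe u
open AlgebraicGeometry CategoryTheory TopologicalSpace

namespace Groth.Agent.Helper5.SubDim

open Groth.Agent.Helper5.LocDE Groth.Agent.Helper5.VarDim Groth.Agent.Helper5.MaxPt

/-- EGA IV 13.3.? (converse direction, no catenarity needed): if the dimension formula holds at
`x` then the fibre through `x` has the generic dimension at `x`. -/
theorem fibreDimAt_eq_generic_of_dim_formula {X Y : Scheme.{u}} [IrreducibleSpace X]
    [IrreducibleSpace Y] [IsLocallyNoetherian Y] (f : X ⟶ Y) [LocallyOfFiniteType f]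
    [IsDominant f] (x : X)
    (h : ringKrullDim (X.presheaf.stalk x) =
      ringKrullDim (Y.presheaf.stalk (f x)) +
        ringKrullDim ((f.fiber (f x)).presheaf.stalk (f.asFiber x))) :
    FlatMor.fibreDimAt f x = topologicalKrullDim ↥(f.fiber (genericPoint Y)) := by
  have hX : IsLocallyNoetherian X := LocallyOfFiniteType.isLocallyNoetherian f
  let ξ : X := genericPoint X
  have hξ : closure ({ξ} : Set X) = Set.univ := genericPoint_closure ↥X
  have hξsp : ∀ z : X, ξ ⤳ z := fun z => by
    rw [specializes_iff_mem_closure, hξ]; trivial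
  have hfξ : f ξ = genericPoint Y := by
    have h1 : IsGenericPoint (f ξ) (closure (f '' Set.univ)) :=
      (genericPoint_spec X).image f.continuous
    have h2 : closure (f '' (Set.univ : Set X)) = Set.univ := by
      rw [Set.image_univ]; exact f.denseRange.closure_range
    rw [h2] at h1
    exact h1.eq (genericPoint_spec Y)
  have hηsp : ∀ y : Y, f ξ ⤳ y := by
    intro y
    rw [hfξ]
    exact genericPoint_specializes y
  obtain ⟨a, c, n, e, ha, hc, hn, he, hsum⟩ := scheme_dimension_inequality_Icc f x ξ (hξsp x)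
  obtain ⟨m, hm1, hm2⟩ := Groth.Agent.Helper5.UCat.generic_fibre_dim_eq_trdeg f ξ hξ
  have hme : m = e := by
    have : (m : Cardinal.{u}) = (e : Cardinal.{u}) := hm2.symm.trans he
    exact_mod_cast this
  have hXa : ringKrullDim (X.presheaf.stalk x) = (a : WithBot ℕ∞) := by
    rw [ringKrullDim_stalk_eq_coheight, Order.coheight_eq_krullDim_Ici, ← ha]
    have : Set.Ici x = Set.Icc x ξ := by
      ext z
      simp only [Set.mem_Icc, Set.mem_Ici, iff_self_and]
      intro _
      exact Scheme.le_iff_specializes.2 (hξsp z)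
    rw [this]
  have hYc : ringKrullDim (Y.presheaf.stalk (f x)) = (c : WithBot ℕ∞) := by
    rw [ringKrullDim_stalk_eq_coheight, Order.coheight_eq_krullDim_Ici, ← hc]
    have : Set.Ici (f x) = Set.Icc (f x) (f ξ) := by
      ext z
      simp only [Set.mem_Icc, Set.mem_Ici, iff_self_and]
      intro _
      exact Scheme.le_iff_specializes.2 (hηsp z)
    rw [this]
  have hftF : LocallyOfFiniteType (f.fiberToSpecResidueField (f x)) :=
    inferInstanceAs (LocallyOfFiniteType (Limits.pullback.snd f (Y.fromSpecResidueField _)))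
  have hF : IsLocallyNoetherian (f.fiber (f x)) :=
    LocallyOfFiniteType.isLocallyNoetherian (f.fiberToSpecResidueField (f x))
  obtain ⟨k, hk1, -⟩ := ringKrullDim_stalk_nat (f.fiber (f x)) (f.asFiber x)
  obtain ⟨n', hn'1, hn'2, -⟩ := localDim_formula (Y.residueField (f x))
    (f.fiberToSpecResidueField (f x)) (f.asFiber x)
  have hnn : n' = n := by
    have h1 := trdeg_fiber f x
    have : (n' : Cardinal.{u}) = (n : Cardinal.{u}) := hn'1.symm.trans (h1.trans hn)
    exact_mod_cast this
  have hfd : FlatMor.fibreDimAt f x = ((k + n : ℕ) : WithBot ℕ∞) := by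
    show FlatMor.localDim ↥(f.fiber (f x)) (f.asFiber x) = _
    rw [hn'2, hk1, hnn]
    push_cast
    rfl
  have hchev := fibreDimAt_le_of_specializes f ξ x (hξsp x)
  have hmaxξ : ∀ z : X, f z = f ξ → z ⤳ ξ → z = ξ :=
    fun z _ hz => (hz.antisymm (hξsp z)).eq
  obtain ⟨e1, he1a, he1b⟩ := fibreDimAt_of_maximal f ξ (coheight_asFiber_eq_zero f ξ hmaxξ)
  have he1 : e1 = e := by
    have : (e1 : Cardinal.{u}) = (e : Cardinal.{u}) := he1a.symm.trans he
    exact_mod_cast this
  rw [he1b, hfd, he1] at hchev
  have h2 : e ≤ k + n := by exact_mod_cast hchev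
  rw [hXa, hYc, hk1] at h
  have h3 : a = c + k := by exact_mod_cast h
  have h4 : k + n = e := by omega
  rw [← hfξ, hm1, hfd, hme, h4]

end Groth.Agent.Helper5.SubDim
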