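import Mathlib
import Groth.Prelude

set_option autoImplicit false
universe u

namespace Groth.Agent.Helper5.SyntApx

open CategoryTheory CategoryTheory.Limits AlgebraicGeometry TopologicalSpace Topology

section Ring

variable {A B : Type u} [CommRing A] [CommRing B] [Algebra A B] {n c : ℕ}
  (FA : Fin c → MvPolynomial (Fin n) A) (FB : Fin c → MvPolynomial (Fin n) B)
  (h : ∀ i, MvPolynomial.map (algebraMap A B) (FA i) = FB i)

include h in
theorem span_le_comap :
    Ideal.span (Set.range FA) ≤
      (Ideal.span (Set.range FB)).comap (MvPolynomial.map (σ := Fin n) (algebraMap A B)) := by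
  rw [Ideal.span_le]
  rintro _ ⟨i, rfl⟩
  show MvPolynomial.map (algebraMap A B) (FA i) ∈ Ideal.span (Set.range FB)
  rw [h i]
  exact Ideal.subset_span ⟨i, rfl⟩

/-- the comparison map of the presented algebras -/
noncomputable def cmap : Synt.RelGCIRing A n c FA →+* Synt.RelGCIRing B n c FB :=
  Ideal.quotientMap _ (MvPolynomial.map (σ := Fin n) (algebraMap A B)) (span_le_comap FA FB h)

theorem cmap_mk (p : MvPolynomial (Fin n) A) :
    cmap FA FB h (Ideal.Quotient.mk _ p) =
      Ideal.Quotient.mk _ (MvPolynomial.map (algebraMap A B) p) := rfl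

theorem cmap_algebraMap (a : A) :
    cmap FA FB h (algebraMap A (Synt.RelGCIRing A n c FA) a) =
      algebraMap B (Synt.RelGCIRing B n c FB) (algebraMap A B a) := by
  show cmap FA FB h (Ideal.Quotient.mk _ (MvPolynomial.C a)) = Ideal.Quotient.mk _ (MvPolynomial.C _)
  rw [cmap_mk, MvPolynomial.map_C]

theorem isPushout_cmap :
    IsPushout (CommRingCat.ofHom (algebraMap A (Synt.RelGCIRing A n c FA)))
      (CommRingCat.ofHom (algebraMap A B))
      (CommRingCat.ofHom (cmap FA FB h))
      (CommRingCat.ofHom (algebraMap B (Synt.RelGCIRing B n c FB))) := by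
  have w : CommRingCat.ofHom (algebraMap A (Synt.RelGCIRing A n c FA)) ≫
      CommRingCat.ofHom (cmap FA FB h) =
      CommRingCat.ofHom (algebraMap A B) ≫
        CommRingCat.ofHom (algebraMap B (Synt.RelGCIRing B n c FB)) := by
    ext a
    exact cmap_algebraMap FA FB h a
  refine ⟨⟨w⟩, ⟨PushoutCocone.IsColimit.mk w (fun s => ?_) ?_ ?_ ?_⟩⟩
  · -- desc
    refine CommRingCat.ofHom (Ideal.Quotient.lift _
      (MvPolynomial.eval₂Hom s.inr.hom (fun i => s.inl.hom (Ideal.Quotient.mk _ (MvPolynomial.X i)))) ?_)
    have key : (MvPolynomial.eval₂Hom s.inr.hom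
        (fun i => s.inl.hom (Ideal.Quotient.mk _ (MvPolynomial.X i)))).comp
          (MvPolynomial.map (σ := Fin n) (algebraMap A B)) =
        s.inl.hom.comp (Ideal.Quotient.mk (Ideal.span (Set.range FA))) := by
      apply MvPolynomial.ringHom_ext
      · intro a
        have := congr($(s.condition).hom a)
        simp only [RingHom.comp_apply, MvPolynomial.map_C, MvPolynomial.eval₂Hom_C]
        exact this.symm
      · intro i
        simp
    intro p hp
    have hle : Ideal.span (Set.range FB) ≤ RingHom.ker (MvPolynomial.eval₂Hom s.inr.hom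
        (fun i => s.inl.hom (Ideal.Quotient.mk _ (MvPolynomial.X i)))) := by
      rw [Ideal.span_le]
      rintro _ ⟨i, rfl⟩
      show MvPolynomial.eval₂Hom _ _ (FB i) = 0
      rw [← h i]
      have := congr($key (FA i))
      simp only [RingHom.comp_apply] at this
      rw [this]
      have h0 : Ideal.Quotient.mk (Ideal.span (Set.range FA)) (FA i) = 0 :=
        Ideal.Quotient.eq_zero_iff_mem.mpr (Ideal.subset_span ⟨i, rfl⟩)
      rw [h0, map_zero]
    exact hle hp
  · intro s
    ext x
    · simp only [CommRingCat.hom_comp, CommRingCat.hom_ofHom, RingHom.comp_apply]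
      rw [cmap_mk, MvPolynomial.map_C, Ideal.Quotient.lift_mk, MvPolynomial.coe_eval₂Hom,
        MvPolynomial.eval₂_C]
      exact (congr($(s.condition).hom x)).symm
    · simp only [CommRingCat.hom_comp, CommRingCat.hom_ofHom, RingHom.comp_apply]
      rw [cmap_mk, MvPolynomial.map_X, Ideal.Quotient.lift_mk, MvPolynomial.coe_eval₂Hom,
        MvPolynomial.eval₂_X]
  · intro s
    ext b
    simp only [CommRingCat.hom_comp, CommRingCat.hom_ofHom, RingHom.comp_apply]
    show Ideal.Quotient.lift _ _ _ (Ideal.Quotient.mk _ (MvPolynomial.C b)) = s.inr.hom b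
    rw [Ideal.Quotient.lift_mk, MvPolynomial.coe_eval₂Hom, MvPolynomial.eval₂_C]
  · intro s m h1 h2
    ext x
    · simp only [CommRingCat.hom_comp, CommRingCat.hom_ofHom, RingHom.comp_apply]
      rw [Ideal.Quotient.lift_mk, MvPolynomial.coe_eval₂Hom, MvPolynomial.eval₂_C]
      exact congr($(h2).hom x)
    · simp only [CommRingCat.hom_comp, CommRingCat.hom_ofHom, RingHom.comp_apply]
      rw [Ideal.Quotient.lift_mk, MvPolynomial.coe_eval₂Hom, MvPolynomial.eval₂_X]
      have := congr($(h1).hom (Ideal.Quotient.mk _ (MvPolynomial.X x)))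
      rw [← this]
      show _ = m.hom (cmap FA FB h (Ideal.Quotient.mk _ (MvPolynomial.X x)))
      rw [cmap_mk, MvPolynomial.map_X]

theorem isPullback_cmap :
    IsPullback (Spec.map (CommRingCat.ofHom (cmap FA FB h)))
      (Spec.map (CommRingCat.ofHom (algebraMap B (Synt.RelGCIRing B n c FB))))
      (Spec.map (CommRingCat.ofHom (algebraMap A (Synt.RelGCIRing A n c FA))))
      (Spec.map (CommRingCat.ofHom (algebraMap A B))) :=
  isPullback_SpecMap_of_isPushout _ _ _ _ (isPushout_cmap FA FB h)

end Ring

end Groth.Agent.Helper5.SyntApx
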