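import Mathlib
import Groth.Prelude
import Groth.Agent.Helper5.SyntApx1
import Groth.Agent.Helper5.ConsLc9
import Groth.Agent.Helper5.ConsLc7
import Groth.Agent.Helper5.NoethDim1
import Groth.Agent.Lead.SubalgSys
import Groth.Agent.Lead.ProConsLib2

set_option autoImplicit false
universe u

namespace Groth.Agent.Helper5.SyntApx

open CategoryTheory CategoryTheory.Limits AlgebraicGeometry TopologicalSpace Topology
open Groth.Agent.Lead Groth.Agent.Helper5.ConsLc

theorem dim_fiber_Spec (A C : Type u) [CommRing A] [CommRing C] [Algebra A C]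
    (p : PrimeSpectrum A) :
    topologicalKrullDim ↥((Spec.map (CommRingCat.ofHom (algebraMap A C))).fiber p) =
      ringKrullDim (p.asIdeal.Fiber C) := by
  let e := Spec.fiberToSpecResidueFieldIso A C p
  let i : (Spec.map (CommRingCat.ofHom (algebraMap A C))).fiber p ≅
      Spec (.of (p.asIdeal.Fiber C)) := Arrow.leftFunc.mapIso e
  rw [← PrimeSpectrum.topologicalKrullDim_eq_ringKrullDim]
  exact IsHomeomorph.topologicalKrullDim_eq _ i.hom.homeomorph.isHomeomorph

/-- the admissible values of the fibre dimension -/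
def Φ (n c : ℕ) : Set (WithBot ℕ∞) := {d | d = ⊥ ∨ (c ≤ n ∧ d = ((n - c : ℕ) : WithBot ℕ∞))}

/-- the relation "the dimension is admissible" -/
def PΦ (n c : ℕ) : ∀ ⦃Y T : Scheme.{u}⦄, (Y ⟶ T) → Prop :=
  fun Y _ _ => topologicalKrullDim ↥Y ∈ Φ n c

theorem isCons_PΦ (n c : ℕ) : ConsProp.IsCons (PΦ.{u} n c) :=
  Groth.Agent.Helper5.KLem.s5888 (Φ n c)

theorem isRelGCI_iff {A : Type u} [CommRing A] {n c : ℕ} (F : Fin c → MvPolynomial (Fin n) A) :
    Synt.IsRelGCI A n c F ↔
      ∀ p : Spec (.of A), p ∈ ConsProp.locus (PΦ n c)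
        (Spec.map (CommRingCat.ofHom (algebraMap A (Synt.RelGCIRing A n c F)))) := by
  have key : ∀ p : PrimeSpectrum A,
      (p ∈ ConsProp.locus (PΦ n c)
        (Spec.map (CommRingCat.ofHom (algebraMap A (Synt.RelGCIRing A n c F))))) ↔
      ringKrullDim (p.asIdeal.Fiber (Synt.RelGCIRing A n c F)) ∈ Φ n c := by
    intro p
    show topologicalKrullDim _ ∈ Φ n c ↔ _
    rw [dim_fiber_Spec]
  constructor
  · intro h p
    refine (key p).mpr ?_
    by_cases hn : Nontrivial (p.asIdeal.Fiber (Synt.RelGCIRing A n c F))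
    · exact Or.inr (h p hn)
    · rw [not_nontrivial_iff_subsingleton] at hn
      exact Or.inl ringKrullDim_eq_bot_of_subsingleton
  · intro h p hn
    have := (key p).mp (h p)
    rcases this with h0 | h1
    · exfalso
      have := ringKrullDim_nonneg_of_nontrivial (R := p.asIdeal.Fiber (Synt.RelGCIRing A n c F))
      rw [h0] at this
      exact absurd this (by simp)
    · exact h1

end Groth.Agent.Helper5.SyntApx
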