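import Mathlib
import Groth.Prelude
import Groth.Agent.Helper5.SyntApx2
import Groth.Agent.Helper5.ConsLc5

set_option autoImplicit false
universe u

namespace Groth.Agent.Helper5.SyntApx

open CategoryTheory CategoryTheory.Limits AlgebraicGeometry TopologicalSpace Topology
open Groth.Agent.Lead Groth.Agent.Helper5.ConsLc

instance lfp_relGCI {A : Type u} [CommRing A] {n c : ℕ} (F : Fin c → MvPolynomial (Fin n) A) :
    LocallyOfFinitePresentation
      (Spec.map (CommRingCat.ofHom (algebraMap A (Synt.RelGCIRing A n c F)))) := by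
  rw [HasRingHomProperty.Spec_iff (P := @LocallyOfFinitePresentation)]
  have hfg : (Ideal.span (Set.range F)).FG := Submodule.fg_span (Set.finite_range F)
  have : Algebra.FinitePresentation A (Synt.RelGCIRing A n c F) :=
    Algebra.FinitePresentation.quotient hfg
  exact (RingHom.finitePresentation_algebraMap).mpr this

/-- a base change of the presentation whose fibre dimensions are admissible over the original base
is a relative global complete intersection -/
theorem isRelGCI_of_forall_mem {A B : Type u} [CommRing A] [CommRing B] [Algebra A B] {n c : ℕ}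
    (FA : Fin c → MvPolynomial (Fin n) A) (FB : Fin c → MvPolynomial (Fin n) B)
    (h : ∀ i, MvPolynomial.map (algebraMap A B) (FA i) = FB i)
    (hmem : ∀ t : Spec (.of B), Spec.map (CommRingCat.ofHom (algebraMap A B)) t ∈
      ConsProp.locus (PΦ n c)
        (Spec.map (CommRingCat.ofHom (algebraMap A (Synt.RelGCIRing A n c FA))))) :
    Synt.IsRelGCI B n c FB := by
  rw [isRelGCI_iff]
  intro p
  rw [Groth.Agent.Helper5.ConsPr.locus_of_isPullback (isCons_PΦ n c).1 (isPullback_cmap FA FB h)]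
  exact hmem p

theorem forall_mem_of_isRelGCI {A B : Type u} [CommRing A] [CommRing B] [Algebra A B] {n c : ℕ}
    (FA : Fin c → MvPolynomial (Fin n) A) (FB : Fin c → MvPolynomial (Fin n) B)
    (h : ∀ i, MvPolynomial.map (algebraMap A B) (FA i) = FB i)
    (hB : Synt.IsRelGCI B n c FB) (t : Spec (.of B)) :
    Spec.map (CommRingCat.ofHom (algebraMap A B)) t ∈
      ConsProp.locus (PΦ n c)
        (Spec.map (CommRingCat.ofHom (algebraMap A (Synt.RelGCIRing A n c FA)))) := by
  have := (isRelGCI_iff FB).mp hB t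
  rw [Groth.Agent.Helper5.ConsPr.locus_of_isPullback (isCons_PΦ n c).1
    (isPullback_cmap FA FB h)] at this
  exact this

/-- the structure morphism of the presented algebra -/
noncomputable def fmap (A : Type u) [CommRing A] (n c : ℕ) (F : Fin c → MvPolynomial (Fin n) A) :
    Spec (.of (Synt.RelGCIRing A n c F)) ⟶ Spec (.of A) :=
  Spec.map (CommRingCat.ofHom (algebraMap A (Synt.RelGCIRing A n c F)))

instance lfp_fmap (A : Type u) [CommRing A] (n c : ℕ) (F : Fin c → MvPolynomial (Fin n) A) :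
    LocallyOfFinitePresentation (fmap A n c F) := lfp_relGCI F

instance aff_fmap (A : Type u) [CommRing A] (n c : ℕ) (F : Fin c → MvPolynomial (Fin n) A) :
    IsAffineHom (fmap A n c F) := by
  unfold fmap; infer_instance

set_option backward.isDefEq.respectTransparency false in
/-- the ring-level core: a stage over which the presentation is a relative global complete
intersection -/
theorem exists_stage {R : Type u} [CommRing R] (A₁ : Subalgebra ℤ R) (hfg : A₁.FG) {n c : ℕ}
    (F₁ : Fin c → MvPolynomial (Fin n) A₁) (F : Fin c → MvPolynomial (Fin n) R)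
    (hF₁ : ∀ i, MvPolynomial.map (algebraMap A₁ R) (F₁ i) = F i)
    (hGCI : Synt.IsRelGCI R n c F) :
    ∃ (B : Subalgebra ℤ R) (_ : B.FG) (FB : Fin c → MvPolynomial (Fin n) B),
      (∀ i, MvPolynomial.map (algebraMap B R) (FB i) = F i) ∧ Synt.IsRelGCI B n c FB := by
  haveI := SubalgSys.isCofiltered hfg
  have hc : IsLimit (SubalgSys.cone R A₁) := SubalgSys.coneIsLimit hfg
  haveI : ∀ (i j : (SubalgSys.Idx R A₁)ᵒᵖ) (f : i ⟶ j),
      IsAffineHom ((SubalgSys.D R A₁).map f) := fun _ _ f => inferInstance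
  haveI : ∀ i, CompactSpace ((SubalgSys.D R A₁).obj i) := fun i => inferInstance
  let i₀ : (SubalgSys.Idx R A₁)ᵒᵖ := Opposite.op (SubalgSys.base R A₁ hfg)
  let f₁ : Spec (.of (Synt.RelGCIRing A₁ n c F₁)) ⟶ Spec (.of A₁) := fmap A₁ n c F₁
  let E : Set ((SubalgSys.D R A₁).obj i₀) := ConsProp.locus (PΦ n c) f₁
  have hE : ProCons.IsIndConstructible E :=
    ProConsLib.ind_of_isLocallyConstructible (isLocallyConstructible_locus (isCons_PΦ n c) f₁)
  have h' : ∀ s : (SubalgSys.cone R A₁).pt, (SubalgSys.cone R A₁).π.app i₀ s ∈ E := by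
    intro s
    exact forall_mem_of_isRelGCI F₁ F hF₁ hGCI s
  obtain ⟨j, φ, hj⟩ := exists_stage_forall_mem hc i₀ E hE h'
  have hle : A₁ ≤ j.unop.1 := j.unop.2.2
  letI : Algebra A₁ j.unop.1 := (Subalgebra.inclusion hle).toRingHom.toAlgebra
  refine ⟨j.unop.1, j.unop.2.1, fun i => MvPolynomial.map (algebraMap A₁ j.unop.1) (F₁ i), ?_, ?_⟩
  · intro i
    rw [MvPolynomial.map_map, ← hF₁ i]
    rfl
  · refine isRelGCI_of_forall_mem F₁ _ (fun _ => rfl) ?_
    intro t
    exact hj t

set_option backward.isDefEq.respectTransparency false in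
/-- S9736 -/
theorem s9736 {X S : Scheme.{u}} (f : X ⟶ S) [IsAffine X] [IsAffine S]
    (hf : Synt.IsStandardSyntomic f) :
    ∃ (X₀ S₀ : Scheme.{u}) (f₀ : X₀ ⟶ S₀) (g : S ⟶ S₀) (g' : X ⟶ X₀), IsAffine X₀ ∧ IsAffine S₀ ∧
      IsPullback g' f f₀ g ∧ Algebra.FiniteType ℤ Γ(S₀, ⊤) ∧ LocallyOfFiniteType f₀ ∧
        Synt.IsStandardSyntomic f₀ := by
  classical
  obtain ⟨R, _, n, c, F, hGCI, e₁, e₂, comm⟩ := hf
  let T : Set R := ⋃ i, ((F i).coeffs : Set R)
  have hTfin : T.Finite := Set.finite_iUnion (fun i => (F i).coeffs.finite_toSet)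
  let A₁ : Subalgebra ℤ R := Algebra.adjoin ℤ T
  have hfg : A₁.FG := ⟨hTfin.toFinset, by simp [A₁]⟩
  have hF₁ : ∀ i, ∃ G : MvPolynomial (Fin n) A₁, MvPolynomial.map (algebraMap A₁ R) G = F i := by
    intro i
    have : F i ∈ Set.range (MvPolynomial.map (σ := Fin n) (algebraMap A₁ R)) := by
      rw [MvPolynomial.mem_range_map_iff_coeffs_subset]
      intro x hx
      exact ⟨⟨x, Algebra.subset_adjoin (Set.mem_iUnion.mpr ⟨i, hx⟩)⟩, rfl⟩
    exact this
  choose F₁ hF₁ using hF₁
  obtain ⟨B, hB, FB, hFB, hGB⟩ := exists_stage A₁ hfg F₁ F hF₁ hGCI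
  have sq := isPullback_cmap FB F hFB
  have hft : Algebra.FiniteType ℤ B := (Subalgebra.fg_iff_finiteType B).mp hB
  refine ⟨Spec (.of (Synt.RelGCIRing B n c FB)), Spec (.of B), fmap B n c FB,
    e₂.hom ≫ Spec.map (CommRingCat.ofHom (algebraMap B R)),
    e₁.hom ≫ Spec.map (CommRingCat.ofHom (cmap FB F hFB)), inferInstance, inferInstance,
    ?_, ?_, inferInstance, ?_⟩
  · refine IsPullback.of_iso sq e₁.symm (Iso.refl _) e₂.symm (Iso.refl _) (by simp) ?_ (by simp [fmap])
      (by simp)
    rw [Iso.symm_hom, Iso.symm_hom, Iso.eq_inv_comp, ← Category.assoc, Iso.comp_inv_eq]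
    exact comm
  · exact Algebra.FiniteType.equiv hft
      ((Scheme.ΓSpecIso (.of B)).symm.commRingCatIsoToRingEquiv.toIntAlgEquiv)
  · exact ⟨B, inferInstance, n, c, FB, hGB, Iso.refl _, Iso.refl _, by simp [fmap]⟩

end Groth.Agent.Helper5.SyntApx
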