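import Mathlib
import Groth.Agent.Helper5.SyntDesc2

set_option autoImplicit false
set_option linter.style.haveILetI false
universe u
open CategoryTheory CategoryTheory.Limits AlgebraicGeometry TopologicalSpace Topology TensorProduct

namespace Groth.Agent.Helper5.SyntDesc

open Groth.Agent.Helper5.CMFib

theorem cm_stalk_of_isCMAt {X Y : Scheme.{u}} (f : X ⟶ Y) [IsLocallyNoetherian X]
    [IsLocallyNoetherian Y] (x : X) (h : MoreMor.IsCMAt f x)
    (hY : LocCoh.IsCohenMacaulayLocalRing ↑(Y.presheaf.stalk (f x))) :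
    LocCoh.IsCohenMacaulayLocalRing ↑(X.presheaf.stalk x) := by
  letI : Algebra (Y.presheaf.stalk (f x)) (X.presheaf.stalk x) := (f.stalkMap x).hom.toAlgebra
  haveI : IsLocalHom (algebraMap (Y.presheaf.stalk (f x)) (X.presheaf.stalk x)) :=
    inferInstanceAs (IsLocalHom (f.stalkMap x).hom)
  obtain ⟨e⟩ := fibre_stalk_equiv' f x
  haveI : Module.Flat (Y.presheaf.stalk (f x)) (X.presheaf.stalk x) := h.1
  exact cm_of_flat_of_fibre (Y.presheaf.stalk (f x)) (X.presheaf.stalk x) hY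
    (Groth.Agent.Lead.CMCl.cm_of_ringEquiv e.symm (h := h.2))

/-- S9862 -/
theorem s9862 {ι : Type u} {S : Scheme.{u}} {X : ι → Scheme.{u}} (f : ∀ i, X i ⟶ S)
    (hsurj : ∀ s : S, ∃ i, s ∈ Set.range (f i).base) (hsyn : ∀ i, Synt.IsSyntomicMor (f i)) :
    (IsLocallyNoetherian S ∧ ∀ s : S, LocCoh.IsCohenMacaulayLocalRing (S.presheaf.stalk s)) ↔
      ∀ i, IsLocallyNoetherian (X i) ∧
        ∀ x : X i, LocCoh.IsCohenMacaulayLocalRing ((X i).presheaf.stalk x) := by
  have hcm : ∀ i (x : X i), MoreMor.IsCMAt (f i) x := fun i x =>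
    Groth.Agent.Helper5.SyntLC.isCMAt_of_isSyntomicAt (f i) x (hsyn i x)
  constructor
  · rintro ⟨hN, hS⟩ i
    haveI := lfp_of_isSyntomicMor (f i) (hsyn i)
    haveI : IsLocallyNoetherian (X i) := LocallyOfFiniteType.isLocallyNoetherian (f i)
    exact ⟨inferInstance, fun x => cm_stalk_of_isCMAt (f i) x (hcm i x) (hS _)⟩
  · intro h
    have key : ∀ s : S, ∃ W : S.affineOpens, s ∈ W.1 ∧ IsNoetherianRing Γ(S, W.1) := by
      intro s
      obtain ⟨i, x, rfl⟩ := hsurj s
      haveI := (h i).1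
      exact exists_noetherian_affine_nhd (f i) x (hsyn i x)
    choose W hsW hW using key
    haveI hN : IsLocallyNoetherian S := by
      refine isLocallyNoetherian_of_affine_cover (S := W) ?_ hW
      rw [eq_top_iff]
      intro s _
      exact Opens.mem_iSup.2 ⟨s, hsW s⟩
    refine ⟨hN, fun s => ?_⟩
    obtain ⟨i, x, rfl⟩ := hsurj s
    haveI := (h i).1
    exact (isCMAt_of_flat_of_cm (f i) x (hcm i x).1 ((h i).2 x)).2

end Groth.Agent.Helper5.SyntDesc
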