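import Mathlib
import Groth.Agent.Helper2.FlatLoc
import Groth.Agent.Helper2.SkFlat
import Groth.Agent.Helper2.DepthCM4

set_option autoImplicit false
set_option linter.style.haveILetI false
universe u
open CategoryTheory TensorProduct IsLocalRing

namespace Groth.Agent.Helper5.SyntSk

open Groth.Agent.Helper2

/-- `(S_k)` descends along faithfully flat maps of noetherian rings -/
theorem hasSk_descent (A B : Type u) [CommRing A] [CommRing B] [IsNoetherianRing A]
    [IsNoetherianRing B] [Algebra A B] [Module.FaithfullyFlat A B] (k : ℕ)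
    (h : LocCoh.HasSk k B B) : LocCoh.HasSk k A A := by
  rw [SkLift.hasSk_iff'] at h ⊢
  intro p hp
  have hne : p.map (algebraMap A B) ≠ ⊤ := by
    intro htop
    have := Ideal.comap_map_eq_self_of_faithfullyFlat (B := B) p
    rw [htop, Ideal.comap_top] at this
    exact hp.ne_top this.symm
  obtain ⟨q, hq⟩ := Ideal.nonempty_minimalPrimes hne
  haveI hqprime : q.IsPrime := hq.1.1
  have hpq : p.map (algebraMap A B) ≤ q := hq.1.2
  have hle : p ≤ q.comap (algebraMap A B) := Ideal.map_le_iff_le_comap.1 hpq
  have hcomap : q.comap (algebraMap A B) = p := by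
    refine le_antisymm ?_ hle
    haveI : Algebra.HasGoingDown A B := Algebra.HasGoingDown.of_flat
    haveI : q.LiesOver (q.comap (algebraMap A B)) := ⟨rfl⟩
    obtain ⟨Q, hQle, hQprime, hQover⟩ :=
      Ideal.exists_ideal_le_liesOver_of_le (p := p) (q := q.comap (algebraMap A B)) q hle
    have hpQ : p.map (algebraMap A B) ≤ Q := by
      rw [Ideal.map_le_iff_le_comap, ← Ideal.under_def, ← hQover.over]
    have hqQ : q = Q := le_antisymm (hq.2 ⟨hQprime, hpQ⟩ hQle) hQle
    rw [hqQ, ← Ideal.under_def, ← hQover.over]
  subst hcomap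
  -- the fibre local ring has dimension zero
  have h0 : (maximalIdeal (EGA4.FibLocRing A B q)).height = 0 := by
    rw [Ideal.height_eq_zero_iff]
    refine ⟨⟨inferInstance, bot_le⟩, ?_⟩
    rintro P ⟨hPprime, -⟩ hPle
    haveI := hPprime
    -- pull back to `B_q`
    let P' : Ideal (Localization.AtPrime q) := P.comap (Ideal.Quotient.mk _)
    haveI : P'.IsPrime := Ideal.comap_isPrime _ _
    let P'' : Ideal B := P'.comap (algebraMap B (Localization.AtPrime q))
    haveI : P''.IsPrime := Ideal.comap_isPrime _ _
    have h1 : P'' ≤ q := by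
      have : P' ≤ maximalIdeal (Localization.AtPrime q) := IsLocalRing.le_maximalIdeal
        (Ideal.IsPrime.ne_top inferInstance)
      intro x hx
      have hx' : algebraMap B (Localization.AtPrime q) x ∈ maximalIdeal (Localization.AtPrime q) :=
        this hx
      rwa [IsLocalization.AtPrime.to_map_mem_maximal_iff (Localization.AtPrime q) q] at hx'
    have h2 : (q.comap (algebraMap A B)).map (algebraMap A B) ≤ P'' := by
      rw [Ideal.map_le_iff_le_comap]
      intro a ha
      show Ideal.Quotient.mk _ (algebraMap B (Localization.AtPrime q) (algebraMap A B a)) ∈ P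
      rw [← IsScalarTower.algebraMap_apply A B (Localization.AtPrime q)]
      have : Ideal.Quotient.mk ((q.comap (algebraMap A B)).map
          (algebraMap A (Localization.AtPrime q))) (algebraMap A (Localization.AtPrime q) a) = 0 :=
        Ideal.Quotient.eq_zero_iff_mem.2 (Ideal.mem_map_of_mem _ ha)
      rw [this]
      exact P.zero_mem
    have h3 : q ≤ P'' := hq.2 ⟨inferInstance, h2⟩ h1
    -- hence `P' = m`
    intro y hy
    obtain ⟨y', rfl⟩ := Ideal.Quotient.mk_surjective y
    show y' ∈ P'
    have hy' : y' ∈ maximalIdeal (Localization.AtPrime q) := by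
      have : Ideal.Quotient.mk _ y' ∈ maximalIdeal (EGA4.FibLocRing A B q) := hy
      by_contra hnot
      have hu : IsUnit y' := by
        rw [IsLocalRing.mem_maximalIdeal, mem_nonunits_iff, not_not] at hnot
        exact hnot
      exact (IsLocalRing.mem_maximalIdeal _).1 this (hu.map _)
    rw [← Localization.AtPrime.map_eq_maximalIdeal] at hy'
    have hmap : Ideal.map (algebraMap B (Localization.AtPrime q)) q ≤ P' := by
      rw [Ideal.map_le_iff_le_comap]
      exact h3
    exact hmap hy'
  have hht := FlatLoc.height_eq A B q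
  have hdp := FlatLoc.depth_eq A B q
  have hd0 : LocCoh.depth (EGA4.FibLocRing A B q) (EGA4.FibLocRing A B q) = 0 := by
    have h1 := DepthCM4.depth_le_supportDim (A := EGA4.FibLocRing A B q) (EGA4.FibLocRing A B q)
    rw [Module.supportDim_self_eq_ringKrullDim, ← IsLocalRing.maximalIdeal_height_eq_ringKrullDim,
      h0] at h1
    have : (LocCoh.depth (EGA4.FibLocRing A B q) (EGA4.FibLocRing A B q) : ℕ∞) ≤ 0 := by
      exact_mod_cast h1
    exact le_antisymm this bot_le
  have := h q
  rw [hht, h0, add_zero, hdp, hd0, add_zero] at this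
  exact this

end Groth.Agent.Helper5.SyntSk
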