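import Mathlib
import Groth.Agent.Helper5.SyntSk1
import Groth.Agent.Helper5.SyntDesc3
import Groth.Agent.Helper2.SnFib
import Groth.Agent.Helper2.FlatAscent

set_option autoImplicit false
set_option linter.style.haveILetI false
universe u
open CategoryTheory CategoryTheory.Limits AlgebraicGeometry TopologicalSpace Topology TensorProduct
open IsLocalRing

namespace Groth.Agent.Helper5.SyntSk

open Groth.Agent.Helper2

section Stalk

variable {X : Scheme.{u}} [IsLocallyNoetherian X] {U : X.Opens} (hU : IsAffineOpen U)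

include hU in
theorem hasSk_stalk_of_sections (k : ℕ) (h : LocCoh.HasSk k Γ(X, U) Γ(X, U)) (x : X) (hx : x ∈ U) :
    LocCoh.HasSk k (X.presheaf.stalk x) (X.presheaf.stalk x) := by
  haveI : IsNoetherianRing Γ(X, U) := IsLocallyNoetherian.component_noetherian ⟨U, hU⟩
  letI := X.presheaf.algebra_section_stalk ⟨x, hx⟩
  haveI := hU.isLocalization_stalk ⟨x, hx⟩
  have h1 := SkFlat.hasSk_localization Γ(X, U) k h (hU.primeIdealOf ⟨x, hx⟩).asIdeal
  exact SkFlat.hasSk_of_ringEquiv (IsLocalization.algEquiv (hU.primeIdealOf ⟨x, hx⟩).asIdeal.primeCompl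
    (Localization.AtPrime (hU.primeIdealOf ⟨x, hx⟩).asIdeal) (X.presheaf.stalk x)).toRingEquiv k h1

include hU in
theorem hasSk_sections_of_stalks (k : ℕ)
    (h : ∀ x ∈ U, LocCoh.HasSk k (X.presheaf.stalk x) (X.presheaf.stalk x)) :
    LocCoh.HasSk k Γ(X, U) Γ(X, U) := by
  haveI : IsNoetherianRing Γ(X, U) := IsLocallyNoetherian.component_noetherian ⟨U, hU⟩
  rw [SkLift.hasSk_iff']
  intro p hp
  let y : PrimeSpectrum Γ(X, U) := ⟨p, hp⟩
  have hy : hU.fromSpec y ∈ U := by
    have : hU.fromSpec y ∈ Set.range hU.fromSpec := ⟨y, rfl⟩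
    rwa [hU.range_fromSpec] at this
  letI := X.presheaf.algebra_section_stalk ⟨hU.fromSpec y, hy⟩
  haveI : IsLocalization.AtPrime (X.presheaf.stalk (hU.fromSpec y)) p :=
    hU.isLocalization_stalk' y hy
  have h1 := FlatAscent.sk_at_max (X.presheaf.stalk (hU.fromSpec y)) k (h _ hy)
  let e := (IsLocalization.algEquiv p.primeCompl (Localization.AtPrime p)
    (X.presheaf.stalk (hU.fromSpec y))).toRingEquiv
  rw [← FlatAscent.depth_eq_of_ringEquiv e] at h1
  have h2 : (maximalIdeal (X.presheaf.stalk (hU.fromSpec y))).height = p.height := by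
    have h3 := IsLocalization.AtPrime.ringKrullDim_eq_height p (X.presheaf.stalk (hU.fromSpec y))
    rw [← IsLocalRing.maximalIdeal_height_eq_ringKrullDim] at h3
    exact_mod_cast h3
  rwa [h2] at h1

end Stalk


open Groth.Agent.Helper5.SyntDesc in
/-- S9863 -/
theorem s9863 {ι : Type u} {S : Scheme.{u}} {X : ι → Scheme.{u}} (f : ∀ i, X i ⟶ S)
    (hsurj : ∀ s : S, ∃ i, s ∈ Set.range (f i).base) (hsyn : ∀ i, Synt.IsSyntomicMor (f i)) (k : ℕ) :
    (IsLocallyNoetherian S ∧
        ∀ s : S, LocCoh.HasSk k (S.presheaf.stalk s) (S.presheaf.stalk s)) ↔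
      ∀ i, IsLocallyNoetherian (X i) ∧
        ∀ x : X i, LocCoh.HasSk k ((X i).presheaf.stalk x) ((X i).presheaf.stalk x) := by
  constructor
  · rintro ⟨hN, hS⟩ i
    haveI := lfp_of_isSyntomicMor (f i) (hsyn i)
    haveI : IsLocallyNoetherian (X i) := LocallyOfFiniteType.isLocallyNoetherian (f i)
    refine ⟨inferInstance, fun x => ?_⟩
    obtain ⟨U, V, e, hxU, hsyn'⟩ := hsyn i x
    letI := ((f i).appLE V.1 U.1 e).hom.toAlgebra
    obtain ⟨hfl, hfp, hlci⟩ := hsyn'
    haveI : IsNoetherianRing Γ(S, V.1) := IsLocallyNoetherian.component_noetherian V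
    haveI : IsNoetherianRing Γ(X i, U.1) := IsLocallyNoetherian.component_noetherian U
    have hA : LocCoh.HasSk k Γ(S, V.1) Γ(S, V.1) :=
      hasSk_sections_of_stalks V.2 k (fun s _ => hS s)
    have hfib : ∀ (p : Ideal Γ(S, V.1)) [p.IsPrime],
        LocCoh.HasSk k (p.Fiber Γ(X i, U.1)) (p.Fiber Γ(X i, U.1)) := by
      intro p hp
      have hcm := Groth.Agent.Helper5.SyntCM.s9142 p.ResidueField (p.Fiber Γ(X i, U.1))
        (hlci ⟨p, hp⟩)
      haveI : IsNoetherianRing (p.Fiber Γ(X i, U.1)) := hcm.toIsNoetherian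
      exact (SnFib.isCohenMacaulayRing_iff _).1 hcm k
    have hB := SkFlat.hasSk_of_flat_of_fibres Γ(S, V.1) Γ(X i, U.1) k hA hfib
    exact hasSk_stalk_of_sections U.2 k hB x hxU
  · intro h
    have key : ∀ s : S, ∃ W : S.affineOpens, s ∈ W.1 ∧ IsNoetherianRing Γ(S, W.1) := by
      intro s
      obtain ⟨i, x, rfl⟩ := hsurj s
      haveI := (h i).1
      exact exists_noetherian_affine_nhd (f i) x (hsyn i x)
    choose W hsW hW using key
    haveI hN : IsLocallyNoetherian S := by
      refine isLocallyNoetherian_of_affine_cover (S := W) ?_ hW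
      rw [eq_top_iff]
      intro s _
      exact Opens.mem_iSup.2 ⟨s, hsW s⟩
    refine ⟨hN, fun s => ?_⟩
    obtain ⟨i, x, rfl⟩ := hsurj s
    haveI := (h i).1
    haveI := flat_of_isSyntomicMor (f i) (hsyn i)
    letI : Algebra (S.presheaf.stalk ((f i) x)) ((X i).presheaf.stalk x) :=
      ((f i).stalkMap x).hom.toAlgebra
    haveI : IsLocalHom (algebraMap (S.presheaf.stalk ((f i) x)) ((X i).presheaf.stalk x)) :=
      inferInstanceAs (IsLocalHom ((f i).stalkMap x).hom)
    haveI : Module.Flat (S.presheaf.stalk ((f i) x)) ((X i).presheaf.stalk x) :=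
      Flat.stalkMap (f i) x
    haveI : Module.FaithfullyFlat (S.presheaf.stalk ((f i) x)) ((X i).presheaf.stalk x) :=
      Module.FaithfullyFlat.of_flat_of_isLocalHom
    exact hasSk_descent (S.presheaf.stalk ((f i) x)) ((X i).presheaf.stalk x) k ((h i).2 x)

end Groth.Agent.Helper5.SyntSk
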