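import Groth.Agent.Helper5.Tame1

set_option autoImplicit false
universe u
open LinearMap IsLocalRing Module nonZeroDivisors
attribute [local instance] FractionRing.liftAlgebra FractionRing.isScalarTower_liftAlgebra
attribute [local instance] Ideal.Quotient.field

namespace Groth.Agent.Helper5.Tame

section
variable (A B : Type u) [CommRing A] [IsDomain A] [IsDiscreteValuationRing A]
    [CommRing B] [IsDomain B] [IsDiscreteValuationRing B] [Algebra A B] [Module.Finite A B]
    [Module.IsTorsionFree A B] [IsLocalHom (algebraMap A B)]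

theorem map_ne_bot : (maximalIdeal A).map (algebraMap A B) ≠ ⊥ := by
  have hinj : Function.Injective (algebraMap A B) := FaithfulSMul.algebraMap_injective A B
  rw [Ne, Ideal.map_eq_bot_iff_of_injective hinj]
  exact IsDiscreteValuationRing.not_a_field A

theorem map_eq_pow : (maximalIdeal A).map (algebraMap A B) =
    maximalIdeal B ^ (maximalIdeal B).ramificationIdx A :=
  map_eq_maximalIdeal_pow A B (maximalIdeal A) (map_ne_bot A B)

theorem map_le : (maximalIdeal A).map (algebraMap A B) ≤ maximalIdeal B := by
  rw [Ideal.map_le_iff_le_comap]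
  exact (Ideal.LiesOver.over (p := maximalIdeal A) (P := maximalIdeal B)).le

theorem ramificationIdx_ne_zero : (maximalIdeal B).ramificationIdx A ≠ 0 := by
  intro h0
  have h1 := map_eq_pow A B
  rw [h0, pow_zero, Ideal.one_eq_top] at h1
  exact (maximalIdeal.isMaximal B).ne_top (top_le_iff.1 (h1 ▸ map_le A B))

/-- The fibre ring `B ⧸ 𝔪_A B`. -/
abbrev C : Type u := B ⧸ (maximalIdeal A).map (algebraMap A B)

instance : Nontrivial (C A B) :=
  Ideal.Quotient.nontrivial_iff.2
    (ne_top_of_le_ne_top (maximalIdeal.isMaximal B).ne_top (map_le A B))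

instance : IsLocalRing (C A B) :=
  IsLocalRing.of_surjective' (Ideal.Quotient.mk _) Ideal.Quotient.mk_surjective

instance : Module.Finite (A ⧸ maximalIdeal A) (C A B) :=
  Module.Finite.of_restrictScalars_finite A _ _

theorem length_C : Module.length (C A B) (C A B) = ((maximalIdeal B).ramificationIdx A : ℕ) := by
  rw [← Module.length_eq_of_surjective (S := B) (R := C A B) (M := C A B)
    Ideal.Quotient.mk_surjective]
  rw [(Submodule.quotEquivOfEq _ _ (map_eq_pow A B)).length_eq,
    IsDiscreteValuationRing.length_quotient_pow_maximalIdeal]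

variable [Algebra.IsSeparable (FractionRing A) (FractionRing B)]

theorem trace_mk (y : B) :
    Algebra.trace (A ⧸ maximalIdeal A) (C A B) (Ideal.Quotient.mk _ y) =
      Ideal.Quotient.mk (maximalIdeal A) (Algebra.intTrace A B y) :=
  Algebra.trace_quotient_eq_of_isDedekindDomain (R := A) (S := B) (p := maximalIdeal A) y

theorem exists_intTrace_not_mem_iff :
    (∃ y : B, Algebra.intTrace A B y ∉ maximalIdeal A) ↔
      Function.Surjective (Algebra.trace (A ⧸ maximalIdeal A) (C A B)) := by
  constructor
  · rintro ⟨y, hy⟩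
    have hne : Algebra.trace (A ⧸ maximalIdeal A) (C A B) (Ideal.Quotient.mk _ y) ≠ 0 := by
      rw [trace_mk, Ne, Ideal.Quotient.eq_zero_iff_mem]
      exact hy
    intro a
    refine ⟨(a / Algebra.trace (A ⧸ maximalIdeal A) (C A B) (Ideal.Quotient.mk _ y)) •
      Ideal.Quotient.mk _ y, ?_⟩
    rw [map_smul, smul_eq_mul, div_mul_cancel₀ _ hne]
  · intro h
    obtain ⟨c, hc⟩ := h 1
    obtain ⟨y, rfl⟩ := Ideal.Quotient.mk_surjective c
    refine ⟨y, fun hy => ?_⟩
    rw [trace_mk, (Ideal.Quotient.eq_zero_iff_mem).2 hy] at hc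
    exact zero_ne_one hc

omit [Module.Finite A B] [Module.IsTorsionFree A B]
  [Algebra.IsSeparable (FractionRing A) (FractionRing B)] in
instance : IsLocalHom (Ideal.Quotient.mk ((maximalIdeal A).map (algebraMap A B))) :=
  IsLocalHom.of_surjective _ Ideal.Quotient.mk_surjective

/-- The residue field of `B` is the residue field of the fibre ring. -/
noncomputable def resEquiv : ResidueField B ≃+* ResidueField (C A B) :=
  RingEquiv.ofBijective
    (ResidueField.map (Ideal.Quotient.mk ((maximalIdeal A).map (algebraMap A B))))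
    ⟨RingHom.injective _, by
      intro z
      obtain ⟨c, rfl⟩ := residue_surjective z
      obtain ⟨y, rfl⟩ := Ideal.Quotient.mk_surjective c
      exact ⟨residue B y, rfl⟩⟩

omit [Algebra.IsSeparable (FractionRing A) (FractionRing B)] in
theorem isSeparable_iff :
    Algebra.IsSeparable (A ⧸ maximalIdeal A) (ResidueField (C A B)) ↔
      Algebra.IsSeparable (ResidueField A) (ResidueField B) := by
  refine Algebra.IsSeparable.iff_of_equiv_equiv (RingEquiv.refl _) (resEquiv A B).symm ?_
  ext a
  apply (resEquiv A B).injective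
  simp only [RingHom.coe_comp, RingHom.coe_coe, Function.comp_apply, RingEquiv.apply_symm_apply]
  rfl

theorem tame_iff_exists :
    (∃ y : B, Algebra.intTrace A B y ∉ maximalIdeal A) ↔
      (Algebra.IsSeparable (ResidueField A) (ResidueField B) ∧
        (((maximalIdeal B).ramificationIdx A : ℕ) : ResidueField A) ≠ 0) := by
  rw [exists_intTrace_not_mem_iff, TraceAdd.s11566, isSeparable_iff, length_C]
  rfl

theorem differentIdeal_eq_iff_exists :
    differentIdeal A B = maximalIdeal B ^ ((maximalIdeal B).ramificationIdx A - 1) ↔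
      ∃ y : B, Algebra.intTrace A B y ∉ maximalIdeal A := by
  have he := ramificationIdx_ne_zero A B
  have hP0 : maximalIdeal B ≠ ⊥ := IsDiscreteValuationRing.not_a_field B
  have hP1 : maximalIdeal B ≠ ⊤ := (maximalIdeal.isMaximal B).ne_top
  have hanti := Ideal.pow_right_strictAnti (maximalIdeal B) hP0 hP1
  constructor
  · intro hD
    by_contra hall
    push Not at hall
    obtain ⟨ϖ, hϖ⟩ := IsDiscreteValuationRing.exists_irreducible A
    have hle := differentIdeal_le_span_of_intTrace_mem A B ϖ hϖ.ne_zero
      (by rw [← hϖ.maximalIdeal_eq]; exact hall)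
    have hmap : Ideal.span {algebraMap A B ϖ} = (maximalIdeal A).map (algebraMap A B) := by
      rw [hϖ.maximalIdeal_eq, Ideal.map_span, Set.image_singleton]
    rw [hmap, map_eq_pow, hD] at hle
    have hlt : maximalIdeal B ^ (maximalIdeal B).ramificationIdx A <
        maximalIdeal B ^ ((maximalIdeal B).ramificationIdx A - 1) :=
      hanti (Nat.sub_lt (Nat.pos_of_ne_zero he) Nat.one_pos)
    exact absurd hle (not_le_of_gt hlt)
  · rintro ⟨y, hy⟩
    have h1 := not_map_dvd_differentIdeal_of_intTrace_not_mem A B (maximalIdeal A) y hy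
    rw [map_eq_pow] at h1
    have h2 : maximalIdeal B ^ ((maximalIdeal B).ramificationIdx A - 1) ∣ differentIdeal A B :=
      pow_sub_one_dvd_differentIdeal A (maximalIdeal B) _
        (IsDiscreteValuationRing.not_a_field A) (map_eq_pow A B).symm.dvd
    obtain ⟨ϖ, hϖ⟩ := IsDiscreteValuationRing.exists_irreducible B
    obtain ⟨m, hm⟩ := IsDiscreteValuationRing.ideal_eq_span_pow_irreducible
      (differentIdeal_ne_bot (A := A) (B := B)) hϖ
    rw [← Ideal.span_singleton_pow, ← hϖ.maximalIdeal_eq] at hm
    rw [hm] at h1 h2 ⊢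
    rw [Ideal.dvd_iff_le] at h1 h2
    have hm1 : (maximalIdeal B).ramificationIdx A - 1 ≤ m := by
      by_contra hlt
      push Not at hlt
      exact absurd h2 (not_le_of_gt (hanti hlt))
    have hm2 : m < (maximalIdeal B).ramificationIdx A := by
      by_contra hge
      push Not at hge
      exact h1 (hanti.antitone hge)
    congr 1
    omega

theorem s11570 :
    differentIdeal A B = maximalIdeal B ^ ((maximalIdeal B).ramificationIdx A - 1) ↔
      (Algebra.IsSeparable (ResidueField A) (ResidueField B) ∧
        (((maximalIdeal B).ramificationIdx A : ℕ) : ResidueField A) ≠ 0) :=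
  (differentIdeal_eq_iff_exists A B).trans (tame_iff_exists A B)

end

end Groth.Agent.Helper5.Tame
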