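import Groth.Agent.Helper5.HenselFin

set_option autoImplicit false
universe u
open Polynomial IsLocalRing

namespace Groth.Agent.Helper5.TameUnif

variable (A B : Type*) [CommRing A] [IsDomain A] [IsDiscreteValuationRing A]
    [IsAdicComplete (IsLocalRing.maximalIdeal A) A]
    [CommRing B] [IsDedekindDomain B] [Algebra A B] [Module.Finite A B] [Module.IsTorsionFree A B]

theorem ramificationIdx_mul_inertiaDeg (M : Ideal B) [hM : M.IsMaximal] :
    M.ramificationIdx A * M.inertiaDeg A = Module.finrank A B := by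
  set 𝔪 := IsLocalRing.maximalIdeal A with h𝔪
  have h𝔪0 : 𝔪 ≠ ⊥ := IsDiscreteValuationRing.not_a_field A
  obtain ⟨M₀, hM₀, huniq⟩ := ComplDVR.existsUnique_isMaximal_of_finite_of_complete A B
  have hMM : ∀ N : Ideal B, N.IsMaximal → N = M := fun N hN => (huniq N hN).trans (huniq M hM).symm
  have hover : M.LiesOver 𝔪 := HenselFin.liesOver A B M
  have hprimes : 𝔪.primesOver B = {M} := by
    ext Q
    simp only [Ideal.primesOver, Set.mem_ofPred_eq, Set.mem_singleton_iff]
    constructor
    · rintro ⟨hQ, hQo⟩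
      have hQ0 : Q ≠ ⊥ := Ideal.ne_bot_of_mem_primesOver h𝔪0 ⟨hQ, hQo⟩
      exact hMM Q (hQ.isMaximal hQ0)
    · rintro rfl
      exact ⟨hM.isPrime, hover⟩
  have hflat : Module.Flat A B := inferInstance
  have hsum := Ideal.sum_ramification_inertia_eq_finrank 𝔪 B
  rw [← hsum]
  have hMmem : M ∈ 𝔪.primesOver B := ⟨hM.isPrime, hover⟩
  have : ∀ q : 𝔪.primesOver B, q = ⟨M, hMmem⟩ := fun q => Subtype.ext (by
    have h1 : (q : Ideal B) ∈ ({M} : Set (Ideal B)) := hprimes ▸ q.2
    exact h1)
  rw [Fintype.sum_eq_single (⟨M, hMmem⟩ : 𝔪.primesOver B) (fun q hq => absurd (this q) hq)]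

omit [IsAdicComplete (maximalIdeal A) A] [IsDedekindDomain B] [Module.Finite A B]
  [Module.IsTorsionFree A B] [IsDomain A] [IsDiscreteValuationRing A] in
/-- If the inertia degree is one, every element is congruent to an element of `A`. -/
theorem exists_sub_mem_of_inertiaDeg_eq_one [IsLocalRing A] (M : Ideal B) [hM : M.IsMaximal]
    [M.LiesOver (maximalIdeal A)]
    (hf : M.inertiaDeg A = 1) (b : B) : ∃ a : A, b - algebraMap A B a ∈ M := by
  rw [Ideal.inertiaDeg_eq_of_isMaximal (maximalIdeal A) M] at hf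
  let _ : Field (A ⧸ maximalIdeal A) := Ideal.Quotient.field _
  let _ : Field (B ⧸ M) := Ideal.Quotient.field M
  have h := Subalgebra.bot_eq_top_of_finrank_eq_one hf
  have hb : Ideal.Quotient.mk M b ∈ (⊥ : Subalgebra (A ⧸ maximalIdeal A) (B ⧸ M)) := by
    rw [h]; trivial
  rw [Algebra.mem_bot] at hb
  obtain ⟨x, hx⟩ := hb
  obtain ⟨a, rfl⟩ := Ideal.Quotient.mk_surjective x
  refine ⟨a, ?_⟩
  rw [← Ideal.Quotient.eq, ← hx]
  rfl

end Groth.Agent.Helper5.TameUnif

namespace Groth.Agent.Helper5.TameUnif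

theorem s11089 (A B : Type u) [CommRing A] [IsDomain A] [IsDiscreteValuationRing A]
    [IsAdicComplete (IsLocalRing.maximalIdeal A) A]
    [CommRing B] [IsDedekindDomain B] [Algebra A B] [Module.Finite A B] [Module.IsTorsionFree A B]
    (M : Ideal B) [hM : M.IsMaximal] (hram : M.ramificationIdx A = Module.finrank A B)
    (hm : IsUnit ((Module.finrank A B : ℕ) : A)) :
    ∃ u : B, u ∈ M ∧ u ∉ M ^ 2 ∧ u ^ Module.finrank A B ∈ (algebraMap A B).range ∧
      (minpoly A u).natDegree = Module.finrank A B := by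
  set m := Module.finrank A B with hmdef
  have hloc : IsLocalRing B := HenselFin.isLocalRing A B
  have hMe : M = maximalIdeal B := IsLocalRing.eq_maximalIdeal hM
  have hH : HenselianRing B M := HenselFin.henselianRing A B M
  have hover := HenselFin.liesOver A B M
  have he0 : 0 < M.ramificationIdx A := Ideal.ramificationIdx_pos M A
  have hm0 : 0 < m := hram ▸ he0
  have hef := ramificationIdx_mul_inertiaDeg A B M
  have hf : M.inertiaDeg A = 1 := by
    rw [hram] at hef
    exact Nat.eq_of_mul_eq_mul_left hm0 (by rw [hef, mul_one])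
  have hpow : (maximalIdeal A).map (algebraMap A B) = M ^ m := by
    subst hMe
    rw [Tame.map_eq_maximalIdeal_pow A B _ (HenselFin.map_ne_bot A B), hram]
  obtain ⟨ϖ, hϖ⟩ := IsDiscreteValuationRing.exists_irreducible A
  have hM0 : M ≠ ⊥ := by
    intro h0
    apply HenselFin.map_ne_bot A B
    rw [hpow, h0, ← Ideal.zero_eq_bot, zero_pow hm0.ne']
  have hnf : ¬ IsField B := by
    intro hfld
    apply hM0
    let _ := hfld.toField
    exact Ideal.eq_bot_of_prime M
  have hdvr : IsDiscreteValuationRing B :=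
    ((IsDiscreteValuationRing.TFAE B hnf).out 0 2).2 ‹IsDedekindDomain B›
  obtain ⟨ϱ, hϱ⟩ := IsDiscreteValuationRing.exists_irreducible B
  have hMϱ : M = Ideal.span {ϱ} := hMe ▸ hϱ.maximalIdeal_eq
  have hspan : Ideal.span {ϱ ^ m} = Ideal.span {algebraMap A B ϖ} := by
    rw [← Ideal.span_singleton_pow, ← hMϱ, ← hpow, hϖ.maximalIdeal_eq, Ideal.map_span,
      Set.image_singleton]
  obtain ⟨ε, hε⟩ := Ideal.span_singleton_eq_span_singleton.1 hspan
  -- approximate `ε` by an element of `A`
  obtain ⟨a, ha⟩ := exists_sub_mem_of_inertiaDeg_eq_one A B M hf (ε : B)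
  have haM : algebraMap A B a ∉ M := by
    intro h
    have : (ε : B) ∈ M := by
      have := M.add_mem ha h
      rwa [sub_add_cancel] at this
    exact hM.ne_top (Ideal.eq_top_of_isUnit_mem _ this ε.isUnit)
  have hau : IsUnit a := by
    by_contra hna
    apply haM
    have : a ∈ maximalIdeal A := hna
    have h2 : a ∈ M.under A := by rwa [← Ideal.LiesOver.over (p := maximalIdeal A) (P := M)]
    exact h2
  set ainv : A := ((hau.unit⁻¹ : Aˣ) : A) with hainv
  have hainv1 : a * ainv = 1 := by rw [hainv]; exact hau.mul_val_inv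
  set ε' : B := ε * algebraMap A B ainv with hε'
  have hε'1 : 1 - ε' ∈ M := by
    have h1 : algebraMap A B a * algebraMap A B ainv = 1 := by
      rw [← map_mul, hainv1, map_one]
    have h2 : 1 - ε' = - ((ε - algebraMap A B a) * algebraMap A B ainv) := by
      rw [hε', sub_mul, h1]; ring
    rw [h2]
    exact M.neg_mem (M.mul_mem_right _ ha)
  -- Hensel
  have hmon : (X ^ m - C ε' : B[X]).Monic := monic_X_pow_sub_C ε' hm0.ne'
  obtain ⟨v, hv, hv1⟩ := hH.is_henselian (X ^ m - C ε') hmon 1 (by simpa using hε'1) (by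
    have : (derivative (X ^ m - C ε' : B[X])).eval 1 = algebraMap A B ((m : ℕ) : A) := by
      simp [derivative_X_pow]
    rw [this]
    exact (hm.map (algebraMap A B)).map _)
  have hvm : v ^ m = ε' := by
    have : eval v (X ^ m - C ε' : B[X]) = 0 := hv
    simpa [sub_eq_zero] using this
  have hvM : v ∉ M := by
    intro h
    have := M.sub_mem h hv1
    rw [sub_sub_cancel] at this
    exact hM.ne_top ((Ideal.eq_top_iff_one _).2 this)
  set c : A := ϖ * ainv with hc
  refine ⟨ϱ * v, ?_, ?_, ⟨c, ?_⟩, ?_⟩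
  · rw [hMϱ]; exact Ideal.mul_mem_right _ _ (Ideal.mem_span_singleton_self ϱ)
  · intro h
    rw [hMϱ, Ideal.span_singleton_pow, Ideal.mem_span_singleton] at h
    obtain ⟨w, hw⟩ := h
    have : v = ϱ * w := by
      apply mul_left_cancel₀ hϱ.ne_zero
      rw [hw]; ring
    apply hvM
    rw [hMϱ, this]
    exact Ideal.mul_mem_right _ _ (Ideal.mem_span_singleton_self ϱ)
  · rw [mul_pow, hvm, hε', ← mul_assoc, hε, hc, map_mul]
  · -- the minimal polynomial
    have hcu : algebraMap A B c = (ϱ * v) ^ m := by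
      rw [mul_pow, hvm, hε', ← mul_assoc, hε, hc, map_mul]
    set E : A[X] := X ^ m - C c with hE
    have hEm : E.Monic := monic_X_pow_sub_C c hm0.ne'
    have hEdeg : E.natDegree = m := natDegree_X_pow_sub_C
    have hcmem : c ∈ maximalIdeal A := by
      rw [hc, hϖ.maximalIdeal_eq]
      exact Ideal.mul_mem_right _ _ (Ideal.mem_span_singleton_self ϖ)
    have hcnot : c ∉ maximalIdeal A ^ 2 := by
      rw [hϖ.maximalIdeal_eq, Ideal.span_singleton_pow, Ideal.mem_span_singleton]
      rintro ⟨w, hw⟩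
      have h1 : ainv = ϖ * w := by
        apply mul_left_cancel₀ hϖ.ne_zero
        rw [← hc, hw]; ring
      have h2 : (1 : A) = ϖ * (a * w) := by rw [← hainv1, h1]; ring
      exact hϖ.not_isUnit (IsUnit.of_mul_eq_one _ h2.symm)
    have hEis : E.IsEisensteinAt (maximalIdeal A) := by
      refine hEm.isEisensteinAt_of_mem_of_notMem (Ideal.IsPrime.ne_top inferInstance) ?_ ?_
      · intro n hn
        rw [hEdeg] at hn
        rw [hE, coeff_sub, coeff_X_pow, if_neg hn.ne, zero_sub, coeff_C]
        split_ifs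
        · exact neg_mem hcmem
        · simp
      · rw [hE, coeff_sub, coeff_X_pow, if_neg hm0.ne, zero_sub, coeff_C_zero]
        intro h
        exact hcnot (by simpa using neg_mem h)
    have hirr : Irreducible E := hEis.irreducible inferInstance hEm.isPrimitive (by rw [hEdeg]; exact hm0)
    have haev : aeval (ϱ * v) E = 0 := by
      rw [hE, map_sub, map_pow, aeval_X, aeval_C, hcu, sub_self]
    have : Algebra.IsIntegral A B := Algebra.IsIntegral.of_finite A B
    have hint : IsIntegral A (ϱ * v) := Algebra.IsIntegral.isIntegral _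
    obtain ⟨q, hq⟩ := minpoly.isIntegrallyClosed_dvd hint haev
    have hqu : IsUnit q := (hirr.isUnit_or_isUnit hq).resolve_left (minpoly.not_isUnit A (ϱ * v))
    have hassoc : Associated (minpoly A (ϱ * v)) E := ⟨hqu.unit, hq.symm⟩
    rw [eq_of_monic_of_associated (minpoly.monic hint) hEm hassoc, hEdeg]

end Groth.Agent.Helper5.TameUnif
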