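import Groth.Agent.Helper5.FEt2
import Mathlib

set_option autoImplicit false
set_option linter.style.haveILetI false
set_option linter.unusedSectionVars false
set_option linter.unusedVariables false
universe u
open CategoryTheory CategoryTheory.Limits AlgebraicGeometry Opposite TopologicalSpace

namespace Groth.Agent.Helper5.ThickBC

open AlgSp Groth.Agent.Helper4 Groth.Agent.Helper5.InfStd Groth.Agent.Helper5.FEt

/-- a jointly surjective family of flat ring maps is jointly injective -/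
theorem eq_zero_of_forall_map_eq_zero {A : Type u} [CommRing A] {ι : Type*} (B : ι → Type u)
    [∀ m, CommRing (B m)] (φ : ∀ m, A →+* B m) (hflat : ∀ m, (φ m).Flat)
    (hsurj : ∀ p : PrimeSpectrum A, ∃ m, ∃ q : PrimeSpectrum (B m), q.comap (φ m) = p)
    (x : A) (hx : ∀ m, φ m x = 0) : x = 0 := by
  by_contra hne
  let 𝔞 : Ideal A := (Ideal.span {x}).annihilator
  have h𝔞 : ∀ a, a ∈ 𝔞 ↔ a * x = 0 := by
    intro a
    rw [Submodule.mem_annihilator_span_singleton]
    rfl
  have hne_top : 𝔞 ≠ ⊤ := by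
    intro h
    have : (1 : A) ∈ 𝔞 := by rw [h]; trivial
    rw [h𝔞, one_mul] at this
    exact hne this
  obtain ⟨P, hPmax, hP⟩ := Ideal.exists_le_maximal 𝔞 hne_top
  obtain ⟨m, q, hq⟩ := hsurj ⟨P, hPmax.isPrime⟩
  letI := (φ m).toAlgebra
  haveI : Module.Flat A (B m) := hflat m
  have hrel : ∑ i : Fin 1, (fun _ : Fin 1 => x) i • (fun _ : Fin 1 => (1 : B m)) i = 0 := by
    simp only [Finset.univ_unique, Finset.sum_singleton]
    rw [Algebra.smul_def, mul_one]
    exact hx m
  obtain ⟨k, a, y, h1, h2⟩ := Module.Flat.isTrivialRelation_of_sum_smul_eq_zero (R := A)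
    (M := B m) (f := fun _ : Fin 1 => x) (x := fun _ : Fin 1 => (1 : B m)) hrel
  have h1' : (1 : B m) = ∑ j, a 0 j • y j := h1 0
  have h2' : ∀ j, a 0 j ∈ 𝔞 := by
    intro j
    have := h2 j
    simp only [Finset.univ_unique, Finset.sum_singleton] at this
    rw [h𝔞, mul_comm]
    exact this
  have : (1 : B m) ∈ q.asIdeal := by
    rw [h1']
    refine Ideal.sum_mem _ (fun j _ => ?_)
    rw [Algebra.smul_def]
    refine Ideal.mul_mem_right _ _ ?_
    have hmem : a 0 j ∈ P := hP (h2' j)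
    have hq' : (q.comap (φ m)).asIdeal = P := by rw [hq]
    rw [← hq'] at hmem
    exact hmem
  exact q.isPrime.ne_top (Ideal.eq_top_of_isUnit_mem _ this isUnit_one)

set_option backward.isDefEq.respectTransparency.types false in
/-- the square of an ideal sheaf on an affine scheme vanishes if it does so after pullback to a
jointly surjective family of flat affine schemes -/
theorem mul_self_eq_bot_of_flat_cover {V₁ : Scheme.{u}} [IsAffine V₁] (K : V₁.IdealSheafData)
    {ι : Type*} (R : ι → Scheme.{u}) [∀ m, IsAffine (R m)] (ρ : ∀ m, R m ⟶ V₁)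
    (hflat : ∀ m, Flat (ρ m)) (hsurj : ∀ v : ↥V₁, ∃ m, ∃ r : ↥(R m), ρ m r = v)
    (h : ∀ m, K.comap (ρ m) * K.comap (ρ m) = ⊥) : K * K = ⊥ := by
  apply Scheme.IdealSheafData.ext_of_isAffine
  rw [Scheme.IdealSheafData.ideal_mul, Pi.mul_apply, Scheme.IdealSheafData.ideal_bot, Pi.bot_apply,
    eq_bot_iff, Ideal.mul_le]
  intro x hx y hy
  show x * y = 0
  refine eq_zero_of_forall_map_eq_zero (fun m => Γ(R m, ⊤)) (fun m => (ρ m).appTop.hom)
    (fun m => ?_) (fun p => ?_) (x * y) (fun m => ?_)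
  · exact (HasRingHomProperty.iff_of_isAffine (P := @Flat)).mp (hflat m)
  · obtain ⟨m, r, hr⟩ := hsurj (V₁.isoSpec.inv p)
    refine ⟨m, (R m).isoSpec.hom r, ?_⟩
    have nat := Scheme.isoSpec_hom_naturality (ρ m)
    have h1 : (Spec.map (ρ m).appTop) ((R m).isoSpec.hom r) = V₁.isoSpec.hom ((ρ m) r) := by
      rw [← Scheme.Hom.comp_apply, nat, Scheme.Hom.comp_apply]
    have h2 : V₁.isoSpec.hom ((ρ m) r) = p := by
      rw [hr, ← Scheme.Hom.comp_apply, Iso.inv_hom_id]
      rfl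
    rw [← h2, ← h1]
    rfl
  · have hle : K ≤ (K.comap (ρ m)).map (ρ m) := (Scheme.IdealSheafData.map_gc (ρ m)).le_u_l K
    have hle' := hle ⟨⊤, isAffineOpen_top V₁⟩
    rw [Scheme.IdealSheafData.ideal_map (K.comap (ρ m)) (ρ m) ⟨⊤, isAffineOpen_top V₁⟩
      (isAffineOpen_top (R m))] at hle'
    have hx' : (ρ m).appTop.hom x ∈ (K.comap (ρ m)).ideal ⟨⊤, isAffineOpen_top (R m)⟩ := hle' hx
    have hy' : (ρ m).appTop.hom y ∈ (K.comap (ρ m)).ideal ⟨⊤, isAffineOpen_top (R m)⟩ := hle' hy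
    have hxy : (ρ m).appTop.hom x * (ρ m).appTop.hom y ∈
        (K.comap (ρ m) * K.comap (ρ m)).ideal ⟨⊤, isAffineOpen_top (R m)⟩ := by
      rw [Scheme.IdealSheafData.ideal_mul, Pi.mul_apply]
      exact Ideal.mul_mem_mul hx' hy'
    rw [h m] at hxy
    rw [map_mul]
    exact hxy

end Groth.Agent.Helper5.ThickBC
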