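import Groth.Agent.Helper5.ThickBC1
import Mathlib

set_option autoImplicit false
set_option linter.style.haveILetI false
set_option linter.unusedSectionVars false
set_option linter.unusedVariables false
universe u
open CategoryTheory CategoryTheory.Limits AlgebraicGeometry Opposite TopologicalSpace

namespace Groth.Agent.Helper5.ThickBC

open AlgSp Groth.Agent.Helper4 Groth.Agent.Helper5.InfStd Groth.Agent.Helper5.FEt

variable {S : Scheme.{u}}

/-- restriction of a represented pullback along a morphism of schemes -/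
theorem exists_isPullback_restrict {Z Z' : Sp S} {i : Z ⟶ Z'} {V W V₂ W₂ : Over S}
    {ζ : (yon S).obj V ⟶ Z'} {fst : (yon S).obj W ⟶ Z} {snd : W ⟶ V}
    (sq : IsPullback fst ((yon S).map snd) i ζ) (ρ : V₂ ⟶ V) {fst₂ : (yon S).obj W₂ ⟶ Z}
    {snd₂ : W₂ ⟶ V₂} (sq₂ : IsPullback fst₂ ((yon S).map snd₂) i ((yon S).map ρ ≫ ζ)) :
    ∃ θ : W₂ ⟶ W, IsPullback θ snd₂ snd ρ ∧ (yon S).map θ ≫ fst = fst₂ := by
  obtain ⟨θ, hθ⟩ := (yon S).map_surjective
    (sq.lift fst₂ ((yon S).map snd₂ ≫ (yon S).map ρ) (by rw [sq₂.w, Category.assoc]))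
  have h1 : (yon S).map θ ≫ fst = fst₂ := by rw [hθ, sq.lift_fst]
  have h2 : (yon S).map θ ≫ (yon S).map snd = (yon S).map snd₂ ≫ (yon S).map ρ := by
    rw [hθ, sq.lift_snd]
  refine ⟨θ, ?_, h1⟩
  apply Groth.Agent.Helper5.GeomFibSp.isPullback_of_yon_map
  refine IsPullback.of_right ?_ h2 sq
  rw [h1]
  exact sq₂

set_option backward.isDefEq.respectTransparency.types false in
set_option maxHeartbeats 800000 in
/-- the base change of a first order thickening of algebraic spaces along an arbitrary morphism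
from an affine scheme has square zero -/
theorem sqZero_of_isFOThickMor {Z Z' : Sp S} (hZ' : IsAlgSpace Z') {i : Z ⟶ Z'}
    (hi : IsFOThickMor i) {V₁ W₁ : Over S} (hV₁ : IsAffine V₁.left) (c : (yon S).obj V₁ ⟶ Z')
    (fst₁ : (yon S).obj W₁ ⟶ Z) (snd₁ : W₁ ⟶ V₁)
    (sq₁ : IsPullback fst₁ ((yon S).map snd₁) i c) : sqZero snd₁.left := by
  obtain ⟨U, b, hbe, hbs⟩ := hZ'.atlas
  have hbr := hbe.rep
  have sqR := hbr.isPullback c
  have hqE : Etale (hbr.snd c).left := hbe.property _ _ _ sqR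
  have hqS : Surjective (hbr.snd c).left := hbs.property _ _ _ sqR
  obtain ⟨rU, hrU⟩ := (yon S).map_surjective (hbr.fst c)
  rw [← hrU] at sqR
  clear hrU
  generalize hbr.snd c = qR at sqR hqE hqS
  generalize hbr.pullback c = R at rU qR sqR hqE hqS
  have hthick₁ : thick snd₁.left := hi.1.property _ _ _ sq₁
  haveI : IsClosedImmersion snd₁.left := hthick₁.1
  -- the choices
  have hch : ∀ v : ↥V₁.left, ∃ (r : ↥R.left) (Ul : U.left.Opens) (Rm : R.left.Opens),
      qR.left r = v ∧ IsAffineOpen Ul ∧ IsAffineOpen Rm ∧ r ∈ Rm ∧ Rm ≤ rU.left ⁻¹ᵁ Ul := by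
    intro v
    obtain ⟨r, hr⟩ := hqS.surj v
    obtain ⟨Ul, hUl, hrUl, -⟩ := (Opens.isBasis_iff_nbhd.mp U.left.isBasis_affineOpens)
      (show rU.left r ∈ (⊤ : U.left.Opens) from trivial)
    obtain ⟨Rm, hRm, hrRm, hle⟩ := (Opens.isBasis_iff_nbhd.mp R.left.isBasis_affineOpens)
      (show r ∈ rU.left ⁻¹ᵁ Ul from hrUl)
    exact ⟨r, Ul, Rm, hr, hUl, hRm, hrRm, hle⟩
  choose r Ul Rm hr hUl hRm hrRm hle using hch
  let UlO : ↥V₁.left → Over S := fun v => Over.mk ((Ul v).ι ≫ U.hom)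
  let eU : ∀ v, UlO v ⟶ U := fun v => Over.homMk (Ul v).ι rfl
  let RmO : ↥V₁.left → Over S := fun v => Over.mk ((Rm v).ι ≫ R.hom)
  let eR : ∀ v, RmO v ⟶ R := fun v => Over.homMk (Rm v).ι rfl
  have hrange : ∀ v, Set.range ((Rm v).ι ≫ rU.left) ⊆ Set.range (Ul v).ι := by
    intro v
    rw [Scheme.Opens.range_ι]
    rintro _ ⟨x, rfl⟩
    exact hle v x.2
  let res : ∀ v, (↑(Rm v) : Scheme.{u}) ⟶ ↑(Ul v) := fun v =>
    IsOpenImmersion.lift (Ul v).ι ((Rm v).ι ≫ rU.left) (hrange v)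
  have hres : ∀ v, res v ≫ (Ul v).ι = (Rm v).ι ≫ rU.left := fun v =>
    IsOpenImmersion.lift_fac _ _ _
  let ρU : ∀ v, RmO v ⟶ UlO v := fun v => Over.homMk (res v) (by
    show res v ≫ (Ul v).ι ≫ U.hom = (Rm v).ι ≫ R.hom
    rw [← Category.assoc, hres v, Category.assoc, CategoryTheory.Over.w rU])
  have hρU : ∀ v, ρU v ≫ eU v = eR v ≫ rU := by
    intro v
    ext
    exact hres v
  let ρV : ∀ v, RmO v ⟶ V₁ := fun v => eR v ≫ qR
  have hbl : ∀ v, RepWith @Etale ((yon S).map (eU v) ≫ b) := fun v =>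
    Groth.Agent.Helper4.AlgSpSrc.repWith_comp _ ((repWith_yon_map_iff _ _).2 (by
      show Etale (Ul v).ι
      infer_instance)) hbe
  have hUlaff : ∀ v, IsAffine (UlO v).left := fun v => hUl v
  have hRmaff : ∀ v, IsAffine (RmO v).left := fun v => hRm v
  have hcm : ∀ v, (yon S).map (ρU v) ≫ ((yon S).map (eU v) ≫ b) = (yon S).map (ρV v) ≫ c := by
    intro v
    rw [← Category.assoc, ← Functor.map_comp, hρU v, Functor.map_comp, Category.assoc, sqR.w,
      ← Category.assoc, ← Functor.map_comp]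
  have hir := hi.1.rep
  have key : ∀ v, snd₁.left.ker.comap (ρV v).left * snd₁.left.ker.comap (ρV v).left = ⊥ := by
    intro v
    have sql := hir.isPullback ((yon S).map (eU v) ≫ b)
    have hsql : sqZero (hir.snd ((yon S).map (eU v) ≫ b)).left :=
      hi.2 _ _ _ (hUlaff v) (hbl v) sql
    have htl : thick (hir.snd ((yon S).map (eU v) ≫ b)).left := hi.1.property _ _ _ sql
    have sqm := hir.isPullback ((yon S).map (ρU v) ≫ ((yon S).map (eU v) ≫ b))
    obtain ⟨θ, hθ, -⟩ := exists_isPullback_restrict sql (ρU v) sqm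
    obtain ⟨-, hsqm⟩ := thick_sqZero_of_isPullback _ (ρU v) θ _ hθ (hUlaff v) (hRmaff v) htl hsql
    have sqm' : IsPullback (hir.fst ((yon S).map (ρU v) ≫ ((yon S).map (eU v) ≫ b)))
        ((yon S).map (hir.snd ((yon S).map (ρU v) ≫ ((yon S).map (eU v) ≫ b)))) i
        ((yon S).map (ρV v) ≫ c) := by
      rw [← hcm v]; exact sqm
    obtain ⟨θ', hθ', -⟩ := exists_isPullback_restrict sq₁ (ρV v) sqm'
    have hθ'l : IsPullback θ'.left
        (hir.snd ((yon S).map (ρU v) ≫ ((yon S).map (eU v) ≫ b))).left snd₁.left (ρV v).left :=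
      hθ'.map (Over.forget S)
    have e1 : hθ'l.flip.isoPullback.hom ≫ pullback.fst (ρV v).left snd₁.left =
        (hir.snd ((yon S).map (ρU v) ≫ ((yon S).map (eU v) ≫ b))).left :=
      hθ'l.flip.isoPullback_hom_fst
    have e2 : (hir.snd ((yon S).map (ρU v) ≫ ((yon S).map (eU v) ≫ b))).left.ker =
        snd₁.left.ker.comap (ρV v).left := by
      rw [← e1, Scheme.Hom.ker_comp_of_isIso, Scheme.IdealSheafData.ker_fst_of_isClosedImmersion]
    rw [← e2]
    exact hsqm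
  show snd₁.left.ker * snd₁.left.ker = ⊥
  haveI : ∀ v, IsAffine (RmO v).left := hRmaff
  refine mul_self_eq_bot_of_flat_cover snd₁.left.ker (fun v => (RmO v).left)
    (fun v => (ρV v).left) (fun v => ?_) (fun v => ?_) key
  · show Flat ((Rm v).ι ≫ qR.left)
    haveI := hqE
    infer_instance
  · refine ⟨v, ⟨r v, hrRm v⟩, ?_⟩
    show ((Rm v).ι ≫ qR.left) ⟨r v, hrRm v⟩ = v
    rw [Scheme.Hom.comp_apply]
    exact hr v

end Groth.Agent.Helper5.ThickBC
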