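import Groth.Agent.Helper5.ThickBC2
import Mathlib

set_option autoImplicit false
set_option linter.style.haveILetI false
set_option linter.unusedSectionVars false
set_option linter.unusedVariables false
universe u
open CategoryTheory CategoryTheory.Limits AlgebraicGeometry Opposite TopologicalSpace

namespace Groth.Agent.Helper5.ThickBC

open AlgSp Groth.Agent.Helper4 Groth.Agent.Helper5.InfStd Groth.Agent.Helper5.FEt

variable {S : Scheme.{u}}

/-- first order thickenings of algebraic spaces are stable under arbitrary base change -/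
theorem isFOThickMor_of_isPullback {Z Z' P P' : Sp S} (hZ' : IsAlgSpace Z') {i : Z ⟶ Z'}
    (hi : IsFOThickMor i) {iP : P ⟶ P'} {g : P' ⟶ Z'} {g₀ : P ⟶ Z}
    (sq : IsPullback g₀ iP i g) : IsFOThickMor iP := by
  have iE := repWith_isStableUnderBaseChange (S := S) thick
  refine ⟨MorphismProperty.of_isPullback (P := RepWith thick) sq hi.1, ?_⟩
  intro V W b fst snd hV hb sqV
  exact sqZero_of_isFOThickMor hZ' hi hV (b ≫ g) (fst ≫ g₀) snd (sqV.paste_horiz sq)

set_option backward.isDefEq.respectTransparency.types false in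
theorem s10637 {Z X W Y W' P : AlgSp.Space S} (h : Z ⟶ X) (f : Z ⟶ W)
    (g : X ⟶ Y) (h' : W ⟶ Y) (sq : IsPullback h.hom f.hom g.hom h'.hom)
    (hh' : AlgSp.IsFormallyUnramifiedMor h'.hom)
    (iW : W ⟶ W') (hW' : W' ⟶ Y) (HU : AlgSp.IsUnivFOThick h'.hom iW.hom hW'.hom)
    (pX : P ⟶ X) (pW : P ⟶ W') (sq' : IsPullback pX.hom pW.hom g.hom hW'.hom)
    (iZ : Z ⟶ P) (w1 : iZ ≫ pX = h) (w2 : iZ ≫ pW = f ≫ iW) :
    AlgSp.IsUnivFOThick h.hom iZ.hom pX.hom := by
  obtain ⟨hiW, hw, huniv⟩ := HU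
  have w1' : iZ.hom ≫ pX.hom = h.hom := congrArg (fun m => m.hom) w1
  have w2' : iZ.hom ≫ pW.hom = f.hom ≫ iW.hom := congrArg (fun m => m.hom) w2
  have sqZ : IsPullback f.hom iZ.hom iW.hom pW.hom := by
    refine IsPullback.of_bot ?_ w2'.symm sq'.flip
    rw [w1', hw]
    exact sq.flip
  refine ⟨isFOThickMor_of_isPullback W'.property hiW sqZ, w1', ?_⟩
  intro T T' hT hT' j a b hj hcomm
  have hcomm' : j ≫ (b ≫ g.hom) = (a ≫ f.hom) ≫ h'.hom := by
    rw [← Category.assoc, hcomm, Category.assoc, sq.w, Category.assoc]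
  obtain ⟨c, ⟨hc1, hc2⟩, hcu⟩ := huniv hT hT' j (a ≫ f.hom) (b ≫ g.hom) hj hcomm'
  refine ⟨sq'.lift b c hc2.symm, ⟨?_, sq'.lift_fst _ _ _⟩, ?_⟩
  · apply sq'.hom_ext
    · rw [Category.assoc, sq'.lift_fst, Category.assoc, w1', hcomm]
    · rw [Category.assoc, sq'.lift_snd, Category.assoc, w2', hc1, Category.assoc]
  · rintro a'' ⟨h1, h2⟩
    have hc'' : a'' ≫ pW.hom = c := by
      apply hcu
      refine ⟨?_, ?_⟩
      · rw [← Category.assoc, h1, Category.assoc, w2', Category.assoc]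
      · rw [Category.assoc, ← sq'.w, ← Category.assoc, h2]
    apply sq'.hom_ext
    · rw [sq'.lift_fst, h2]
    · rw [sq'.lift_snd, hc'']

end Groth.Agent.Helper5.ThickBC
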