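import Groth.Agent.Helper5.ThickBC3
import Groth.Agent.Helper5.FEt3
import Mathlib

set_option autoImplicit false
set_option linter.style.haveILetI false
set_option linter.unusedSectionVars false
set_option linter.unusedVariables false
universe u
open CategoryTheory CategoryTheory.Limits AlgebraicGeometry Opposite TopologicalSpace

namespace Groth.Agent.Helper5.ThickBC

open AlgSp Groth.Agent.Helper4 Groth.Agent.Helper5.InfStd Groth.Agent.Helper5.FEt

variable {S : Scheme.{u}}

/-- a square-zero thickening of schemes with affine target is a first order thickening of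
sheaves -/
theorem isFOThickMor_yon_map {W V : Over S} (snd : W ⟶ V) (hV : IsAffine V.left)
    (h1 : thick snd.left) (h2 : sqZero snd.left) : IsFOThickMor ((yon S).map snd) := by
  refine ⟨(isThickMor_yon_map_iff snd).2 h1, ?_⟩
  intro V₁ W₁ b' fst' snd' hV₁ hb' sq'
  obtain ⟨β, rfl⟩ := (yon S).map_surjective b'
  obtain ⟨φ', rfl⟩ := (yon S).map_surjective fst'
  have pb : IsPullback φ' snd' snd β := Groth.Agent.Helper5.GeomFibSp.isPullback_of_yon_map sq'
  exact (thick_sqZero_of_isPullback snd β φ' snd' pb hV hV₁ h1 h2).2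

set_option backward.isDefEq.respectTransparency.types false in
theorem s10636 {Z Z' X : AlgSp.Space S} (h : Z ⟶ X)
    (hh : AlgSp.IsFormallyUnramifiedMor h.hom) (i : Z ⟶ Z') (h' : Z' ⟶ X)
    (HU : AlgSp.IsUnivFOThick h.hom i.hom h'.hom) :
    AlgSp.IsFormallyUnramifiedMor h'.hom := by
  obtain ⟨hi, hw, huniv⟩ := HU
  intro sq l l' h1 h2 h3 h4
  have hAffT : IsAffine sq.ptT'.left := by
    show IsAffine (Spec _)
    infer_instance
  have hir := hi.1.rep
  -- the closed subscheme `W = l⁻¹(Z)` of `T'`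
  have sqW := hir.isPullback l
  have hWthick : thick (hir.snd l).left := hi.1.property _ _ _ sqW
  have hWsq : sqZero (hir.snd l).left :=
    sqZero_of_isFOThickMor Z'.property hi hAffT l _ _ sqW
  haveI : IsClosedImmersion (hir.snd l).left := hWthick.1
  haveI := hAffT
  have hWaff : IsAffine (hir.pullback l).left :=
    (IsClosedImmersion.isAffine_surjective_of_isAffine (hir.snd l).left).1
  -- the closed subscheme `W₀ = top⁻¹(Z)` of `T`
  have sq₀ := hir.isPullback ((yon S).map sq.j ≫ l)
  obtain ⟨θ, hθ, hθf⟩ := exists_isPullback_restrict sqW sq.j sq₀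
  obtain ⟨hθthick, hθsq⟩ := thick_sqZero_of_isPullback sq.j (hir.snd l) _ θ hθ.flip hAffT hWaff
    (thick_j sq) (sqZero_j sq)
  have hFOθ : IsFOThickMor ((yon S).map θ) := isFOThickMor_yon_map θ hWaff hθthick hθsq
  have hFOW : IsFOThickMor ((yon S).map (hir.snd l)) :=
    isFOThickMor_yon_map _ hAffT hWthick hWsq
  generalize hir.fst ((yon S).map sq.j ≫ l) = fst₀ at sq₀ hθf
  generalize hir.snd ((yon S).map sq.j ≫ l) = snd₀ at sq₀ hθ hθthick hθsq
  generalize hir.pullback ((yon S).map sq.j ≫ l) = W₀ at fst₀ snd₀ θ sq₀ hθ hθf hθthick hθsq hFOθ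
  generalize hir.fst l = fstW at sqW hθf
  generalize hir.snd l = sndW at sqW hWthick hWsq hθ hFOW
  generalize hir.pullback l = W at fstW sndW θ sqW hWthick hWsq hWaff hθ hθf hθthick hθsq hFOθ hFOW
  have hθw : θ ≫ sndW = snd₀ ≫ sq.j := hθ.w
  -- step 4
  have step4 : (yon S).map sndW ≫ l = (yon S).map sndW ≫ l' := by
    have hcomm : (yon S).map θ ≫ ((yon S).map sndW ≫ sq.bot) = fst₀ ≫ h.hom := by
      rw [← Category.assoc, ← Functor.map_comp, hθw, Functor.map_comp, Category.assoc, ← sq.comm,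
        ← hw, ← Category.assoc fst₀, sq₀.w, ← h1]
      simp only [Category.assoc]
    obtain ⟨m, -, hmu⟩ := huniv (IsAlgSpace.yon_obj W₀) (IsAlgSpace.yon_obj W) ((yon S).map θ)
      fst₀ ((yon S).map sndW ≫ sq.bot) hFOθ hcomm
    have e1 : (yon S).map sndW ≫ l = m := by
      apply hmu
      refine ⟨?_, ?_⟩
      · rw [← Category.assoc, ← Functor.map_comp, hθw, Functor.map_comp, Category.assoc, sq₀.w]
      · rw [Category.assoc, h2]
    have e2 : (yon S).map sndW ≫ l' = m := by
      apply hmu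
      refine ⟨?_, ?_⟩
      · rw [← Category.assoc, ← Functor.map_comp, hθw, Functor.map_comp, Category.assoc, h3, ← h1,
          sq₀.w]
      · rw [Category.assoc, h4]
    rw [e1, e2]
  -- step 5
  have hcomm5 : (yon S).map sndW ≫ sq.bot = fstW ≫ h.hom := by
    rw [← hw, ← Category.assoc, sqW.w, Category.assoc, h2]
  obtain ⟨m, -, hmu⟩ := huniv (IsAlgSpace.yon_obj W) (IsAlgSpace.yon_obj sq.ptT')
    ((yon S).map sndW) fstW sq.bot hFOW hcomm5
  have e1 : l = m := hmu l ⟨sqW.w.symm, h2⟩
  have e2 : l' = m := hmu l' ⟨by rw [← step4]; exact sqW.w.symm, h4⟩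
  rw [e1, e2]

end Groth.Agent.Helper5.ThickBC
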