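import Mathlib

/-! Finite type lifts along a nilpotent thickening (algebra). -/

set_option autoImplicit false
universe u

namespace Groth.Agent.Helper5.ThickFin

open Ideal

/-- iterate the decomposition `⊤ = M ⊔ I • ⊤` -/
theorem top_eq_sup_pow_smul {A B : Type*} [CommRing A] [CommRing B] [Algebra A B]
    (M : Subalgebra A B) (I : Ideal A)
    (h : (⊤ : Submodule A B) = Subalgebra.toSubmodule M ⊔ I • (⊤ : Submodule A B)) (k : ℕ) :
    (⊤ : Submodule A B) = Subalgebra.toSubmodule M ⊔ (I ^ k) • (⊤ : Submodule A B) := by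
  induction k with
  | zero => rw [pow_zero, Ideal.one_eq_top, Submodule.top_smul, sup_top_eq]
  | succ k ih =>
    apply le_antisymm _ le_top
    calc (⊤ : Submodule A B) = Subalgebra.toSubmodule M ⊔ (I ^ k) • (⊤ : Submodule A B) := ih
      _ = Subalgebra.toSubmodule M ⊔
          (I ^ k) • (Subalgebra.toSubmodule M ⊔ I • (⊤ : Submodule A B)) := by rw [← h]
      _ ≤ Subalgebra.toSubmodule M ⊔ (I ^ (k + 1)) • (⊤ : Submodule A B) := by
        rw [Submodule.smul_sup, ← mul_smul, ← pow_succ]
        refine sup_le le_sup_left (sup_le ?_ le_sup_right)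
        refine le_trans ?_ le_sup_left
        rw [Submodule.smul_le]
        intro r _ n hn
        exact Subalgebra.smul_mem M hn r

/-- finite type lifts along a nilpotent thickening -/
theorem finiteType_of_nilpotent {A B C D : Type u} [CommRing A] [CommRing B] [CommRing C]
    [CommRing D] (φ' : A →+* B) (ψ : A →+* C) (ι : B →+* D) (φ : C →+* D)
    (hψ : Function.Surjective ψ) (hι : Function.Surjective ι)
    (comm : ι.comp φ' = φ.comp ψ)
    (hker : RingHom.ker ι = (RingHom.ker ψ).map φ') (n : ℕ)
    (hn : (RingHom.ker ι) ^ (n + 1) = ⊥) (hφ : φ.FiniteType) : φ'.FiniteType := by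
  have h1 : (ι.comp φ').FiniteType := by
    rw [comm]
    exact hφ.comp (RingHom.FiniteType.of_surjective ψ hψ)
  algebraize [φ', ι.comp φ']
  let ιA : B →ₐ[A] D := { ι with commutes' := fun r => rfl }
  have hfg : (⊤ : Subalgebra A D).FG := h1.out
  obtain ⟨t, ht⟩ := hfg
  classical
  let s : Finset B := t.image (Function.surjInv hι)
  have hs : ιA '' (s : Set B) = (t : Set D) := by
    ext x
    simp only [s, Finset.coe_image, Set.mem_image, Finset.mem_coe]
    constructor
    · rintro ⟨_, ⟨y, hy, rfl⟩, rfl⟩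
      have : ι (Function.surjInv hι y) = y := Function.surjInv_eq hι y
      show _ ∈ t
      rw [show ιA (Function.surjInv hι y) = y from this]
      exact hy
    · intro hx
      exact ⟨_, ⟨x, hx, rfl⟩, Function.surjInv_eq hι x⟩
  let M : Subalgebra A B := Algebra.adjoin A (s : Set B)
  have hM : M.map ιA = ⊤ := by
    rw [AlgHom.map_adjoin, hs, ht]
  let I : Ideal A := RingHom.ker ψ
  have hJ : (I • (⊤ : Submodule A B)) = (RingHom.ker ι).restrictScalars A := by
    rw [hker, Ideal.smul_top_eq_map]
    rfl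
  have h0 : (⊤ : Submodule A B) = Subalgebra.toSubmodule M ⊔ I • (⊤ : Submodule A B) := by
    apply le_antisymm _ le_top
    intro x _
    have hx : ιA x ∈ M.map ιA := by rw [hM]; trivial
    obtain ⟨y, hy, hyx⟩ := hx
    rw [Submodule.mem_sup]
    refine ⟨y, hy, x - y, ?_, by ring⟩
    rw [hJ]
    show x - y ∈ RingHom.ker ι
    rw [RingHom.mem_ker, map_sub]
    have : ι y = ι x := hyx
    rw [this, sub_self]
  have h2 := top_eq_sup_pow_smul M I h0 (n + 1)
  have h3 : (I ^ (n + 1)) • (⊤ : Submodule A B) = ⊥ := by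
    rw [Ideal.smul_top_eq_map, Ideal.map_pow]
    have : I.map (algebraMap A B) = RingHom.ker ι := hker.symm
    rw [this, hn]
    rfl
  rw [h3, sup_bot_eq] at h2
  have h4 : M = ⊤ := by
    apply Subalgebra.toSubmodule_injective
    rw [← h2]
    rfl
  show Algebra.FiniteType A B
  exact ⟨⟨s, h4⟩⟩

end Groth.Agent.Helper5.ThickFin
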