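import Groth.Agent.Helper5.ThickFin1
import Groth.Agent.Helper5.ThickLoc1
import Groth.Agent.Helper5.KerIdeal3
import Mathlib

/-! Finite order cartesian thickenings: locally of finite type lifts. -/

set_option autoImplicit false
set_option linter.style.haveILetI false
set_option linter.unusedSectionVars false
set_option linter.unusedVariables false
universe u
open CategoryTheory CategoryTheory.Limits AlgebraicGeometry Opposite MorphismProperty

namespace Groth.Agent.Helper5.ThickFin

open AlgSp Groth.Agent.Helper5.SchImg Groth.Agent.Helper5.GeomFibSp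

variable {S : Scheme.{u}}

set_option backward.isDefEq.respectTransparency.types false in
theorem lft_affine_chart {X X' Y Y' : Sp S} {i : X ⟶ X'} {j : Y ⟶ Y'} {f : X ⟶ Y} {f' : X' ⟶ Y'}
    (hi : IsThickMor i) (hj : IsThickMor j) (hcart : IsPullback i f f' j) (n : ℕ)
    (hn : AffLocT (powZero n) i) (hf : LocP @LocallyOfFiniteType f)
    {U V : Over S} (a : (yon S).obj U ⟶ X') (b : (yon S).obj V ⟶ Y') (h : U ⟶ V)
    (ha : RepWith @Etale a) (hb : RepWith @Etale b) (w : a ≫ f' = (yon S).map h ≫ b)
    (hU : IsAffine U.left) (hV : IsAffine V.left) : LocallyOfFiniteType h.left := by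
  haveI := hU
  haveI := hV
  have sq1 := hi.1.isPullback a
  have sq0 := hj.1.isPullback b
  have big : IsPullback (hi.1.fst a ≫ f) ((yon S).map (hi.1.snd a)) j ((yon S).map h ≫ b) := by
    rw [← w]
    exact sq1.paste_horiz hcart.flip
  let l := sq0.lift (hi.1.fst a ≫ f) ((yon S).map (hi.1.snd a) ≫ (yon S).map h) (by
    have := big.w
    simp only [Category.assoc] at this ⊢
    exact this)
  have h1 : l ≫ hj.1.fst b = hi.1.fst a ≫ f := sq0.lift_fst _ _ _
  have h2 : l ≫ (yon S).map (hj.1.snd b) = (yon S).map (hi.1.snd a) ≫ (yon S).map h :=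
    sq0.lift_snd _ _ _
  have sqL : IsPullback l ((yon S).map (hi.1.snd a)) ((yon S).map (hj.1.snd b)) ((yon S).map h) := by
    refine IsPullback.of_right ?_ h2 sq0
    rw [h1]
    exact big
  obtain ⟨l₀, hl₀⟩ := (yon S).map_surjective l
  rw [← hl₀] at sqL h1
  have sqL' : IsPullback l₀.left (hi.1.snd a).left (hj.1.snd b).left h.left :=
    isPullback_left (isPullback_of_yon_map sqL)
  have hth1 : thick (hi.1.snd a).left := hi.2 _ _ _ sq1
  have hth0 : thick (hj.1.snd b).left := hj.2 _ _ _ sq0
  haveI : IsClosedImmersion (hi.1.snd a).left := hth1.1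
  haveI : IsClosedImmersion (hj.1.snd b).left := hth0.1
  have ha₀ : RepWith @Etale (hi.1.fst a) := MorphismProperty.of_isPullback sq1.flip ha
  have hb₀ : RepWith @Etale (hj.1.fst b) := MorphismProperty.of_isPullback sq0.flip hb
  have hl : LocallyOfFiniteType l₀.left := hf (hi.1.fst a) (hj.1.fst b) l₀ ha₀ hb₀ h1.symm
  have hk := ker_of_isPullback sqL'
  have h3 := congrArg (fun J : U.left.IdealSheafData => J.ideal ⟨⊤, isAffineOpen_top _⟩) hk
  simp only at h3
  rw [Groth.Agent.Helper9.IdealComap.ideal_comap_top_of_isAffine, Scheme.Hom.ker_apply,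
    Scheme.Hom.ker_apply] at h3
  have hp : powZero n (hi.1.snd a).left := hn a (hi.1.fst a) (hi.1.snd a) hU ha sq1
  have h4 := congrArg (fun J : U.left.IdealSheafData => J.ideal ⟨⊤, isAffineOpen_top _⟩) hp
  simp only [Scheme.IdealSheafData.ideal_pow, Pi.pow_apply, Scheme.Hom.ker_apply,
    Scheme.IdealSheafData.ideal_bot, Pi.bot_apply] at h4
  have hA1 := IsClosedImmersion.isAffine_surjective_of_isAffine (hi.1.snd a).left
  have hA0 := IsClosedImmersion.isAffine_surjective_of_isAffine (hj.1.snd b).left
  haveI := hA1.1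
  haveI := hA0.1
  rw [HasRingHomProperty.iff_of_isAffine (P := @LocallyOfFiniteType)] at hl ⊢
  refine finiteType_of_nilpotent h.left.appTop.hom (hj.1.snd b).left.appTop.hom
    (hi.1.snd a).left.appTop.hom l₀.left.appTop.hom hA0.2 hA1.2 ?_ h3 n h4 hl
  have := congrArg (fun k => k.appTop.hom) sqL'.w
  simp only [Scheme.Hom.comp_appTop, CommRingCat.hom_comp] at this
  exact this.symm

end Groth.Agent.Helper5.ThickFin
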