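import Groth.Agent.Helper5.ThickFin2
import Mathlib

/-! Finite order cartesian thickenings: the local properties. -/

set_option autoImplicit false
set_option linter.style.haveILetI false
set_option linter.unusedSectionVars false
set_option linter.unusedVariables false
universe u
open CategoryTheory CategoryTheory.Limits AlgebraicGeometry Opposite MorphismProperty

namespace Groth.Agent.Helper5.ThickFin

open AlgSp Groth.Agent.Helper5.SchImg Groth.Agent.Helper5.GeomFibSp
  Groth.Agent.Helper5.RelDimSp Groth.Agent.Helper5.ThickLoc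

variable {S : Scheme.{u}}

theorem lft_chart {X X' Y Y' : Sp S} {i : X ⟶ X'} {j : Y ⟶ Y'} {f : X ⟶ Y} {f' : X' ⟶ Y'}
    (hi : IsThickMor i) (hj : IsThickMor j) (hcart : IsPullback i f f' j) (n : ℕ)
    (hn : AffLocT (powZero n) i) (hf : LocP @LocallyOfFiniteType f) :
    LocP @LocallyOfFiniteType f' := by
  intro U V a b h ha hb w
  haveI : MorphismProperty.RespectsRight (@LocallyOfFiniteType : MorphismProperty Scheme.{u})
      @IsOpenImmersion :=
    ⟨fun i hi f hf => by haveI := hi; haveI := hf; infer_instance⟩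
  rw [IsZariskiLocalAtSource.iff_exists_resLE (P := @LocallyOfFiniteType)]
  intro x
  obtain ⟨V₁, hV₁, hxV₁, -⟩ := exists_isAffineOpen_mem_and_subset
    (show h.left.base x ∈ (⊤ : V.left.Opens) from trivial)
  obtain ⟨U₁, hU₁, hxU₁, hle⟩ := exists_isAffineOpen_mem_and_subset
    (show x ∈ h.left ⁻¹ᵁ V₁ from hxV₁)
  refine ⟨V₁, U₁, hxU₁, hle, ?_⟩
  let U' : Over S := Over.mk (U₁.ι ≫ U.hom)
  let V' : Over S := Over.mk (V₁.ι ≫ V.hom)
  let iU : U' ⟶ U := Over.homMk U₁.ι rfl
  let iV : V' ⟶ V := Over.homMk V₁.ι rfl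
  let h' : U' ⟶ V' := Over.homMk (h.left.resLE V₁ U₁ hle) (by
    show h.left.resLE V₁ U₁ hle ≫ V₁.ι ≫ V.hom = U₁.ι ≫ U.hom
    rw [Scheme.Hom.resLE_comp_ι_assoc, CategoryTheory.Over.w])
  have hc : h' ≫ iV = iU ≫ h := by
    ext
    exact Scheme.Hom.resLE_comp_ι _ _
  have hiU : RepWith @Etale ((yon S).map iU) :=
    (repWith_yon_map_iff _ _).2 (show Etale U₁.ι from inferInstance)
  have hiV : RepWith @Etale ((yon S).map iV) :=
    (repWith_yon_map_iff _ _).2 (show Etale V₁.ι from inferInstance)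
  refine lft_affine_chart hi hj hcart n hn hf ((yon S).map iU ≫ a) ((yon S).map iV ≫ b) h'
    ((RepWith @Etale).comp_mem _ _ hiU ha) ((RepWith @Etale).comp_mem _ _ hiV hb) ?_ hU₁ hV₁
  rw [Category.assoc, w, ← Category.assoc, ← Functor.map_comp, ← hc, Functor.map_comp,
    Category.assoc]

theorem s10591 {X X' Y Y' : AlgSp.Space S} (i : X ⟶ X') (j : Y ⟶ Y')
    (f : X ⟶ Y) (f' : X' ⟶ Y')
    (hi : AlgSp.IsThickMor i.hom)
    (hj : AlgSp.IsThickMor j.hom)
    (hcart : IsPullback i.hom f.hom f'.hom j.hom)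
    (hfo : AlgSp.IsFinThickMor i.hom) (d : ℕ) :
    ((AlgSp.LocP @LocallyOfFiniteType f.hom ∧
        ∀ x, AlgSp.HasAtMor (fun _ _ h u => FlatMor.fibreDimAt h u = (d : WithBot ℕ∞)) f.hom x) ↔
      (AlgSp.LocP @LocallyOfFiniteType f'.hom ∧
        ∀ x', AlgSp.HasAtMor (fun _ _ h u => FlatMor.fibreDimAt h u = (d : WithBot ℕ∞)) f'.hom x')) ∧
    (AlgSp.LocP @LocallyOfFiniteType f.hom ↔ AlgSp.LocP @LocallyOfFiniteType f'.hom) ∧
    (AlgSp.LocP (@LocallyQuasiFinite ⊓ @LocallyOfFiniteType) f.hom ↔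
      AlgSp.LocP (@LocallyQuasiFinite ⊓ @LocallyOfFiniteType) f'.hom) ∧
    (AlgSp.LocP (@LocallyOfFiniteType ⊓ @FormallyUnramified) f.hom ↔
      AlgSp.LocP (@LocallyOfFiniteType ⊓ @FormallyUnramified) f'.hom) := by
  obtain ⟨n, -, hn⟩ := hfo
  have hup : AlgSp.LocP @LocallyOfFiniteType f.hom → AlgSp.LocP @LocallyOfFiniteType f'.hom :=
    fun hf => lft_chart hi hj hcart n hn hf
  have hdown : AlgSp.LocP @LocallyOfFiniteType f'.hom → AlgSp.LocP @LocallyOfFiniteType f.hom :=
    fun hf' => locP_lft_of_isPullback f' j i f hcart hf'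
  have hsurj := Groth.Agent.Helper5.FlatBC.isSurjectiveMor_of_isThickMor i.hom hi
  have hdim : ∀ (hft' : AlgSp.LocP @LocallyOfFiniteType f'.hom),
      ((∀ x, AlgSp.HasAtMor (fun _ _ h u => FlatMor.fibreDimAt h u = (d : WithBot ℕ∞)) f.hom x) ↔
        ∀ x', AlgSp.HasAtMor (fun _ _ h u => FlatMor.fibreDimAt h u = (d : WithBot ℕ∞)) f'.hom x') := by
    intro hft'
    have e := qd_locus_baseChange (fun r => r = (d : WithBot ℕ∞)) f' j i f hcart hft'
    have e2 := univ_iff_of_surjective _ hsurj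
      {x : Points X'.obj | HasAtMor (QD fun r => r = (d : WithBot ℕ∞)) f'.hom x}
    rw [← e, Set.eq_univ_iff_forall, Set.eq_univ_iff_forall] at e2
    exact e2
  refine ⟨?_, ⟨hup, hdown⟩, ?_, ?_⟩
  · constructor
    · rintro ⟨h1, h2⟩
      exact ⟨hup h1, (hdim (hup h1)).1 h2⟩
    · rintro ⟨h1, h2⟩
      exact ⟨hdown h1, (hdim h1).2 h2⟩
  · constructor
    · intro h
      have hft : AlgSp.LocP @LocallyOfFiniteType f.hom := fun U V a b k ha hb w => (h a b k ha hb w).2
      exact (s10593 i j f f' hi hcart hft (hup hft)).1.1 h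
    · intro h
      have hft' : AlgSp.LocP @LocallyOfFiniteType f'.hom :=
        fun U V a b k ha hb w => (h a b k ha hb w).2
      exact (s10593 i j f f' hi hcart (hdown hft') hft').1.2 h
  · constructor
    · intro h
      have hft : AlgSp.LocP @LocallyOfFiniteType f.hom := fun U V a b k ha hb w => (h a b k ha hb w).1
      exact (s10593 i j f f' hi hcart hft (hup hft)).2.1 h
    · intro h
      have hft' : AlgSp.LocP @LocallyOfFiniteType f'.hom :=
        fun U V a b k ha hb w => (h a b k ha hb w).1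
      exact (s10593 i j f f' hi hcart (hdown hft') hft').2.2 h

end Groth.Agent.Helper5.ThickFin
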