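import Groth.Agent.Helper5.ThickTop1
import Groth.Agent.Helper5.RedImg2
import Groth.Agent.Helper5.FpqcIso
import Groth.Agent.Helper5.ProperImg1
import Groth.Agent.S10194
import Groth.Agent.S10195
import Mathlib

set_option autoImplicit false
set_option linter.style.haveILetI false
set_option linter.unusedSectionVars false
set_option linter.unusedVariables false
universe u
open CategoryTheory CategoryTheory.Limits AlgebraicGeometry Opposite

namespace Groth.Agent.Helper5.ThickOpen

open AlgSp Groth.Agent.Helper4 Groth.Agent.Helper5.ThickTop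

variable {S : Scheme.{u}}

/-- the image of an open subspace is open -/
theorem isOpen_range_of_openImmersion {U X : AlgSp.Space S} (u : U ⟶ X)
    (hu : RepWith @IsOpenImmersion u.hom) : IsOpen (Set.range (Points.map u.hom)) := by
  rw [← Set.image_univ]
  exact Groth.Agent.Helper5.RedImg.isOpenMap_of_isEtaleMor U.property X.property u.hom
    (Groth.Agent.Helper5.FpqcIso.isEtaleMor_of_repWith_openImmersion u.hom hu) _ isOpen_univ

/-- two open subspaces with the same image are isomorphic over the ambient space -/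
theorem exists_iso_of_range_eq {A B X : AlgSp.Space S} (a : A ⟶ X) (b : B ⟶ X)
    (ha : RepWith @IsOpenImmersion a.hom) (hb : RepWith @IsOpenImmersion b.hom)
    (h : Set.range (Points.map a.hom) = Set.range (Points.map b.hom)) :
    ∃ e : A ≅ B, e.hom ≫ b = a := by
  obtain ⟨g, hg⟩ := (Groth.Agent.S10194.result b hb a).2 h.le
  obtain ⟨g', hg'⟩ := (Groth.Agent.S10194.result a ha b).2 h.ge
  haveI : Mono a.hom := Groth.Agent.Helper5.FpqcIso.mono_of_repWith_openImmersion a.hom ha
  haveI : Mono b.hom := Groth.Agent.Helper5.FpqcIso.mono_of_repWith_openImmersion b.hom hb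
  have hgh : g.hom ≫ b.hom = a.hom := congrArg (fun k => k.hom) hg
  have hg'h : g'.hom ≫ a.hom = b.hom := congrArg (fun k => k.hom) hg'
  have e1 : g ≫ g' = 𝟙 A := by
    apply ObjectProperty.hom_ext
    show g.hom ≫ g'.hom = 𝟙 A.obj
    rw [← cancel_mono a.hom, Category.assoc, hg'h, hgh, Category.id_comp]
  have e2 : g' ≫ g = 𝟙 B := by
    apply ObjectProperty.hom_ext
    show g'.hom ≫ g.hom = 𝟙 B.obj
    rw [← cancel_mono b.hom, Category.assoc, hgh, hg'h, Category.id_comp]
  exact ⟨⟨g, g', e1, e2⟩, hg⟩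


theorem range_of_isPullback {X X' U U' : AlgSp.Space S} (i : X ⟶ X') (hi : IsThickMor i.hom)
    (u : U ⟶ X) (u' : U' ⟶ X') (k : U ⟶ U') (sq : IsPullback u.hom k.hom i.hom u'.hom) :
    Set.range (Points.map u'.hom) = Points.map i.hom '' Set.range (Points.map u.hom) := by
  have h1 := Groth.Agent.Helper5.RedImg.range_eq_preimage_of_isPullback sq.flip
  rw [h1, Set.image_preimage_eq _ (Groth.Agent.Helper5.FlatBC.isSurjectiveMor_of_isThickMor i.hom hi)]

theorem s10583 {X X' U : AlgSp.Space S} (i : X ⟶ X')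
    (hi : AlgSp.IsThickMor i.hom)
    (u : U ⟶ X) (hu : AlgSp.RepWith @IsOpenImmersion u.hom) :
    (∃ (U' : AlgSp.Space S) (u' : U' ⟶ X') (k : U ⟶ U'),
      AlgSp.RepWith @IsOpenImmersion u'.hom ∧ IsPullback u.hom k.hom i.hom u'.hom) ∧
    (∀ (U₁ U₂ : AlgSp.Space S) (u₁ : U₁ ⟶ X') (u₂ : U₂ ⟶ X') (k₁ : U ⟶ U₁) (k₂ : U ⟶ U₂),
      AlgSp.RepWith @IsOpenImmersion u₁.hom → IsPullback u.hom k₁.hom i.hom u₁.hom →
      AlgSp.RepWith @IsOpenImmersion u₂.hom → IsPullback u.hom k₂.hom i.hom u₂.hom →
      ∃ e : U₁ ≅ U₂, e.hom ≫ u₂ = u₁) := by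
  have hhomeo := isHomeomorph_of_isThickMor X.property X'.property i.hom hi
  constructor
  · have hW : IsOpen (Points.map i.hom '' Set.range (Points.map u.hom)) :=
      hhomeo.isOpenMap _ (isOpen_range_of_openImmersion u hu)
    obtain ⟨U', u', hu', hr⟩ := Groth.Agent.S10195.result X' _ hW
    have hsub : Set.range (Points.map (u ≫ i).hom) ⊆ Set.range (Points.map u'.hom) := by
      rw [hr]
      exact (Groth.Agent.Helper5.ProperImg.range_comp u.hom i.hom).le
    obtain ⟨k, hk⟩ := (Groth.Agent.S10194.result u' hu' (u ≫ i)).2 hsub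
    have hk' : k.hom ≫ u'.hom = u.hom ≫ i.hom := congrArg (fun m => m.hom) hk
    refine ⟨U', u', k, hu', ?_⟩
    have sqP : IsPullback (pullback.fst i.hom u'.hom) (pullback.snd i.hom u'.hom) i.hom u'.hom :=
      IsPullback.of_hasPullback _ _
    have hP : IsAlgSpace (pullback i.hom u'.hom) :=
      Groth.Agent.Helper4.AlgSpPB.isAlgSpace_of_isPullback X'.property.diag X.property U'.property
        _ _ _ _ sqP
    let P' : AlgSp.Space S := ⟨pullback i.hom u'.hom, hP⟩
    let p1 : P' ⟶ X := ObjectProperty.homMk (pullback.fst i.hom u'.hom)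
    have hp1 : RepWith @IsOpenImmersion p1.hom := by
      have i1 := repWith_isStableUnderBaseChange (S := S) @IsOpenImmersion
      exact MorphismProperty.of_isPullback (P := RepWith @IsOpenImmersion) sqP.flip hu'
    have hrange : Set.range (Points.map u.hom) = Set.range (Points.map p1.hom) := by
      have h1 : Set.range (Points.map (pullback.fst i.hom u'.hom)) =
          Points.map i.hom ⁻¹' Set.range (Points.map u'.hom) :=
        Groth.Agent.Helper5.RedImg.range_eq_preimage_of_isPullback sqP.flip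
      show _ = Set.range (Points.map (pullback.fst i.hom u'.hom))
      rw [h1, hr, Set.preimage_image_eq _ hhomeo.injective]
    obtain ⟨e, he⟩ := exists_iso_of_range_eq u p1 hu hp1 hrange
    have he' : e.hom.hom ≫ pullback.fst i.hom u'.hom = u.hom := congrArg (fun m => m.hom) he
    haveI : Mono (pullback.fst i.hom u'.hom) :=
      Groth.Agent.Helper5.FpqcIso.mono_of_repWith_openImmersion _ hp1
    have hc : pullback.lift u.hom k.hom hk'.symm = e.hom.hom := by
      rw [← cancel_mono (pullback.fst i.hom u'.hom), pullback.lift_fst, he']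
    let eP : U.obj ≅ pullback i.hom u'.hom :=
      ⟨e.hom.hom, e.inv.hom, congrArg (fun m => m.hom) e.hom_inv_id,
        congrArg (fun m => m.hom) e.inv_hom_id⟩
    refine IsPullback.of_iso_pullback ⟨hk'.symm⟩ eP he' ?_
    show e.hom.hom ≫ _ = _
    rw [← hc, pullback.lift_snd]
  · intro U₁ U₂ u₁ u₂ k₁ k₂ h1 sq1 h2 sq2
    refine exists_iso_of_range_eq u₁ u₂ h1 h2 ?_
    rw [range_of_isPullback i hi u u₁ k₁ sq1, range_of_isPullback i hi u u₂ k₂ sq2]

end Groth.Agent.Helper5.ThickOpen
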