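import Groth.Agent.Helper5.AlgSpProper
import Groth.Agent.Helper5.FlatBC4
import Groth.Agent.Helper4.AlgSpSep
import Groth.Agent.Helper4.AlgSpQC
import Groth.Agent.Helper4.AlgSpDiag
import Groth.Agent.Helper5.ProperImg1
import Groth.Prelude.Def_AlgSpInf
import Mathlib

set_option autoImplicit false
set_option linter.style.haveILetI false
set_option linter.unusedSectionVars false
set_option linter.unusedVariables false
universe u
open CategoryTheory CategoryTheory.Limits AlgebraicGeometry Opposite

namespace Groth.Agent.Helper5.ThickSep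

open AlgSp Groth.Agent.Helper4 Groth.Agent.Helper5.AlgSpProper

variable {S : Scheme.{u}}

theorem closedImmersion_of_isThickMor {X X' : Sp S} (i : X ⟶ X') (hi : IsThickMor i) :
    RepWith @IsClosedImmersion i :=
  Groth.Agent.Helper4.AlgSpSrc.repWith_mono (P := thick) (Q := @IsClosedImmersion)
    (fun g hg => hg.1) hi

theorem repWith_qc_of_closedImmersion {X Y : Sp S} (f : X ⟶ Y)
    (hf : RepWith @IsClosedImmersion f) : RepWith @QuasiCompact f :=
  Groth.Agent.Helper4.AlgSpSrc.repWith_mono (P := @IsClosedImmersion) (Q := @QuasiCompact)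
    (fun g hg => by
      have : IsClosedImmersion g := hg
      infer_instance) hf

set_option backward.isDefEq.respectTransparency false in
/-- diagonal-type property of a composite with a mono on the right -/
theorem diagonal_of_comp_mono (P : MorphismProperty (Sp S)) [P.RespectsIso] {X Y Z : Sp S}
    (f : X ⟶ Y) (j : Y ⟶ Z) [Mono j] :
    P (pullback.diagonal (f ≫ j)) ↔ P (pullback.diagonal f) := by
  have hpb := pullback_map_diagonal_isPullback f f j
  haveI : IsIso (pullback.diagonal j) := (pullback.isIso_diagonal_iff j).2 inferInstance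
  haveI : IsIso (pullback.map f f (f ≫ j) (f ≫ j) (𝟙 X) (𝟙 X) j (Category.id_comp _).symm
      (Category.id_comp _).symm) := hpb.isIso_snd_of_isIso
  have e : pullback.diagonal (f ≫ j) = pullback.diagonal f ≫
      pullback.map f f (f ≫ j) (f ≫ j) (𝟙 X) (𝟙 X) j (Category.id_comp _).symm
      (Category.id_comp _).symm := by
    apply pullback.hom_ext <;> simp
  rw [e, P.cancel_right_of_respectsIso]


theorem diag_congr (P : MorphismProperty (Sp S)) {X Y : Sp S} {g g' : X ⟶ Y} (h : g = g')
    (hg : P (pullback.diagonal g)) : P (pullback.diagonal g') := by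
  subst h; exact hg

set_option backward.isDefEq.respectTransparency false in
theorem s10589 {X X' Y Y' : AlgSp.Space S} (i : X ⟶ X') (j : Y ⟶ Y')
    (f : X ⟶ Y) (f' : X' ⟶ Y')
    (hi : AlgSp.IsThickMor i.hom) (hj : AlgSp.IsThickMor j.hom) (w : i ≫ f' = f ≫ j) :
    (AlgSp.IsSeparatedMor f.hom ↔ AlgSp.IsSeparatedMor f'.hom) ∧
    (AlgSp.IsQuasiSeparatedMor f.hom ↔ AlgSp.IsQuasiSeparatedMor f'.hom) := by
  have w' : i.hom ≫ f'.hom = f.hom ≫ j.hom := congrArg (fun k => k.hom) w
  have hiC := closedImmersion_of_isThickMor i.hom hi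
  have hjC := closedImmersion_of_isThickMor j.hom hj
  haveI : Mono j.hom := Groth.Agent.Helper5.ProperImg.mono_of_closedImmersion _ hjC
  have hsurj := Groth.Agent.Helper5.FlatBC.isSurjectiveMor_of_isThickMor i.hom hi
  have i1 := repWith_isStableUnderBaseChange (S := S) @IsClosedImmersion
  have i2 := (repWith_isMultiplicative (S := S) @IsClosedImmersion).toIsStableUnderComposition
  have i3 : (RepWith (S := S) @IsClosedImmersion).RespectsIso :=
    MorphismProperty.IsStableUnderBaseChange.respectsIso
  have q1 := repWith_isStableUnderBaseChange (S := S) @QuasiCompact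
  have q2 := (repWith_isMultiplicative (S := S) @QuasiCompact).toIsStableUnderComposition
  have q3 : (RepWith (S := S) @QuasiCompact).RespectsIso :=
    MorphismProperty.IsStableUnderBaseChange.respectsIso
  have hm' : RepWith @IsClosedImmersion (pullback.map (i.hom ≫ f'.hom) (i.hom ≫ f'.hom) f'.hom
      f'.hom i.hom i.hom (𝟙 _) (by simp) (by simp)) :=
    MorphismProperty.pullbackMap (P := RepWith (S := S) @IsClosedImmersion) hiC hiC rfl rfl
  have key := pullback.comp_diagonal i.hom f'.hom
  refine ⟨⟨fun hf => ?_, fun hf' => ?_⟩, ⟨fun hf => ?_, fun hf' => ?_⟩⟩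
  · have h1 : RepWith @IsClosedImmersion (pullback.diagonal (f.hom ≫ j.hom)) :=
      (diagonal_of_comp_mono (RepWith (S := S) @IsClosedImmersion) f.hom j.hom).2 hf
    replace h1 := diag_congr _ w'.symm h1
    have h2 : RepWith @IsClosedImmersion (i.hom ≫ pullback.diagonal f'.hom) := by
      rw [key]
      exact MorphismProperty.comp_mem _ _ _ h1 hm'
    have h3 := isUnivClosedMor_of_closedImmersion _ h2
    have h4 := Groth.Agent.Helper4.AlgSpSep.univClosed_of_precomp_isSurjectiveMor i.hom _ hsurj h3
    exact isSeparatedMor_of_diagonal_univClosed X'.property f'.hom h4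
  · have h1 : IsSeparatedMor (i.hom ≫ f'.hom) :=
      isSeparatedMor_comp _ _ (isSeparatedMor_of_closedImmersion _ hiC) hf'
    replace h1 := diag_congr (RepWith (S := S) @IsClosedImmersion) w' h1
    exact (diagonal_of_comp_mono (RepWith (S := S) @IsClosedImmersion) f.hom j.hom).1 h1
  · have h1 : RepWith @QuasiCompact (pullback.diagonal (f.hom ≫ j.hom)) :=
      (diagonal_of_comp_mono (RepWith (S := S) @QuasiCompact) f.hom j.hom).2 hf
    replace h1 := diag_congr _ w'.symm h1
    have h2 : RepWith @QuasiCompact (i.hom ≫ pullback.diagonal f'.hom) := by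
      rw [key]
      exact MorphismProperty.comp_mem _ _ _ h1 (repWith_qc_of_closedImmersion _ hm')
    have h3 := Groth.Agent.Helper4.AlgSpQC.isQuasiCompactMor_of_repWith _ h2
    have hP : IsAlgSpace (pullback f'.hom f'.hom) :=
      Groth.Agent.Helper4.AlgSpPB.isAlgSpace_of_isPullback Y'.property.diag X'.property X'.property
        _ _ _ _ (IsPullback.of_hasPullback f'.hom f'.hom)
    have h4 := Groth.Agent.Helper4.AlgSpSep.isQuasiCompactMor_of_surjective_triangle X'.property
      hP.diag i.hom _ hsurj h3
    exact Groth.Agent.Helper4.AlgSpQC.repWith_of_isQuasiCompactMor _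
      (Groth.Agent.Helper4.AlgSpDiag.diagonal_properties X'.property f'.hom).1.rep h4
  · have hd : RepWith @QuasiCompact (pullback.diagonal i.hom) :=
      repWith_qc_of_closedImmersion _ (isSeparatedMor_of_closedImmersion _ hiC)
    have h1 : (RepWith (S := S) @QuasiCompact).diagonal (i.hom ≫ f'.hom) :=
      MorphismProperty.comp_mem (RepWith (S := S) @QuasiCompact).diagonal i.hom f'.hom hd hf'
    replace h1 := diag_congr (RepWith (S := S) @QuasiCompact) w' h1
    exact (diagonal_of_comp_mono (RepWith (S := S) @QuasiCompact) f.hom j.hom).1 h1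

end Groth.Agent.Helper5.ThickSep
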