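import Groth.Agent.Helper5.ThickSep1
import Groth.Agent.Helper4.AlgSpPB
import Groth.Agent.Helper4.AlgSpDiag
import Mathlib

set_option autoImplicit false
set_option linter.style.haveILetI false
set_option linter.unusedSectionVars false
set_option linter.unusedVariables false
universe u
open CategoryTheory CategoryTheory.Limits AlgebraicGeometry Opposite

namespace Groth.Agent.Helper5.ThickTop

open AlgSp Groth.Agent.Helper4 Groth.Agent.Helper5.AlgSpProper Groth.Agent.Helper5.ThickSep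

variable {S : Scheme.{u}}

/-- a thickening of algebraic spaces is a homeomorphism on points -/
theorem isHomeomorph_of_isThickMor {X X' : Sp S} (hX : IsAlgSpace X) (hX' : IsAlgSpace X')
    (t : X ⟶ X') (ht : IsThickMor t) : IsHomeomorph (Points.map t) := by
  have hC := closedImmersion_of_isThickMor t ht
  rw [isHomeomorph_iff_continuous_isClosedMap_bijective]
  refine ⟨Points.continuous_map t, ?_, ?_, ?_⟩
  · exact Groth.Agent.Helper5.ProperImg.isClosedMap_of_isUnivClosedMor hX' t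
      (isUnivClosedMor_of_closedImmersion t hC)
  · exact Groth.Agent.Helper5.ProperImg.points_injective_of_closedImmersion hX hX' t hC
  · exact Groth.Agent.Helper5.FlatBC.isSurjectiveMor_of_isThickMor t ht

theorem isThickMor_of_isPullback {X Y X' Y' : Sp S} {f : X ⟶ Y} {g : Y' ⟶ Y} {fst : X' ⟶ X}
    {snd : X' ⟶ Y'} (sq : IsPullback fst snd f g) (hf : IsThickMor f) : IsThickMor snd := by
  have i1 := repWith_isStableUnderBaseChange (S := S) thick
  exact MorphismProperty.of_isPullback (P := RepWith thick) sq hf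

section
variable {X X' Y Y' : Sp S} (i : X ⟶ X') (j : Y ⟶ Y') (f : X ⟶ Y) (f' : X' ⟶ Y')

/-- Lemma A: base changes of `f` are, up to a thickening, base changes of `f'`. -/
theorem lemmaA (hX : IsAlgSpace X) (hX' : IsAlgSpace X') (hY' : IsAlgSpace Y') [Mono j]
    (hi : IsThickMor i) (w : i ≫ f' = f ≫ j)
    {Z P : Sp S} (hZ : IsAlgSpace Z) (z : Z ⟶ Y) (a : P ⟶ X) (b : P ⟶ Z)
    (sq : IsPullback a b f z) (hP : IsAlgSpace P) :
    ∃ (P' : Sp S) (a' : P' ⟶ X') (b' : P' ⟶ Z) (t : P ⟶ P'),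
      IsPullback a' b' f' (z ≫ j) ∧ IsHomeomorph (Points.map t) ∧ t ≫ b' = b := by
  have sq' : IsPullback (pullback.fst f' (z ≫ j)) (pullback.snd f' (z ≫ j)) f' (z ≫ j) :=
    IsPullback.of_hasPullback _ _
  have hP' : IsAlgSpace (pullback f' (z ≫ j)) :=
    Groth.Agent.Helper4.AlgSpPB.isAlgSpace_of_isPullback hY'.diag hX' hZ _ _ _ _ sq'
  have hc : (a ≫ i) ≫ f' = b ≫ (z ≫ j) := by
    rw [Category.assoc, w, ← Category.assoc, sq.w, Category.assoc]
  let t : P ⟶ pullback f' (z ≫ j) := pullback.lift (a ≫ i) b hc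
  have ht1 : t ≫ pullback.fst f' (z ≫ j) = a ≫ i := pullback.lift_fst _ _ _
  have ht2 : t ≫ pullback.snd f' (z ≫ j) = b := pullback.lift_snd _ _ _
  have big : IsPullback (t ≫ pullback.snd f' (z ≫ j)) a (z ≫ j) (i ≫ f') := by
    rw [ht2, w]
    exact (Groth.Agent.Helper4.AlgSpDiag.isPullback_comp_mono sq j).flip
  have left : IsPullback t a (pullback.fst f' (z ≫ j)) i := IsPullback.of_right big ht1 sq'.flip
  have htk : IsThickMor t := isThickMor_of_isPullback left.flip hi
  exact ⟨_, _, _, t, sq', isHomeomorph_of_isThickMor hP hP' t htk, ht2⟩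

/-- Lemma B: base changes of `f'` are, up to thickenings, base changes of `f`. -/
theorem lemmaB (hX : IsAlgSpace X) (hY : IsAlgSpace Y) (hY' : IsAlgSpace Y')
    (hi : IsThickMor i) (hj : IsThickMor j) (w : i ≫ f' = f ≫ j)
    {Z P' : Sp S} (hZ : IsAlgSpace Z) (z : Z ⟶ Y') (a' : P' ⟶ X') (b' : P' ⟶ Z)
    (sq' : IsPullback a' b' f' z) (hP' : IsAlgSpace P') :
    ∃ (Z₀ P₀ : Sp S) (z₀ : Z₀ ⟶ Y) (s : Z₀ ⟶ Z) (a₀ : P₀ ⟶ X) (b₀ : P₀ ⟶ Z₀) (t : P₀ ⟶ P'),
      IsAlgSpace Z₀ ∧ IsPullback a₀ b₀ f z₀ ∧ IsHomeomorph (Points.map t) ∧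
      IsHomeomorph (Points.map s) ∧ t ≫ b' = b₀ ≫ s := by
  have sqZ : IsPullback (pullback.fst j z) (pullback.snd j z) j z := IsPullback.of_hasPullback _ _
  have hZ₀ : IsAlgSpace (pullback j z) :=
    Groth.Agent.Helper4.AlgSpPB.isAlgSpace_of_isPullback hY'.diag hY hZ _ _ _ _ sqZ
  have hs : IsThickMor (pullback.snd j z) := isThickMor_of_isPullback sqZ hj
  have sq0 : IsPullback (pullback.fst f (pullback.fst j z)) (pullback.snd f (pullback.fst j z)) f
      (pullback.fst j z) := IsPullback.of_hasPullback _ _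
  have hP₀ : IsAlgSpace (pullback f (pullback.fst j z)) :=
    Groth.Agent.Helper4.AlgSpPB.isAlgSpace_of_isPullback hY.diag hX hZ₀ _ _ _ _ sq0
  have hc : (pullback.fst f (pullback.fst j z) ≫ i) ≫ f' =
      (pullback.snd f (pullback.fst j z) ≫ pullback.snd j z) ≫ z := by
    rw [Category.assoc, w, ← Category.assoc, sq0.w, Category.assoc, sqZ.w, Category.assoc]
  let t : pullback f (pullback.fst j z) ⟶ P' := sq'.lift _ _ hc
  have ht1 : t ≫ a' = pullback.fst f (pullback.fst j z) ≫ i := sq'.lift_fst _ _ _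
  have ht2 : t ≫ b' = pullback.snd f (pullback.fst j z) ≫ pullback.snd j z := sq'.lift_snd _ _ _
  have big : IsPullback (t ≫ b') (pullback.fst f (pullback.fst j z)) z (i ≫ f') := by
    rw [ht2, w]
    exact sq0.flip.paste_horiz sqZ.flip
  have left : IsPullback t (pullback.fst f (pullback.fst j z)) a' i :=
    IsPullback.of_right big ht1 sq'.flip
  have htk : IsThickMor t := isThickMor_of_isPullback left.flip hi
  exact ⟨_, _, _, _, _, _, t, hZ₀, sq0, isHomeomorph_of_isThickMor hP₀ hP' t htk,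
    isHomeomorph_of_isThickMor hZ₀ hZ _ hs, ht2⟩

end

end Groth.Agent.Helper5.ThickTop
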