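import Groth.Agent.Helper5.ThickTop1
import Groth.Agent.Helper5.FpqcIso
import Groth.Agent.Helper4.AlgSpSep
import Groth.Agent.Helper4.AlgSpQC
import Mathlib

set_option autoImplicit false
set_option linter.style.haveILetI false
set_option linter.unusedSectionVars false
set_option linter.unusedVariables false
universe u
open CategoryTheory CategoryTheory.Limits AlgebraicGeometry Opposite

namespace Groth.Agent.Helper5.ThickTop

open AlgSp Groth.Agent.Helper4 Groth.Agent.Helper5.AlgSpProper Groth.Agent.Helper5.ThickSep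

variable {S : Scheme.{u}}

/-- A property of maps of topological spaces invariant under homeomorphisms on both sides. -/
structure TopInv (Q : ∀ {A B : Type (u + 1)} [TopologicalSpace A] [TopologicalSpace B], (A → B) → Prop) :
    Prop where
  pre : ∀ {A B C : Type (u + 1)} [TopologicalSpace A] [TopologicalSpace B] [TopologicalSpace C]
    (t : A → B) (g : B → C), IsHomeomorph t → Q g → Q (g ∘ t)
  sq : ∀ {A B C D : Type (u + 1)} [TopologicalSpace A] [TopologicalSpace B] [TopologicalSpace C]
    [TopologicalSpace D] (t : A → B) (g : B → D) (b : A → C) (s : C → D), IsHomeomorph t →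
    IsHomeomorph s → g ∘ t = s ∘ b → Q b → Q g

theorem topInv_closed : TopInv (fun {A B} _ _ f => IsClosedMap f) where
  pre t g ht hg := hg.comp ht.isClosedMap
  sq t g b s ht hs h hb := by
    have : g = (s ∘ b) ∘ (ht.homeomorph t).symm := by
      funext x
      have := congrFun h ((ht.homeomorph t).symm x)
      simp only [Function.comp_apply] at this ⊢
      rw [← this]
      congr 1
      exact ((ht.homeomorph t).apply_symm_apply x).symm
    rw [this]
    exact (hs.isClosedMap.comp hb).comp (ht.homeomorph t).symm.isClosedMap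

theorem topInv_open : TopInv (fun {A B} _ _ f => IsOpenMap f) where
  pre t g ht hg := hg.comp ht.isOpenMap
  sq t g b s ht hs h hb := by
    have : g = (s ∘ b) ∘ (ht.homeomorph t).symm := by
      funext x
      have := congrFun h ((ht.homeomorph t).symm x)
      simp only [Function.comp_apply] at this ⊢
      rw [← this]
      congr 1
      exact ((ht.homeomorph t).apply_symm_apply x).symm
    rw [this]
    exact (hs.isOpenMap.comp hb).comp (ht.homeomorph t).symm.isOpenMap

theorem topInv_inj : TopInv (fun {A B} _ _ f => Function.Injective f) where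
  pre t g ht hg := hg.comp ht.injective
  sq t g b s ht hs h hb := by
    have : g = (s ∘ b) ∘ (ht.homeomorph t).symm := by
      funext x
      have := congrFun h ((ht.homeomorph t).symm x)
      simp only [Function.comp_apply] at this ⊢
      rw [← this]
      congr 1
      exact ((ht.homeomorph t).apply_symm_apply x).symm
    rw [this]
    exact (hs.injective.comp hb).comp (ht.homeomorph t).symm.injective

theorem univSp_iff {Q : ∀ {A B : Type (u + 1)} [TopologicalSpace A] [TopologicalSpace B], (A → B) → Prop}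
    (hQ : TopInv @Q) {X X' Y Y' : Sp S} (hX : IsAlgSpace X) (hX' : IsAlgSpace X')
    (hY : IsAlgSpace Y) (hY' : IsAlgSpace Y') (i : X ⟶ X') (j : Y ⟶ Y') (f : X ⟶ Y) (f' : X' ⟶ Y')
    (hi : IsThickMor i) (hj : IsThickMor j) (w : i ≫ f' = f ≫ j) :
    UnivSp (fun _ _ g => Q (Points.map g)) f ↔ UnivSp (fun _ _ g => Q (Points.map g)) f' := by
  haveI : Mono j := Groth.Agent.Helper5.ProperImg.mono_of_closedImmersion _
    (closedImmersion_of_isThickMor j hj)
  constructor
  · intro h Z P' hZ z a' b' sq'
    have hP' : IsAlgSpace P' :=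
      Groth.Agent.Helper4.AlgSpPB.isAlgSpace_of_isPullback hY'.diag hX' hZ _ _ _ _ sq'
    obtain ⟨Z₀, P₀, z₀, s, a₀, b₀, t, hZ₀, sq0, ht, hs, hc⟩ :=
      lemmaB i j f f' hX hY hY' hi hj w hZ z a' b' sq' hP'
    have hb₀ : Q (Points.map b₀) := h hZ₀ z₀ a₀ b₀ sq0
    refine hQ.sq (Points.map t) (Points.map b') (Points.map b₀) (Points.map s) ht hs ?_ hb₀
    funext x
    simp only [Function.comp_apply]
    rw [← Points.map_comp, ← Points.map_comp, hc]
  · intro h Z P hZ z a b sq
    have hP : IsAlgSpace P :=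
      Groth.Agent.Helper4.AlgSpPB.isAlgSpace_of_isPullback hY.diag hX hZ _ _ _ _ sq
    obtain ⟨P', a', b', t, sq', ht, hc⟩ := lemmaA i j f f' hX hX' hY' hi w hZ z a b sq hP
    have hb' : Q (Points.map b') := h hZ (z ≫ j) a' b' sq'
    have : Points.map b = Points.map b' ∘ Points.map t := by
      funext x
      simp only [Function.comp_apply]
      rw [← Points.map_comp, hc]
    show Q (Points.map b)
    rw [this]
    exact hQ.pre _ _ ht hb'


theorem s10587 {X X' Y Y' : AlgSp.Space S} (i : X ⟶ X') (j : Y ⟶ Y')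
    (f : X ⟶ Y) (f' : X' ⟶ Y')
    (hi : AlgSp.IsThickMor i.hom) (hj : AlgSp.IsThickMor j.hom) (w : i ≫ f' = f ≫ j) :
    (AlgSp.IsSurjectiveMor f.hom ↔ AlgSp.IsSurjectiveMor f'.hom) ∧
    (AlgSp.IsQuasiCompactMor f.hom ↔ AlgSp.IsQuasiCompactMor f'.hom) ∧
    (AlgSp.IsUnivClosedMor f.hom ↔ AlgSp.IsUnivClosedMor f'.hom) ∧
    (AlgSp.IsUnivInjectiveMor f.hom ↔ AlgSp.IsUnivInjectiveMor f'.hom) ∧
    (AlgSp.IsUnivOpenMor f.hom ↔ AlgSp.IsUnivOpenMor f'.hom) := by
  have w' : i.hom ≫ f'.hom = f.hom ≫ j.hom := congrArg (fun k => k.hom) w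
  have hiC := closedImmersion_of_isThickMor i.hom hi
  have hjC := closedImmersion_of_isThickMor j.hom hj
  haveI : Mono j.hom := Groth.Agent.Helper5.ProperImg.mono_of_closedImmersion _ hjC
  have hisurj := Groth.Agent.Helper5.FlatBC.isSurjectiveMor_of_isThickMor i.hom hi
  have hjsurj := Groth.Agent.Helper5.FlatBC.isSurjectiveMor_of_isThickMor j.hom hj
  have hjinj := Groth.Agent.Helper5.ProperImg.points_injective_of_closedImmersion Y.property
    Y'.property j.hom hjC
  have hpt : ∀ x, Points.map f'.hom (Points.map i.hom x) = Points.map j.hom (Points.map f.hom x) := by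
    intro x
    rw [← Points.map_comp, ← Points.map_comp, w']
  refine ⟨⟨fun hf y' => ?_, fun hf' y => ?_⟩, ⟨fun hf => ?_, fun hf' => ?_⟩,
    univSp_iff topInv_closed X.property X'.property Y.property Y'.property i.hom j.hom f.hom f'.hom
      hi hj w',
    univSp_iff topInv_inj X.property X'.property Y.property Y'.property i.hom j.hom f.hom f'.hom
      hi hj w',
    univSp_iff topInv_open X.property X'.property Y.property Y'.property i.hom j.hom f.hom f'.hom
      hi hj w'⟩
  · obtain ⟨y, rfl⟩ := hjsurj y'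
    obtain ⟨x, rfl⟩ := hf y
    exact ⟨Points.map i.hom x, hpt x⟩
  · obtain ⟨x', hx'⟩ := hf' (Points.map j.hom y)
    obtain ⟨x, rfl⟩ := hisurj x'
    exact ⟨x, hjinj ((hpt x).symm.trans hx')⟩
  · have hjqc : IsQuasiCompactMor j.hom :=
      Groth.Agent.Helper4.AlgSpQC.isQuasiCompactMor_of_repWith _
        (repWith_qc_of_closedImmersion _ hjC)
    have h1 : IsQuasiCompactMor (f.hom ≫ j.hom) :=
      Groth.Agent.Helper4.AlgSpQC.isQuasiCompactMor_comp Y.property Y'.property.diag _ _ hf hjqc
    rw [← w'] at h1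
    exact Groth.Agent.Helper4.AlgSpSep.isQuasiCompactMor_of_surjective_triangle X'.property
      Y'.property.diag i.hom f'.hom hisurj h1
  · have hiqc : IsQuasiCompactMor i.hom :=
      Groth.Agent.Helper4.AlgSpQC.isQuasiCompactMor_of_repWith _
        (repWith_qc_of_closedImmersion _ hiC)
    have h1 : IsQuasiCompactMor (i.hom ≫ f'.hom) :=
      Groth.Agent.Helper4.AlgSpQC.isQuasiCompactMor_comp X'.property Y'.property.diag _ _ hiqc hf'
    rw [w'] at h1
    exact Groth.Agent.Helper4.AlgSpQC.isQuasiCompactMor_of_isPullback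
      (Groth.Agent.Helper4.AlgSpPB.isPullback_of_mono f.hom j.hom) h1

end Groth.Agent.Helper5.ThickTop
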