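import Mathlib
import Groth.Agent.Helper8.TildeBC

set_option autoImplicit false
set_option linter.style.haveILetI false
universe u

namespace Groth.Agent.Helper5.TildeProj

open CategoryTheory CategoryTheory.Limits AlgebraicGeometry Opposite TopologicalSpace

/-- projectivity is insensitive to a change of rings along a bijective ring homomorphism -/
theorem projective_of_bijective {R S N : Type*} [Ring R] [Ring S] [AddCommGroup N]
    (m₁ : Module R N) (m₂ : Module S N) (ρ : R →+* S) (hρ : Function.Bijective ρ)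
    (h : ∀ (r : R) (n : N), m₁.smul r n = m₂.smul (ρ r) n) :
    @Module.Projective R _ N _ m₁ ↔ @Module.Projective S _ N _ m₂ := by
  let e : R ≃+* S := RingEquiv.ofBijective ρ hρ
  letI := m₁
  letI := m₂
  haveI : RingHomInvPair (e : R →+* S) (e.symm : S →+* R) := RingHomInvPair.of_ringEquiv e
  haveI : RingHomInvPair (e.symm : S →+* R) (e : R →+* S) := RingHomInvPair.of_ringEquiv e.symm
  let e₂ : N ≃ₛₗ[(e : R →+* S)] N :=
    { toFun := id, invFun := id, left_inv := fun _ => rfl, right_inv := fun _ => rfl,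
      map_add' := fun _ _ => rfl,
      map_smul' := fun r n => h r n }
  constructor
  · intro hp
    exact Module.Projective.of_equiv e₂
  · intro hp
    exact Module.Projective.of_equiv e₂.symm

variable (A : CommRingCat.{u}) (M : ModuleCat.{u} A)

/-- the restriction map `A ⟶ Γ(Spec A, U)` -/
noncomputable def phi (U : (Spec A).Opens) : A ⟶ Γ(Spec A, U) :=
  (Scheme.ΓSpecIso A).inv ≫ (𝟙 (Spec A) : Spec A ⟶ Spec A).appLE ⊤ U (by simp)

theorem specMap_phi {U : (Spec A).Opens} (hU : IsAffineOpen U) :
    Spec.map (phi A U) = hU.fromSpec := by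
  have h := IsAffineOpen.SpecMap_appLE_fromSpec (𝟙 (Spec A)) (isAffineOpen_top (Spec A)) hU
    (by simp)
  rw [Category.comp_id, IsAffineOpen.fromSpec_top, Scheme.isoSpec_Spec_inv, ← Spec.map_comp] at h
  exact h

theorem image_top {U : (Spec A).Opens} (hU : IsAffineOpen U) :
    haveI : IsOpenImmersion (Spec.map (phi A U)) := by rw [specMap_phi A hU]; infer_instance
    Spec.map (phi A U) ''ᵁ ⊤ = U := by
  haveI : IsOpenImmersion (Spec.map (phi A U)) := by rw [specMap_phi A hU]; infer_instance
  rw [Scheme.Hom.image_top_eq_opensRange]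
  have h2 := specMap_phi A hU
  apply TopologicalSpace.Opens.ext
  have h3 : (Scheme.Hom.opensRange (Spec.map (phi A U)) : Set (Spec A)) =
      Set.range (Spec.map (phi A U)) := rfl
  rw [h3, h2, hU.range_fromSpec]

theorem t1 (hM : Module.Projective A M) : Projective M :=
  (IsProjective.iff_projective (R := A) (P := M)).1 hM

theorem t2 {B : CommRingCat.{u}} (φ : A ⟶ B) (hP1 : Projective M) :
    Projective ((ModuleCat.extendScalars.{u, u, u} φ.hom).obj M) :=
  (ModuleCat.extendRestrictScalarsAdj.{u, u, u} φ.hom).map_projective _ hP1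

noncomputable def eIso {B : CommRingCat.{u}} (φ : A ⟶ B) [IsOpenImmersion (Spec.map φ)] :
    (tilde M).restrict (Spec.map φ) ≅ tilde ((ModuleCat.extendScalars.{u, u, u} φ.hom).obj M) :=
  (Scheme.Modules.restrictFunctorIsoPullback (Spec.map φ)).app (tilde M) ≪≫
    (Groth.Agent.Helper8.TildeBC.tildePullbackIso φ).app M

noncomputable def eIso' {B : CommRingCat.{u}} (φ : A ⟶ B) [IsOpenImmersion (Spec.map φ)] :
    moduleSpecΓFunctor.obj ((tilde M).restrict (Spec.map φ)) ≅
      (ModuleCat.extendScalars.{u, u, u} φ.hom).obj M :=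
  moduleSpecΓFunctor.mapIso (eIso A M φ) ≪≫ (tilde.toTildeΓNatIso.app _).symm

theorem t3 {B : CommRingCat.{u}} (φ : A ⟶ B) [IsOpenImmersion (Spec.map φ)]
    (hM : Module.Projective A M) :
    Module.Projective B (moduleSpecΓFunctor.obj ((tilde M).restrict (Spec.map φ))) := by
  have hP3 : Projective (moduleSpecΓFunctor.obj ((tilde M).restrict (Spec.map φ))) :=
    Projective.of_iso (eIso' A M φ).symm (t2 A M φ (t1 A M hM))
  exact (IsProjective.iff_projective (R := B)
    (P := moduleSpecΓFunctor.obj ((tilde M).restrict (Spec.map φ)))).2 hP3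

noncomputable def rho {B : CommRingCat.{u}} (φ : A ⟶ B) [IsOpenImmersion (Spec.map φ)] :
    B ⟶ Γ(Spec A, Spec.map φ ''ᵁ ⊤) :=
  (Scheme.ΓSpecIso B).inv ≫ (Spec B).presheaf.map (⊤ : (Spec B).Opens).leTop.op ≫
    ((Spec.map φ).appIso ⊤).inv

instance {B : CommRingCat.{u}} (φ : A ⟶ B) [IsOpenImmersion (Spec.map φ)] : IsIso (rho A φ) := by
  unfold rho
  have h : (⊤ : (Spec B).Opens).leTop = 𝟙 _ := Subsingleton.elim _ _
  rw [h, op_id, CategoryTheory.Functor.map_id, Category.id_comp]
  infer_instance

theorem t4 {B : CommRingCat.{u}} (φ : A ⟶ B) [IsOpenImmersion (Spec.map φ)]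
    (hM : Module.Projective A M) :
    Module.Projective Γ(Spec A, Spec.map φ ''ᵁ ⊤) Γ(tilde M, Spec.map φ ''ᵁ ⊤) := by
  have h3 := t3 A M φ hM
  refine (Groth.Agent.Helper5.TildeProj.projective_of_bijective
    (moduleSpecΓFunctor.obj ((tilde M).restrict (Spec.map φ))).isModule
    (inferInstance : Module Γ(Spec A, Spec.map φ ''ᵁ ⊤) Γ(tilde M, Spec.map φ ''ᵁ ⊤))
    (rho A φ).hom (ConcreteCategory.bijective_of_isIso (rho A φ)) ?_).1 h3
  intro r n
  rfl

theorem projective_sections (hM : Module.Projective A M) {U : (Spec A).Opens}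
    (hU : IsAffineOpen U) :
    Module.Projective Γ(Spec A, U) Γ(tilde M, U) := by
  haveI hoi : IsOpenImmersion (Spec.map (phi A U)) := by rw [specMap_phi A hU]; infer_instance
  have h4 := t4 A M (phi A U) hM
  have key : ∀ W : (Spec A).Opens, W = U →
      Module.Projective Γ(Spec A, W) Γ(tilde M, W) →
        Module.Projective Γ(Spec A, U) Γ(tilde M, U) := by
    rintro W rfl h; exact h
  exact key _ (image_top A hU) h4

noncomputable def rhoTop : A ⟶ Γ(Spec A, ⊤) :=
  (Scheme.ΓSpecIso A).inv ≫ (Spec A).presheaf.map (⊤ : (Spec A).Opens).leTop.op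

instance : IsIso (rhoTop A) := by
  unfold rhoTop
  have h : (⊤ : (Spec A).Opens).leTop = 𝟙 _ := Subsingleton.elim _ _
  rw [h, op_id, CategoryTheory.Functor.map_id, Category.comp_id]
  infer_instance

theorem projective_of_sections_top
    (h : Module.Projective Γ(Spec A, ⊤) Γ(tilde M, ⊤)) : Module.Projective A M := by
  have h1 : Module.Projective A (moduleSpecΓFunctor.obj (tilde M)) := by
    refine (projective_of_bijective
      (moduleSpecΓFunctor.obj (tilde M)).isModule
      (inferInstance : Module Γ(Spec A, ⊤) Γ(tilde M, ⊤))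
      (rhoTop A).hom (ConcreteCategory.bijective_of_isIso (rhoTop A)) ?_).2 h
    intro r n
    rfl
  haveI h2 : Module.Projective A ((tilde.functor A ⋙ moduleSpecΓFunctor).obj M) := h1
  exact Module.Projective.of_equiv' (tilde.toTildeΓNatIso.app M).symm.toLinearEquiv

/-- S7392 -/
theorem s7392 :
    (∀ U : (Spec A).Opens, IsAffineOpen U →
      Module.Projective ((Spec A).ringCatSheaf.obj.obj (op U)) ((tilde M).val.obj (op U))) ↔
      Module.Projective A M := by
  constructor
  · intro h
    exact projective_of_sections_top A M (h ⊤ (isAffineOpen_top _))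
  · intro hM U hU
    exact projective_sections A M hM hU

end Groth.Agent.Helper5.TildeProj
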