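import Groth.Prelude.Def_AlgSp
import Groth.Agent.Lead.EtThick
import Groth.Agent.S0117
import Mathlib

set_option autoImplicit false
set_option linter.style.haveILetI false
set_option linter.unusedSectionVars false
set_option linter.unusedVariables false
universe u
open CategoryTheory CategoryTheory.Limits AlgebraicGeometry Opposite TopologicalSpace

namespace Groth.Agent.Helper5.TopInv

open AlgSp

variable {S S₀ : Scheme.{u}} (i : S₀ ⟶ S)

instance : (Over.pullback i).IsContinuous (J S) (J S₀) :=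
  inferInstanceAs ((Over.pullback i).IsContinuous (Scheme.fppfTopology.over S)
    (Scheme.fppfTopology.over S₀))

/-- the pushforward `i_* h_{X₀}` -/
noncomputable def pushF (X₀ : Over S₀) : Sp S :=
  ((Over.pullback i).sheafPushforwardContinuous (Type (u + 1)) (J S) (J S₀)).obj
    ((yon S₀).obj X₀)

theorem pushF_obj (X₀ : Over S₀) (T : Over S) :
    (pushF i X₀).obj.obj (op T) = ULift.{u + 1} ((Over.pullback i).obj T ⟶ X₀) := rfl

theorem pushF_map (X₀ : Over S₀) {T T' : Over S} (g : T' ⟶ T)
    (x : (pushF i X₀).obj.obj (op T)) :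
    (pushF i X₀).obj.map g.op x = ⟨(Over.pullback i).map g ≫ x.down⟩ := rfl

/-- sections of `i_* h_{X₀}` over `T` are `S₀`-morphisms `T ×_S S₀ ⟶ X₀` -/
noncomputable def secEquiv (X₀ : Over S₀) (T : Over S) :
    ((yon S).obj T ⟶ pushF i X₀) ≃ ((Over.pullback i).obj T ⟶ X₀) :=
  ((J S).uliftYonedaEquiv (X := T) (F := pushF i X₀)).trans Equiv.ulift

theorem secEquiv_comp (X₀ : Over S₀) {T T' : Over S} (g : T' ⟶ T)
    (s : (yon S).obj T ⟶ pushF i X₀) :
    secEquiv i X₀ T' ((yon S).map g ≫ s) = (Over.pullback i).map g ≫ secEquiv i X₀ T s := by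
  have := (J S).uliftYonedaEquiv_naturality (F := pushF i X₀) s g
  show ((J S).uliftYonedaEquiv ((yon S).map g ≫ s)).down = _
  rw [← this]
  rfl

theorem secEquiv_symm_comp (X₀ : Over S₀) {T T' : Over S} (g : T' ⟶ T)
    (σ : (Over.pullback i).obj T ⟶ X₀) :
    (yon S).map g ≫ (secEquiv i X₀ T).symm σ =
      (secEquiv i X₀ T').symm ((Over.pullback i).map g ≫ σ) := by
  apply (secEquiv i X₀ T').injective
  rw [secEquiv_comp, Equiv.apply_symm_apply, Equiv.apply_symm_apply]

end Groth.Agent.Helper5.TopInv
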