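import Groth.Agent.Helper5.TopInv1
import Groth.Agent.Helper4.AlgSpOpenImage
import Mathlib

set_option autoImplicit false
set_option linter.style.haveILetI false
set_option linter.unusedSectionVars false
set_option linter.unusedVariables false
universe u
open CategoryTheory CategoryTheory.Limits AlgebraicGeometry Opposite TopologicalSpace

namespace Groth.Agent.Helper5.TopInv

open AlgSp Groth.Agent.Helper4.AlgSpOpenImage Groth.Agent.Helper4.AlgSpBasic

theorem isPullback_of_mono_of_lift {C : Type*} [Category C] {A B D F : C} {fst : A ⟶ B}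
    {snd : A ⟶ D} {f : B ⟶ F} {g : D ⟶ F} [Mono f] [Mono snd] (w : fst ≫ f = snd ≫ g)
    (h : ∀ c : PullbackCone f g, ∃ l : c.pt ⟶ A, l ≫ snd = c.snd) : IsPullback fst snd f g := by
  choose l hl using h
  refine ⟨⟨w⟩, ⟨PullbackCone.IsLimit.mk w l ?_ hl ?_⟩⟩
  · intro c
    rw [← cancel_mono f, Category.assoc, w, ← Category.assoc, hl, c.condition]
  · intro c m _ h2
    rw [← cancel_mono snd, h2, hl]

variable {S S₀ : Scheme.{u}} (i : S₀ ⟶ S)

/-- the chart map attached to `w : U ×_S S₀ ⟶ X₀` -/
noncomputable def chart {X₀ : Over S₀} {U : Over S} (w : (Over.pullback i).obj U ⟶ X₀) :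
    (yon S).obj U ⟶ pushF i X₀ := (secEquiv i X₀ U).symm w

theorem yon_map_chart {X₀ : Over S₀} {U T : Over S} (w : (Over.pullback i).obj U ⟶ X₀)
    (a : T ⟶ U) :
    (yon S).map a ≫ chart i w = (secEquiv i X₀ T).symm ((Over.pullback i).map a ≫ w) :=
  secEquiv_symm_comp i X₀ a w

theorem secEquiv_yon_map_chart {X₀ : Over S₀} {U T : Over S} (w : (Over.pullback i).obj U ⟶ X₀)
    (a : T ⟶ U) :
    secEquiv i X₀ T ((yon S).map a ≫ chart i w) = (Over.pullback i).map a ≫ w := by
  rw [yon_map_chart, Equiv.apply_symm_apply]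

variable [IsClosedImmersion i] [Surjective i]

theorem mono_chart {X₀ : Over S₀} {U : Over S} [Etale U.hom] (w : (Over.pullback i).obj U ⟶ X₀)
    [Mono w] : Mono (chart i w) := by
  apply mono_of_yon
  intro T a b hab
  obtain ⟨a, rfl⟩ := (yon S).map_surjective a
  obtain ⟨b, rfl⟩ := (yon S).map_surjective b
  have h1 := congrArg (secEquiv i X₀ T) hab
  rw [secEquiv_yon_map_chart, secEquiv_yon_map_chart, cancel_mono] at h1
  rw [(Groth.Agent.S0117.aux i U T).1 h1]

theorem fst_surjective (T : Over S) : Function.Surjective (pullback.fst T.hom i) := by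
  have : Surjective (pullback.fst T.hom i) := inferInstance
  exact this.surj

theorem fst_injective (T : Over S) : Function.Injective (pullback.fst T.hom i) :=
  (pullback.fst T.hom i).isClosedEmbedding.injective

theorem fst_isOpenMap (T : Over S) : IsOpenMap (pullback.fst T.hom i) := by
  have h : IsHomeomorph (pullback.fst T.hom i) := by
    rw [isHomeomorph_iff_isEmbedding_surjective]
    exact ⟨(pullback.fst T.hom i).isClosedEmbedding.isEmbedding, fst_surjective i T⟩
  exact h.isOpenMap

theorem pb_map_left_fst {T T' : Over S} (g : T' ⟶ T) :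
    ((Over.pullback i).map g).left ≫ pullback.fst T.hom i = pullback.fst T'.hom i ≫ g.left :=
  pullback.lift_fst _ _ _

end Groth.Agent.Helper5.TopInv
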