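import Groth.Agent.Helper5.TopInv2
import Mathlib

set_option autoImplicit false
set_option linter.style.haveILetI false
set_option linter.unusedSectionVars false
set_option linter.unusedVariables false
universe u
open CategoryTheory CategoryTheory.Limits AlgebraicGeometry Opposite TopologicalSpace

namespace Groth.Agent.Helper5.TopInv

open AlgSp Groth.Agent.Helper4.AlgSpOpenImage Groth.Agent.Helper4.AlgSpBasic

variable {S S₀ : Scheme.{u}} (i : S₀ ⟶ S) [IsClosedImmersion i] [Surjective i]

set_option backward.isDefEq.respectTransparency.types false in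
/-- the chart map of an open immersion `w : U ×_S S₀ ⟶ X₀` with `U` etale over `S` is
representable by open immersions -/
theorem exists_isPullback_chart {X₀ : Over S₀} {U : Over S} [Etale U.hom]
    (w : (Over.pullback i).obj U ⟶ X₀) [IsOpenImmersion w.left] {T : Over S}
    (s : (yon S).obj T ⟶ pushF i X₀) :
    ∃ (V : T.left.Opens) (a : Over.mk (V.ι ≫ T.hom) ⟶ U),
      IsPullback ((yon S).map a)
        ((yon S).map (Over.homMk V.ι rfl : Over.mk (V.ι ≫ T.hom) ⟶ T)) (chart i w) s ∧
      ∀ t₀ : ↥((Over.pullback i).obj T).left,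
        (pullback.fst T.hom i) t₀ ∈ V ↔ (secEquiv i X₀ T s).left t₀ ∈ Set.range w.left := by
  have hwmono : Mono w := by
    have : Mono ((Over.forget S₀).map w) := by
      show Mono w.left
      infer_instance
    exact (Over.forget S₀).mono_of_mono_map this
  haveI := mono_chart i w
  set σ := secEquiv i X₀ T s with hσ
  have hs : s = (secEquiv i X₀ T).symm σ := by rw [hσ, Equiv.symm_apply_apply]
  let jT := pullback.fst T.hom i
  let V₀ : Set ↥((Over.pullback i).obj T).left := σ.left ⁻¹' Set.range w.left
  have hV₀ : IsOpen V₀ := w.left.isOpenEmbedding.isOpen_range.preimage σ.left.continuous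
  let V : T.left.Opens := ⟨jT '' V₀, fst_isOpenMap i T _ hV₀⟩
  have hV : ∀ t₀ : ↥((Over.pullback i).obj T).left, jT t₀ ∈ V ↔ σ.left t₀ ∈ Set.range w.left := by
    intro t₀
    constructor
    · rintro ⟨t₁, ht₁, h⟩
      rw [← fst_injective i T h]
      exact ht₁
    · intro h
      exact ⟨t₀, h, rfl⟩
  let VT : Over S := Over.mk (V.ι ≫ T.hom)
  let ιV : VT ⟶ T := Over.homMk V.ι rfl
  have hmonoι : Mono ιV := by
    have : Mono ((Over.forget S).map ιV) := by
      show Mono V.ι
      infer_instance
    exact (Over.forget S).mono_of_mono_map this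
  haveI : Mono ((yon S).map ιV) := mono_yon_map ιV
  -- the lift to `U ×_S S₀`
  have hrange : Set.range ((Over.pullback i).map ιV ≫ σ).left ⊆ Set.range w.left := by
    rintro _ ⟨p, rfl⟩
    show σ.left (((Over.pullback i).map ιV).left p) ∈ _
    rw [← hV]
    show (((Over.pullback i).map ιV).left ≫ pullback.fst T.hom i) p ∈ V
    rw [pb_map_left_fst]
    exact ((pullback.fst VT.hom i) p).2
  let bl := IsOpenImmersion.lift w.left ((Over.pullback i).map ιV ≫ σ).left hrange
  have hbl : bl ≫ w.left = ((Over.pullback i).map ιV ≫ σ).left := IsOpenImmersion.lift_fac _ _ _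
  let b : (Over.pullback i).obj VT ⟶ (Over.pullback i).obj U := Over.homMk bl (by
    rw [← Over.w w, ← Category.assoc, hbl]
    exact Over.w _)
  have hb : b ≫ w = (Over.pullback i).map ιV ≫ σ := by
    ext
    exact hbl
  obtain ⟨a, ha⟩ := (Groth.Agent.S0117.aux i U VT).2 b
  have ha : (Over.pullback i).map a = b := ha
  have hcomm : (yon S).map a ≫ chart i w = (yon S).map ιV ≫ s := by
    rw [yon_map_chart, ha, hb, hs, secEquiv_symm_comp]
  refine ⟨V, a, ?_, hV⟩
  refine isPullback_of_mono_of_lift hcomm (fun c => ?_)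
  refine exists_lift_of_mono ((yon S).map ιV) c.snd (fun T' s' => ?_)
  obtain ⟨τ, hτ⟩ := (yon S).map_surjective (s' ≫ c.snd)
  obtain ⟨α, hα⟩ := (yon S).map_surjective (s' ≫ c.fst)
  have hcond : (yon S).map α ≫ chart i w = (yon S).map τ ≫ s := by
    rw [hα, hτ, Category.assoc, Category.assoc, c.condition]
  have h1 := congrArg (secEquiv i X₀ T') hcond
  rw [secEquiv_yon_map_chart, secEquiv_comp] at h1
  have hmem : ∀ t' : T'.left, τ.left t' ∈ V := by
    intro t'
    obtain ⟨p, rfl⟩ := fst_surjective i T' t'
    have e1 : τ.left ((pullback.fst T'.hom i) p) = jT (((Over.pullback i).map τ).left p) := by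
      show _ = (pullback.fst T.hom i) (((Over.pullback i).map τ).left p)
      rw [← Scheme.Hom.comp_apply, ← Scheme.Hom.comp_apply, pb_map_left_fst]
    rw [e1, hV]
    have e2 : σ.left (((Over.pullback i).map τ).left p) = w.left (((Over.pullback i).map α).left p) := by
      rw [← Scheme.Hom.comp_apply, ← Scheme.Hom.comp_apply]
      have : ((Over.pullback i).map τ).left ≫ σ.left = ((Over.pullback i).map α).left ≫ w.left :=
        (congrArg (fun f => (f.left : _ ⟶ _)) h1).symm
      rw [this]
    rw [e2]
    exact ⟨_, rfl⟩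
  obtain ⟨l, hl⟩ := exists_factor_opens V τ hmem
  exact ⟨(yon S).map l, by rw [← Functor.map_comp, hl, hτ]⟩

end Groth.Agent.Helper5.TopInv
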