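import Groth.Agent.Helper5.TopInv3
import Groth.Agent.Helper5.ZarGlue12
import Mathlib

set_option autoImplicit false
set_option linter.style.haveILetI false
set_option linter.unusedSectionVars false
set_option linter.unusedVariables false
universe u
open CategoryTheory CategoryTheory.Limits AlgebraicGeometry Opposite TopologicalSpace

namespace Groth.Agent.Helper5.TopInv

open AlgSp Groth.Agent.Helper4.AlgSpOpenImage Groth.Agent.Helper4.AlgSpBasic

variable {S S₀ : Scheme.{u}} (i : S₀ ⟶ S) [IsClosedImmersion i] [Surjective i]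

theorem repWith_chart {X₀ : Over S₀} {U : Over S} [Etale U.hom]
    (w : (Over.pullback i).obj U ⟶ X₀) [IsOpenImmersion w.left] :
    RepWith @IsOpenImmersion (chart i w) := by
  apply Groth.Agent.Helper5.ZarGlue.repWith_of_exists
  intro T g
  obtain ⟨V, a, sq, -⟩ := exists_isPullback_chart i w g
  exact ⟨_, _, (yon S).map a, sq, (show IsOpenImmersion V.ι from inferInstance)⟩

set_option backward.isDefEq.respectTransparency.types false in
theorem hsurj_charts {X₀ : Over S₀} {ι : Type u} (U : ι → Over S) [∀ k, Etale (U k).hom]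
    (w : ∀ k, (Over.pullback i).obj (U k) ⟶ X₀) [∀ k, IsOpenImmersion (w k).left]
    (hcov : ∀ x : X₀.left, ∃ k, x ∈ Set.range (w k).left)
    (T : Over S) (s : (yon S).obj T ⟶ pushF i X₀) :
    ∃ R ∈ J S T, ∀ ⦃V : Over S⦄ (γ : V ⟶ T), R γ →
      ∃ (k : ι) (a : V ⟶ U k), (yon S).map γ ≫ s = (yon S).map a ≫ chart i (w k) := by
  choose V a sq hV using fun k => exists_isPullback_chart i (w k) s
  let T' : ι → Over S := fun k => Over.mk ((V k).ι ≫ T.hom)
  let t : ∀ k, T' k ⟶ T := fun k => Over.homMk (V k).ι rfl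
  refine ⟨Sieve.ofArrows T' t, Groth.Agent.Helper5.ZarGlue.ofArrows_mem_of_openCover T' t
    (fun k => (show IsOpenImmersion (V k).ι from inferInstance)) (fun x => ?_), ?_⟩
  · obtain ⟨t₀, rfl⟩ := fst_surjective i T x
    obtain ⟨k, hk⟩ := hcov ((secEquiv i X₀ T s).left t₀)
    refine ⟨k, ?_⟩
    show _ ∈ Set.range (V k).ι
    rw [Scheme.Opens.range_ι]
    exact (hV k t₀).2 hk
  · rintro V' γ ⟨Z, b, _, ⟨k⟩, fac⟩
    refine ⟨k, b ≫ a k, ?_⟩
    rw [← fac, Functor.map_comp, Category.assoc, ← (sq k).w, Functor.map_comp, Category.assoc]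

end Groth.Agent.Helper5.TopInv
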