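import Groth.Prelude.Def_EtBase
import Groth.Agent.Helper5.TopInv6
import Mathlib

set_option autoImplicit false
set_option linter.style.haveILetI false
set_option linter.unusedSectionVars false
set_option linter.unusedVariables false
universe u
open CategoryTheory CategoryTheory.Limits AlgebraicGeometry Opposite TopologicalSpace

namespace Groth.Agent.Helper5.TopInv

variable {S S₀ : Scheme.{u}} (i : S₀ ⟶ S) [IsClosedImmersion i] [Surjective i]

set_option backward.isDefEq.respectTransparency.types false in
theorem faithful_forget_pullback : (Scheme.Etale.forget S ⋙ Over.pullback i).Faithful :=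
  ⟨fun {V V'} a b h => by
    haveI : Etale ((Scheme.Etale.forget S).obj V').hom := V'.prop
    have := (Groth.Agent.S0117.aux i ((Scheme.Etale.forget S).obj V')
      ((Scheme.Etale.forget S).obj V)).1 h
    exact (Scheme.Etale.forget S).map_injective this⟩

set_option backward.isDefEq.respectTransparency.types false in
theorem full_forget_pullback : (Scheme.Etale.forget S ⋙ Over.pullback i).Full :=
  ⟨fun {V V'} φ₀ => by
    haveI : Etale ((Scheme.Etale.forget S).obj V').hom := V'.prop
    obtain ⟨φ, hφ⟩ := (Groth.Agent.S0117.aux i ((Scheme.Etale.forget S).obj V')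
      ((Scheme.Etale.forget S).obj V)).2 φ₀
    obtain ⟨ψ, rfl⟩ := (Scheme.Etale.forget S).map_surjective φ
    exact ⟨ψ, hφ⟩⟩

set_option backward.isDefEq.respectTransparency.types false in
theorem bc_isEquivalence : (EtCoh.bc i).IsEquivalence := by
  let e : EtCoh.bc i ⋙ Scheme.Etale.forget S₀ ≅ Scheme.Etale.forget S ⋙ Over.pullback i :=
    MorphismProperty.Over.pullbackCompForgetIso (P := EtCoh.etaleMP) (Q := ⊤) i
  haveI := faithful_forget_pullback i
  haveI := full_forget_pullback i
  haveI : (EtCoh.bc i ⋙ Scheme.Etale.forget S₀).Faithful := Functor.Faithful.of_iso e.symm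
  haveI : (EtCoh.bc i ⋙ Scheme.Etale.forget S₀).Full := Functor.Full.of_iso e.symm
  haveI : (EtCoh.bc i).Faithful := Functor.Faithful.of_comp (EtCoh.bc i) (Scheme.Etale.forget S₀)
  haveI : (EtCoh.bc i).Full := Functor.Full.of_comp_faithful (EtCoh.bc i) (Scheme.Etale.forget S₀)
  haveI : (EtCoh.bc i).EssSurj := ⟨fun X₀ => by
    haveI : Etale ((Scheme.Etale.forget S₀).obj X₀).hom := X₀.prop
    obtain ⟨W, hW, ⟨ι⟩⟩ := exists_etale_lift i (X₀ := (Scheme.Etale.forget S₀).obj X₀)
    haveI := hW
    let W' : S.Etale := Scheme.Etale.mk W.hom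
    let ι' : (Scheme.Etale.forget S₀).obj ((EtCoh.bc i).obj W') ≅
        (Scheme.Etale.forget S₀).obj X₀ := e.app W' ≪≫ ι
    exact ⟨W', ⟨(Scheme.Etale.forgetFullyFaithful S₀).preimageIso ι'⟩⟩⟩
  exact {}

end Groth.Agent.Helper5.TopInv
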