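import Mathlib

set_option autoImplicit false
open LinearMap

namespace Groth.Agent.Helper5.TraceAdd

section prod
variable (R : Type*) [CommRing R] {M N : Type*} [AddCommGroup M] [Module R M] [AddCommGroup N] [Module R N]
  [Module.Free R M] [Module.Finite R M] [Module.Free R N] [Module.Finite R N]

/-- the trace of an endomorphism of a product is the sum of the traces of the diagonal blocks -/
theorem trace_prod_eq (g : (M × N) →ₗ[R] (M × N)) :
    trace R (M × N) g =
      trace R M (fst R M N ∘ₗ g ∘ₗ inl R M N) + trace R N (snd R M N ∘ₗ g ∘ₗ inr R M N) := by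
  have hid : (LinearMap.id : (M × N) →ₗ[R] (M × N)) = inl R M N ∘ₗ fst R M N + inr R M N ∘ₗ snd R M N := by
    ext <;> simp
  have h1 : g = (inl R M N ∘ₗ fst R M N) ∘ₗ g + (inr R M N ∘ₗ snd R M N) ∘ₗ g := by
    rw [← LinearMap.add_comp, ← hid, LinearMap.id_comp]
  calc trace R (M × N) g
      = trace R (M × N) ((inl R M N ∘ₗ fst R M N) ∘ₗ g) + trace R (M × N) ((inr R M N ∘ₗ snd R M N) ∘ₗ g) := by
        rw [← map_add, ← h1]
    _ = trace R (M × N) (inl R M N ∘ₗ (fst R M N ∘ₗ g)) + trace R (M × N) (inr R M N ∘ₗ (snd R M N ∘ₗ g)) := by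
        rw [LinearMap.comp_assoc, LinearMap.comp_assoc]
    _ = trace R M ((fst R M N ∘ₗ g) ∘ₗ inl R M N) + trace R N ((snd R M N ∘ₗ g) ∘ₗ inr R M N) := by
        rw [trace_comp_comm' (f := fst R M N ∘ₗ g) (g := inl R M N),
          trace_comp_comm' (f := snd R M N ∘ₗ g) (g := inr R M N)]
    _ = _ := by rw [LinearMap.comp_assoc, LinearMap.comp_assoc]

end prod

section field
variable {k V : Type*} [Field k] [AddCommGroup V] [Module k V] [FiniteDimensional k V]

/-- additivity of the trace along an invariant subspace -/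
theorem trace_eq_restrict_add_mapQ (f : V →ₗ[k] V) (W : Submodule k V) (hW : W ≤ W.comap f) :
    trace k V f = trace k W (f.restrict hW) + trace k (V ⧸ W) (W.mapQ W f hW) := by
  obtain ⟨W', hc⟩ := W.exists_isCompl
  let e : (W × W') ≃ₗ[k] V := Submodule.prodEquivOfIsCompl W W' hc
  have h1 : trace k V f = trace k (W × W') (e.symm.conj f) := (trace_conj' f e.symm).symm
  rw [h1, trace_prod_eq]
  congr 1
  · congr 1
    ext w
    simp only [LinearEquiv.conj_apply, LinearEquiv.symm_symm, coe_comp, LinearEquiv.coe_coe,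
      Function.comp_apply, coe_inl, fst_apply, coe_restrict_apply]
    have : e (w, 0) = (w : V) := by simp [e]
    rw [this]
    have h2 : f w ∈ W := hW w.2
    have : e.symm (f w) = (⟨f w, h2⟩, 0) := by
      rw [LinearEquiv.symm_apply_eq]; simp [e]
    rw [this]
  · -- the second block is conjugate to the map on the quotient
    let q : (V ⧸ W) ≃ₗ[k] W' := Submodule.quotientEquivOfIsCompl W W' hc
    rw [← trace_conj' (W.mapQ W f hW) q]
    congr 1
    ext w'
    simp only [LinearEquiv.conj_apply, LinearEquiv.symm_symm, coe_comp, LinearEquiv.coe_coe,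
      Function.comp_apply, coe_inr, snd_apply]
    have h3 : e (0, w') = (w' : V) := by simp [e]
    rw [h3]
    simp [e, q, Submodule.mapQ_apply]

end field

end Groth.Agent.Helper5.TraceAdd
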