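import Groth.Agent.Helper5.TraceLen

set_option autoImplicit false
universe u
open LinearMap IsLocalRing Module

namespace Groth.Agent.Helper5.TraceAdd

theorem algebra_trace_eq_length_smul (k : Type*) [Field k] (C : Type*) [CommRing C] [Algebra k C]
    [IsLocalRing C] [Module.Finite k C] (c : C) :
    Algebra.trace k C c =
      (Module.length C C).toNat • Algebra.trace k (ResidueField C) (residue C c) := by
  rw [← trace_lsmul_eq_length_smul k c, Algebra.trace_apply]
  rfl

theorem s11566 (k : Type u) [Field k] (C : Type u) [CommRing C] [Algebra k C]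
    [IsLocalRing C] [Module.Finite k C] :
    Function.Surjective (Algebra.trace k C) ↔
      (Algebra.IsSeparable k (IsLocalRing.ResidueField C) ∧ ((Module.length C C).toNat : k) ≠ 0) := by
  have hfin : FiniteDimensional k (ResidueField C) :=
    Module.Finite.of_surjective (IsScalarTower.toAlgHom k C (ResidueField C)).toLinearMap
      residue_surjective
  constructor
  · intro h
    obtain ⟨c, hc⟩ := h 1
    rw [algebra_trace_eq_length_smul, nsmul_eq_mul] at hc
    constructor
    · by_contra hsep
      rw [Algebra.trace_eq_zero_of_not_isSeparable hsep] at hc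
      simp at hc
    · intro h0
      rw [h0, zero_mul] at hc
      exact zero_ne_one hc
  · rintro ⟨hsep, hn⟩
    have hne := Algebra.trace_ne_zero k (ResidueField C)
    obtain ⟨y, hy⟩ : ∃ y, Algebra.trace k (ResidueField C) y ≠ 0 := by
      by_contra hall
      push Not at hall
      exact hne (LinearMap.ext hall)
    obtain ⟨c, rfl⟩ := residue_surjective y
    have hc : Algebra.trace k C c ≠ 0 := by
      rw [algebra_trace_eq_length_smul, nsmul_eq_mul]
      exact mul_ne_zero hn hy
    intro a
    refine ⟨(a / Algebra.trace k C c) • c, ?_⟩
    rw [map_smul, smul_eq_mul, div_mul_cancel₀ _ hc]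

end Groth.Agent.Helper5.TraceAdd
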