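import Mathlib

set_option autoImplicit false
universe u
open LinearMap Module

namespace Groth.Agent.Helper5.TracePi

theorem trace_pi_apply {k : Type*} [CommRing k] {ι : Type*} [Fintype ι]
    (C : ι → Type*) [∀ i, CommRing (C i)] [∀ i, Algebra k (C i)] [∀ i, Module.Free k (C i)]
    [∀ i, Module.Finite k (C i)] (x : ∀ i, C i) :
    Algebra.trace k (∀ i, C i) x = ∑ i, Algebra.trace k (C i) (x i) := by
  classical
  let b : ∀ i, Basis (Module.Free.ChooseBasisIndex k (C i)) k (C i) :=
    fun i => Module.Free.chooseBasis k (C i)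
  rw [Algebra.trace_eq_matrix_trace (Pi.basis b)]
  simp_rw [fun i => Algebra.trace_eq_matrix_trace (b i) (x i)]
  rw [Matrix.trace, Fintype.sum_sigma]
  refine Finset.sum_congr rfl fun i _ => ?_
  rw [Matrix.trace]
  refine Finset.sum_congr rfl fun j _ => ?_
  simp only [Matrix.diag_apply, Algebra.leftMulMatrix_eq_repr_mul, Pi.basis_repr, Pi.basis_apply,
    Pi.mul_apply, Pi.single_eq_same]

end Groth.Agent.Helper5.TracePi
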