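import Groth.Agent.Helper5.PrimePow
import Groth.Agent.Helper5.TracePi

set_option autoImplicit false
universe u
open LinearMap IsLocalRing Module
attribute [local instance] FractionRing.liftAlgebra
attribute [local instance] Ideal.Quotient.field

namespace Groth.Agent.Helper5.TraceRam

theorem s11081 (A B : Type u) [CommRing A] [CommRing B]
    [IsDedekindDomain A] [IsDedekindDomain B] [Algebra A B] [Module.Finite A B]
    [Module.IsTorsionFree A B]
    [Algebra.IsSeparable (FractionRing A) (FractionRing B)]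
    (p : Ideal A) [p.IsMaximal] (hp : p ≠ ⊥) (y : B) :
    Ideal.Quotient.mk p (Algebra.intTrace A B y) =
      ∑ᶠ Q : p.primesOver B,
        Q.1.ramificationIdx A •
          Algebra.trace (A ⧸ p) (B ⧸ Q.1) (Ideal.Quotient.mk Q.1 y) := by
  rw [← Algebra.trace_quotient_eq_of_isDedekindDomain (R := A) (S := B) (p := p) y]
  rw [finsum_eq_sum_of_fintype]
  have hprime : ∀ i : p.primesOver B, Prime i.1 := fun i =>
    Ideal.prime_of_isPrime (Ideal.ne_bot_of_mem_primesOver hp i.2) i.2.1
  have hprod : ∏ i : p.primesOver B, i.1 ^ i.1.ramificationIdx A = p.map (algebraMap A B) := by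
    rw [Ideal.map_algebraMap_eq_finsetProd_pow hp]
    exact Finset.prod_set_coe (p.primesOver B) (f := fun P => P ^ P.ramificationIdx A)
  let φ := IsDedekindDomain.quotientEquivPiOfProdEq (p.map (algebraMap A B))
    (fun i : p.primesOver B => i.1) (fun i => i.1.ramificationIdx A) hprime
    (fun i j hij => Subtype.coe_injective.ne hij) hprod
  have hne : ∀ i : p.primesOver B, i.1.ramificationIdx A ≠ 0 := fun i => by
    haveI := i.2.1
    exact (Ideal.ramificationIdx_pos i.1 A).ne'
  have hle : ∀ i : p.primesOver B,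
      p ≤ Ideal.comap (algebraMap A B) (i.1 ^ i.1.ramificationIdx A) := fun i => by
    rw [← Ideal.map_le_iff_le_comap, ← hprod]
    exact Ideal.le_of_dvd (Finset.dvd_prod_of_mem _ (Finset.mem_univ i))
  letI alg : ∀ i : p.primesOver B, Algebra (A ⧸ p) (B ⧸ i.1 ^ i.1.ramificationIdx A) :=
    fun i => Ideal.Quotient.algebraQuotientOfLEComap (hle i)
  let φa : (B ⧸ p.map (algebraMap A B)) ≃ₐ[A ⧸ p]
      (∀ i : p.primesOver B, B ⧸ i.1 ^ i.1.ramificationIdx A) :=
    AlgEquiv.ofRingEquiv (f := φ) (by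
      intro a
      obtain ⟨a, rfl⟩ := Ideal.Quotient.mk_surjective a
      rfl)
  haveI : ∀ i : p.primesOver B, IsScalarTower A (A ⧸ p) (B ⧸ i.1 ^ i.1.ramificationIdx A) :=
    fun i => IsScalarTower.of_algebraMap_eq' rfl
  haveI : ∀ i : p.primesOver B, Module.Finite (A ⧸ p) (B ⧸ i.1 ^ i.1.ramificationIdx A) :=
    fun i => Module.Finite.of_restrictScalars_finite A _ _
  rw [← Algebra.trace_eq_of_algEquiv φa, TracePi.trace_pi_apply]
  refine Finset.sum_congr rfl fun i _ => ?_
  haveI : i.1.IsMaximal := i.2.1.isMaximal (Ideal.ne_bot_of_mem_primesOver hp i.2)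
  exact PrimePow.trace_quot_pow i.1 _ (Ideal.ne_bot_of_mem_primesOver hp i.2) (hne i)
    (fun a => by
      obtain ⟨a, rfl⟩ := Ideal.Quotient.mk_surjective a
      rfl) y

end Groth.Agent.Helper5.TraceRam
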