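import Groth.Agent.Helper5.DimFormula9

set_option autoImplicit false
universe u

namespace Groth.Agent.Helper5.UCat

open Order

/-- Universal catenarity passes along surjective ring homomorphisms (quotients, isomorphisms). -/
theorem isUniversallyCatenary_of_surjective {A A' : Type u} [CommRing A] [CommRing A']
    (φ : A →+* A') (hφ : Function.Surjective φ) (hA : CAlg.IsUniversallyCatenary A) :
    CAlg.IsUniversallyCatenary A' := by
  have hN : IsNoetherianRing A := hA.1
  refine ⟨isNoetherianRing_of_surjective A A' φ hφ, ?_⟩
  intro C _ _ hft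
  let _ : Algebra A A' := φ.toAlgebra
  let _ : Algebra A C := ((algebraMap A' C).comp φ).toAlgebra
  have : IsScalarTower A A' C := IsScalarTower.of_algebraMap_eq (fun _ => rfl)
  have h1 : Algebra.FiniteType A A' := Algebra.FiniteType.of_surjective (Algebra.ofId A A') hφ
  have h2 : Algebra.FiniteType A C := Algebra.FiniteType.trans h1 hft
  exact hA.2 C h2

/-- A Noetherian ring whose localisations at maximal ideals are universally catenary is
universally catenary. -/
theorem isUniversallyCatenary_of_localization_maximal (A : Type u) [CommRing A]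
    [IsNoetherianRing A]
    (h : ∀ (m : Ideal A) [m.IsMaximal], CAlg.IsUniversallyCatenary (Localization.AtPrime m)) :
    CAlg.IsUniversallyCatenary A := by
  refine ⟨inferInstance, ?_⟩
  intro C _ _ hft
  have hNC : IsNoetherianRing C := Algebra.FiniteType.isNoetherianRing A C
  constructor
  · intro p q _
    obtain ⟨n, hn⟩ := ENat.ne_top_iff_exists.1
      ((PrimeSpectrum.height_eq_orderHeight q) ▸ Ideal.height_ne_top_of_isPrime (I := q.asIdeal))
    refine ⟨n, fun s _ hs => ?_⟩
    have h1 : (s.length : ℕ∞) ≤ height s.last := length_le_height_last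
    rw [hs, ← hn] at h1
    exact_mod_cast h1
  · intro s t hhead hlast hs ht
    let P1 := s.last
    have hP1 : (P1.asIdeal.under A) ≠ ⊤ := Ideal.IsPrime.ne_top inferInstance
    obtain ⟨m, hm, hle⟩ := Ideal.exists_le_maximal _ hP1
    let M : Submonoid C := Algebra.algebraMapSubmonoid C m.primeCompl
    let CM := Localization M
    have hdisj : ∀ x : PrimeSpectrum C, x ≤ P1 → Disjoint (M : Set C) x.asIdeal := by
      intro x hx
      rw [Set.disjoint_left]
      rintro _ ⟨a, ha, rfl⟩ hmem
      exact ha (hle (hx hmem))
    let e := IsLocalization.primeSpectrumOrderIso M CM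
    have hsle : ∀ i, s i ≤ P1 := fun i => s.strictMono.monotone (Fin.le_last i)
    have htle : ∀ i, t i ≤ P1 := fun i => by
      have : t i ≤ t.last := t.strictMono.monotone (Fin.le_last i)
      rw [← hlast] at this
      exact this
    let s' : LTSeries (PrimeSpectrum CM) := LTSeries.mk s.length
      (fun i => e.symm ⟨s i, hdisj _ (hsle i)⟩) (by
        intro i j hij
        rw [e.symm.lt_iff_lt]
        exact s.strictMono hij)
    let t' : LTSeries (PrimeSpectrum CM) := LTSeries.mk t.length
      (fun i => e.symm ⟨t i, hdisj _ (htle i)⟩) (by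
        intro i j hij
        rw [e.symm.lt_iff_lt]
        exact t.strictMono hij)
    have hcov : ∀ (a b : {p : PrimeSpectrum C // Disjoint (M : Set C) p.asIdeal}),
        a.1 ⋖ b.1 → e.symm a ⋖ e.symm b := by
      intro a b hab
      refine ⟨e.symm.lt_iff_lt.2 hab.1, ?_⟩
      intro z hz1 hz2
      have h1 : a < e z := by
        rw [← e.symm.lt_iff_lt, e.symm_apply_apply]; exact hz1
      have h2 : e z < b := by
        rw [← e.symm.lt_iff_lt, e.symm_apply_apply]; exact hz2
      exact hab.2 h1 h2
    have hftM : Algebra.FiniteType (Localization.AtPrime m) CM := by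
      have : IsLocalization (m.primeCompl.map (algebraMap A C)) CM :=
        inferInstanceAs (IsLocalization M (Localization M))
      have h0 := RingHom.finiteType_localizationPreserves (algebraMap A C) m.primeCompl
        (Localization.AtPrime m) CM (RingHom.finiteType_algebraMap.2 hft)
      exact RingHom.finiteType_algebraMap.1 h0
    have hcat : CAlg.IsCatenary CM := (h m).2 CM hftM
    have := hcat.2 s' t' (by
        show e.symm ⟨s 0, _⟩ = e.symm ⟨t 0, _⟩
        congr 2) (by
        show e.symm ⟨s (Fin.last _), _⟩ = e.symm ⟨t (Fin.last _), _⟩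
        congr 2)
      (fun i => hcov _ _ (hs i)) (fun i => hcov _ _ (ht i))
    exact this

end Groth.Agent.Helper5.UCat
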