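import Groth.Agent.Helper5.UCat1

set_option autoImplicit false
universe u
open AlgebraicGeometry CategoryTheory TopologicalSpace

namespace Groth.Agent.Helper5.UCat

/-- The ring of sections over an affine open of a locally Noetherian scheme with universally
catenary local rings is universally catenary. -/
theorem isUniversallyCatenary_of_isAffineOpen {S : Scheme.{u}} [IsLocallyNoetherian S]
    (h : ∀ s : S, CAlg.IsUniversallyCatenary (S.presheaf.stalk s)) (U : S.Opens)
    (hU : IsAffineOpen U) : CAlg.IsUniversallyCatenary Γ(S, U) := by
  have hN : IsNoetherianRing Γ(S, U) := IsLocallyNoetherian.component_noetherian ⟨U, hU⟩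
  apply isUniversallyCatenary_of_localization_maximal
  intro m hm
  let y : PrimeSpectrum Γ(S, U) := ⟨m, hm.isPrime⟩
  have hs : hU.fromSpec y ∈ U := by
    have : hU.fromSpec y ∈ Set.range hU.fromSpec := Set.mem_range_self _
    rw [hU.range_fromSpec] at this
    exact this
  let _ : Algebra Γ(S, U) (S.presheaf.stalk (hU.fromSpec y)) :=
    TopCat.Presheaf.algebra_section_stalk S.presheaf (⟨hU.fromSpec y, hs⟩ : U)
  have hloc : IsLocalization.AtPrime (S.presheaf.stalk (hU.fromSpec y)) m :=
    hU.isLocalization_stalk' y hs
  let e := IsLocalization.algEquiv m.primeCompl (S.presheaf.stalk (hU.fromSpec y))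
    (Localization.AtPrime m)
  exact isUniversallyCatenary_of_surjective e.toRingEquiv.toRingHom e.surjective
    (h (hU.fromSpec y))

end Groth.Agent.Helper5.UCat
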