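import Groth.Agent.Helper5.UCat2

set_option autoImplicit false
universe u
open AlgebraicGeometry CategoryTheory TopologicalSpace

namespace Groth.Agent.Helper5.UCat

/-- The dimension of the interval between a point `x` and a generisation `ξ` of it, computed in an
affine chart: it is the height of `Q/P` in `B/P`. -/
theorem krullDim_Icc_eq_height {X : Scheme.{u}} (W : X.Opens) (hW : IsAffineOpen W) (x ξ : X)
    (hx : x ∈ W) (hξ : ξ ∈ W) (hsp : ξ ⤳ x) :
    Order.krullDim ↥(Set.Icc x ξ) =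
      ((((hW.primeIdealOf ⟨x, hx⟩).asIdeal.map
        (Ideal.Quotient.mk (hW.primeIdealOf ⟨ξ, hξ⟩).asIdeal)).height : ℕ∞) : WithBot ℕ∞) := by
  let B := Γ(X, W)
  let j : Spec B ⟶ X := hW.fromSpec
  let P : PrimeSpectrum B := hW.primeIdealOf ⟨ξ, hξ⟩
  let Q : PrimeSpectrum B := hW.primeIdealOf ⟨x, hx⟩
  have hjP : j P = ξ := hW.fromSpec_primeIdealOf ⟨ξ, hξ⟩
  have hjQ : j Q = x := hW.fromSpec_primeIdealOf ⟨x, hx⟩
  have hspec : ∀ a b : PrimeSpectrum B, j a ⤳ j b ↔ a ≤ b := by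
    intro a b
    rw [j.isOpenEmbedding.isInducing.specializes_iff]
    exact (PrimeSpectrum.le_iff_specializes a b).symm
  have hPQ : P ≤ Q := by
    rw [← hspec, hjP, hjQ]; exact hsp
  let e := Ideal.primeSpectrumQuotientOrderIsoZeroLocus P.asIdeal
  have hQmem : Q ∈ PrimeSpectrum.zeroLocus (R := B) P.asIdeal := hPQ
  let Qb : PrimeSpectrum (B ⧸ P.asIdeal) := e.symm ⟨Q, hQmem⟩
  have hQb : Qb.asIdeal = Q.asIdeal.map (Ideal.Quotient.mk P.asIdeal) := rfl
  have hheight : ((Q.asIdeal.map (Ideal.Quotient.mk P.asIdeal)).height : ℕ∞) = Order.height Qb := by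
    rw [← hQb]
    exact PrimeSpectrum.height_eq_orderHeight Qb
  rw [hheight, Order.height_eq_krullDim_Iic, ← Order.krullDim_orderDual (α := ↥(Set.Icc x ξ))]
  apply le_antisymm
  · -- map from the interval to `Iic Qb`
    let g : (↥(Set.Icc x ξ))ᵒᵈ → ↥(Set.Iic Qb) := fun z =>
      let z' : ↥(Set.Icc x ξ) := OrderDual.ofDual z
      have hzW : z'.1 ∈ W := (Scheme.le_iff_specializes.1 z'.2.1).mem_open W.2 hx
      let Pz := hW.primeIdealOf ⟨z'.1, hzW⟩
      have hjz : j Pz = z'.1 := hW.fromSpec_primeIdealOf ⟨z'.1, hzW⟩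
      have h1 : P ≤ Pz := by
        rw [← hspec, hjP, hjz]; exact Scheme.le_iff_specializes.1 z'.2.2
      have h2 : Pz ≤ Q := by
        rw [← hspec, hjQ, hjz]; exact Scheme.le_iff_specializes.1 z'.2.1
      ⟨e.symm ⟨Pz, h1⟩, e.symm.monotone (show (⟨Pz, h1⟩ : PrimeSpectrum.zeroLocus (R := B) P.asIdeal) ≤
        ⟨Q, hQmem⟩ from h2)⟩
    refine Order.krullDim_le_of_strictMono g ?_
    intro z1 z2 h12
    have hz1W : (OrderDual.ofDual z1).1 ∈ W :=
      (Scheme.le_iff_specializes.1 (OrderDual.ofDual z1).2.1).mem_open W.2 hx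
    have hz2W : (OrderDual.ofDual z2).1 ∈ W :=
      (Scheme.le_iff_specializes.1 (OrderDual.ofDual z2).2.1).mem_open W.2 hx
    have hj1 : j (hW.primeIdealOf ⟨_, hz1W⟩) = (OrderDual.ofDual z1).1 :=
      hW.fromSpec_primeIdealOf ⟨_, hz1W⟩
    have hj2 : j (hW.primeIdealOf ⟨_, hz2W⟩) = (OrderDual.ofDual z2).1 :=
      hW.fromSpec_primeIdealOf ⟨_, hz2W⟩
    show e.symm _ < e.symm _
    rw [e.symm.lt_iff_lt]
    show hW.primeIdealOf ⟨_, hz1W⟩ < hW.primeIdealOf ⟨_, hz2W⟩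
    have h12' : (OrderDual.ofDual z2).1 < (OrderDual.ofDual z1).1 := h12
    rw [lt_iff_le_not_ge] at h12' ⊢
    rw [← hspec, ← hspec, hj1, hj2]
    exact ⟨Scheme.le_iff_specializes.1 h12'.1, fun h => h12'.2 (Scheme.le_iff_specializes.2 h)⟩
  · -- map from `Iic Qb` to the interval
    let g : ↥(Set.Iic Qb) → (↥(Set.Icc x ξ))ᵒᵈ := fun r =>
      have h1 : P ≤ (e r.1).1 := (e r.1).2
      have h2 : (e r.1).1 ≤ Q := by
        have : e r.1 ≤ e Qb := e.monotone r.2
        rw [show e Qb = ⟨Q, hQmem⟩ from e.apply_symm_apply _] at this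
        exact this
      OrderDual.toDual ⟨j (e r.1).1, by
        constructor
        · rw [Scheme.le_iff_specializes, ← hjQ, hspec]; exact h2
        · rw [Scheme.le_iff_specializes, ← hjP, hspec]; exact h1⟩
    refine Order.krullDim_le_of_strictMono g ?_
    intro r1 r2 h12
    show j (e r2.1).1 < j (e r1.1).1
    have h12' : (e r1.1).1 < (e r2.1).1 := e.strictMono h12
    rw [lt_iff_le_not_ge] at h12' ⊢
    rw [Scheme.le_iff_specializes, Scheme.le_iff_specializes, hspec, hspec]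
    exact h12'

end Groth.Agent.Helper5.UCat
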