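import Groth.Agent.Helper5.UCat6

set_option autoImplicit false
universe u
open AlgebraicGeometry CategoryTheory TopologicalSpace

namespace Groth.Agent.Helper5.UCat

open Groth.Agent.Helper5.DimFormula Groth.Agent.Helper5.VarDim

/-- Every nonempty fibre of a morphism locally of finite type contains a point whose residue
field is algebraic over the residue field of the base point. -/
theorem exists_trdeg_eq_zero_of_mem_range {X Y : Scheme.{u}} (f : X ⟶ Y) [LocallyOfFiniteType f]
    (x0 : X) :
    ∃ x : X, f x = f x0 ∧ @Algebra.trdeg (Y.residueField (f x)) (X.residueField x) _ _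
      (f.residueFieldMap x).hom.toAlgebra = 0 := by
  let y := f x0
  have hft : LocallyOfFiniteType (f.fiberToSpecResidueField y) :=
    inferInstanceAs (LocallyOfFiniteType (Limits.pullback.snd f (Y.fromSpecResidueField y)))
  have hJ : JacobsonSpace ↥(f.fiber y) :=
    LocallyOfFiniteType.jacobsonSpace (f.fiberToSpecResidueField y)
  let z0 : ↥(f.fiber y) := f.asFiber x0
  obtain ⟨z, -, hz⟩ := nonempty_inter_closedPoints (X := ↥(f.fiber y)) (Z := Set.univ)
    ⟨z0, trivial⟩ isOpen_univ.isLocallyClosed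
  have hzc : IsClosed ({z} : Set ↥(f.fiber y)) := hz
  let x : X := f.fiberι y z
  have hfx : f x = y := apply_fiberι f y z
  obtain ⟨n, hn1, -, hn3⟩ := localDim_formula (Y.residueField y) (f.fiberToSpecResidueField y) z
  have hn0 : n = 0 := hn3 hzc
  rw [trdeg_fiber' f y z x rfl hfx, hn0] at hn1
  exact ⟨x, hfx, by simpa using hn1⟩

/-- The key identity: for a morphism locally of finite type to a locally Noetherian scheme with
universally catenary local rings, with `ξ` a generic point of `X` whose image is a generic point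
of `Y`: `sup_x dim O_{X,x} = sup_x dim O_{Y,f x} + trdeg κ(ξ)/κ(f ξ)`. -/
theorem iSup_coheight_eq {X Y : Scheme.{u}} [IsLocallyNoetherian Y] (f : X ⟶ Y)
    [LocallyOfFiniteType f] (hY : ∀ y : Y, CAlg.IsUniversallyCatenary (Y.presheaf.stalk y))
    (ξ : X) (hξ : ∀ x : X, ξ ⤳ x) (hη : ∀ y : Y, f ξ ⤳ y) (m : ℕ)
    (hm : @Algebra.trdeg (Y.residueField (f ξ)) (X.residueField ξ) _ _
      (f.residueFieldMap ξ).hom.toAlgebra = m) :
    (⨆ x : X, Order.coheight x) = (⨆ x : X, Order.coheight (f x)) + (m : ℕ∞) := by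
  have hne : Nonempty X := ⟨ξ⟩
  have key : ∀ x : X, ∃ n : ℕ, @Algebra.trdeg (Y.residueField (f x)) (X.residueField x) _ _
      (f.residueFieldMap x).hom.toAlgebra = n ∧
      Order.coheight x + (n : ℕ∞) = Order.coheight (f x) + (m : ℕ∞) := by
    intro x
    obtain ⟨a, c, n, e, ha, hc, hn, he, hsum⟩ := scheme_dimension_equality f hY x ξ (hξ x)
    have hem : e = m := by
      have : (e : Cardinal.{u}) = (m : Cardinal.{u}) := he.symm.trans hm
      exact_mod_cast this
    subst hem
    refine ⟨n, hn, ?_⟩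
    have h1 : Set.Icc x ξ = Set.Ici x := by
      ext z
      simp only [Set.mem_Icc, Set.mem_Ici, and_iff_left_iff_imp]
      intro _
      exact Scheme.le_iff_specializes.2 (hξ z)
    have h2 : Set.Icc (f x) (f ξ) = Set.Ici (f x) := by
      ext z
      simp only [Set.mem_Icc, Set.mem_Ici, and_iff_left_iff_imp]
      intro _
      exact Scheme.le_iff_specializes.2 (hη z)
    rw [h1, ← Order.coheight_eq_krullDim_Ici] at ha
    rw [h2, ← Order.coheight_eq_krullDim_Ici] at hc
    have ha' : Order.coheight x = (a : ℕ∞) := by exact_mod_cast ha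
    have hc' : Order.coheight (f x) = (c : ℕ∞) := by exact_mod_cast hc
    rw [ha', hc']
    exact_mod_cast hsum
  apply le_antisymm
  · refine iSup_le fun x => ?_
    obtain ⟨n, -, hn⟩ := key x
    calc Order.coheight x ≤ Order.coheight x + (n : ℕ∞) := le_self_add
      _ = Order.coheight (f x) + (m : ℕ∞) := hn
      _ ≤ (⨆ x : X, Order.coheight (f x)) + (m : ℕ∞) := by
        gcongr
        exact le_iSup (fun x : X => Order.coheight (f x)) x
  · rw [ENat.iSup_add]
    refine iSup_le fun x0 => ?_
    obtain ⟨x, hfx, htr⟩ := exists_trdeg_eq_zero_of_mem_range f x0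
    obtain ⟨n, hn1, hn2⟩ := key x
    have hn0 : n = 0 := by
      have : (n : Cardinal.{u}) = 0 := hn1.symm.trans htr
      exact_mod_cast this
    subst hn0
    rw [← hfx, ← hn2]
    simp only [Nat.cast_zero, add_zero]
    exact le_iSup (fun x : X => Order.coheight x) x

/-- The dimension of the fibre through a generic point is the transcendence degree of the
residue field extension. -/
theorem generic_fibre_dim_eq_trdeg {X Y : Scheme.{u}} (f : X ⟶ Y) [LocallyOfFiniteType f] (ξ : X)
    (hξ : closure ({ξ} : Set X) = Set.univ) :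
    ∃ m : ℕ, topologicalKrullDim ↥(f.fiber (f ξ)) = m ∧
      @Algebra.trdeg (Y.residueField (f ξ)) (X.residueField ξ) _ _
        (f.residueFieldMap ξ).hom.toAlgebra = m := by
  have hft : LocallyOfFiniteType (f.fiberToSpecResidueField (f ξ)) :=
    inferInstanceAs (LocallyOfFiniteType (Limits.pullback.snd f (Y.fromSpecResidueField (f ξ))))
  have hζ := closure_asFiber_eq_univ f ξ hξ
  obtain ⟨m, hm1, hm2⟩ := dim_eq_trdeg_generic (Y.residueField (f ξ))
    (f.fiberToSpecResidueField (f ξ)) (f.asFiber ξ) hζ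
  rw [trdeg_fiber f ξ] at hm2
  exact ⟨m, hm1, hm2⟩

/-- Dimension of a scheme as a supremum of coheights, with the coercion outside. -/
theorem topologicalKrullDim_eq_coe_iSup (X : Scheme.{u}) [Nonempty X] :
    topologicalKrullDim ↥X = ((⨆ x : X, Order.coheight x : ℕ∞) : WithBot ℕ∞) := by
  rw [Groth.Agent.Helper5.EtDim.topologicalKrullDim_eq_iSup_coheight,
    WithBot.coe_iSup (OrderTop.bddAbove _)]

/-- The dimension identity `dim X = sup_{y ∈ f(X)} dim O_{Y,y} + dim (generic fibre)`. -/
theorem dim_eq_iSup_add {X Y : Scheme.{u}} [IsLocallyNoetherian Y] (f : X ⟶ Y)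
    [LocallyOfFiniteType f] (hY : ∀ y : Y, CAlg.IsUniversallyCatenary (Y.presheaf.stalk y))
    (ξ : X) (hξ : closure ({ξ} : Set X) = Set.univ) (hη : ∀ y : Y, f ξ ⤳ y) :
    ∃ m : ℕ, topologicalKrullDim ↥(f.fiber (f ξ)) = m ∧
      topologicalKrullDim ↥X =
        ((⨆ x : X, Order.coheight (f x) : ℕ∞) : WithBot ℕ∞) + (m : WithBot ℕ∞) := by
  obtain ⟨m, hm1, hm2⟩ := generic_fibre_dim_eq_trdeg f ξ hξ
  have hne : Nonempty X := ⟨ξ⟩
  have hξ' : ∀ x : X, ξ ⤳ x := by
    intro x
    rw [specializes_iff_mem_closure, hξ]; trivial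
  have K := iSup_coheight_eq f hY ξ hξ' hη m hm2
  refine ⟨m, hm1, ?_⟩
  rw [topologicalKrullDim_eq_coe_iSup X, K]
  push_cast
  rfl

end Groth.Agent.Helper5.UCat
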