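import Mathlib

set_option autoImplicit false
universe u

namespace Groth.Agent.Helper5.UltraVal

open Filter

variable {ι : Type u} (φ : Ultrafilter ι) {K : Type u} [Field K] (R : ι → ValuationSubring K)

/-- the ultraproduct of a family of valuation subrings of `K`, a valuation subring of the
ultrapower of `K` -/
def ultra : ValuationSubring (Germ (φ : Filter ι) K) where
  carrier := {a | ∃ g : ι → K, (↑g : Germ (φ : Filter ι) K) = a ∧
    ∀ᶠ i in (φ : Filter ι), g i ∈ R i}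
  mul_mem' := by
    rintro a b ⟨g, rfl, hg⟩ ⟨h, rfl, hh⟩
    exact ⟨g * h, rfl, by filter_upwards [hg, hh] with i h1 h2 using (R i).mul_mem _ _ h1 h2⟩
  one_mem' := ⟨fun _ => 1, rfl, Eventually.of_forall fun i => (R i).one_mem⟩
  add_mem' := by
    rintro a b ⟨g, rfl, hg⟩ ⟨h, rfl, hh⟩
    exact ⟨g + h, rfl, by filter_upwards [hg, hh] with i h1 h2 using (R i).add_mem _ _ h1 h2⟩
  zero_mem' := ⟨fun _ => 0, rfl, Eventually.of_forall fun i => (R i).zero_mem⟩
  neg_mem' := by
    rintro a ⟨g, rfl, hg⟩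
    exact ⟨-g, rfl, by filter_upwards [hg] with i h1 using (R i).neg_mem _ h1⟩
  mem_or_inv_mem' := by
    intro a
    induction a using Germ.inductionOn with
    | h g =>
      have h1 : ∀ᶠ i in (φ : Filter ι), g i ∈ R i ∨ (g i)⁻¹ ∈ R i :=
        Eventually.of_forall fun i => (R i).mem_or_inv_mem (g i)
      rcases Ultrafilter.eventually_or.1 h1 with h2 | h2
      · exact Or.inl ⟨g, rfl, h2⟩
      · exact Or.inr ⟨g⁻¹, rfl, h2⟩

theorem mem_ultra_iff (g : ι → K) :
    (↑g : Germ (φ : Filter ι) K) ∈ ultra φ R ↔ ∀ᶠ i in (φ : Filter ι), g i ∈ R i := by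
  constructor
  · rintro ⟨h, hh, hmem⟩
    have h1 : h =ᶠ[(φ : Filter ι)] g := Germ.coe_eq.1 hh
    filter_upwards [h1, hmem] with i h2 h3
    rw [← h2]; exact h3
  · intro h
    exact ⟨g, rfl, h⟩

theorem const_mem_ultra_iff (c : K) :
    ((↑c : Germ (φ : Filter ι) K)) ∈ ultra φ R ↔ ∀ᶠ i in (φ : Filter ι), c ∈ R i :=
  mem_ultra_iff φ R (fun _ => c)

/-- the diagonal embedding into the ultrapower -/
def diag : K →+* Germ (φ : Filter ι) K :=
  (Germ.coeRingHom (φ : Filter ι)).comp (Pi.constRingHom ι K)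

theorem diag_apply (c : K) : diag φ c = (↑c : Germ (φ : Filter ι) K) := rfl

theorem diag_mem_ultra_iff (c : K) :
    diag φ c ∈ ultra φ R ↔ ∀ᶠ i in (φ : Filter ι), c ∈ R i :=
  const_mem_ultra_iff φ R c

end Groth.Agent.Helper5.UltraVal
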