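import Groth.Agent.Helper5.FEt7
import Groth.Agent.Helper5.ThickBC4
import Groth.Agent.Helper5.UnivThick2
import Groth.Agent.Helper5.ThickTop2
import Groth.Agent.Helper4.AlgSpPts
import Mathlib

set_option autoImplicit false
set_option linter.style.haveILetI false
set_option linter.unusedSectionVars false
set_option linter.unusedVariables false
universe u
open CategoryTheory CategoryTheory.Limits AlgebraicGeometry Opposite TopologicalSpace

namespace Groth.Agent.Helper5.UnivDesc

open AlgSp Groth.Agent.Helper4 Groth.Agent.Helper5.InfStd Groth.Agent.Helper5.FEt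

variable {S : Scheme.{u}}

set_option backward.isDefEq.respectTransparency.types false in
/-- gluing local lifts for a formally unramified morphism -/
theorem hasUniqLift_of_local {G H : Sp S} (b : G ⟶ H) (hbu : IsFormallyUnramifiedMor b)
    (sq : InfSq b)
    (hloc : ∀ t : ↥sq.ptT'.left, ∃ (U' : Over S) (g : U' ⟶ sq.ptT') (l : (yon S).obj U' ⟶ G),
      IsAffine U'.left ∧ Etale g.left ∧ (∃ u : ↥U'.left, g.left u = t) ∧ IsLiftAt sq g l) :
    sq.HasUniqLift := by
  choose U' g n hAff hEt hpt hn using hloc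
  have hcov : Sieve.ofArrows U' g ∈ J S sq.ptT' :=
    cover_of_charts U' g hEt (fun z => ⟨z, hpt z⟩)
  obtain ⟨c, hc, -⟩ := Groth.Agent.Helper5.EtGlue.existsUnique_of_cover G U' g hcov n (by
    intro k l R r₁ r₂ hcomm
    have e1 := (hn k).restrict r₁
    have e2 := (hn l).restrict r₂
    rw [← hcomm] at e2
    exact e1.unique hbu e2)
  have hcb : c ≫ b = sq.bot := by
    refine Groth.Agent.Helper5.EtGlue.hom_ext_of_cover H U' g hcov _ _ (fun t => ?_)
    rw [← Category.assoc, hc t, (hn t).1]
  have hrepj : RepWith thick ((yon S).map sq.j) := (repWith_yon_map_iff thick _).2 (thick_j sq)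
  have hrj := hrepj.rep
  have hcj : (yon S).map sq.j ≫ c = sq.top := by
    have sqt : ∀ t, IsPullback (hrj.fst ((yon S).map (g t))) ((yon S).map (hrj.snd ((yon S).map (g t))))
        ((yon S).map sq.j) ((yon S).map (g t)) := fun t => hrj.isPullback _
    choose p₀ hp₀ using fun t => (yon S).map_surjective (hrj.fst ((yon S).map (g t)))
    have pb : ∀ t, IsPullback (p₀ t) (hrj.snd ((yon S).map (g t))) sq.j (g t) := by
      intro t
      have := sqt t
      rw [← hp₀ t] at this
      exact Groth.Agent.Helper5.GeomFibSp.isPullback_of_yon_map this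
    have pbl : ∀ t, IsPullback (p₀ t).left (hrj.snd ((yon S).map (g t))).left sq.j.left (g t).left :=
      fun t => (pb t).map (Over.forget S)
    have hcov' : Sieve.ofArrows (fun t => hrj.pullback ((yon S).map (g t))) p₀ ∈ J S sq.ptT := by
      refine cover_of_charts _ p₀ (fun t => ?_) (fun z => ?_)
      · exact MorphismProperty.of_isPullback (P := @Etale) (pbl t).flip (hEt t)
      · obtain ⟨u, hu⟩ := hpt (sq.j.left z)
        obtain ⟨w, hw1, -⟩ := exists_point_of_isPullback_scheme (pbl (sq.j.left z)) z u hu.symm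
        exact ⟨sq.j.left z, w, hw1⟩
    refine Groth.Agent.Helper5.EtGlue.hom_ext_of_cover G _ p₀ hcov' _ _ (fun t => ?_)
    rw [← Category.assoc, ← Functor.map_comp, (pb t).w, Functor.map_comp, Category.assoc, hc t]
    exact (hn t).2 _ (p₀ t) _ (pb t).w
  refine ⟨c, ⟨hcj, hcb⟩, fun c' hc' => ?_⟩
  exact hbu sq c' c hc'.1 hc'.2 hcj hcb

/-- the structure morphism of a universal first order thickening is formally unramified (no
hypothesis on `h`) -/
theorem unramified_of_univ {Z Z' X : AlgSp.Space S} (h : Z ⟶ X) (i : Z ⟶ Z') (h' : Z' ⟶ X)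
    (HU : AlgSp.IsUnivFOThick h.hom i.hom h'.hom) : AlgSp.IsFormallyUnramifiedMor h'.hom := by
  refine Groth.Agent.Helper5.ThickBC.s10636 h ?_ i h' HU
  obtain ⟨hi, hw, huniv⟩ := HU
  haveI : Mono i.hom := Groth.Agent.Helper5.ProperImg.mono_of_closedImmersion _
    (Groth.Agent.Helper5.ThickSep.closedImmersion_of_isThickMor i.hom hi.1)
  intro sq l l' h1 h2 h3 h4
  have hFO : IsFOThickMor ((yon S).map sq.j) :=
    Groth.Agent.Helper5.ThickBC.isFOThickMor_yon_map sq.j (by
      show IsAffine (Spec _)
      infer_instance) (thick_j sq) (sqZero_j sq)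
  obtain ⟨m, -, hmu⟩ := huniv (IsAlgSpace.yon_obj sq.ptT) (IsAlgSpace.yon_obj sq.ptT')
    ((yon S).map sq.j) sq.top sq.bot hFO sq.comm.symm
  have e1 : l ≫ i.hom = m := hmu _ ⟨by rw [← Category.assoc, h1], by
    rw [Category.assoc, hw, h2]⟩
  have e2 : l' ≫ i.hom = m := hmu _ ⟨by rw [← Category.assoc, h3], by
    rw [Category.assoc, hw, h4]⟩
  exact (cancel_mono i.hom).1 (e1.trans e2.symm)

end Groth.Agent.Helper5.UnivDesc
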