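import Groth.Agent.Helper5.UnivDesc1
import Mathlib

set_option autoImplicit false
set_option linter.style.haveILetI false
set_option linter.unusedSectionVars false
set_option linter.unusedVariables false
universe u
open CategoryTheory CategoryTheory.Limits AlgebraicGeometry Opposite TopologicalSpace

namespace Groth.Agent.Helper5.UnivDesc

open AlgSp Groth.Agent.Helper4 Groth.Agent.Helper5.InfStd Groth.Agent.Helper5.FEt

variable {S : Scheme.{u}}

/-- a surjective etale morphism out of an algebraic space, precomposed with an atlas, is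
representable etale surjective -/
theorem atlas_comp {Z Y : Sp S} (hZ : IsAlgSpace Z) (e : Z ⟶ Y) (he : IsEtaleMor e)
    (hes : IsSurjectiveMor e) :
    ∃ (V : Over S) (c : (yon S).obj V ⟶ Z), RepWith @Etale c ∧ RepWith @Etale (c ≫ e) ∧
      RepWith @Surjective (c ≫ e) := by
  obtain ⟨V, c, hce, hcs⟩ := hZ.atlas
  have h1 : RepWith @Etale (c ≫ e) := he c hce
  have h2 : IsSurjectiveMor (c ≫ e) := by
    intro y
    obtain ⟨x, hx⟩ := hes y
    obtain ⟨z, hz⟩ := AlgSpPts.isSurjectiveMor_of_repWith c hcs x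
    exact ⟨z, by rw [Points.map_comp, hz, hx]⟩
  exact ⟨V, c, hce, h1, AlgSpPts.repWith_surjective_of_isSurjectiveMor _ h1.rep h2⟩

set_option backward.isDefEq.respectTransparency.types false in
theorem s10633 {Z Y Z' Y' X : AlgSp.Space S} (e : Z ⟶ Y)
    (he : AlgSp.IsEtaleMor e.hom) (hes : AlgSp.IsSurjectiveMor e.hom) (hY : Y ⟶ X)
    (iZ : Z ⟶ Z') (iY : Y ⟶ Y') (hiZ : AlgSp.IsFOThickMor iZ.hom) (hiY : AlgSp.IsFOThickMor iY.hom)
    (f' : Z' ⟶ Y') (hf' : AlgSp.IsEtaleMor f'.hom) (w : iZ ≫ f' = e ≫ iY) (hY' : Y' ⟶ X)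
    (w' : iY ≫ hY' = hY)
    (HU : AlgSp.IsUnivFOThick (e ≫ hY).hom iZ.hom (f' ≫ hY').hom) :
    AlgSp.IsUnivFOThick hY.hom iY.hom hY'.hom := by
  have wh : iZ.hom ≫ f'.hom = e.hom ≫ iY.hom := congrArg (fun m => m.hom) w
  have wh' : iY.hom ≫ hY'.hom = hY.hom := congrArg (fun m => m.hom) w'
  have hf's : IsSurjectiveMor f'.hom :=
    (Groth.Agent.Helper5.ThickTop.s10587 iZ iY e f' hiZ.1 hiY.1 w).1.1 hes
  have hU : IsFormallyUnramifiedMor (f'.hom ≫ hY'.hom) := unramified_of_univ _ iZ _ HU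
  -- `hY'` is formally unramified
  have hbu : IsFormallyUnramifiedMor hY'.hom := by
    obtain ⟨V', c', hc'e, h1', h3'⟩ := atlas_comp Z'.property f'.hom hf' hf's
    refine unramified_of_comp (c' ≫ f'.hom) hY'.hom h1' h3' ?_
    have := unramified_comp c' (f'.hom ≫ hY'.hom) (isFormallyEtaleMor_of_repWith_etale c' hc'e) hU
    rwa [← Category.assoc] at this
  obtain ⟨V, c, hce, h1, h3⟩ := atlas_comp Z.property e.hom he hes
  obtain ⟨-, -, huniv⟩ := HU
  rw [Groth.Agent.Helper5.UnivThick.s10630 hY iY hY' hiY w']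
  intro T T' j hT' hj a b hcomm
  have hth : thick j.left := (isThickMor_yon_map_iff j).1 hj.1
  have hsq : sqZero j.left := AffLocT.yon_map hT' hj.2
  haveI := hT'
  have comm' : (a ≫ iY.hom) ≫ hY'.hom = (yon S).map j ≫ b := by
    rw [Category.assoc, wh', hcomm]
  obtain ⟨A, _, I, hI, str, eV, eW, hcomm₀⟩ := exists_std_form j hth hsq
  have hcomm₀' : j ≫ eV.inv = eW.inv ≫ (Over.homMk (Spec.map (CommRingCat.ofHom
      (Ideal.Quotient.mk I))) rfl : Over.mk (Spec.map (CommRingCat.ofHom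
        (Ideal.Quotient.mk I)) ≫ str) ⟶ Over.mk str) := by
    rw [Iso.eq_inv_comp, ← Category.assoc, hcomm₀, Category.assoc, Iso.hom_inv_id,
      Category.comp_id]
  let a₀ : (yon S).obj (Over.mk (Spec.map (CommRingCat.ofHom (Ideal.Quotient.mk I)) ≫ str)) ⟶ Y.obj :=
    (yon S).map eW.hom ≫ a
  let b₀ : (yon S).obj (Over.mk str) ⟶ X.obj := (yon S).map eV.hom ≫ b
  have hab₀ : a₀ ≫ hY.hom = (yon S).map (Over.homMk (Spec.map (CommRingCat.ofHom
      (Ideal.Quotient.mk I))) rfl : Over.mk (Spec.map (CommRingCat.ofHom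
        (Ideal.Quotient.mk I)) ≫ str) ⟶ Over.mk str) ≫ b₀ := by
    show ((yon S).map eW.hom ≫ a) ≫ hY.hom = _ ≫ (yon S).map eV.hom ≫ b
    rw [Category.assoc, ← hcomm, ← Category.assoc, ← Functor.map_comp, hcomm₀, Functor.map_comp,
      Category.assoc]
  let sqY : InfSq hY.hom :=
    { A := A
      I := I
      sq_zero := hI
      str := str
      top := a₀
      bot := b₀
      comm := hab₀ }
  let sqY' : InfSq hY'.hom :=
    { A := A
      I := I
      sq_zero := hI
      str := str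
      top := a₀ ≫ iY.hom
      bot := b₀
      comm := by rw [Category.assoc, wh', hab₀] }
  have key : sqY'.HasUniqLift := by
    refine hasUniqLift_of_local hY'.hom hbu sqY' (fun t => ?_)
    obtain ⟨U', W₁, g, fst₁, snd₁, top₁, hAff, hEt, hpt, hpb, htop, hthick, hsqz⟩ :=
      exists_chart' (c ≫ e.hom) hY.hom h1 h3 sqY t
    have hFO : IsFOThickMor ((yon S).map snd₁) :=
      Groth.Agent.Helper5.ThickBC.isFOThickMor_yon_map snd₁ hAff hthick hsqz
    have hw₁ : fst₁ ≫ sqY.j = snd₁ ≫ g := hpb.w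
    have hc₁ : (yon S).map snd₁ ≫ ((yon S).map g ≫ b₀) = (top₁ ≫ c) ≫ (e.hom ≫ hY.hom) := by
      rw [← Category.assoc, ← Functor.map_comp, ← hw₁, Functor.map_comp, Category.assoc]
      have : (yon S).map sqY.j ≫ b₀ = a₀ ≫ hY.hom := hab₀.symm
      rw [this, ← Category.assoc, ← htop]
      simp only [Category.assoc]
    obtain ⟨m, ⟨hm1, hm2⟩, -⟩ := huniv (IsAlgSpace.yon_obj W₁) (IsAlgSpace.yon_obj U')
      ((yon S).map snd₁) (top₁ ≫ c) ((yon S).map g ≫ b₀) hFO hc₁
    have hpb' : IsPullback fst₁ snd₁ sqY'.j g := hpb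
    refine ⟨U', g, m ≫ f'.hom, hAff, hEt, hpt, isLiftAt_of_isPullback (sq := sqY') hpb' ?_ ?_⟩
    · show (m ≫ f'.hom) ≫ hY'.hom = (yon S).map g ≫ b₀
      rw [Category.assoc]
      exact hm2
    · show (yon S).map snd₁ ≫ m ≫ f'.hom = (yon S).map fst₁ ≫ a₀ ≫ iY.hom
      rw [← Category.assoc, hm1, Category.assoc, Category.assoc, wh, ← Category.assoc c,
        ← Category.assoc top₁, htop]
      simp only [Category.assoc]
      rfl
  obtain ⟨l₀, ⟨hl1, hl2⟩, -⟩ := key
  have hl1' : (yon S).map (Over.homMk (Spec.map (CommRingCat.ofHom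
      (Ideal.Quotient.mk I))) rfl : Over.mk (Spec.map (CommRingCat.ofHom
        (Ideal.Quotient.mk I)) ≫ str) ⟶ Over.mk str) ≫ l₀ = ((yon S).map eW.hom ≫ a) ≫ iY.hom := hl1
  have hl2' : l₀ ≫ hY'.hom = (yon S).map eV.hom ≫ b := hl2
  refine ⟨(yon S).map eV.inv ≫ l₀, ⟨?_, ?_⟩, ?_⟩
  · rw [← Category.assoc, ← Functor.map_comp, hcomm₀', Functor.map_comp, Category.assoc, hl1',
      Category.assoc, ← Category.assoc, ← Functor.map_comp, Iso.inv_hom_id,
      CategoryTheory.Functor.map_id, Category.id_comp]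
  · rw [Category.assoc, hl2', ← Category.assoc, ← Functor.map_comp, Iso.inv_hom_id,
      CategoryTheory.Functor.map_id, Category.id_comp]
  · rintro a'' ⟨h1'', h2''⟩
    refine hasUniq_chart hY'.hom hbu j hth hsq (a ≫ iY.hom) b a'' _ h1'' h2'' ?_ ?_
    · rw [← Category.assoc, ← Functor.map_comp, hcomm₀', Functor.map_comp, Category.assoc, hl1',
        Category.assoc, ← Category.assoc, ← Functor.map_comp, Iso.inv_hom_id,
        CategoryTheory.Functor.map_id, Category.id_comp]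
    · rw [Category.assoc, hl2', ← Category.assoc, ← Functor.map_comp, Iso.inv_hom_id,
        CategoryTheory.Functor.map_id, Category.id_comp]

end Groth.Agent.Helper5.UnivDesc
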