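import Groth.Prelude.Def_AlgSp4
import Groth.Prelude.Def_Flat
import Groth.Agent.Helper4.AlgSpPtsDesc
import Groth.Agent.Helper4.AlgSpQC2
import Groth.Agent.Helper4.AlgSpSrc
import Groth.Agent.Helper4.AlgSpPts
import Groth.Agent.Helper5.UnivInj1
import Mathlib

set_option autoImplicit false
set_option linter.style.haveILetI false
set_option linter.unusedSectionVars false
set_option linter.unusedVariables false
universe u
open CategoryTheory CategoryTheory.Limits AlgebraicGeometry Opposite

namespace Groth.Agent.Helper5.UnivHomeoSp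

open AlgSp Groth.Agent.Helper5.UnivInj

variable {S : Scheme.{u}}

/-- a representable morphism whose base changes to schemes are injective is injective on
points -/
theorem injective_points_of_repWith {P : MorphismProperty Scheme.{u}}
    (hP : ∀ {A B : Scheme.{u}} (g : A ⟶ B), P g → Function.Injective g)
    {X Y : Sp S} (f : X ⟶ Y) (hf : RepWith P f) : Function.Injective (Points.map f) := by
  intro x₁ x₂ hx
  obtain ⟨K, _, str, c, hc⟩ := exists_ptOf (Points.map f x₁)
  obtain ⟨V, v, a, sq⟩ := hf.1 c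
  have hv : Function.Injective v.left := hP _ (hf.2 _ _ _ sq)
  have e0 : Points.map c (ptOf (𝟙 ((yon S).obj (Over.mk str)))) = ptOf c := by
    rw [map_ptOf, Category.id_comp]
  obtain ⟨q₁, hq₁, -⟩ := Groth.Agent.Helper4.AlgSpPtsDesc.exists_point_of_isPullback sq x₁
    (ptOf (𝟙 _)) (by rw [e0, hc])
  obtain ⟨q₂, hq₂, -⟩ := Groth.Agent.Helper4.AlgSpPtsDesc.exists_point_of_isPullback sq x₂
    (ptOf (𝟙 _)) (by rw [e0, hc, hx])
  obtain ⟨t₁, rfl⟩ := (Points.schemeHomeo V).surjective q₁
  obtain ⟨t₂, rfl⟩ := (Points.schemeHomeo V).surjective q₂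
  have : t₁ = t₂ := hv (Subsingleton.elim (α := ↥(Spec (CommRingCat.of K))) _ _)
  rw [← hq₁, ← hq₂, this]

theorem isUnivHomeo_injective {A B : Scheme.{u}} (g : A ⟶ B) (hg : FlatMor.IsUnivHomeo g) :
    Function.Injective g :=
  (hg (𝟙 A) (𝟙 B) g (IsPullback.of_id_snd)).injective

theorem isUnivHomeo_surjective {A B : Scheme.{u}} (g : A ⟶ B) (hg : FlatMor.IsUnivHomeo g) :
    Surjective g :=
  ⟨(hg (𝟙 A) (𝟙 B) g (IsPullback.of_id_snd)).surjective⟩

theorem isUnivHomeo_universallyOpen {A B : Scheme.{u}} (g : A ⟶ B)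
    (hg : FlatMor.IsUnivHomeo g) : UniversallyOpen g :=
  ⟨fun _ _ _ _ _ sq => (hg _ _ _ sq).isOpenMap⟩

theorem isHomeomorph_points_yon_map_iff {T T' : Over S} (φ : T ⟶ T') :
    IsHomeomorph (Points.map ((yon S).map φ)) ↔ IsHomeomorph (fun t => φ.left t) := by
  rw [Points.map_yon_map_eq]
  constructor
  · intro h
    have h2 := ((Points.schemeHomeo T').symm.isHomeomorph.comp h).comp
      (Points.schemeHomeo T).isHomeomorph
    convert h2 using 1
    ext t
    simp
  · intro h
    exact ((Points.schemeHomeo T').isHomeomorph.comp h).comp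
      (Points.schemeHomeo T).symm.isHomeomorph

theorem s10301 {X Y : Sp S} (f : X ⟶ Y) (hf : Representable f) :
    RepWith FlatMor.IsUnivHomeo f ↔ IsUnivHomeoMor f := by
  constructor
  · intro h Z Z' hZ g fst snd sq
    have hs : RepWith FlatMor.IsUnivHomeo snd :=
      (repWith_isStableUnderBaseChange (S := S) FlatMor.IsUnivHomeo).of_isPullback sq h
    refine ⟨Points.continuous_map snd, ?_, ?_, ?_⟩
    · exact Groth.Agent.Helper4.AlgSpQC2.isOpenMor_of_isUnivOpenMor hZ snd
        (Groth.Agent.Helper4.AlgSpPtsDesc.isUnivOpenMor_of_repWith snd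
          (Groth.Agent.Helper4.AlgSpSrc.repWith_mono
            (fun g hg => isUnivHomeo_universallyOpen g hg) hs))
    · exact injective_points_of_repWith (fun g hg => isUnivHomeo_injective g hg) snd hs
    · exact Groth.Agent.Helper4.AlgSpPts.isSurjectiveMor_of_repWith snd
        (Groth.Agent.Helper4.AlgSpSrc.repWith_mono
          (fun g hg => isUnivHomeo_surjective g hg) hs)
  · intro h
    refine ⟨hf, ?_⟩
    intro T E ξ c e sq X' Y' i₁ i₂ f' hpb
    obtain ⟨X'o, Y'o, f'o, g, a, rfl, rfl, hf', hsq⟩ :=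
      Groth.Agent.Helper4.AlgSpPtsDesc.lift_square sq i₁ i₂ f' hpb
    obtain rfl := eq_of_heq hf'
    have := h (IsAlgSpace.yon_obj Y'o) g a _ hsq
    exact (isHomeomorph_points_yon_map_iff f'o).1 this

end Groth.Agent.Helper5.UnivHomeoSp
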