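import Groth.Agent.Helper5.InfStd4
import Mathlib

set_option autoImplicit false
set_option linter.style.haveILetI false
set_option linter.unusedSectionVars false
set_option linter.unusedVariables false
universe u
open CategoryTheory CategoryTheory.Limits AlgebraicGeometry Opposite TopologicalSpace

namespace Groth.Agent.Helper5.UnivThick

open AlgSp Groth.Agent.Helper4

variable {S : Scheme.{u}}

set_option backward.isDefEq.respectTransparency.types false in
theorem s10631 {Z Z' Y X : AlgSp.Space S} (hZ : Z ⟶ Y) (g : Y ⟶ X)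
    (i : Z ⟶ Z') (h' : Z' ⟶ Y) (HU : AlgSp.IsUnivFOThick hZ.hom i.hom h'.hom) (hg : AlgSp.IsFormallyEtaleMor g.hom) :
    AlgSp.IsUnivFOThick (hZ ≫ g).hom i.hom (h' ≫ g).hom := by
  obtain ⟨hi, hw, huniv⟩ := HU
  refine ⟨hi, ?_, ?_⟩
  · show i.hom ≫ h'.hom ≫ g.hom = hZ.hom ≫ g.hom
    rw [← Category.assoc, hw]
  · intro T T' hT hT' j a b hj hcomm
    let Ts : AlgSp.Space S := ⟨T, hT⟩
    let Ts' : AlgSp.Space S := ⟨T', hT'⟩
    let js : Ts ⟶ Ts' := ObjectProperty.homMk j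
    have hcomm' : j ≫ b = (a ≫ hZ.hom) ≫ g.hom := by rw [hcomm, Category.assoc]; rfl
    obtain ⟨b', ⟨hb'1, hb'2⟩, hb'u⟩ :=
      Groth.Agent.Helper5.InfStd.s10625 g hg js hj
        (ObjectProperty.homMk (a ≫ hZ.hom) : Ts ⟶ Y) (ObjectProperty.homMk b : Ts' ⟶ X)
        (ObjectProperty.hom_ext _ hcomm'.symm)
    have hb'1' : j ≫ b'.hom = a ≫ hZ.hom := congrArg (fun m => m.hom) hb'1
    have hb'2' : b'.hom ≫ g.hom = b := congrArg (fun m => m.hom) hb'2
    obtain ⟨a', ⟨ha'1, ha'2⟩, ha'u⟩ := huniv hT hT' j a b'.hom hj hb'1'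
    refine ⟨a', ⟨ha'1, ?_⟩, ?_⟩
    · show a' ≫ h'.hom ≫ g.hom = b
      rw [← Category.assoc, ha'2, hb'2']
    · rintro a'' ⟨h1, h2⟩
      have h2' : (a'' ≫ h'.hom) ≫ g.hom = b := by rw [Category.assoc]; exact h2
      have hb'' : (ObjectProperty.homMk (a'' ≫ h'.hom) : Ts' ⟶ Y) = b' := by
        apply hb'u
        refine ⟨ObjectProperty.hom_ext _ ?_, ObjectProperty.hom_ext _ h2'⟩
        show j ≫ a'' ≫ h'.hom = a ≫ hZ.hom
        rw [← Category.assoc, h1, Category.assoc, hw]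
      apply ha'u
      refine ⟨h1, ?_⟩
      rw [← hb'']
      rfl

end Groth.Agent.Helper5.UnivThick
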