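import Mathlib
import Groth.Agent.Helper5.UnrGu3
import Groth.Agent.Helper5.UnrGu4
import Groth.Agent.Helper5.GuBir7
import Groth.Prelude

set_option autoImplicit false
set_option linter.unusedSectionVars false
set_option linter.style.haveILetI false
universe u

open AlgebraicGeometry CategoryTheory Limits TensorProduct

namespace Groth.Agent.Helper5.UnrGu

open Groth.Agent.Helper5.GuBir

/-- g.u. of the stalk of `Spec A` at `p` from g.u. of `A_p` -/
theorem gu_stalk_spec_of_atPrime (A : Type u) [CommRing A] (p : Ideal A) [hp : p.IsPrime]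
    (hA : CAlg2.IsGeomUnibranch (Localization.AtPrime p)) :
    CAlg2.IsGeomUnibranch ((Spec (CommRingCat.of A)).presheaf.stalk ⟨p, hp⟩) := by
  let x : Spec (CommRingCat.of A) := ⟨p, hp⟩
  letI : Algebra A ↑((Spec (CommRingCat.of A)).presheaf.stalk x) :=
    StructureSheaf.stalkAlgebra A x
  haveI : IsLocalization.AtPrime (↑((Spec (CommRingCat.of A)).presheaf.stalk x)) p :=
    StructureSheaf.IsLocalization.to_stalk A x
  let e : Localization.AtPrime p ≃ₐ[A] ↑((Spec (CommRingCat.of A)).presheaf.stalk x) :=
    IsLocalization.algEquiv p.primeCompl _ _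
  exact gu_of_ringEquiv e.toRingEquiv hA

theorem s2136 {A B : Type u} [CommRing A] [IsDomain A] [CommRing B]
    [Algebra A B] (q : Ideal B) [hq : q.IsPrime] (p : Ideal A) [p.IsPrime] [q.LiesOver p]
    (hA : CAlg2.IsGeomUnibranch (Localization.AtPrime p)) [Algebra.FiniteType A B]
    [Algebra.IsUnramifiedAt A q]
    (hinj : Function.Injective (Localization.localRingHom p q (algebraMap A B) (q.over_def p))) :
    ∃ g : B, g ∉ q ∧ Algebra.Etale A (Localization.Away g) := by
  obtain ⟨g₀, hg₀, hunr⟩ := Algebra.exists_unramified_of_isUnramifiedAt (R := A) q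
  let S := Localization.Away g₀
  have hdisj : Disjoint (Submonoid.powers g₀ : Set B) (q : Set B) :=
    (Ideal.disjoint_powers_iff_notMem_of_isPrime _).mpr hg₀
  let Q : Ideal S := q.map (algebraMap B S)
  haveI hQp : Q.IsPrime := IsLocalization.isPrime_of_isPrime_disjoint (.powers g₀) _ _ hq hdisj
  have hQc : Q.comap (algebraMap B S) = q :=
    IsLocalization.comap_map_of_isPrime_disjoint (.powers g₀) _ hq hdisj
  -- the map `S → B_q`
  let BQ := Localization.AtPrime q
  let θ : S →+* BQ := IsLocalization.Away.lift (S := S) g₀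
    (g := algebraMap B BQ) (IsLocalization.map_units BQ (⟨g₀, hg₀⟩ : q.primeCompl))
  have hθ : ∀ b : B, θ (algebraMap B S b) = algebraMap B BQ b := fun b =>
    IsLocalization.Away.lift_eq _ _ b
  have hmax : (IsLocalRing.maximalIdeal BQ).comap θ = Q := by
    have h1 : ((IsLocalRing.maximalIdeal BQ).comap θ).comap (algebraMap B S) = q := by
      rw [Ideal.comap_comap]
      have : θ.comp (algebraMap B S) = algebraMap B BQ := RingHom.ext hθ
      rw [this]
      exact IsLocalization.AtPrime.comap_maximalIdeal BQ q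
    have h2 := IsLocalization.map_comap (.powers g₀) S ((IsLocalRing.maximalIdeal BQ).comap θ)
    rw [← h2]
    show Ideal.map (algebraMap B S)
      (((IsLocalRing.maximalIdeal BQ).comap θ).comap (algebraMap B S)) = Q
    rw [h1]
  -- injectivity of `A → B_q`
  have hAinj : Function.Injective (algebraMap A BQ) := by
    have h1 : algebraMap A BQ = (Localization.localRingHom p q (algebraMap A B) (q.over_def p)).comp
        (algebraMap A (Localization.AtPrime p)) := by
      ext a
      rw [RingHom.comp_apply, Localization.localRingHom_to_map]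
      exact IsScalarTower.algebraMap_apply A B BQ a
    rw [h1]
    exact hinj.comp (IsLocalization.injective _ p.primeCompl_le_nonZeroDivisors)
  obtain ⟨P, hP, hP0⟩ := Ideal.exists_comap_eq_of_mem_minimalPrimes_of_injective hAinj ⊥
    (by rw [IsDomain.minimalPrimes_eq_singleton_bot]; rfl)
  haveI := hP
  let Q' : Ideal S := P.comap θ
  haveI : Q'.IsPrime := Ideal.comap_isPrime _ _
  have hle : Q' ≤ Q := by
    rw [← hmax]
    exact Ideal.comap_mono (IsLocalRing.le_maximalIdeal hP.ne_top)
  have hAS : θ.comp (algebraMap A S) = algebraMap A BQ := by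
    ext a
    rw [RingHom.comp_apply, IsScalarTower.algebraMap_apply A B S, hθ,
      ← IsScalarTower.algebraMap_apply A B BQ]
  have hQ'0 : Q'.comap (algebraMap A S) = ⊥ := by
    rw [Ideal.comap_comap, hAS, hP0]
  have hQA : Q.comap (algebraMap A S) = p := by
    rw [IsScalarTower.algebraMap_eq A B S, ← Ideal.comap_comap, hQc]
    exact (q.over_def p).symm
  have hgu : CAlg2.IsGeomUnibranch ((Spec (CommRingCat.of A)).presheaf.stalk
      (Spec.map (CommRingCat.ofHom (algebraMap A S)) ⟨Q, hQp⟩)) := by
    have hpt : Spec.map (CommRingCat.ofHom (algebraMap A S)) ⟨Q, hQp⟩ =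
        (⟨p, inferInstance⟩ : Spec (CommRingCat.of A)) := PrimeSpectrum.ext hQA
    exact (gu_stalk_congr hpt).2 (gu_stalk_spec_of_atPrime A p hA)
  haveI : Algebra.FiniteType A S := hunr.finiteType
  haveI : Algebra.FormallyUnramified A S := hunr.formallyUnramified
  obtain ⟨h, hhQ, hT⟩ := exists_etale_away A S Q Q' hle hQ'0 hgu
  haveI : Algebra.Etale A (Localization.Away h) := hT (Localization.Away h)
  obtain ⟨n, b, hb⟩ := IsLocalization.Away.surj g₀ h
  have hunit : IsUnit (algebraMap B S g₀ ^ n) := IsLocalization.Away.algebraMap_pow_isUnit g₀ n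
  have hbq : b ∉ q := by
    intro hbq
    have h1 : algebraMap B S b ∈ Q := Ideal.mem_map_of_mem _ hbq
    rw [← hb] at h1
    rcases hQp.mem_or_mem h1 with h2 | h2
    · exact hhQ h2
    · exact hQp.ne_top (Ideal.eq_top_of_isUnit_mem _ h2 hunit)
  have hassoc : Associated (algebraMap B S b) h := by
    refine Associated.symm ⟨hunit.unit, ?_⟩
    rw [IsUnit.unit_spec]; exact hb
  exact ⟨g₀ * b, hq.mul_notMem hg₀ hbq,
    etale_of_double_away (S := S) (T' := Localization.Away h) g₀ b h hassoc⟩

end Groth.Agent.Helper5.UnrGu
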