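import Mathlib
import Groth.Agent.Helper5.UnrGu5
import Groth.Agent.Helper5.GuNormal
import Groth.Prelude

set_option autoImplicit false
set_option linter.unusedSectionVars false
set_option linter.style.haveILetI false
universe u

open AlgebraicGeometry CategoryTheory Limits

namespace Groth.Agent.Helper5.UnrGu

/-- an unramified relative normalization of a normal integral scheme is étale and finite -/
theorem s0288_gen {X Z : Scheme.{u}} [IsIntegral X] (hX : Pi1.IsNormalScheme X) [IsIntegral Z]
    (g₀ : Z ⟶ X) [QuasiCompact g₀] [QuasiSeparated g₀]
    (hgen : genericPoint X ∈ Set.range g₀)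
    [FormallyUnramified g₀.fromNormalization] [LocallyOfFiniteType g₀.fromNormalization] :
    Etale g₀.fromNormalization ∧ IsFinite g₀.fromNormalization := by
  refine ⟨?_, ?_⟩
  · haveI : IsIntegral g₀.normalization := inferInstance
    haveI : ConnectedSpace ↥g₀.normalization := inferInstance
    refine (s1450 g₀.fromNormalization (fun y => ?_) ?_).1
    · obtain ⟨h1, h2⟩ := hX y
      haveI := h1
      haveI := h2
      exact gu_of_normal _
    · obtain ⟨z, hz⟩ := hgen
      refine ⟨g₀.toNormalization z, ?_⟩
      rw [← Scheme.Hom.comp_apply, Scheme.Hom.toNormalization_fromNormalization]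
      exact hz
  · rw [IsFinite.iff_isIntegralHom_and_locallyOfFiniteType]
    exact ⟨inferInstance, inferInstance⟩

end Groth.Agent.Helper5.UnrGu
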