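import Groth.Prelude.Def_AlgSpMor5

set_option autoImplicit false
universe u
open CategoryTheory CategoryTheory.Limits AlgebraicGeometry
open AlgSp

namespace Groth.Agent.Helper5.Val1

variable {S : Scheme.{u}}

/-- Base change of the uniqueness part. -/
theorem uniqVC_of_isPullback {X Y Z X' : Sp S} (f : X ⟶ Y) (g : Z ⟶ Y)
    (fst : X' ⟶ X) (f' : X' ⟶ Z) (sq : IsPullback fst f' f g) (h : UniqVC f) : UniqVC f' := by
  intro s l l' h1 h2 h3 h4
  let s0 : ValSq f :=
    { A := s.A, K := s.K, str := s.str, top := s.top ≫ fst, bot := s.bot ≫ g,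
      comm := by
        rw [Category.assoc, sq.w, ← Category.assoc, s.comm, Category.assoc] }
  have key : l ≫ fst = l' ≫ fst := by
    apply h s0 (l ≫ fst) (l' ≫ fst)
    · show _ ≫ _ ≫ _ = s.top ≫ fst
      rw [← Category.assoc]
      exact congrArg (· ≫ fst) h1
    · show (l ≫ fst) ≫ f = s.bot ≫ g
      rw [Category.assoc, sq.w, ← Category.assoc, h2]
    · show _ ≫ _ ≫ _ = s.top ≫ fst
      rw [← Category.assoc]
      exact congrArg (· ≫ fst) h3
    · show (l' ≫ fst) ≫ f = s.bot ≫ g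
      rw [Category.assoc, sq.w, ← Category.assoc, h4]
  exact sq.hom_ext key (h2.trans h4.symm)

/-- Base change of the existence part. -/
theorem existVC_of_isPullback {X Y Z X' : Sp S} (f : X ⟶ Y) (g : Z ⟶ Y)
    (fst : X' ⟶ X) (f' : X' ⟶ Z) (sq : IsPullback fst f' f g) (h : ExistVC f) : ExistVC f' := by
  intro s
  let s0 : ValSq f :=
    { A := s.A, K := s.K, str := s.str, top := s.top ≫ fst, bot := s.bot ≫ g,
      comm := by
        rw [Category.assoc, sq.w, ← Category.assoc, s.comm, Category.assoc] }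
  obtain ⟨e, l, hl1, hl2⟩ := h s0
  let e' : s.DomExt :=
    { A' := e.A', K' := e.K', φ := e.φ, ψ := e.ψ, comm := e.comm, isLocalHom := e.isLocalHom }
  refine ⟨e', sq.lift l ((yon S).map (Over.homMk (Spec.map (CommRingCat.ofHom e.φ)) rfl :
    e.ptA' ⟶ s0.ptA) ≫ s.bot) ?_, ?_, ?_⟩
  · rw [hl2]
    show _ ≫ s.bot ≫ g = _
    rw [Category.assoc]
  · apply sq.hom_ext
    · rw [Category.assoc, sq.lift_fst]
      rw [Category.assoc]
      exact hl1
    · rw [Category.assoc, sq.lift_snd, Category.assoc, s.comm]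
      rw [← Category.assoc, ← Category.assoc]
      congr 1
      rw [← Functor.map_comp, ← Functor.map_comp]
      congr 1
      ext1
      show Spec.map _ ≫ Spec.map _ = Spec.map _ ≫ Spec.map _
      rw [← Spec.map_comp, ← Spec.map_comp, ← CommRingCat.ofHom_comp, ← CommRingCat.ofHom_comp]
      exact congrArg (fun r => Spec.map (CommRingCat.ofHom r)) e.comm
  · exact sq.lift_snd _ _ _

/-- Composition of the uniqueness part. -/
theorem uniqVC_comp {X Y Z : Sp S} (f : X ⟶ Y) (g : Y ⟶ Z) (hf : UniqVC f) (hg : UniqVC g) :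
    UniqVC (f ≫ g) := by
  intro s l l' h1 h2 h3 h4
  let sg : ValSq g :=
    { A := s.A, K := s.K, str := s.str, top := s.top ≫ f, bot := s.bot,
      comm := by rw [Category.assoc]; exact s.comm }
  have key : l ≫ f = l' ≫ f := by
    apply hg sg (l ≫ f) (l' ≫ f)
    · show _ ≫ _ ≫ _ = s.top ≫ f
      rw [← Category.assoc]
      exact congrArg (· ≫ f) h1
    · show (l ≫ f) ≫ g = s.bot
      rw [Category.assoc]; exact h2
    · show _ ≫ _ ≫ _ = s.top ≫ f
      rw [← Category.assoc]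
      exact congrArg (· ≫ f) h3
    · show (l' ≫ f) ≫ g = s.bot
      rw [Category.assoc]; exact h4
  let sf : ValSq f :=
    { A := s.A, K := s.K, str := s.str, top := s.top, bot := l ≫ f,
      comm := by rw [← Category.assoc]; exact congrArg (· ≫ f) h1.symm }
  exact hf sf l l' h1 rfl h3 key.symm

/-- Composition of the existence part. -/
theorem existVC_comp {X Y Z : Sp S} (f : X ⟶ Y) (g : Y ⟶ Z) (hf : ExistVC f) (hg : ExistVC g) :
    ExistVC (f ≫ g) := by
  intro s
  let sg : ValSq g :=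
    { A := s.A, K := s.K, str := s.str, top := s.top ≫ f, bot := s.bot,
      comm := by rw [Category.assoc]; exact s.comm }
  obtain ⟨e1, l1, hl1, hl2⟩ := hg sg
  -- the new square for `f`
  let sf : ValSq f :=
    { A := e1.A', K := e1.K', str := Spec.map (CommRingCat.ofHom e1.φ) ≫ s.str,
      top := (yon S).map (Over.homMk (Spec.map (CommRingCat.ofHom e1.ψ)) (by
          change Spec.map _ ≫ Spec.map _ ≫ _ = Spec.map _ ≫ Spec.map _ ≫ _
          rw [← Spec.map_comp_assoc, ← Spec.map_comp_assoc, ← CommRingCat.ofHom_comp,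
            ← CommRingCat.ofHom_comp, e1.comm]) : e1.ptK' ⟶ s.ptK) ≫ s.top,
      bot := l1,
      comm := by
        rw [Category.assoc]
        exact hl1.symm }
  obtain ⟨e2, l2, hm1, hm2⟩ := hf sf
  have hloc1 : IsLocalHom e1.φ := e1.isLocalHom
  have hloc2 : IsLocalHom e2.φ := e2.isLocalHom
  let e : s.DomExt :=
    { A' := e2.A', K' := e2.K', φ := e2.φ.comp e1.φ, ψ := e2.ψ.comp e1.ψ,
      comm := by
        rw [← RingHom.comp_assoc, e2.comm, RingHom.comp_assoc]
        show e2.ψ.comp ((algebraMap e1.A' e1.K').comp e1.φ) = _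
        rw [e1.comm, RingHom.comp_assoc]
      isLocalHom := RingHom.isLocalHom_comp _ _ }
  refine ⟨e, ?_⟩
  have hA : Spec.map (CommRingCat.ofHom (e2.φ.comp e1.φ)) ≫ s.str =
      Spec.map (CommRingCat.ofHom e2.φ) ≫ Spec.map (CommRingCat.ofHom e1.φ) ≫ s.str := by
    rw [CommRingCat.ofHom_comp, Spec.map_comp, Category.assoc]
  let iA : e.ptA' ⟶ e2.ptA' := Over.homMk (𝟙 _) (by
    show 𝟙 _ ≫ Spec.map _ ≫ Spec.map _ ≫ s.str = Spec.map _ ≫ s.str
    rw [Category.id_comp, hA])
  let iK : e.ptK' ⟶ e2.ptK' := Over.homMk (𝟙 _) (by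
    show 𝟙 _ ≫ Spec.map _ ≫ Spec.map _ ≫ Spec.map _ ≫ s.str = Spec.map _ ≫ Spec.map _ ≫ s.str
    rw [Category.id_comp, hA])
  refine ⟨(yon S).map iA ≫ l2, ?_, ?_⟩
  · rw [← Category.assoc, ← Functor.map_comp]
    have e1' : (Over.homMk (Spec.map (CommRingCat.ofHom (algebraMap e.A' e.K'))) rfl : e.ptK' ⟶ e.ptA') ≫ iA =
        iK ≫ (Over.homMk (Spec.map (CommRingCat.ofHom (algebraMap e2.A' e2.K'))) rfl : e2.ptK' ⟶ e2.ptA') := by
      ext1
      show Spec.map _ ≫ 𝟙 _ = 𝟙 _ ≫ Spec.map _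
      rw [Category.comp_id, Category.id_comp]
    rw [e1', Functor.map_comp, Category.assoc, hm1]
    show _ ≫ _ ≫ _ ≫ s.top = _
    rw [← Category.assoc, ← Category.assoc, ← Functor.map_comp, ← Functor.map_comp]
    congr 2
    ext1
    show (𝟙 _ ≫ Spec.map _) ≫ Spec.map _ = Spec.map _
    rw [Category.id_comp, ← Spec.map_comp, ← CommRingCat.ofHom_comp]
  · rw [Category.assoc, ← Category.assoc l2, hm2]
    show _ ≫ (_ ≫ l1) ≫ g = _
    rw [Category.assoc, hl2]
    show _ ≫ _ ≫ _ ≫ s.bot = _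
    rw [← Category.assoc, ← Category.assoc, ← Functor.map_comp, ← Functor.map_comp]
    congr 2
    ext1
    show (𝟙 _ ≫ Spec.map _) ≫ Spec.map _ = Spec.map _
    rw [Category.id_comp, ← Spec.map_comp, ← CommRingCat.ofHom_comp]

end Groth.Agent.Helper5.Val1
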