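import Groth.Prelude.Def_AlgSpMor5

set_option autoImplicit false
universe u
open CategoryTheory CategoryTheory.Limits AlgebraicGeometry
open AlgSp

namespace Groth.Agent.Helper5.Val2

variable {S : Scheme.{u}}

/-- A closed immersion into `Spec A` through which `Spec K → Spec A` (for an injective `A → K`) factors is an isomorphism. -/
theorem isIso_of_factor {A K : Type u} [CommRing A] [CommRing K] (φ : A →+* K)
    (hφ : Function.Injective φ) {W : Scheme.{u}} (i : W ⟶ Spec (.of A)) [IsClosedImmersion i]
    (k : Spec (.of K) ⟶ W) (hk : k ≫ i = Spec.map (CommRingCat.ofHom φ)) : IsIso i := by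
  apply IsClosedImmersion.isIso_of_injective_of_isAffine
  have h1 : i.appTop ≫ k.appTop = (Spec.map (CommRingCat.ofHom φ)).appTop := by
    rw [← Scheme.Hom.comp_appTop, hk]
  have h2 : Function.Injective (Spec.map (CommRingCat.ofHom φ)).appTop := by
    have := Scheme.ΓSpecIso_naturality (CommRingCat.ofHom φ)
    -- (Spec.map f).appTop ≫ (ΓSpecIso S).hom = (ΓSpecIso R).hom ≫ f
    have h3 : (Spec.map (CommRingCat.ofHom φ)).appTop =
        (Scheme.ΓSpecIso (.of A)).hom ≫ CommRingCat.ofHom φ ≫ (Scheme.ΓSpecIso (.of K)).inv := by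
      rw [← Category.assoc, ← this, Category.assoc, Iso.hom_inv_id, Category.comp_id]
    rw [h3]
    simp only [CommRingCat.hom_comp, RingHom.coe_comp]
    refine Function.Injective.comp (Function.Injective.comp ?_ hφ) ?_
    · exact (ConcreteCategory.bijective_of_isIso (Scheme.ΓSpecIso (.of K)).inv).1
    · exact (ConcreteCategory.bijective_of_isIso (Scheme.ΓSpecIso (.of A)).hom).1
  rw [← h1] at h2
  simp only [CommRingCat.hom_comp, RingHom.coe_comp] at h2
  exact h2.of_comp

/-- A separated morphism satisfies the uniqueness part of the valuative criterion. -/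
theorem uniqVC_of_isSeparatedMor {X Y : Sp S} (f : X ⟶ Y) (hf : IsSeparatedMor f) : UniqVC f := by
  intro s l l' h1 h2 h3 h4
  have hΔ : RepWith @IsClosedImmersion (pullback.diagonal f) := hf
  let m : (yon S).obj s.ptA ⟶ pullback f f := pullback.lift l l' (h2.trans h4.symm)
  have hrep := hΔ.1
  let W := hrep.pullback m
  have sq := hrep.isPullback m
  have hci : IsClosedImmersion (hrep.snd m).left := hΔ.2 m _ _ sq
  -- the generic point factors
  have hw : s.top ≫ pullback.diagonal f = (yon S).map s.j ≫ m := by
    apply pullback.hom_ext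
    · rw [Category.assoc, pullback.diagonal_fst, Category.comp_id, Category.assoc, pullback.lift_fst, h1]
    · rw [Category.assoc, pullback.diagonal_snd, Category.comp_id, Category.assoc, pullback.lift_snd, h3]
  obtain ⟨k, hk⟩ := (yon S).map_surjective (sq.lift s.top ((yon S).map s.j) hw)
  have hk2 : k ≫ hrep.snd m = s.j := by
    apply (yon S).map_injective
    rw [Functor.map_comp, hk, sq.lift_snd]
  have hk3 : k.left ≫ (hrep.snd m).left = Spec.map (CommRingCat.ofHom (algebraMap s.A s.K)) :=
    congrArg (fun t => t.left) hk2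
  have hiso : IsIso (hrep.snd m).left :=
    isIso_of_factor (algebraMap s.A s.K) (IsFractionRing.injective s.A s.K) _ k.left hk3
  have hiso2 : IsIso (hrep.snd m) := by
    have : IsIso ((Over.forget S).map (hrep.snd m)) := hiso
    exact isIso_of_reflects_iso _ (Over.forget S)
  have hiso3 : IsIso ((yon S).map (hrep.snd m)) := inferInstance
  have hm : m = inv ((yon S).map (hrep.snd m)) ≫ hrep.fst m ≫ pullback.diagonal f := by
    rw [sq.w, IsIso.inv_hom_id_assoc]
  have e1 : l = m ≫ pullback.fst f f := (pullback.lift_fst _ _ _).symm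
  have e2 : l' = m ≫ pullback.snd f f := (pullback.lift_snd _ _ _).symm
  rw [e1, e2, hm]
  simp only [Category.assoc, pullback.diagonal_fst, pullback.diagonal_snd]

end Groth.Agent.Helper5.Val2
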