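import Mathlib

set_option autoImplicit false
universe u
open IsDedekindDomain

namespace Groth.Agent.Helper5.ValDed

variable {A K : Type*} [CommRing A] [IsDedekindDomain A] [Field K] [Algebra A K] [IsFractionRing A K]

/-- the valuation subring of a height one prime is of Krull dimension ≤ 1 -/
instance (v : HeightOneSpectrum A) : Ring.KrullDimLE 1 (v.valuation K).valuationSubring := by
  rw [← HeightOneSpectrum.valuationSubringAtPrime_eq_valuationSubring]
  infer_instance

lemma valuationSubring_ne_top (v : HeightOneSpectrum A) : (v.valuation K).valuationSubring ≠ ⊤ := by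
  simp only [ne_eq, Valuation.valuationSubring_eq_top_iff, not_not]; infer_instance

/-- A valuation subring containing `A`, not the whole field, is the valuation subring of a height
one prime. -/
theorem exists_eq_of_le_of_ne_top (O : ValuationSubring K)
    (hA : (algebraMap A K).range ≤ O.toSubring) (hO : O ≠ ⊤) :
    ∃ v : HeightOneSpectrum A, O = (v.valuation K).valuationSubring := by
  have hle : ∀ a : A, O.valuation (algebraMap A K a) ≤ 1 := fun a =>
    (O.valuation_le_one_iff _).2 (hA ⟨a, rfl⟩)
  let φ : A →+* O := (algebraMap A K).codRestrict O.toSubring (fun a => hA ⟨a, rfl⟩)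
  let P : Ideal A := (IsLocalRing.maximalIdeal O).comap φ
  have hP : P.IsPrime := Ideal.comap_isPrime φ _
  have hmem : ∀ a : A, a ∈ P ↔ O.valuation (algebraMap A K a) < 1 := fun a => by
    rw [← O.mem_nonunits_iff]
    exact (O.coe_mem_nonunits_iff (a := φ a)).symm
  have hnmem : ∀ a : A, a ∉ P → O.valuation (algebraMap A K a) = 1 := fun a ha =>
    le_antisymm (hle a) (not_lt.1 (fun h => ha ((hmem a).2 h)))
  have hP0 : P ≠ ⊥ := by
    intro h0
    apply hO
    rw [eq_top_iff]
    intro x _
    obtain ⟨a, s, hs, rfl⟩ := IsFractionRing.div_surjective (A := A) x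
    have hs0 : s ≠ 0 := nonZeroDivisors.ne_zero hs
    have hsP : s ∉ P := by rw [h0]; simpa using hs0
    rw [← O.valuation_le_one_iff, map_div₀, hnmem s hsP, div_one]
    exact hle a
  let v : HeightOneSpectrum A := ⟨P, hP, hP0⟩
  refine ⟨v, ?_⟩
  symm
  apply ValuationSubring.eq_of_le_of_ne_top _ _ hO
  intro x hx
  obtain ⟨n, d, hnd⟩ := v.exists_primeCompl_mul_eq_of_integer x hx
  have hd : O.valuation (algebraMap A K d) = 1 := hnmem d d.2
  rw [← O.valuation_le_one_iff]
  have := congrArg O.valuation hnd
  rw [map_mul, hd, mul_one] at this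
  rw [this]
  exact hle n

theorem s11080 (A K : Type u) [CommRing A]
    [IsDedekindDomain A] [Field K] [Algebra A K] [IsFractionRing A K] (O : ValuationSubring K) :
    ((algebraMap A K).range ≤ O.toSubring ∧ O ≠ ⊤) ↔
      ∃ v : IsDedekindDomain.HeightOneSpectrum A, O = (v.valuation K).valuationSubring := by
  constructor
  · rintro ⟨h1, h2⟩
    exact exists_eq_of_le_of_ne_top O h1 h2
  · rintro ⟨v, rfl⟩
    refine ⟨?_, valuationSubring_ne_top v⟩
    rintro _ ⟨a, rfl⟩
    exact v.valuation_le_one a

end Groth.Agent.Helper5.ValDed
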