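import Groth.Agent.Helper5.ValDed

set_option autoImplicit false
universe u
open IsDedekindDomain Polynomial

namespace Groth.Agent.Helper5.ValDed

theorem s11084 (k : Type u) [Field k] [DecidableEq (RatFunc k)]
    (O : ValuationSubring (RatFunc k)) :
    ((algebraMap k (RatFunc k)).range ≤ O.toSubring ∧ O ≠ ⊤) ↔
      ((∃ v : IsDedekindDomain.HeightOneSpectrum (Polynomial k), O = (v.valuation (RatFunc k)).valuationSubring) ∨
        O = (RatFunc.inftyValuation k).valuationSubring) := by
  constructor
  · rintro ⟨hk, hO⟩
    by_cases hX : (RatFunc.X : RatFunc k) ∈ O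
    · left
      apply exists_eq_of_le_of_ne_top (A := k[X]) O _ hO
      rintro _ ⟨p, rfl⟩
      change algebraMap k[X] (RatFunc k) p ∈ O
      induction p using Polynomial.induction_on' with
      | add p q hp hq => rw [map_add]; exact O.add_mem _ _ hp hq
      | monomial n a =>
        rw [← Polynomial.C_mul_X_pow_eq_monomial, map_mul, map_pow, RatFunc.algebraMap_C,
          RatFunc.algebraMap_X]
        exact O.mul_mem _ _ (hk ⟨a, by rw [RatFunc.algebraMap_eq_C]⟩) (O.pow_mem hX n)
    · right
      have hlt : 1 < O.valuation RatFunc.X := by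
        rw [← not_le, O.valuation_le_one_iff]; exact hX
      have : O.valuation.IsTrivialOn k := ⟨fun a ha => by
        apply le_antisymm
        · exact (O.valuation_le_one_iff _).2 (hk ⟨a, rfl⟩)
        · have h1 : O.valuation (algebraMap k (RatFunc k) a⁻¹) ≤ 1 :=
            (O.valuation_le_one_iff _).2 (hk ⟨a⁻¹, rfl⟩)
          rw [map_inv₀, map_inv₀] at h1
          have h0 : O.valuation (algebraMap k (RatFunc k) a) ≠ 0 := by
            simpa using ha
          exact (inv_le_one₀ (zero_lt_iff.2 h0)).1 h1⟩
      have hE := RatFunc.valuation_isEquiv_inftyValuation_of_one_lt_valuation_X hlt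
      rw [Valuation.isEquiv_iff_valuationSubring, O.valuationSubring_valuation] at hE
      exact hE
  · rintro (⟨v, rfl⟩ | rfl)
    · refine ⟨?_, valuationSubring_ne_top v⟩
      rintro _ ⟨a, rfl⟩
      have := v.valuation_le_one (K := RatFunc k) (Polynomial.C a)
      change v.valuation (RatFunc k) (algebraMap k[X] (RatFunc k) (C a)) ≤ 1 at this
      rw [RatFunc.algebraMap_C, ← RatFunc.algebraMap_eq_C] at this
      exact this
    · constructor
      · rintro _ ⟨a, rfl⟩
        change RatFunc.inftyValuation k _ ≤ 1
        by_cases ha : a = 0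
        · simp [ha]
        · rw [RatFunc.algebraMap_eq_C, RatFunc.inftyValuation.C k ha]
      · intro h
        have : (RatFunc.X : RatFunc k) ∈ (RatFunc.inftyValuation k).valuationSubring := by
          rw [h]; trivial
        rw [Valuation.mem_valuationSubring_iff, RatFunc.inftyValuation.X] at this
        revert this
        simp [← WithZero.exp_zero]

end Groth.Agent.Helper5.ValDed
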