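import Groth.Prelude.Def_AlgSpMor5
import Groth.Agent.Helper5.AnCl2
import Mathlib

/-!
# Helper5: generic lemmas for descending a point of a separated space along an extension of
valuation rings
-/

set_option autoImplicit false
universe u
open CategoryTheory CategoryTheory.Limits AlgebraicGeometry Opposite TensorProduct

namespace Groth.Agent.Helper5.ValDesc

open AlgSp Groth.Agent.Helper5.AnCl

variable {S : Scheme.{u}}

/-- Two points of a separated morphism over the same point of the base which agree on a
schematically dominant subscheme of an affine scheme agree. -/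
theorem eq_of_dominant {X Y : Sp S} (f : X ⟶ Y) (hf : IsSeparatedMor f) {T T₀ : Over S}
    [IsAffine T.left] (ι : T₀ ⟶ T) (hι : Function.Injective ι.left.appTop)
    (l l' : (yon S).obj T ⟶ X) (h : l ≫ f = l' ≫ f)
    (h0 : (yon S).map ι ≫ l = (yon S).map ι ≫ l') : l = l' := by
  have hΔ : RepWith @IsClosedImmersion (pullback.diagonal f) := hf
  let m : (yon S).obj T ⟶ pullback f f := pullback.lift l l' h
  have hrep := hΔ.1
  have sq := hrep.isPullback m
  have hci : IsClosedImmersion (hrep.snd m).left := hΔ.2 m _ _ sq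
  have hw : ((yon S).map ι ≫ l) ≫ pullback.diagonal f = (yon S).map ι ≫ m := by
    apply pullback.hom_ext
    · rw [Category.assoc, pullback.diagonal_fst, Category.comp_id, Category.assoc,
        pullback.lift_fst]
    · rw [Category.assoc, pullback.diagonal_snd, Category.comp_id, Category.assoc,
        pullback.lift_snd, h0]
  obtain ⟨k, hk⟩ := (yon S).map_surjective (sq.lift ((yon S).map ι ≫ l) ((yon S).map ι) hw)
  have hk2 : k ≫ hrep.snd m = ι := by
    apply (yon S).map_injective
    rw [Functor.map_comp, hk, sq.lift_snd]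
  have hk3 : k.left ≫ (hrep.snd m).left = ι.left := congrArg (fun t => t.left) hk2
  have hiso : IsIso (hrep.snd m).left := by
    apply IsClosedImmersion.isIso_of_injective_of_isAffine
    have h1 : (hrep.snd m).left.appTop ≫ k.left.appTop = ι.left.appTop := by
      rw [← Scheme.Hom.comp_appTop, hk3]
    rw [← h1] at hι
    simp only [CommRingCat.hom_comp, RingHom.coe_comp] at hι
    exact hι.of_comp
  have hiso2 : IsIso (hrep.snd m) := by
    have : IsIso ((Over.forget S).map (hrep.snd m)) := hiso
    exact isIso_of_reflects_iso _ (Over.forget S)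
  have hiso3 : IsIso ((yon S).map (hrep.snd m)) := inferInstance
  have hm : m = inv ((yon S).map (hrep.snd m)) ≫ hrep.fst m ≫ pullback.diagonal f := by
    rw [sq.w, IsIso.inv_hom_id_assoc]
  have e1 : l = m ≫ pullback.fst f f := (pullback.lift_fst _ _ _).symm
  have e2 : l' = m ≫ pullback.snd f f := (pullback.lift_snd _ _ _).symm
  rw [e1, e2, hm]
  simp only [Category.assoc, pullback.diagonal_fst, pullback.diagonal_snd]

variable {R : Type u} [CommRing R] (σ : Spec (CommRingCat.of R) ⟶ S)

set_option backward.isDefEq.respectTransparency.types false in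
/-- An affine scheme over `Spec R` is the spectrum of an `R`-algebra. -/
theorem exists_specOver_iso (U : Over S) [IsAffine U.left] (u₀ : U ⟶ Over.mk σ) :
    ∃ (B : Type u) (_ : CommRing B) (_ : Algebra R B) (ε : specOver σ B ≅ U),
      ε.hom ≫ u₀ = toBase σ B := by
  let e : U.left ≅ Spec Γ(U.left, ⊤) := U.left.isoSpec
  let ψ : CommRingCat.of R ⟶ Γ(U.left, ⊤) := Spec.preimage (e.inv ≫ u₀.left)
  have hψ : Spec.map ψ = e.inv ≫ u₀.left := Spec.map_preimage _
  letI : Algebra R Γ(U.left, ⊤) := ψ.hom.toAlgebra
  have hw : e.inv ≫ U.hom = (specOver σ Γ(U.left, ⊤)).hom := by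
    change e.inv ≫ U.hom = Spec.map ψ ≫ σ
    rw [hψ, Category.assoc]
    congr 1
    exact (Over.w u₀).symm
  refine ⟨Γ(U.left, ⊤), inferInstance, inferInstance, Over.isoMk e.symm hw, ?_⟩
  ext
  change e.inv ≫ u₀.left = Spec.map ψ
  exact hψ.symm

variable {C₁ C₂ : Type u} [CommRing C₁] [CommRing C₂] [Algebra R C₁] [Algebra R C₂]

/-- Morphisms of spectra over the base are induced by algebra homomorphisms. -/
theorem exists_specMap_eq (h : specOver σ C₂ ⟶ specOver σ C₁)
    (hh : h ≫ toBase σ C₁ = toBase σ C₂) : ∃ φ : C₁ →ₐ[R] C₂, specMap σ φ = h := by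
  let φ₀ : CommRingCat.of C₁ ⟶ CommRingCat.of C₂ := Spec.preimage h.left
  have hφ₀ : Spec.map φ₀ = h.left := Spec.map_preimage _
  have hcomm : ∀ r : R, φ₀.hom (algebraMap R C₁ r) = algebraMap R C₂ r := by
    have h1 : h.left ≫ Spec.map (CommRingCat.ofHom (algebraMap R C₁)) =
        Spec.map (CommRingCat.ofHom (algebraMap R C₂)) := congrArg (fun t => t.left) hh
    rw [← hφ₀, ← Spec.map_comp] at h1
    have h2 := Spec.map_injective h1
    intro r
    exact congrArg (fun t => t.hom r) h2
  refine ⟨{ φ₀.hom with commutes' := hcomm }, ?_⟩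
  ext
  change Spec.map (CommRingCat.ofHom φ₀.hom) = h.left
  exact hφ₀

end Groth.Agent.Helper5.ValDesc
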