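import Groth.Agent.Helper5.ValDesc9
import Groth.Agent.Helper5.EtGlue1
import Groth.Agent.Helper5.FppfLift
import Groth.Agent.Helper5.SchImg2
import Mathlib

/-!
# Helper5: descending the chart point to a section
-/

set_option autoImplicit false
universe u
open CategoryTheory CategoryTheory.Limits AlgebraicGeometry Opposite TensorProduct

namespace Groth.Agent.Helper5.ValDesc

open AlgSp Groth.Agent.Helper5.AnCl

variable {S : Scheme.{u}} {A : Type u} [CommRing A] [IsDomain A] [ValuationRing A]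
  {K : Type u} [Field K] [Algebra A K] [IsFractionRing A K]
  (σ : Spec (CommRingCat.of A) ⟶ S)
  {P : Sp S} (sP : P ⟶ (yon S).obj (Over.mk σ)) (hsep : IsSeparatedMor sP)
  (σK : (yon S).obj (specOver σ K) ⟶ P) (hσK : σK ≫ sP = (yon S).map (toBase σ K))
  {B : Type u} [CommRing B] [Algebra A B] (w : (yon S).obj (specOver σ B) ⟶ P)
  (hwe : RepWith @Etale w)
  (hw : w ≫ sP = (yon S).map (toBase σ B))
  {E : Over S} (e₁ : E ⟶ specOver σ K) (e₂ : E ⟶ specOver σ B)
  (sqE : IsPullback ((yon S).map e₂) ((yon S).map e₁) w σK)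

include hsep hσK hwe hw sqE in
set_option maxHeartbeats 1600000 in
set_option backward.isDefEq.respectTransparency.types false in
theorem exists_section {A'' : Type u} [CommRing A''] [IsLocalRing A''] (β : B →+* A'')
    (hβloc : IsLocalHom (β.comp (algebraMap A B)))
    (hβker : RingHom.ker (gsec e₂.left) ≤ RingHom.ker β) :
    ∃ τ : (yon S).obj (Over.mk σ) ⟶ P,
      (yon S).map (toBase σ K) ≫ τ = σK ∧ τ ≫ sP = 𝟙 _ := by
  let I := RingHom.ker (gsec e₂.left)
  let mk : B →ₐ[A] B ⧸ I := Ideal.Quotient.mkₐ A I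
  obtain ⟨eb, heb, hinj⟩ := exists_eb σ e₂
  haveI hflat : Module.Flat A (B ⧸ I) := flat_quotient σ sP σK hσK w hw e₁ e₂ sqE
  let βb : (B ⧸ I) →+* A'' := Ideal.Quotient.lift I β (fun b hb => hβker hb)
  have hβb : βb.comp (algebraMap A (B ⧸ I)) = β.comp (algebraMap A B) := by
    ext a
    rfl
  haveI hff : Module.FaithfullyFlat A (B ⧸ I) :=
    faithfullyFlat_of_local βb (by rw [hβb]; exact hβloc)
  have het1 := etale_first_proj σ sP hsep σK hσK w hwe hw e₁ e₂ sqE eb heb hinj
  haveI hetB : Algebra.Etale (B ⧸ I) ((B ⧸ I) ⊗[A] (B ⧸ I)) := by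
    have h1 : Etale (Spec.map (CommRingCat.ofHom
        (Algebra.TensorProduct.includeLeft : (B ⧸ I) →ₐ[A] (B ⧸ I) ⊗[A] (B ⧸ I)).toRingHom)) := het1
    have h2 := (HasRingHomProperty.Spec_iff (P := @Etale)).mp h1
    exact RingHom.etale_algebraMap.mp h2
  haveI hetA : Algebra.Etale A (B ⧸ I) :=
    Algebra.Etale.of_etale_tensorProduct_of_faithfullyFlat (B ⧸ I)
  have hbe : Etale (toBase σ (B ⧸ I)).left := by
    change Etale (Spec.map (CommRingCat.ofHom (algebraMap A (B ⧸ I))))
    exact (HasRingHomProperty.Spec_iff (P := @Etale)).mpr (RingHom.etale_algebraMap.mpr hetA)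
  have hbs : Function.Surjective (toBase σ (B ⧸ I)).left := by
    change Function.Surjective (Spec.map (CommRingCat.ofHom (algebraMap A (B ⧸ I))))
    exact PrimeSpectrum.comap_surjective_of_faithfullyFlat
  let x : (yon S).obj (specOver σ (B ⧸ I)) ⟶ P := (yon S).map (specMap σ mk) ≫ w
  have hx : x ≫ sP = (yon S).map (toBase σ (B ⧸ I)) := by
    simp only [x, Category.assoc, hw, ← Functor.map_comp, specMap_toBase]
  have hagree := agree_on_double σ sP hsep σK hσK w hw e₁ e₂ sqE mk eb heb hinj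
  have hcov : Sieve.ofArrows (fun _ : PUnit.{u + 1} => specOver σ (B ⧸ I))
      (fun _ => toBase σ (B ⧸ I)) ∈ J S (Over.mk σ) :=
    Groth.Agent.Helper5.FppfLift.ofArrows_mem_J _ _ (fun _ => inferInstance)
      (fun _ => inferInstance) (fun z => ⟨PUnit.unit, hbs z⟩)
  obtain ⟨τ, hτ, -⟩ := Groth.Agent.Helper5.EtGlue.existsUnique_of_cover P
    (fun _ : PUnit.{u + 1} => specOver σ (B ⧸ I)) (fun _ => toBase σ (B ⧸ I)) hcov (fun _ => x)
    (by
      intro _ _ R r₁ r₂ hr
      have hT := isPullback_tensor σ (B ⧸ I) (B ⧸ I)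
      let r := hT.lift r₁ r₂ hr
      have h1 : r ≫ specMap σ (Algebra.TensorProduct.includeLeft :
          (B ⧸ I) →ₐ[A] (B ⧸ I) ⊗[A] (B ⧸ I)) = r₁ := hT.lift_fst _ _ _
      have h2 : r ≫ specMap σ (Algebra.TensorProduct.includeRight :
          (B ⧸ I) →ₐ[A] (B ⧸ I) ⊗[A] (B ⧸ I)) = r₂ := hT.lift_snd _ _ _
      rw [← h1, ← h2, Functor.map_comp, Functor.map_comp, Category.assoc, Category.assoc]
      congr 1)
  have hτ' : (yon S).map (toBase σ (B ⧸ I)) ≫ τ = x := hτ PUnit.unit
  have hsec : τ ≫ sP = 𝟙 _ := by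
    haveI : Epi ((yon S).map (toBase σ (B ⧸ I))) :=
      Groth.Agent.Helper5.SchImg.epi_of_etale_surjective _
        ((repWith_yon_map_iff _ _).2 hbe)
        ((repWith_yon_map_iff _ _).2 (⟨hbs⟩ : Surjective (toBase σ (B ⧸ I)).left))
    rw [← cancel_epi ((yon S).map (toBase σ (B ⧸ I))), ← Category.assoc, hτ', hx, Category.comp_id]
  refine ⟨τ, ?_, hsec⟩
  haveI : Nontrivial (B ⧸ I) := RingHom.domain_nontrivial βb
  haveI : Nontrivial Γ(E.left, ⊤) := hinj.nontrivial
  haveI : IsAffine (specOver σ K).left :=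
    (inferInstance : IsAffine (Spec (CommRingCat.of K)))
  have hι : Function.Injective e₁.left.appTop :=
    appTop_injective_of_gsec e₁.left (RingHom.injective (gsec e₁.left))
  refine eq_of_dominant sP hsep e₁ hι _ _ ?_ ?_
  · rw [Category.assoc, hsec, Category.comp_id, hσK]
  · have hb1 : (eb ≫ specMap σ mk) ≫ toBase σ B = e₂ ≫ toBase σ B := by rw [heb]
    have hb : e₁ ≫ toBase σ K = eb ≫ toBase σ (B ⧸ I) := by
      rw [← e_toBase σ sP σK hσK w hw e₁ e₂ sqE, ← hb1, Category.assoc, specMap_toBase]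
    rw [← Category.assoc, ← Functor.map_comp, hb, Functor.map_comp, Category.assoc, hτ']
    simp only [x]
    rw [← Category.assoc, ← Functor.map_comp, heb]
    exact sqE.w

end Groth.Agent.Helper5.ValDesc
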