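import Groth.Agent.Helper5.ValDesc1
import Groth.Agent.Helper6.ValLift
import Mathlib

/-!
# Helper5: after enlarging the valuation ring, a point of an algebraic space lifts to an affine
étale chart
-/

set_option autoImplicit false
universe u
open CategoryTheory CategoryTheory.Limits AlgebraicGeometry Opposite TensorProduct IsLocalRing

namespace Groth.Agent.Helper5.ValDesc

open AlgSp

variable {S : Scheme.{u}}

set_option backward.isDefEq.respectTransparency.types false in
theorem exists_chart_lift {P : Sp S} (hP : IsAlgSpace P) (A' : Type u) [CommRing A'] [IsDomain A']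
    [ValuationRing A'] (str' : Spec (CommRingCat.of A') ⟶ S)
    (a' : (yon S).obj (Over.mk str') ⟶ P) :
    ∃ (W : Over S) (_ : IsAffine W.left) (w : (yon S).obj W ⟶ P) (_ : RepWith @Etale w)
      (A'' : Type u) (_ : CommRing A'') (_ : IsDomain A'') (_ : ValuationRing A'')
      (φ : A' →+* A''), Function.Injective φ ∧ IsLocalHom φ ∧
      ∃ b : Over.mk (Spec.map (CommRingCat.ofHom φ) ≫ str') ⟶ W,
        (yon S).map b ≫ w =
          (yon S).map (Over.homMk (Spec.map (CommRingCat.ofHom φ)) rfl :
            Over.mk (Spec.map (CommRingCat.ofHom φ) ≫ str') ⟶ Over.mk str') ≫ a' := by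
  obtain ⟨U, u, hue, hus⟩ := hP.atlas
  have hrep := hue.1
  have sq := hrep.isPullback a'
  have hp'e : Etale (hrep.snd a').left := hue.2 a' _ _ sq
  have hp's : Surjective (hrep.snd a').left := hus.2 a' _ _ sq
  obtain ⟨c, hc⟩ := (yon S).map_surjective (hrep.fst a')
  obtain ⟨u', hu'⟩ := hp's.surj (closedPoint A')
  obtain ⟨A'', i1, i2, i3, φ, hφi, hφl, l, hl, hlc⟩ :=
    Groth.Agent.Helper6.ValLift.exists_valuationRing_lift A' (hrep.snd a').left u' hu'
  let y : U.left := c.left (l (closedPoint A''))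
  obtain ⟨U₀', hU₀, hyU₀, -⟩ :=
    exists_isAffineOpen_mem_and_subset (X := U.left) (x := y) (U := ⊤)
      (TopologicalSpace.Opens.mem_top y)
  have hrange : Set.range (l ≫ c.left).base ⊆ Set.range U₀'.ι.base := by
    rintro _ ⟨t, rfl⟩
    rw [Scheme.Opens.range_ι]
    have h1 : t ⤳ closedPoint A'' := specializes_closedPoint t
    have h2 : (l ≫ c.left) t ⤳ (l ≫ c.left) (closedPoint A'') :=
      h1.map (l ≫ c.left).continuous
    exact h2.mem_open U₀'.2 hyU₀
  let W : Over S := Over.mk (U₀'.ι ≫ U.hom)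
  let ι₀ : W ⟶ U := Over.homMk U₀'.ι rfl
  have hlw : l ≫ (hrep.pullback a').hom = Spec.map (CommRingCat.ofHom φ) ≫ str' := by
    rw [← Over.w (hrep.snd a'), ← Category.assoc, hl]
    rfl
  let l' : Over.mk (Spec.map (CommRingCat.ofHom φ) ≫ str') ⟶ hrep.pullback a' := Over.homMk l hlw
  let b : Over.mk (Spec.map (CommRingCat.ofHom φ) ≫ str') ⟶ W :=
    Over.homMk (IsOpenImmersion.lift U₀'.ι (l ≫ c.left) hrange) (by
      change IsOpenImmersion.lift U₀'.ι (l ≫ c.left) hrange ≫ U₀'.ι ≫ U.hom = _
      rw [← Category.assoc, IsOpenImmersion.lift_fac, Category.assoc, Over.w c]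
      exact hlw)
  have hb : b ≫ ι₀ = l' ≫ c := by
    ext
    exact IsOpenImmersion.lift_fac _ _ _
  have i4 : (RepWith (S := S) @Etale).IsStableUnderComposition :=
    (repWith_isMultiplicative (S := S) @Etale).toIsStableUnderComposition
  have hW : IsAffine W.left := hU₀
  refine ⟨W, hW, (yon S).map ι₀ ≫ u, ?_, A'', i1, i2, i3, φ, hφi, hφl, b, ?_⟩
  · exact MorphismProperty.comp_mem _ _ _
      ((repWith_yon_map_iff _ _).2 (inferInstance : Etale U₀'.ι)) hue
  · rw [← Category.assoc, ← Functor.map_comp, hb, Functor.map_comp, Category.assoc, hc, sq.w,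
      ← Category.assoc, ← Functor.map_comp]
    congr 2
    ext
    exact hl

end Groth.Agent.Helper5.ValDesc
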