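import Groth.Agent.Helper5.ValDesc10
import Groth.Agent.Helper5.ValDesc2
import Groth.Agent.Helper5.AlgSpProper
import Groth.Agent.Helper4.AlgSpPB
import Mathlib

/-!
# Helper5: a lift after a dominating extension descends (separated morphisms of spaces)
-/

set_option autoImplicit false
universe u
open CategoryTheory CategoryTheory.Limits AlgebraicGeometry Opposite TensorProduct

namespace Groth.Agent.Helper5.ValDesc

open AlgSp Groth.Agent.Helper5.AnCl

section ker

variable {S : Scheme.{u}} {A : Type u} [CommRing A]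
  {K : Type u} [CommRing K] [Algebra A K]
  (σ : Spec (CommRingCat.of A) ⟶ S)
  {P : Sp S}
  (σK : (yon S).obj (specOver σ K) ⟶ P)
  {B : Type u} [CommRing B] [Algebra A B] (w : (yon S).obj (specOver σ B) ⟶ P)
  {E : Over S} (e₁ : E ⟶ specOver σ K) (e₂ : E ⟶ specOver σ B)
  (sqE : IsPullback ((yon S).map e₂) ((yon S).map e₁) w σK)

include sqE in
theorem ker_le_of_point {Z : Over S} (z₂ : Z ⟶ specOver σ B) (z₁ : Z ⟶ specOver σ K)
    (hz : (yon S).map z₂ ≫ w = (yon S).map z₁ ≫ σK) :
    RingHom.ker (gsec e₂.left) ≤ RingHom.ker (gsec z₂.left) := by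
  obtain ⟨ε₀, hε₀⟩ := (yon S).map_surjective (sqE.lift _ _ hz)
  have h1 : ε₀ ≫ e₂ = z₂ := by
    apply (yon S).map_injective
    rw [Functor.map_comp, hε₀, sqE.lift_fst]
  have h2 : gsec z₂.left = ε₀.left.appTop.hom.comp (gsec e₂.left) := by
    rw [← gsec_comp, ← h1]
    rfl
  intro b hb
  rw [RingHom.mem_ker] at hb ⊢
  rw [h2, RingHom.comp_apply, hb, map_zero]

end ker

end Groth.Agent.Helper5.ValDesc
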