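import Groth.Agent.Helper5.ValDesc11
import Mathlib

/-!
# Helper5: a lift after a dominating extension descends (separated morphisms of spaces): assembly
-/

set_option autoImplicit false
universe u
open CategoryTheory CategoryTheory.Limits AlgebraicGeometry Opposite TensorProduct

namespace Groth.Agent.Helper5.ValDesc

open AlgSp Groth.Agent.Helper5.AnCl

variable {S : Scheme.{u}}

set_option maxHeartbeats 1600000 in
set_option backward.isDefEq.respectTransparency.types false in
theorem hasLift_of_domExt {X Y : Sp S} (hX : IsAlgSpace X) (hY : IsAlgSpace Y) (f : X ⟶ Y)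
    (hf : IsSeparatedMor f) (sq : ValSq f) (e : sq.DomExt) (he : e.HasLift) : sq.HasLift := by
  obtain ⟨l, hl1, hl2⟩ := he
  let σ : Spec (CommRingCat.of sq.A) ⟶ S := sq.str
  let P : Sp S := pullback f sq.bot
  let fstP : P ⟶ X := pullback.fst f sq.bot
  let sP : P ⟶ (yon S).obj (Over.mk σ) := pullback.snd f sq.bot
  have hPB : IsPullback fstP sP f sq.bot := IsPullback.of_hasPullback f sq.bot
  have hsepP : IsSeparatedMor sP :=
    Groth.Agent.Helper5.AlgSpProper.isSeparatedMor_of_isPullback hPB hf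
  have hP : IsAlgSpace P :=
    Groth.Agent.Helper4.AlgSpPB.isAlgSpace_of_isPullback hY.diag hX (IsAlgSpace.yon_obj _)
      f sq.bot fstP sP hPB
  let σK : (yon S).obj (specOver σ sq.K) ⟶ P :=
    pullback.lift sq.top ((yon S).map (toBase σ sq.K)) sq.comm
  have hσK : σK ≫ sP = (yon S).map (toBase σ sq.K) := pullback.lift_snd _ _ _
  have hσK1 : σK ≫ fstP = sq.top := pullback.lift_fst _ _ _
  -- the point of `P` over `A'`
  let str' : Spec (CommRingCat.of e.A') ⟶ S := Spec.map (CommRingCat.ofHom e.φ) ≫ sq.str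
  let toA : Over.mk str' ⟶ Over.mk σ := Over.homMk (Spec.map (CommRingCat.ofHom e.φ)) rfl
  let a' : (yon S).obj (Over.mk str') ⟶ P := pullback.lift l ((yon S).map toA) hl2
  have ha'1 : a' ≫ fstP = l := pullback.lift_fst _ _ _
  have ha'2 : a' ≫ sP = (yon S).map toA := pullback.lift_snd _ _ _
  obtain ⟨W, hWaff, w₀, hw₀e, A'', iCR, iDom, iVR, φ'', hφ''inj, hφ''loc, b, hb⟩ :=
    exists_chart_lift hP e.A' str' a'
  haveI := hWaff
  obtain ⟨u₀, hu₀⟩ := (yon S).map_surjective (w₀ ≫ sP)
  obtain ⟨B, iB, iAB, ε, hε⟩ := exists_specOver_iso σ W u₀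
  obtain ⟨w, hwdef⟩ : ∃ w : (yon S).obj (specOver σ B) ⟶ P, w = (yon S).map ε.hom ≫ w₀ :=
    ⟨_, rfl⟩
  haveI : IsIso ε.hom.left := inferInstanceAs (IsIso ((Over.forget S).map ε.hom))
  have hwe : RepWith @Etale w := by
    rw [hwdef]
    exact Groth.Agent.Helper4.AlgSpSrc.repWith_comp _
      ((repWith_yon_map_iff _ _).2 (inferInstance : Etale ε.hom.left)) hw₀e
  have hw : w ≫ sP = (yon S).map (toBase σ B) := by
    rw [hwdef, Category.assoc, ← hu₀, ← Functor.map_comp, hε]
  -- the fibre of the chart over the generic point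
  let E : Over S := hwe.1.pullback σK
  let e₁ : E ⟶ specOver σ sq.K := hwe.1.snd σK
  obtain ⟨e₂, he₂⟩ := (yon S).map_surjective (hwe.1.fst σK)
  have sqE : IsPullback ((yon S).map e₂) ((yon S).map e₁) w σK := by
    rw [he₂]
    exact hwe.1.isPullback σK
  -- the point of the chart
  let ptA'' : Over S := Over.mk (Spec.map (CommRingCat.ofHom φ'') ≫ str')
  let toA' : ptA'' ⟶ Over.mk str' := Over.homMk (Spec.map (CommRingCat.ofHom φ'')) rfl
  let b' : ptA'' ⟶ specOver σ B := b ≫ ε.inv
  have hb' : b' ≫ ε.hom = b := by rw [Category.assoc, Iso.inv_hom_id, Category.comp_id]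
  let β : B →+* A'' := (Spec.preimage b'.left).hom
  have hβ : Spec.map (CommRingCat.ofHom β) = b'.left := Spec.map_preimage _
  have hb'w : (yon S).map b' ≫ w = (yon S).map toA' ≫ a' := by
    rw [← hb, hwdef, ← Category.assoc, ← Functor.map_comp, hb']
  have hbu : b' ≫ toBase σ B = toA' ≫ toA := by
    apply (yon S).map_injective
    rw [Functor.map_comp, ← hw, ← Category.assoc, hb'w, Category.assoc, ha'2, Functor.map_comp]
  have hβcomp : β.comp (algebraMap sq.A B) = φ''.comp e.φ := by
    have h1 := congrArg (fun t => t.left) hbu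
    change b'.left ≫ Spec.map (CommRingCat.ofHom (algebraMap sq.A B)) =
      Spec.map (CommRingCat.ofHom φ'') ≫ Spec.map (CommRingCat.ofHom e.φ) at h1
    rw [← hβ, ← Spec.map_comp, ← Spec.map_comp] at h1
    have h2 := Spec.map_injective h1
    exact congrArg (fun t => t.hom) h2
  haveI := e.isLocalHom
  haveI := hφ''loc
  have hβloc : IsLocalHom (β.comp (algebraMap sq.A B)) := by
    rw [hβcomp]
    exact RingHom.isLocalHom_comp _ _
  -- the generic point of the chart point
  have key : ∀ (K'' : Type u) [Field K''] [Algebra A'' K''] [IsFractionRing A'' K''],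
      RingHom.ker (gsec e₂.left) ≤ RingHom.ker β := by
    intro K'' _ _ _
    let gθ : e.A' →+* K'' := (algebraMap A'' K'').comp φ''
    have hgθ : Function.Injective gθ := (IsFractionRing.injective A'' K'').comp hφ''inj
    let θ : e.K' →+* K'' := IsFractionRing.lift hgθ
    have hθ : θ.comp (algebraMap e.A' e.K') = gθ := by
      ext x
      exact IsFractionRing.lift_algebraMap hgθ x
    let ψ'' : sq.K →+* K'' := θ.comp e.ψ
    have hψ'' : ψ''.comp (algebraMap sq.A sq.K) = (algebraMap A'' K'').comp (φ''.comp e.φ) := by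
      rw [RingHom.comp_assoc, ← e.comm, ← RingHom.comp_assoc, hθ]
      rfl
    let Z : Over S := Over.mk (Spec.map (CommRingCat.ofHom (algebraMap A'' K'')) ≫ ptA''.hom)
    let κ : Z ⟶ ptA'' := Over.homMk (Spec.map (CommRingCat.ofHom (algebraMap A'' K''))) rfl
    let z₂ : Z ⟶ specOver σ B := κ ≫ b'
    have hZK : Spec.map (CommRingCat.ofHom ψ'') ≫ (specOver σ sq.K).hom = Z.hom := by
      change Spec.map _ ≫ Spec.map _ ≫ σ = Spec.map _ ≫ Spec.map _ ≫ Spec.map _ ≫ sq.str
      rw [← Spec.map_comp_assoc, ← CommRingCat.ofHom_comp, hψ'', CommRingCat.ofHom_comp,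
        CommRingCat.ofHom_comp, Spec.map_comp, Spec.map_comp, Category.assoc, Category.assoc]
    let z₁ : Z ⟶ specOver σ sq.K := Over.homMk (Spec.map (CommRingCat.ofHom ψ'')) hZK
    have hZK' : Spec.map (CommRingCat.ofHom θ) ≫ e.ptK'.hom = Z.hom := by
      change Spec.map _ ≫ Spec.map _ ≫ Spec.map _ ≫ sq.str =
        Spec.map _ ≫ Spec.map _ ≫ Spec.map _ ≫ sq.str
      rw [← Spec.map_comp_assoc, ← CommRingCat.ofHom_comp, hθ, CommRingCat.ofHom_comp,
        Spec.map_comp, Category.assoc]
    let tθ : Z ⟶ e.ptK' := Over.homMk (Spec.map (CommRingCat.ofHom θ)) hZK'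
    let jA' : e.ptK' ⟶ e.ptA' :=
      Over.homMk (Spec.map (CommRingCat.ofHom (algebraMap e.A' e.K'))) rfl
    let tψ : e.ptK' ⟶ sq.ptK := Over.homMk (Spec.map (CommRingCat.ofHom e.ψ)) (by
      change Spec.map _ ≫ Spec.map _ ≫ _ = Spec.map _ ≫ Spec.map _ ≫ _
      rw [← Spec.map_comp_assoc, ← Spec.map_comp_assoc, ← CommRingCat.ofHom_comp,
        ← CommRingCat.ofHom_comp, e.comm])
    have hl1' : (yon S).map jA' ≫ l = (yon S).map tψ ≫ sq.top := hl1
    have hκ : κ ≫ toA' = tθ ≫ jA' := by
      ext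
      change Spec.map _ ≫ Spec.map _ = Spec.map _ ≫ Spec.map _
      rw [← Spec.map_comp, ← Spec.map_comp, ← CommRingCat.ofHom_comp, ← CommRingCat.ofHom_comp, hθ]
    have hz₁ : z₁ = tθ ≫ tψ := by
      ext
      change Spec.map _ = Spec.map _ ≫ Spec.map _
      rw [← Spec.map_comp, ← CommRingCat.ofHom_comp]
    have hbase : z₂ ≫ toBase σ B = z₁ ≫ toBase σ sq.K := by
      rw [Category.assoc, hbu]
      ext
      change Spec.map _ ≫ Spec.map _ ≫ Spec.map _ = Spec.map _ ≫ Spec.map _
      rw [← Spec.map_comp, ← Spec.map_comp, ← Spec.map_comp, ← CommRingCat.ofHom_comp,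
        ← CommRingCat.ofHom_comp, ← CommRingCat.ofHom_comp, hψ'']
    have hz : (yon S).map z₂ ≫ w = (yon S).map z₁ ≫ σK := by
      apply pullback.hom_ext
      · change ((yon S).map z₂ ≫ w) ≫ fstP = ((yon S).map z₁ ≫ σK) ≫ fstP
        rw [Category.assoc, Category.assoc, hσK1, Functor.map_comp, Category.assoc,
          ← Category.assoc ((yon S).map b'), hb'w, Category.assoc, ha'1, ← Category.assoc,
          ← Functor.map_comp, hκ, Functor.map_comp, Category.assoc, hl1', hz₁, Functor.map_comp,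
          Category.assoc]
      · change ((yon S).map z₂ ≫ w) ≫ sP = ((yon S).map z₁ ≫ σK) ≫ sP
        rw [Category.assoc, Category.assoc, hσK, hw, ← Functor.map_comp, ← Functor.map_comp, hbase]
    have h1 := ker_le_of_point σ σK w e₁ e₂ sqE z₂ z₁ hz
    have h2 : z₂.left = Spec.map (CommRingCat.ofHom ((algebraMap A'' K'').comp β)) := by
      change Spec.map _ ≫ b'.left = _
      rw [← hβ, ← Spec.map_comp, ← CommRingCat.ofHom_comp]
    intro x hx
    have h3 := h1 hx
    rw [RingHom.mem_ker, h2, gsec_specMap, RingHom.comp_apply, RingHom.comp_apply] at h3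
    rw [RingHom.mem_ker]
    have h4 : Function.Injective (Scheme.ΓSpecIso (CommRingCat.of K'')).inv.hom :=
      (ConcreteCategory.bijective_of_isIso (Scheme.ΓSpecIso (CommRingCat.of K'')).inv).injective
    have h5 := h4 (h3.trans (map_zero _).symm)
    exact IsFractionRing.injective A'' K'' (h5.trans (map_zero _).symm)
  have hβker := key (FractionRing A'')
  haveI : IsLocalRing A'' := inferInstance
  obtain ⟨τ, hτ1, hτ2⟩ := exists_section σ sP hsepP σK hσK w hwe hw e₁ e₂ sqE β hβloc hβker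
  refine ⟨τ ≫ fstP, ?_, ?_⟩
  · rw [← Category.assoc]
    rw [show (yon S).map sq.j ≫ τ = σK from hτ1, hσK1]
  · rw [Category.assoc, hPB.w, ← Category.assoc, hτ2, Category.id_comp]

end Groth.Agent.Helper5.ValDesc
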