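import Groth.Agent.Helper5.ValDesc12
import Mathlib

/-!
# Helper5: a lift gives a lift after the trivial extension
-/

set_option autoImplicit false
universe u
open CategoryTheory CategoryTheory.Limits AlgebraicGeometry Opposite TensorProduct

namespace Groth.Agent.Helper5.ValDesc

open AlgSp

variable {S : Scheme.{u}}

/-- The trivial dominating extension. -/
noncomputable def trivExt {F G : Sp S} {f : F ⟶ G} (sq : ValSq f) : sq.DomExt where
  A' := sq.A
  K' := sq.K
  φ := RingHom.id _
  ψ := RingHom.id _
  comm := rfl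
  isLocalHom := ⟨fun _ h => h⟩

set_option backward.isDefEq.respectTransparency.types false in
theorem hasLiftExt_of_hasLift {F G : Sp S} {f : F ⟶ G} (sq : ValSq f) (h : sq.HasLift) :
    sq.HasLiftExt := by
  obtain ⟨l, hl1, hl2⟩ := h
  let e := trivExt sq
  let toA : e.ptA' ⟶ sq.ptA := Over.homMk (Spec.map (CommRingCat.ofHom e.φ)) rfl
  refine ⟨e, (yon S).map toA ≫ l, ?_, ?_⟩
  · rw [← hl1, ← Category.assoc, ← Category.assoc, ← Functor.map_comp, ← Functor.map_comp]
    congr 2
    ext
    change Spec.map _ ≫ Spec.map _ = Spec.map _ ≫ Spec.map _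
    rw [← Spec.map_comp, ← Spec.map_comp, ← CommRingCat.ofHom_comp, ← CommRingCat.ofHom_comp]
    rfl
  · rw [Category.assoc, hl2]

end Groth.Agent.Helper5.ValDesc
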