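import Groth.Agent.Helper5.ValDesc1
import Mathlib

/-!
# Helper5: morphisms to affine schemes through their maps on global sections
-/

set_option autoImplicit false
universe u
open CategoryTheory CategoryTheory.Limits AlgebraicGeometry Opposite TensorProduct

namespace Groth.Agent.Helper5.ValDesc

variable {X X' : Scheme.{u}} {C C₁ C₂ : Type u} [CommRing C] [CommRing C₁] [CommRing C₂]

/-- The ring map `C → Γ(X)` of a morphism `X → Spec C`. -/
noncomputable def gsec (g : X ⟶ Spec (CommRingCat.of C)) : C →+* Γ(X, ⊤) :=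
  g.appTop.hom.comp (Scheme.ΓSpecIso (CommRingCat.of C)).inv.hom

theorem gsec_comp (h : X' ⟶ X) (g : X ⟶ Spec (CommRingCat.of C)) :
    gsec (h ≫ g) = h.appTop.hom.comp (gsec g) := by
  unfold gsec
  rw [Scheme.Hom.comp_appTop, CommRingCat.hom_comp, RingHom.comp_assoc]

theorem gsec_comp_specMap (g : X ⟶ Spec (CommRingCat.of C₂)) (φ : C₁ →+* C₂) :
    gsec (g ≫ Spec.map (CommRingCat.ofHom φ)) = (gsec g).comp φ := by
  unfold gsec
  have h := Scheme.ΓSpecIso_inv_naturality (CommRingCat.ofHom φ)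
  have h' := congrArg (fun t => t.hom) h
  simp only [CommRingCat.hom_comp, CommRingCat.hom_ofHom] at h'
  rw [Scheme.Hom.comp_appTop, CommRingCat.hom_comp, RingHom.comp_assoc, RingHom.comp_assoc, ← h']

theorem ext_gsec (g g' : X ⟶ Spec (CommRingCat.of C)) (h : gsec g = gsec g') : g = g' := by
  apply ext_of_isAffine
  apply CommRingCat.hom_ext
  have h1 : g.appTop.hom = (gsec g).comp (Scheme.ΓSpecIso (CommRingCat.of C)).hom.hom := by
    unfold gsec
    rw [RingHom.comp_assoc, ← CommRingCat.hom_comp, Iso.hom_inv_id]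
    rfl
  have h2 : g'.appTop.hom = (gsec g').comp (Scheme.ΓSpecIso (CommRingCat.of C)).hom.hom := by
    unfold gsec
    rw [RingHom.comp_assoc, ← CommRingCat.hom_comp, Iso.hom_inv_id]
    rfl
  rw [h1, h2, h]

theorem exists_of_gsec (φ : C →+* Γ(X, ⊤)) : ∃ g : X ⟶ Spec (CommRingCat.of C), gsec g = φ := by
  refine ⟨X.toSpecΓ ≫ Spec.map (CommRingCat.ofHom φ), ?_⟩
  rw [gsec_comp_specMap]
  unfold gsec
  rw [Scheme.toSpecΓ_appTop, ← CommRingCat.hom_comp, Iso.inv_hom_id]
  rfl

/-- A morphism to `Spec B` whose map on global sections kills `I` factors through `Spec B/I`. -/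
theorem exists_lift_quotient {B : Type u} [CommRing B] (I : Ideal B)
    (g : X ⟶ Spec (CommRingCat.of B)) (hI : I ≤ RingHom.ker (gsec g)) :
    ∃ g' : X ⟶ Spec (CommRingCat.of (B ⧸ I)),
      g' ≫ Spec.map (CommRingCat.ofHom (Ideal.Quotient.mk I)) = g := by
  obtain ⟨g', hg'⟩ := exists_of_gsec (X := X) (Ideal.Quotient.lift I (gsec g) (fun b hb => hI hb))
  refine ⟨g', ext_gsec _ _ ?_⟩
  rw [gsec_comp_specMap, hg']
  ext b
  simp

end Groth.Agent.Helper5.ValDesc
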