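import Groth.Agent.Helper5.ValDesc3
import Mathlib

/-!
# Helper5: the closure of the generic fibre in an affine étale chart
-/

set_option autoImplicit false
universe u
open CategoryTheory CategoryTheory.Limits AlgebraicGeometry Opposite TensorProduct

namespace Groth.Agent.Helper5.ValDesc

open AlgSp Groth.Agent.Helper5.AnCl

variable {S : Scheme.{u}} {A : Type u} [CommRing A] [IsDomain A] [ValuationRing A]
  {K : Type u} [Field K] [Algebra A K] [IsFractionRing A K]
  (σ : Spec (CommRingCat.of A) ⟶ S)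
  {P : Sp S} (sP : P ⟶ (yon S).obj (Over.mk σ))
  (σK : (yon S).obj (specOver σ K) ⟶ P) (hσK : σK ≫ sP = (yon S).map (toBase σ K))
  {B : Type u} [CommRing B] [Algebra A B] (w : (yon S).obj (specOver σ B) ⟶ P)
  (hw : w ≫ sP = (yon S).map (toBase σ B))
  {E : Over S} (e₁ : E ⟶ specOver σ K) (e₂ : E ⟶ specOver σ B)
  (sqE : IsPullback ((yon S).map e₂) ((yon S).map e₁) w σK)

include hσK hw sqE in
theorem e_toBase : e₂ ≫ toBase σ B = e₁ ≫ toBase σ K := by
  apply (yon S).map_injective
  rw [Functor.map_comp, Functor.map_comp, ← hw, ← hσK, ← Category.assoc, sqE.w, Category.assoc]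

include hσK hw sqE in
theorem gsec_compat :
    (gsec e₂.left).comp (algebraMap A B) = (gsec e₁.left).comp (algebraMap A K) := by
  have h := congrArg (fun t => t.left) (e_toBase σ sP σK hσK w hw e₁ e₂ sqE)
  change e₂.left ≫ Spec.map (CommRingCat.ofHom (algebraMap A B)) =
    e₁.left ≫ Spec.map (CommRingCat.ofHom (algebraMap A K)) at h
  rw [← gsec_comp_specMap, ← gsec_comp_specMap, h]

include hσK hw sqE in
/-- multiplication by a nonzero element of `A` is injective on `Γ(E)` -/
theorem gsec_regular (a : A) (ha : a ≠ 0) (x : Γ(E.left, ⊤))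
    (hx : gsec e₂.left (algebraMap A B a) * x = 0) : x = 0 := by
  have h1 : gsec e₂.left (algebraMap A B a) = gsec e₁.left (algebraMap A K a) :=
    congrArg (fun t => t a) (gsec_compat σ sP σK hσK w hw e₁ e₂ sqE)
  have h2 : IsUnit (algebraMap A K a) :=
    isUnit_iff_ne_zero.mpr (by
      rwa [Ne, ← (algebraMap A K).map_zero,
        (IsFractionRing.injective A K).eq_iff])
  have h3 : IsUnit (gsec e₁.left (algebraMap A K a)) := h2.map _
  rw [h1] at hx
  exact (h3.mul_right_eq_zero).mp hx

include hσK hw sqE in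
theorem flat_quotient : Module.Flat A (B ⧸ RingHom.ker (gsec e₂.left)) := by
  rw [Module.Flat.flat_iff_torsion_eq_bot_of_isBezout, eq_bot_iff]
  rintro x ⟨⟨a, ha⟩, hax⟩
  obtain ⟨b, rfl⟩ := Ideal.Quotient.mk_surjective x
  rw [Submodule.mem_bot, Ideal.Quotient.eq_zero_iff_mem, RingHom.mem_ker]
  have h1 : Ideal.Quotient.mk (RingHom.ker (gsec e₂.left)) (algebraMap A B a * b) = 0 := by
    rw [← hax]
    simp [Algebra.smul_def]
  rw [Ideal.Quotient.eq_zero_iff_mem, RingHom.mem_ker, map_mul] at h1
  exact gsec_regular σ sP σK hσK w hw e₁ e₂ sqE a (nonZeroDivisors.ne_zero ha) _ h1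

/-- faithful flatness from a local point -/
theorem faithfullyFlat_of_local {D A'' : Type u} [CommRing D] [Algebra A D] [Module.Flat A D]
    [CommRing A''] [IsLocalRing A''] (β : D →+* A'')
    (hloc : IsLocalHom (β.comp (algebraMap A D))) : Module.FaithfullyFlat A D := by
  refine ⟨fun m hm htop => ?_⟩
  have hm' : m = IsLocalRing.maximalIdeal A := IsLocalRing.eq_maximalIdeal hm
  have h0 : (m.map (algebraMap A D)).restrictScalars A = ⊤ := by
    rw [← Ideal.smul_top_eq_map]; exact htop
  have h1 : m.map (algebraMap A D) = ⊤ := (Submodule.restrictScalars_eq_top_iff _ _ _).mp h0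
  have h2 : (m.map (algebraMap A D)).map β = ⊤ := by rw [h1, Ideal.map_top]
  rw [Ideal.map_map, hm'] at h2
  have h3 : (IsLocalRing.maximalIdeal A).map (β.comp (algebraMap A D)) ≤
      IsLocalRing.maximalIdeal A'' :=
    ((IsLocalRing.local_hom_TFAE (β.comp (algebraMap A D))).out 0 2).mp hloc
  rw [h2] at h3
  exact (IsLocalRing.maximalIdeal.isMaximal A'').ne_top (top_le_iff.mp h3)

end Groth.Agent.Helper5.ValDesc
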