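import Groth.Agent.Helper5.ValDesc4
import Groth.Agent.Helper4.UB1
import Mathlib

/-!
# Helper5: the closure of the generic fibre maps to the space through the generic point
-/

set_option autoImplicit false
universe u
open CategoryTheory CategoryTheory.Limits AlgebraicGeometry Opposite TensorProduct

namespace Groth.Agent.Helper5.ValDesc

open AlgSp Groth.Agent.Helper5.AnCl

theorem appTop_specMap_injective {C₁ C₂ : Type u} [CommRing C₁] [CommRing C₂] (φ : C₁ →+* C₂)
    (hφ : Function.Injective φ) :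
    Function.Injective (Spec.map (CommRingCat.ofHom φ)).appTop := by
  have := Scheme.ΓSpecIso_naturality (CommRingCat.ofHom φ)
  have h3 : (Spec.map (CommRingCat.ofHom φ)).appTop =
      (Scheme.ΓSpecIso (.of C₁)).hom ≫ CommRingCat.ofHom φ ≫ (Scheme.ΓSpecIso (.of C₂)).inv := by
    rw [← Category.assoc, ← this, Category.assoc, Iso.hom_inv_id, Category.comp_id]
  rw [h3]
  simp only [CommRingCat.hom_comp, RingHom.coe_comp]
  refine Function.Injective.comp (Function.Injective.comp ?_ hφ) ?_
  · exact (ConcreteCategory.bijective_of_isIso (Scheme.ΓSpecIso (.of C₂)).inv).1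
  · exact (ConcreteCategory.bijective_of_isIso (Scheme.ΓSpecIso (.of C₁)).hom).1

theorem appTop_injective_of_gsec {X : Scheme.{u}} {C : Type u} [CommRing C]
    (g : X ⟶ Spec (CommRingCat.of C)) (h : Function.Injective (gsec g)) :
    Function.Injective g.appTop := by
  have h1 : g.appTop.hom = (gsec g).comp (Scheme.ΓSpecIso (CommRingCat.of C)).hom.hom := by
    unfold gsec
    rw [RingHom.comp_assoc, ← CommRingCat.hom_comp, Iso.hom_inv_id]
    rfl
  change Function.Injective g.appTop.hom
  rw [h1, RingHom.coe_comp]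
  exact h.comp (ConcreteCategory.bijective_of_isIso (Scheme.ΓSpecIso (.of C)).hom).1

variable {S : Scheme.{u}} {A : Type u} [CommRing A] [IsDomain A] [ValuationRing A]
  {K : Type u} [Field K] [Algebra A K] [IsFractionRing A K]
  (σ : Spec (CommRingCat.of A) ⟶ S)
  {P : Sp S} (sP : P ⟶ (yon S).obj (Over.mk σ)) (hsep : IsSeparatedMor sP)
  (σK : (yon S).obj (specOver σ K) ⟶ P) (hσK : σK ≫ sP = (yon S).map (toBase σ K))
  {B : Type u} [CommRing B] [Algebra A B] (w : (yon S).obj (specOver σ B) ⟶ P)
  (hw : w ≫ sP = (yon S).map (toBase σ B))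
  {E : Over S} (e₁ : E ⟶ specOver σ K) (e₂ : E ⟶ specOver σ B)
  (sqE : IsPullback ((yon S).map e₂) ((yon S).map e₁) w σK)
  {Bb : Type u} [CommRing Bb] [Algebra A Bb] (mk : B →ₐ[A] Bb)
  (eb : E ⟶ specOver σ Bb) (heb : eb ≫ specMap σ mk = e₂)
  (hinj : Function.Injective (gsec eb.left))

/-- injectivity of the map `B̄ ⊗ K → Γ(E)` -/
theorem injective_of_localization {Q : Type u} [CommRing Q] (θ : Bb ⊗[A] K →+* Q)
    (h : Function.Injective (θ.comp (algebraMap Bb (Bb ⊗[A] K)))) : Function.Injective θ := by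
  rw [injective_iff_map_eq_zero]
  intro z hz
  obtain ⟨⟨b, s⟩, hbs⟩ := IsLocalization.surj
    (Algebra.algebraMapSubmonoid Bb (nonZeroDivisors A)) z
  have h1 : θ (algebraMap Bb (Bb ⊗[A] K) b) = 0 := by
    rw [← hbs, map_mul, hz, zero_mul]
  have h2 : b = 0 := by
    have := h (a₁ := b) (a₂ := 0) (by simpa using h1)
    exact this
  rw [h2, map_zero] at hbs
  have hu : IsUnit (algebraMap Bb (Bb ⊗[A] K) s) :=
    IsLocalization.map_units (M := Algebra.algebraMapSubmonoid Bb (nonZeroDivisors A)) _ s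
  exact (hu.mul_left_eq_zero).mp hbs

include hsep hσK hw sqE heb hinj in
set_option backward.isDefEq.respectTransparency.types false in
theorem star :
    (yon S).map (specMap σ (Algebra.TensorProduct.includeLeft : Bb →ₐ[A] Bb ⊗[A] K)) ≫
      (yon S).map (specMap σ mk) ≫ w =
    (yon S).map (specMap σ (Algebra.TensorProduct.includeRight : K →ₐ[A] Bb ⊗[A] K)) ≫ σK := by
  have hbase : eb ≫ toBase σ Bb = e₁ ≫ toBase σ K := by
    rw [← e_toBase σ sP σK hσK w hw e₁ e₂ sqE, ← heb, Category.assoc, specMap_toBase]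
  have hT := isPullback_tensor σ Bb K
  let ι : E ⟶ specOver σ (Bb ⊗[A] K) := hT.lift eb e₁ hbase
  have hι1 : ι ≫ specMap σ (Algebra.TensorProduct.includeLeft : Bb →ₐ[A] Bb ⊗[A] K) = eb :=
    hT.lift_fst _ _ _
  have hι2 : ι ≫ specMap σ (Algebra.TensorProduct.includeRight : K →ₐ[A] Bb ⊗[A] K) = e₁ :=
    hT.lift_snd _ _ _
  haveI : IsAffine (specOver σ (Bb ⊗[A] K)).left :=
    (inferInstance : IsAffine (Spec (CommRingCat.of (Bb ⊗[A] K))))
  have hgι : Function.Injective (gsec ι.left) := by
    apply injective_of_localization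
    have h1 : (gsec ι.left).comp (algebraMap Bb (Bb ⊗[A] K)) = gsec eb.left := by
      have h2 := congrArg (fun t => t.left) hι1
      change ι.left ≫ Spec.map (CommRingCat.ofHom
        (Algebra.TensorProduct.includeLeft : Bb →ₐ[A] Bb ⊗[A] K).toRingHom) = eb.left at h2
      rw [← h2, gsec_comp_specMap]
      rfl
    rw [h1]
    exact hinj
  refine eq_of_dominant sP hsep ι (appTop_injective_of_gsec ι.left hgι) _ _ ?_ ?_
  · rw [Category.assoc, Category.assoc, hw, Category.assoc, hσK, ← Functor.map_comp,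
      ← Functor.map_comp, ← Functor.map_comp, specMap_toBase, specMap_toBase, specMap_toBase]
  · rw [← Category.assoc, ← Functor.map_comp, hι1, ← Category.assoc, ← Functor.map_comp, heb,
      ← Category.assoc, ← Functor.map_comp, hι2]
    exact sqE.w

include hsep hσK hw sqE heb hinj in
theorem star' {D : Type u} [CommRing D] [Algebra A D] (γ : Bb →ₐ[A] D) (κ : K →ₐ[A] D) :
    (yon S).map (specMap σ γ) ≫ (yon S).map (specMap σ mk) ≫ w =
      (yon S).map (specMap σ κ) ≫ σK := by
  have h1 : γ = (Algebra.TensorProduct.productMap γ κ).comp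
      (Algebra.TensorProduct.includeLeft : Bb →ₐ[A] Bb ⊗[A] K) :=
    (Algebra.TensorProduct.productMap_left γ κ).symm
  have h2 : κ = (Algebra.TensorProduct.productMap γ κ).comp
      (Algebra.TensorProduct.includeRight : K →ₐ[A] Bb ⊗[A] K) :=
    (Algebra.TensorProduct.productMap_right γ κ).symm
  conv_lhs => rw [h1]
  conv_rhs => rw [h2]
  rw [specMap_comp, specMap_comp, Functor.map_comp, Functor.map_comp, Category.assoc,
    Category.assoc, star σ sP hsep σK hσK w hw e₁ e₂ sqE mk eb heb hinj]

end Groth.Agent.Helper5.ValDesc
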