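import Groth.Agent.Helper5.ValDesc5
import Mathlib

/-!
# Helper5: the two pullbacks of the chart point agree; the second projection of the fibre product
factors through the closure
-/

set_option autoImplicit false
universe u
open CategoryTheory CategoryTheory.Limits AlgebraicGeometry Opposite TensorProduct

namespace Groth.Agent.Helper5.ValDesc

open AlgSp Groth.Agent.Helper5.AnCl

theorem gsec_specMap {C₁ C₂ : Type u} [CommRing C₁] [CommRing C₂] (φ : C₁ →+* C₂) :
    gsec (Spec.map (CommRingCat.ofHom φ)) =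
      (Scheme.ΓSpecIso (CommRingCat.of C₂)).inv.hom.comp φ := by
  have h := gsec_comp_specMap (𝟙 (Spec (CommRingCat.of C₂))) φ
  rw [Category.id_comp] at h
  rw [h]
  unfold gsec
  simp

variable {S : Scheme.{u}} {A : Type u} [CommRing A] [IsDomain A] [ValuationRing A]
  {K : Type u} [Field K] [Algebra A K] [IsFractionRing A K]
  (σ : Spec (CommRingCat.of A) ⟶ S)
  {P : Sp S} (sP : P ⟶ (yon S).obj (Over.mk σ)) (hsep : IsSeparatedMor sP)
  (σK : (yon S).obj (specOver σ K) ⟶ P) (hσK : σK ≫ sP = (yon S).map (toBase σ K))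
  {B : Type u} [CommRing B] [Algebra A B] (w : (yon S).obj (specOver σ B) ⟶ P)
  (hw : w ≫ sP = (yon S).map (toBase σ B))
  {E : Over S} (e₁ : E ⟶ specOver σ K) (e₂ : E ⟶ specOver σ B)
  (sqE : IsPullback ((yon S).map e₂) ((yon S).map e₁) w σK)
  {Bb : Type u} [CommRing Bb] [Algebra A Bb] (mk : B →ₐ[A] Bb)
  (eb : E ⟶ specOver σ Bb) (heb : eb ≫ specMap σ mk = e₂)
  (hinj : Function.Injective (gsec eb.left))

include hsep hσK hw sqE heb hinj in
set_option backward.isDefEq.respectTransparency.types false in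
theorem agree_on_double [Module.Flat A Bb] :
    (yon S).map (specMap σ (Algebra.TensorProduct.includeLeft : Bb →ₐ[A] Bb ⊗[A] Bb)) ≫
      (yon S).map (specMap σ mk) ≫ w =
    (yon S).map (specMap σ (Algebra.TensorProduct.includeRight : Bb →ₐ[A] Bb ⊗[A] Bb)) ≫
      (yon S).map (specMap σ mk) ≫ w := by
  haveI : IsAffine (specOver σ (Bb ⊗[A] Bb)).left :=
    (inferInstance : IsAffine (Spec (CommRingCat.of (Bb ⊗[A] Bb))))
  let ι : specOver σ ((Bb ⊗[A] Bb) ⊗[A] K) ⟶ specOver σ (Bb ⊗[A] Bb) :=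
    specMap σ (Algebra.TensorProduct.includeLeft : Bb ⊗[A] Bb →ₐ[A] (Bb ⊗[A] Bb) ⊗[A] K)
  have hι : Function.Injective ι.left.appTop := by
    apply appTop_specMap_injective
    exact Algebra.TensorProduct.includeLeft_injective (IsFractionRing.injective A K)
  refine eq_of_dominant sP hsep ι hι _ _ ?_ ?_
  · simp only [Category.assoc, hw, ← Functor.map_comp, specMap_toBase]
  · rw [← Category.assoc, ← Functor.map_comp, ← specMap_comp, ← Category.assoc ((yon S).map ι),
      ← Functor.map_comp, ← specMap_comp,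
      star' σ sP hsep σK hσK w hw e₁ e₂ sqE mk eb heb hinj _
        (Algebra.TensorProduct.includeRight : K →ₐ[A] (Bb ⊗[A] Bb) ⊗[A] K),
      star' σ sP hsep σK hσK w hw e₁ e₂ sqE mk eb heb hinj _
        (Algebra.TensorProduct.includeRight : K →ₐ[A] (Bb ⊗[A] Bb) ⊗[A] K)]

include hsep hσK hw sqE heb hinj in
set_option backward.isDefEq.respectTransparency.types false in
/-- a flat point of the fibre product `T' ×_P W`: its second component kills the ideal of `T'` -/
theorem second_kills {D₂ : Type u} [CommRing D₂] [Algebra A D₂] [Module.Flat A D₂]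
    (γ₁ : Bb →ₐ[A] D₂) (γ₂ : B →ₐ[A] D₂)
    (hγ : (yon S).map (specMap σ γ₁) ≫ (yon S).map (specMap σ mk) ≫ w =
      (yon S).map (specMap σ γ₂) ≫ w) (b : B) (hb : gsec e₂.left b = 0) : γ₂ b = 0 := by
  let iL : D₂ →ₐ[A] D₂ ⊗[A] K := Algebra.TensorProduct.includeLeft
  let iR : K →ₐ[A] D₂ ⊗[A] K := Algebra.TensorProduct.includeRight
  have h1 := star' σ sP hsep σK hσK w hw e₁ e₂ sqE mk eb heb hinj (iL.comp γ₁) iR
  have h2 : (yon S).map (specMap σ (iL.comp γ₂)) ≫ w = (yon S).map (specMap σ iR) ≫ σK := by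
    rw [← h1, specMap_comp, specMap_comp, Functor.map_comp, Functor.map_comp, Category.assoc,
      Category.assoc, hγ]
  obtain ⟨ε, hε⟩ := (yon S).map_surjective (sqE.lift _ _ h2)
  have hε2 : ε ≫ e₂ = specMap σ (iL.comp γ₂) := by
    apply (yon S).map_injective
    rw [Functor.map_comp, hε, sqE.lift_fst]
  have h3 := congrArg (fun t => gsec t.left) hε2
  change gsec (ε.left ≫ e₂.left) = gsec (Spec.map (CommRingCat.ofHom (iL.comp γ₂).toRingHom)) at h3
  rw [gsec_comp, gsec_specMap] at h3
  have h4 := congrArg (fun t => t b) h3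
  simp only [RingHom.comp_apply, hb, map_zero] at h4
  have h5 : (iL.comp γ₂).toRingHom b = 0 := by
    have hinj' : Function.Injective (Scheme.ΓSpecIso (CommRingCat.of (D₂ ⊗[A] K))).inv.hom :=
      (ConcreteCategory.bijective_of_isIso (Scheme.ΓSpecIso (.of (D₂ ⊗[A] K))).inv).1
    exact hinj' (by rw [map_zero]; exact h4.symm)
  have h6 : iL (γ₂ b) = 0 := h5
  exact (Algebra.TensorProduct.includeLeft_injective (R := A) (S := A) (A := D₂) (B := K)
    (IsFractionRing.injective A K)) (by rw [map_zero]; exact h6)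

end Groth.Agent.Helper5.ValDesc
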