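import Groth.Agent.Helper5.ValDesc6
import Groth.Agent.Helper5.ElemSep1
import Mathlib

/-!
# Helper5: fibre products of affine schemes over a separated space are affine; the lift of the
generic fibre to the closure
-/

set_option autoImplicit false
universe u
open CategoryTheory CategoryTheory.Limits AlgebraicGeometry Opposite TensorProduct

namespace Groth.Agent.Helper5.ValDesc

open AlgSp Groth.Agent.Helper5.AnCl

variable {S : Scheme.{u}} {A : Type u} [CommRing A]
  (σ : Spec (CommRingCat.of A) ⟶ S)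
  {P : Sp S} (sP : P ⟶ (yon S).obj (Over.mk σ)) (hsep : IsSeparatedMor sP)

include hsep in
set_option backward.isDefEq.respectTransparency.types false in
theorem isAffine_fibre {C₁ C₂ : Type u} [CommRing C₁] [CommRing C₂] [Algebra A C₁] [Algebra A C₂]
    (x₁ : (yon S).obj (specOver σ C₁) ⟶ P) (x₂ : (yon S).obj (specOver σ C₂) ⟶ P)
    (h₁ : x₁ ≫ sP = (yon S).map (toBase σ C₁)) (h₂ : x₂ ≫ sP = (yon S).map (toBase σ C₂))
    {Q₀ : Over S} (q₁ : Q₀ ⟶ specOver σ C₁) (q₂ : Q₀ ⟶ specOver σ C₂)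
    (sq : IsPullback ((yon S).map q₁) ((yon S).map q₂) x₁ x₂) : IsAffine Q₀.left := by
  have hT := isPullback_tensor σ C₁ C₂
  have hbase : q₁ ≫ toBase σ C₁ = q₂ ≫ toBase σ C₂ := by
    apply (yon S).map_injective
    rw [Functor.map_comp, Functor.map_comp, ← h₁, ← h₂, ← Category.assoc, sq.w, Category.assoc]
  let c₀ : Q₀ ⟶ specOver σ (C₁ ⊗[A] C₂) := hT.lift q₁ q₂ hbase
  have hc1 : c₀ ≫ specMap σ (Algebra.TensorProduct.includeLeft : C₁ →ₐ[A] C₁ ⊗[A] C₂) = q₁ :=
    hT.lift_fst _ _ _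
  have hc2 : c₀ ≫ specMap σ (Algebra.TensorProduct.includeRight : C₂ →ₐ[A] C₁ ⊗[A] C₂) = q₂ :=
    hT.lift_snd _ _ _
  have hPY : IsPullback
      ((yon S).map (specMap σ (Algebra.TensorProduct.includeLeft : C₁ →ₐ[A] C₁ ⊗[A] C₂)))
      ((yon S).map (specMap σ (Algebra.TensorProduct.includeRight : C₂ →ₐ[A] C₁ ⊗[A] C₂)))
      (x₁ ≫ sP) (x₂ ≫ sP) := by
    rw [h₁, h₂]
    exact Groth.Agent.Helper4.UB1.isPullback_yon_map hT
  have hmw : ((yon S).map (specMap σ (Algebra.TensorProduct.includeLeft : C₁ →ₐ[A] C₁ ⊗[A] C₂)) ≫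
      x₁) ≫ sP = ((yon S).map (specMap σ
        (Algebra.TensorProduct.includeRight : C₂ →ₐ[A] C₁ ⊗[A] C₂)) ≫ x₂) ≫ sP := by
    rw [Category.assoc, Category.assoc]
    exact hPY.w
  have key := Groth.Agent.Helper5.ElemSep.magic_sq sq hPY
    (c := (yon S).map c₀)
    (by rw [← Functor.map_comp, hc1]) (by rw [← Functor.map_comp, hc2])
    (IsPullback.of_hasPullback sP sP) (Δ := pullback.diagonal sP)
    (pullback.diagonal_fst sP) (pullback.diagonal_snd sP)
    (m := pullback.lift _ _ hmw) (pullback.lift_fst _ _ _) (pullback.lift_snd _ _ _)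
  have hΔ : RepWith @IsClosedImmersion (pullback.diagonal sP) := hsep
  have hci : IsClosedImmersion c₀.left := hΔ.2 _ _ _ key
  haveI : IsAffine (specOver σ (C₁ ⊗[A] C₂)).left :=
    (inferInstance : IsAffine (Spec (CommRingCat.of (C₁ ⊗[A] C₂))))
  exact isAffine_of_isAffineHom c₀.left

end Groth.Agent.Helper5.ValDesc
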