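import Groth.Agent.Helper5.ValDesc7
import Mathlib

/-!
# Helper5: the closure of the generic fibre as a quotient of the chart ring
-/

set_option autoImplicit false
universe u
open CategoryTheory CategoryTheory.Limits AlgebraicGeometry Opposite TensorProduct

namespace Groth.Agent.Helper5.ValDesc

open AlgSp Groth.Agent.Helper5.AnCl

variable {S : Scheme.{u}} {A : Type u} [CommRing A]
  (σ : Spec (CommRingCat.of A) ⟶ S)
  {B : Type u} [CommRing B] [Algebra A B]
  {E : Over S} (e₂ : E ⟶ specOver σ B)

set_option backward.isDefEq.respectTransparency.types false in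
theorem exists_eb :
    ∃ eb : E ⟶ specOver σ (B ⧸ RingHom.ker (gsec e₂.left)),
      eb ≫ specMap σ (Ideal.Quotient.mkₐ A (RingHom.ker (gsec e₂.left))) = e₂ ∧
      Function.Injective (gsec eb.left) := by
  obtain ⟨g', hg'⟩ := exists_lift_quotient (RingHom.ker (gsec e₂.left)) e₂.left le_rfl
  have hcomp : (gsec g').comp (Ideal.Quotient.mk (RingHom.ker (gsec e₂.left))) = gsec e₂.left := by
    rw [← gsec_comp_specMap, hg']
  have hstr : g' ≫ (specOver σ (B ⧸ RingHom.ker (gsec e₂.left))).hom = E.hom := by
    change g' ≫ Spec.map (CommRingCat.ofHom (algebraMap A (B ⧸ RingHom.ker (gsec e₂.left)))) ≫ σ =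
      E.hom
    have h1 : algebraMap A (B ⧸ RingHom.ker (gsec e₂.left)) =
        (Ideal.Quotient.mk (RingHom.ker (gsec e₂.left))).comp (algebraMap A B) := rfl
    rw [h1, CommRingCat.ofHom_comp, Spec.map_comp, ← Category.assoc, ← Category.assoc, hg',
      Category.assoc]
    exact Over.w e₂
  refine ⟨Over.homMk g' hstr, ?_, ?_⟩
  · ext
    exact hg'
  · change Function.Injective (gsec g')
    rw [injective_iff_map_eq_zero]
    intro x hx
    obtain ⟨b, rfl⟩ := Ideal.Quotient.mk_surjective x
    have h2 : gsec e₂.left b = 0 := by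
      rw [← hcomp]
      exact hx
    exact Ideal.Quotient.eq_zero_iff_mem.mpr h2

end Groth.Agent.Helper5.ValDesc
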