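import Groth.Agent.Helper5.ValDesc8
import Mathlib

/-!
# Helper5: the closure of the generic fibre in the chart is étale over itself twice
-/

set_option autoImplicit false
universe u
open CategoryTheory CategoryTheory.Limits AlgebraicGeometry Opposite TensorProduct

namespace Groth.Agent.Helper5.ValDesc

open AlgSp Groth.Agent.Helper5.AnCl

variable {S : Scheme.{u}} {A : Type u} [CommRing A] [IsDomain A] [ValuationRing A]
  {K : Type u} [Field K] [Algebra A K] [IsFractionRing A K]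
  (σ : Spec (CommRingCat.of A) ⟶ S)
  {P : Sp S} (sP : P ⟶ (yon S).obj (Over.mk σ)) (hsep : IsSeparatedMor sP)
  (σK : (yon S).obj (specOver σ K) ⟶ P) (hσK : σK ≫ sP = (yon S).map (toBase σ K))
  {B : Type u} [CommRing B] [Algebra A B] (w : (yon S).obj (specOver σ B) ⟶ P)
  (hwe : RepWith @Etale w)
  (hw : w ≫ sP = (yon S).map (toBase σ B))
  {E : Over S} (e₁ : E ⟶ specOver σ K) (e₂ : E ⟶ specOver σ B)
  (sqE : IsPullback ((yon S).map e₂) ((yon S).map e₁) w σK)
  (eb : E ⟶ specOver σ (B ⧸ RingHom.ker (gsec e₂.left)))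
  (heb : eb ≫ specMap σ (Ideal.Quotient.mkₐ A (RingHom.ker (gsec e₂.left))) = e₂)
  (hinj : Function.Injective (gsec eb.left))

include hsep hσK hwe hw sqE heb hinj in
set_option maxHeartbeats 1600000 in
set_option backward.isDefEq.respectTransparency.types false in
theorem etale_first_proj [Module.Flat A (B ⧸ RingHom.ker (gsec e₂.left))] :
    Etale (specMap σ (Algebra.TensorProduct.includeLeft :
      (B ⧸ RingHom.ker (gsec e₂.left)) →ₐ[A]
        (B ⧸ RingHom.ker (gsec e₂.left)) ⊗[A] (B ⧸ RingHom.ker (gsec e₂.left)))).left := by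
  let I := RingHom.ker (gsec e₂.left)
  let mk : B →ₐ[A] B ⧸ I := Ideal.Quotient.mkₐ A I
  let iL : (B ⧸ I) →ₐ[A] (B ⧸ I) ⊗[A] (B ⧸ I) := Algebra.TensorProduct.includeLeft
  let iR : (B ⧸ I) →ₐ[A] (B ⧸ I) ⊗[A] (B ⧸ I) := Algebra.TensorProduct.includeRight
  let x : (yon S).obj (specOver σ (B ⧸ I)) ⟶ P := (yon S).map (specMap σ mk) ≫ w
  have hx : x ≫ sP = (yon S).map (toBase σ (B ⧸ I)) := by
    simp only [x, Category.assoc, hw, ← Functor.map_comp, specMap_toBase]
  have hrep := hwe.1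
  have sqQ₀ := hrep.isPullback x
  have hq₁e : Etale (hrep.snd x).left := hwe.2 x _ _ sqQ₀
  obtain ⟨q₂, hq₂⟩ := (yon S).map_surjective (hrep.fst x)
  have sqQ₀' : IsPullback ((yon S).map (hrep.snd x)) ((yon S).map q₂) x w := by
    rw [hq₂]; exact sqQ₀.flip
  haveI : IsAffine (hrep.pullback x).left := isAffine_fibre σ sP hsep x w hx hw _ _ sqQ₀'
  have hbase2 : q₂ ≫ toBase σ B = hrep.snd x ≫ toBase σ (B ⧸ I) := by
    apply (yon S).map_injective
    rw [Functor.map_comp, Functor.map_comp, ← hw, ← hx, ← Category.assoc, ← sqQ₀'.w,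
      Category.assoc]
  obtain ⟨D₂, _, _, ε, hε⟩ :=
    exists_specOver_iso σ (hrep.pullback x) (hrep.snd x ≫ toBase σ (B ⧸ I))
  obtain ⟨γ₁, hγ₁⟩ := exists_specMap_eq σ (ε.hom ≫ hrep.snd x) (by rw [Category.assoc]; exact hε)
  obtain ⟨γ₂, hγ₂⟩ := exists_specMap_eq σ (ε.hom ≫ q₂) (by rw [Category.assoc, hbase2]; exact hε)
  have sqQ : IsPullback ((yon S).map (specMap σ γ₁)) ((yon S).map (specMap σ γ₂)) x w := by
    rw [hγ₁, hγ₂, Functor.map_comp, Functor.map_comp]
    refine IsPullback.of_iso sqQ₀' ((yon S).mapIso ε.symm) (Iso.refl _) (Iso.refl _) (Iso.refl _)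
      ?_ ?_ ?_ ?_
    · rw [Iso.refl_hom, Category.comp_id, Functor.mapIso_hom, Iso.symm_hom, ← Category.assoc,
        ← Functor.map_comp, Iso.inv_hom_id, CategoryTheory.Functor.map_id, Category.id_comp]
    · rw [Iso.refl_hom, Category.comp_id, Functor.mapIso_hom, Iso.symm_hom, ← Category.assoc,
        ← Functor.map_comp, Iso.inv_hom_id, CategoryTheory.Functor.map_id, Category.id_comp]
    · simp
    · simp
  haveI : IsIso ε.hom.left := (inferInstance : IsIso ((Over.forget S).map ε.hom))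
  have hγ₁e : Etale (specMap σ γ₁).left := by
    rw [hγ₁]
    change Etale (ε.hom.left ≫ (hrep.snd x).left)
    infer_instance
  have hflat₁ : γ₁.toRingHom.Flat := by
    have h1 : Flat (Spec.map (CommRingCat.ofHom γ₁.toRingHom)) := by
      have : Etale (Spec.map (CommRingCat.ofHom γ₁.toRingHom)) := hγ₁e
      infer_instance
    exact (HasRingHomProperty.Spec_iff (P := @Flat)).mp h1
  letI : Algebra (B ⧸ I) D₂ := γ₁.toRingHom.toAlgebra
  haveI : IsScalarTower A (B ⧸ I) D₂ :=
    IsScalarTower.of_algebraMap_eq (fun a => (γ₁.commutes a).symm)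
  haveI : Module.Flat (B ⧸ I) D₂ := hflat₁
  haveI : Module.Flat A D₂ := Module.Flat.trans A (B ⧸ I) D₂
  have hk : ∀ b ∈ I, γ₂ b = 0 := fun b hb =>
    second_kills σ sP hsep σK hσK w hw e₁ e₂ sqE mk eb heb hinj γ₁ γ₂ sqQ.w b hb
  let γ₂' : (B ⧸ I) →ₐ[A] D₂ := Ideal.Quotient.liftₐ I γ₂ hk
  have hγ₂' : γ₂'.comp mk = γ₂ := Ideal.Quotient.liftₐ_comp I γ₂ hk
  have hagree := agree_on_double σ sP hsep σK hσK w hw e₁ e₂ sqE mk eb heb hinj
  obtain ⟨θ₀, hθ₀⟩ := (yon S).map_surjective (sqQ.lift ((yon S).map (specMap σ iL))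
    ((yon S).map (specMap σ iR ≫ specMap σ mk)) (by
      rw [Functor.map_comp, Category.assoc]; exact hagree))
  have hθ1 : θ₀ ≫ specMap σ γ₁ = specMap σ iL := by
    apply (yon S).map_injective
    rw [Functor.map_comp, hθ₀, sqQ.lift_fst]
  have hθ2 : θ₀ ≫ specMap σ γ₂ = specMap σ iR ≫ specMap σ mk := by
    apply (yon S).map_injective
    rw [Functor.map_comp, hθ₀, sqQ.lift_snd]
  let θ' : specOver σ D₂ ⟶ specOver σ ((B ⧸ I) ⊗[A] (B ⧸ I)) :=
    specMap σ (Algebra.TensorProduct.productMap γ₁ γ₂')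
  have hθ'1 : θ' ≫ specMap σ iL = specMap σ γ₁ := by
    rw [← specMap_comp, Algebra.TensorProduct.productMap_left]
  have hθ'2 : θ' ≫ specMap σ iR = specMap σ γ₂' := by
    rw [← specMap_comp, Algebra.TensorProduct.productMap_right]
  have h1 : θ' ≫ θ₀ = 𝟙 _ := by
    apply (yon S).map_injective
    apply sqQ.hom_ext
    · rw [← Functor.map_comp, Category.assoc, hθ1, hθ'1, CategoryTheory.Functor.map_id,
        Category.id_comp]
    · rw [← Functor.map_comp, Category.assoc, hθ2, ← Category.assoc, hθ'2, ← specMap_comp, hγ₂',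
        CategoryTheory.Functor.map_id, Category.id_comp]
  haveI : Mono (specMap σ mk) := by
    haveI : Mono (specMap σ mk).left := by
      change Mono (Spec.map (CommRingCat.ofHom (Ideal.Quotient.mk I)))
      have hci : IsClosedImmersion (Spec.map (CommRingCat.ofHom (Ideal.Quotient.mk I))) :=
        IsClosedImmersion.spec_of_surjective _ Ideal.Quotient.mk_surjective
      infer_instance
    exact Over.mono_of_mono_left _
  have h2 : θ₀ ≫ θ' = 𝟙 _ := by
    apply (isPullback_tensor σ (B ⧸ I) (B ⧸ I)).hom_ext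
    · rw [Category.assoc, hθ'1, hθ1, Category.id_comp]
    · rw [Category.assoc, hθ'2, Category.id_comp, ← cancel_mono (specMap σ mk), Category.assoc,
        ← specMap_comp, hγ₂', hθ2]
  have hiso : IsIso θ₀ := ⟨θ', h2, h1⟩
  haveI : IsIso θ₀.left := (inferInstance : IsIso ((Over.forget S).map θ₀))
  have hfin : (specMap σ iL).left = θ₀.left ≫ (specMap σ γ₁).left := by
    rw [← hθ1]; rfl
  rw [hfin]
  infer_instance

end Groth.Agent.Helper5.ValDesc
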