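import Mathlib

set_option autoImplicit false
universe u
open CategoryTheory CategoryTheory.Limits AlgebraicGeometry Opposite

namespace Groth.Agent.Helper5.ValImg

/-- Algebra behind "points of the scheme theoretic image are reached by valuation rings". -/
theorem exists_valuationRing_of_ker_le {R B : Type u} [CommRing R] [CommRing B] (φ : R →+* B)
    (p : Ideal R) [p.IsPrime] (hp : RingHom.ker φ ≤ p) :
    ∃ (L : Type u) (_ : Field L) (A : ValuationSubring L) (α : R →+* A) (β : B →+* L),
      A.subtype.comp α = β.comp φ ∧ (IsLocalRing.maximalIdeal A).comap α = p := by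
  obtain ⟨q, hq, hqp⟩ := Ideal.exists_minimalPrimes_le hp
  have hq' : q ∈ ((⊥ : Ideal B).comap φ).minimalPrimes := hq
  obtain ⟨Q, hQ, -, hQq⟩ := Ideal.exists_comap_eq_of_mem_minimalPrimes φ q hq'
  let L := Q.ResidueField
  let β : B →+* L := algebraMap B L
  have hunit : ∀ s : p.primeCompl, IsUnit ((β.comp φ) s) := by
    intro s
    rw [isUnit_iff_ne_zero]
    intro h0
    have h1 : φ s ∈ Q := by
      have : algebraMap B Q.ResidueField (φ s) = 0 := h0
      rwa [Ideal.algebraMap_residueField_eq_zero] at this
    have h2 : (s : R) ∈ q := by rw [← hQq]; exact h1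
    exact s.2 (hqp h2)
  let g : Localization.AtPrime p →+* L := IsLocalization.lift (M := p.primeCompl) hunit
  obtain ⟨A, hA, hloc⟩ := IsLocalRing.exists_factor_valuationRing g
  let g' : Localization.AtPrime p →+* A := g.codRestrict A.toSubring hA
  refine ⟨L, inferInstance, A, g'.comp (algebraMap R (Localization.AtPrime p)), β, ?_, ?_⟩
  · ext r
    show g (algebraMap R (Localization.AtPrime p) r) = β (φ r)
    exact IsLocalization.lift_eq hunit r
  · rw [← Ideal.comap_comap]
    have : (IsLocalRing.maximalIdeal A).comap g' = IsLocalRing.maximalIdeal _ :=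
      IsLocalRing.maximalIdeal_comap g'
    rw [this]
    exact Localization.AtPrime.under_maximalIdeal

theorem exists_valuationRing_of_ker_le' {R B : Type u} [CommRing R] [CommRing B] (φ : R →+* B)
    (p : Ideal R) [p.IsPrime] (hp : RingHom.ker φ ≤ p) :
    ∃ (A : Type u) (_ : CommRing A) (_ : IsDomain A) (_ : ValuationRing A) (α : R →+* A)
      (β : B →+* FractionRing A),
      (algebraMap A (FractionRing A)).comp α = β.comp φ ∧
        (IsLocalRing.maximalIdeal A).comap α = p := by
  obtain ⟨L, _, A, α, β, h1, h2⟩ := exists_valuationRing_of_ker_le φ p hp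
  refine ⟨A, inferInstance, inferInstance, inferInstance, α,
    ((FractionRing.algEquiv A L).symm : L →+* FractionRing A).comp β, ?_, h2⟩
  ext r
  have h3 : (A.subtype.comp α) r = (β.comp φ) r := by rw [h1]
  show algebraMap A (FractionRing A) (α r) = (FractionRing.algEquiv A L).symm (β (φ r))
  have h4 : β (φ r) = algebraMap A L (α r) := h3.symm
  rw [h4, AlgEquiv.commutes]

end Groth.Agent.Helper5.ValImg
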