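import Groth.Agent.Helper5.ValImg1
import Groth.Agent.Helper5.IdealEtFactor1
import Mathlib

set_option autoImplicit false
universe u
open CategoryTheory CategoryTheory.Limits AlgebraicGeometry Opposite

namespace Groth.Agent.Helper5.ValImg

/-- kernel of `appTop` of a morphism from `Spec A` to an affine scheme given by a ring map -/
theorem ker_appTop_specMap_isoSpec_inv {E : Scheme.{u}} [IsAffine E] {A : CommRingCat.{u}}
    (α : Γ(E, ⊤) ⟶ A) :
    RingHom.ker (Spec.map α ≫ E.isoSpec.inv).appTop.hom = RingHom.ker α.hom := by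
  have h1 : (Spec.map α ≫ E.isoSpec.inv).appTop = α ≫ (Scheme.ΓSpecIso A).inv := by
    rw [Scheme.Hom.comp_appTop]
    have h2 : E.isoSpec.inv.appTop = (Scheme.ΓSpecIso Γ(E, ⊤)).inv := by
      have h3 := congrArg Scheme.Hom.appTop E.isoSpec.inv_hom_id
      rw [Scheme.Hom.comp_appTop, Scheme.isoSpec_hom, Scheme.toSpecΓ_appTop] at h3
      calc E.isoSpec.inv.appTop
          = (Scheme.ΓSpecIso Γ(E, ⊤)).inv ≫ ((Scheme.ΓSpecIso Γ(E, ⊤)).hom ≫ E.isoSpec.inv.appTop) := by
            rw [Iso.inv_hom_id_assoc]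
        _ = (Scheme.ΓSpecIso Γ(E, ⊤)).inv := by
            rw [h3]
            exact Category.comp_id _
    rw [h2, Scheme.ΓSpecIso_inv_naturality]
  rw [h1]
  ext a
  simp only [RingHom.mem_ker, CommRingCat.hom_comp, RingHom.coe_comp, Function.comp_apply]
  constructor
  · intro h
    have := congrArg (Scheme.ΓSpecIso A).hom.hom h
    simpa using this
  · intro h
    rw [h, map_zero]

theorem exists_valuationRing_affine {E Q W : Scheme.{u}} [IsAffine E] [IsAffine Q] (q : Q ⟶ E)
    (c : W ⟶ E) [IsClosedImmersion c]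
    (hker : RingHom.ker c.appTop.hom = RingHom.ker q.appTop.hom) (e : E)
    (he : e ∈ Set.range c) :
    ∃ (A : Type u) (_ : CommRing A) (_ : IsDomain A) (_ : ValuationRing A)
      (g : Spec (CommRingCat.of A) ⟶ E) (x : Spec (CommRingCat.of (FractionRing A)) ⟶ Q)
      (l : Spec (CommRingCat.of A) ⟶ W),
      g (IsLocalRing.closedPoint A) = e ∧
      x ≫ q = Spec.map (CommRingCat.ofHom (algebraMap A (FractionRing A))) ≫ g ∧ l ≫ c = g := by
  obtain ⟨w, rfl⟩ := he
  let φ : Γ(E, ⊤) →+* Γ(Q, ⊤) := q.appTop.hom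
  let P : PrimeSpectrum Γ(E, ⊤) := E.toSpecΓ (c w)
  have hP : E.toSpecΓ (c w) = (Spec.map c.appTop) (W.toSpecΓ w) := by
    have h := Scheme.toSpecΓ_naturality c
    have := congrArg (fun f : W ⟶ Spec Γ(E, ⊤) => f w) h
    simpa using this
  have hp : RingHom.ker φ ≤ P.asIdeal := by
    show RingHom.ker q.appTop.hom ≤ _
    rw [← hker]
    intro a ha
    show a ∈ (E.toSpecΓ (c w)).asIdeal
    rw [hP]
    show a ∈ ((W.toSpecΓ w).asIdeal).comap c.appTop.hom
    rw [Ideal.mem_comap, RingHom.mem_ker.1 ha]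
    exact Ideal.zero_mem _
  obtain ⟨A, _, _, _, α, β, h1, h2⟩ := exists_valuationRing_of_ker_le' φ P.asIdeal hp
  let g : Spec (CommRingCat.of A) ⟶ E := Spec.map (CommRingCat.ofHom α) ≫ E.isoSpec.inv
  let x : Spec (CommRingCat.of (FractionRing A)) ⟶ Q :=
    Spec.map (CommRingCat.ofHom β) ≫ Q.isoSpec.inv
  have hkg : c.ker ≤ g.ker := by
    rw [Scheme.ker_of_isAffine, Scheme.ker_of_isAffine]
    apply Groth.Agent.Helper5.IdealEtChart.ofIdealTop_mono
    rw [ker_appTop_specMap_isoSpec_inv, hker]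
    intro a ha
    rw [RingHom.mem_ker] at ha ⊢
    show α a = 0
    have h3 : (algebraMap A (FractionRing A)) (α a) = β (φ a) := by
      have := congrArg (fun f : Γ(E, ⊤) →+* FractionRing A => f a) h1
      exact this
    have h4 : φ a = 0 := ha
    rw [h4, map_zero] at h3
    exact (IsFractionRing.injective A (FractionRing A)) (by rw [h3, map_zero])
  refine ⟨A, inferInstance, inferInstance, inferInstance, g, x, IsClosedImmersion.lift c g hkg,
    ?_, ?_, IsClosedImmersion.lift_fac c g hkg⟩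
  · have h5 : (Spec.map (CommRingCat.ofHom α)) (IsLocalRing.closedPoint A) = E.toSpecΓ (c w) := by
      apply PrimeSpectrum.ext
      exact h2
    show E.isoSpec.inv ((Spec.map (CommRingCat.ofHom α)) (IsLocalRing.closedPoint A)) = c w
    rw [h5]
    show E.isoSpec.inv (E.isoSpec.hom (c w)) = c w
    rw [← Scheme.Hom.comp_apply, E.isoSpec.hom_inv_id]
    rfl
  · show (Spec.map (CommRingCat.ofHom β) ≫ Q.isoSpec.inv) ≫ q =
      Spec.map (CommRingCat.ofHom (algebraMap A (FractionRing A))) ≫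
        Spec.map (CommRingCat.ofHom α) ≫ E.isoSpec.inv
    rw [Category.assoc, ← Scheme.isoSpec_inv_naturality, ← Category.assoc, ← Category.assoc,
      ← Spec.map_comp, ← Spec.map_comp]
    congr 2
    ext a
    have := congrArg (fun f : Γ(E, ⊤) →+* FractionRing A => f a) h1
    exact this.symm

end Groth.Agent.Helper5.ValImg
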