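import Groth.Agent.Helper5.ValImg2
import Groth.Agent.Helper5.KerIdeal4
import Groth.Agent.Helper5.ProperImg1
import Mathlib

set_option autoImplicit false
set_option linter.style.haveILetI false
universe u
open CategoryTheory CategoryTheory.Limits AlgebraicGeometry Opposite MorphismProperty

namespace Groth.Agent.Helper5.ValImg

open AlgSp Groth.Agent.Helper5.IdealEtChart Groth.Agent.Helper5.SchImg
  Groth.Agent.Helper5.EffCart Groth.Agent.Helper5.KerIdeal

variable {S : Scheme.{u}}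

set_option backward.isDefEq.respectTransparency.types false in
theorem s9979 {X Y Z : Space S} (f : X ⟶ Y) (i : Z ⟶ Y)
    (hq : IsQuasiCompactMor f.hom) (hZ : IsSchImage f.hom i.hom) (z : Points Z.obj) :
    ∃ (A : Type u) (_ : CommRing A) (_ : IsDomain A) (_ : ValuationRing A)
      (str : Spec (CommRingCat.of A) ⟶ S)
      (a : (yon S).obj (Over.mk str) ⟶ Z.obj)
      (x : (yon S).obj (Over.mk (Spec.map (CommRingCat.ofHom (algebraMap A (FractionRing A))) ≫ str)) ⟶
        X.obj),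
      Points.ofPt a (IsLocalRing.closedPoint A) = z ∧
      x ≫ f.hom = (yon S).map (Over.homMk
        (Spec.map (CommRingCat.ofHom (algebraMap A (FractionRing A)))) rfl) ≫ a ≫ i.hom := by
  have hc := (isSchImage_iff_isCutOutBy_kerIdeal Y.property Z.property f.hom hq i.hom).1 hZ
  obtain ⟨hi, hI⟩ := hc
  obtain ⟨VY, φ, hφ, hφs⟩ := Y.property.atlas
  obtain ⟨ξ, hξ⟩ := Groth.Agent.Helper4.AlgSpPts.isSurjectiveMor_of_repWith φ hφs
    (Points.map i.hom z)
  obtain ⟨v, rfl⟩ := (Points.schemeHomeo VY).surjective ξ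
  obtain ⟨_, ⟨U, hU, rfl⟩, hvU, -⟩ :=
    VY.left.isBasis_affineOpens.exists_subset_of_mem_open (Set.mem_univ v) isOpen_univ
  let U' : VY.left.affineOpens := ⟨U, hU⟩
  let E₀ : EtOver Y.obj := chartObj φ hφ U'.1
  have hE₀ : IsAffine E₀.obj.left.left := U'.2
  haveI := hE₀
  let e : E₀.obj.left.left := ⟨v, hvU⟩
  have he : Points.map E₀.obj.hom (Points.schemeHomeo E₀.obj.left e) = Points.map i.hom z := by
    show Points.map ((yon S).map (Over.homMk U'.1.ι rfl : Over.mk (U'.1.ι ≫ VY.hom) ⟶ VY) ≫ φ)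
      (Points.schemeHomeo (Over.mk (U'.1.ι ≫ VY.hom)) ⟨v, hvU⟩) = _
    rw [Points.map_comp, Points.map_yon_map_apply, ← hξ]
    rfl
  obtain ⟨Q, q, hQ, hcq⟩ := exists_isCoverChart f.hom hq E₀ hE₀
  haveI := hQ
  obtain ⟨t, ht⟩ := hcq.exists_map
  have sq0 := EtOver.isPullback_bcObj hi.1 E₀
  haveI : IsClosedImmersion (EtOver.bcπ hi.1 E₀).left := hi.2 _ _ _ sq0
  have he1 : e ∈ Set.range (EtOver.bcπ hi.1 E₀).left := by
    rw [mem_range_iff_of_isPullback i.hom E₀.obj.hom (EtOver.bcπ hi.1 E₀) _ sq0 e, he]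
    exact ⟨z, rfl⟩
  have hker : RingHom.ker (EtOver.bcπ hi.1 E₀).left.appTop.hom = RingHom.ker q.left.appTop.hom := by
    have h1 := congrArg (fun J : IdealEt Y.obj => J.ideal E₀ hE₀) hI
    exact h1.trans (kerIdeal_eq_ker f.hom E₀ q hcq hE₀)
  obtain ⟨A, iA1, iA2, iA3, g, x₀, l, hg, hx, hl⟩ :=
    exists_valuationRing_affine q.left (EtOver.bcπ hi.1 E₀).left hker e he1
  let str : Spec (CommRingCat.of A) ⟶ S := g ≫ E₀.obj.left.hom
  let gA : Over.mk str ⟶ E₀.obj.left := Over.homMk g rfl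
  let lA : Over.mk str ⟶ (EtOver.bcObj hi.1 E₀).obj.left := Over.homMk l (by
    show l ≫ (EtOver.bcObj hi.1 E₀).obj.left.hom = g ≫ E₀.obj.left.hom
    rw [← hl, Category.assoc, CategoryTheory.Over.w (EtOver.bcπ hi.1 E₀)])
  let a : (yon S).obj (Over.mk str) ⟶ Z.obj := (yon S).map lA ≫ (EtOver.bcObj hi.1 E₀).obj.hom
  have hlg : lA ≫ EtOver.bcπ hi.1 E₀ = gA := by
    ext
    exact hl
  have ha : a ≫ i.hom = (yon S).map gA ≫ E₀.obj.hom := by
    rw [Category.assoc, sq0.w, ← Category.assoc, ← Functor.map_comp, hlg]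
  let jK : Over.mk (Spec.map (CommRingCat.ofHom (algebraMap A (FractionRing A))) ≫ str) ⟶
      Over.mk str := Over.homMk (Spec.map (CommRingCat.ofHom (algebraMap A (FractionRing A)))) rfl
  let xK : Over.mk (Spec.map (CommRingCat.ofHom (algebraMap A (FractionRing A))) ≫ str) ⟶ Q :=
    Over.homMk x₀ (by
      show x₀ ≫ Q.hom = Spec.map (CommRingCat.ofHom (algebraMap A (FractionRing A))) ≫ g ≫
        E₀.obj.left.hom
      rw [← CategoryTheory.Over.w q, ← Category.assoc, hx, Category.assoc])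
  have hxK : xK ≫ q = jK ≫ gA := by
    ext
    exact hx
  refine ⟨A, iA1, iA2, iA3, str, a, (yon S).map xK ≫ t, ?_, ?_⟩
  · apply Groth.Agent.Helper5.ProperImg.points_injective_of_closedImmersion Z.property Y.property
      i.hom hi
    rw [Points.map_ofPt, ha, Groth.Agent.Helper4.AlgSpPtsDesc.ofPt_yon_map_comp]
    show Points.ofPt E₀.obj.hom (g (IsLocalRing.closedPoint A)) = _
    rw [hg, ← he, Points.ofPt_eq_map_ofScheme]
    rfl
  · have h1 : (yon S).map xK ≫ (yon S).map q = (yon S).map jK ≫ (yon S).map gA := by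
      rw [← Functor.map_comp, hxK, Functor.map_comp]
    show ((yon S).map xK ≫ t) ≫ f.hom = (yon S).map jK ≫ a ≫ i.hom
    rw [ha, Category.assoc, ht]
    calc (yon S).map xK ≫ (yon S).map q ≫ E₀.obj.hom
        = ((yon S).map xK ≫ (yon S).map q) ≫ E₀.obj.hom := (Category.assoc _ _ _).symm
      _ = ((yon S).map jK ≫ (yon S).map gA) ≫ E₀.obj.hom := by rw [h1]
      _ = (yon S).map jK ≫ (yon S).map gA ≫ E₀.obj.hom := Category.assoc _ _ _

end Groth.Agent.Helper5.ValImg
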