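import Mathlib

set_option autoImplicit false
universe u

namespace Groth.Agent.Helper5.ValTr

open MvPolynomial

/-- In a valuation ring, among finitely many elements one divides all the others. -/
theorem exists_dvd_all {R : Type*} [CommRing R] [IsDomain R] [ValuationRing R] {ι : Type*}
    (s : Finset ι) (hs : s.Nonempty) (f : ι → R) : ∃ d ∈ s, ∀ e ∈ s, f d ∣ f e := by
  induction hs using Finset.Nonempty.cons_induction with
  | singleton a => exact ⟨a, Finset.mem_singleton_self a, fun e he => by
      rw [Finset.mem_singleton] at he; rw [he]⟩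
  | cons a s ha hs ih =>
    obtain ⟨d, hd, hdall⟩ := ih
    rcases ValuationRing.dvd_total (f a) (f d) with h | h
    · refine ⟨a, Finset.mem_cons_self a s, fun e he => ?_⟩
      rcases Finset.mem_cons.1 he with rfl | he
      · exact dvd_rfl
      · exact h.trans (hdall e he)
    · refine ⟨d, Finset.mem_cons.2 (Or.inr hd), fun e he => ?_⟩
      rcases Finset.mem_cons.1 he with rfl | he
      · exact h
      · exact hdall e he

/-- A nonzero polynomial over a valuation ring is a nonzero constant times a polynomial with a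
coefficient equal to one. -/
theorem exists_eq_C_mul {R : Type*} [CommRing R] [IsDomain R] [ValuationRing R] {σ : Type*}
    (P : MvPolynomial σ R) (hP : P ≠ 0) :
    ∃ (c : R) (Q : MvPolynomial σ R) (d : σ →₀ ℕ), c ≠ 0 ∧ P = C c * Q ∧ coeff d Q = 1 := by
  classical
  have hne : P.support.Nonempty := by
    rw [Finset.nonempty_iff_ne_empty, Ne, MvPolynomial.support_eq_empty]
    exact hP
  obtain ⟨d, hd, hdall⟩ := exists_dvd_all P.support hne (fun e => coeff e P)
  have hc : coeff d P ≠ 0 := MvPolynomial.mem_support_iff.1 hd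
  let g : (σ →₀ ℕ) → R := fun e => if h : coeff d P ∣ coeff e P then h.choose else 0
  have hg : ∀ e ∈ P.support, coeff e P = coeff d P * g e := by
    intro e he
    have h : coeff d P ∣ coeff e P := hdall e he
    simp only [g, dif_pos h]
    exact h.choose_spec
  let Q : MvPolynomial σ R := ∑ e ∈ P.support, monomial e (g e)
  have hQ : ∀ e, coeff e Q = if e ∈ P.support then g e else 0 := by
    intro e
    simp only [Q, MvPolynomial.coeff_sum, MvPolynomial.coeff_monomial]
    rw [Finset.sum_ite_eq']
  refine ⟨coeff d P, Q, d, hc, ?_, ?_⟩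
  · ext e
    rw [MvPolynomial.coeff_C_mul, hQ]
    by_cases he : e ∈ P.support
    · rw [if_pos he, ← hg e he]
    · rw [if_neg he, mul_zero]
      exact MvPolynomial.notMem_support_iff.1 he
  · rw [hQ, if_pos hd]
    have := hg d hd
    have h2 : coeff d P * 1 = coeff d P * g d := by rw [mul_one]; exact this
    exact (mul_left_cancel₀ hc h2).symm


/-- Compatibility of evaluation with reduction modulo primes lying over each other. -/
theorem aeval_map_mk {R B : Type*} [CommRing R] [CommRing B] [Algebra R B]
    (p : Ideal R) (q : Ideal B) [q.LiesOver p] {ι : Type*} (t : ι → B) (Q : MvPolynomial ι R) :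
    aeval (fun i => Ideal.Quotient.mk q (t i)) (MvPolynomial.map (Ideal.Quotient.mk p) Q) =
      Ideal.Quotient.mk q (aeval t Q) := by
  induction Q using MvPolynomial.induction_on with
  | C a =>
    simp only [MvPolynomial.map_C, MvPolynomial.aeval_C]
    exact Ideal.Quotient.algebraMap_mk_of_liesOver q p a
  | add P Q hP hQ => simp only [map_add, hP, hQ]
  | mul_X P i hP => simp only [map_mul, hP, MvPolynomial.map_X, MvPolynomial.aeval_X]

/-- Over a valuation ring, the transcendence degree of the residue field extension does not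
increase under specialisation. -/
theorem trdeg_le_of_valuationRing {R B : Type u} [CommRing R] [IsDomain R] [ValuationRing R]
    [CommRing B] [Algebra R B] (q₀ q : Ideal B) [q₀.IsPrime] [q.IsPrime] (hle : q₀ ≤ q)
    (p : Ideal R) [p.IsPrime] [q.LiesOver p] [q₀.LiesOver (⊥ : Ideal R)] :
    Algebra.trdeg (R ⧸ p) (B ⧸ q) ≤ Algebra.trdeg (R ⧸ (⊥ : Ideal R)) (B ⧸ q₀) := by
  classical
  rw [Algebra.trdeg]
  refine ciSup_le' fun s => ?_
  obtain ⟨s, hs⟩ := s
  -- lifts
  have hsurj : ∀ x : s, ∃ b : B, Ideal.Quotient.mk q b = x.1 :=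
    fun x => Ideal.Quotient.mk_surjective x.1
  choose t ht using hsurj
  have hind : AlgebraicIndependent (R ⧸ (⊥ : Ideal R))
      (fun x : s => Ideal.Quotient.mk q₀ (t x)) := by
    rw [algebraicIndependent_iff]
    intro P hP
    by_contra hP0
    obtain ⟨PR, rfl⟩ := MvPolynomial.map_surjective (Ideal.Quotient.mk (⊥ : Ideal R))
      Ideal.Quotient.mk_surjective P
    have hPR : PR ≠ 0 := by
      rintro rfl
      exact hP0 (map_zero _)
    obtain ⟨c, Q, d, hc, hPQ, hd⟩ := exists_eq_C_mul PR hPR
    rw [aeval_map_mk (⊥ : Ideal R) q₀ t PR, Ideal.Quotient.eq_zero_iff_mem, hPQ, map_mul,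
      MvPolynomial.aeval_C] at hP
    have hQ : aeval t Q ∈ q₀ := by
      rcases Ideal.IsPrime.mem_or_mem inferInstance hP with h | h
      · exfalso
        have h1 : c ∈ q₀.under R := h
        rw [← Ideal.LiesOver.over (p := (⊥ : Ideal R)) (P := q₀)] at h1
        exact hc ((Submodule.mem_bot R).1 h1)
      · exact h
    have h1 : aeval (fun x : s => Ideal.Quotient.mk q (t x))
        (MvPolynomial.map (Ideal.Quotient.mk p) Q) = 0 := by
      rw [aeval_map_mk p q t Q, Ideal.Quotient.eq_zero_iff_mem]
      exact hle hQ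
    have h2 : (fun x : s => Ideal.Quotient.mk q (t x)) = fun x : s => (x.1 : B ⧸ q) := by
      funext x; exact ht x
    rw [h2] at h1
    have h3 : MvPolynomial.map (Ideal.Quotient.mk p) Q = 0 :=
      (algebraicIndependent_iff.1 hs) _ h1
    have h4 := congrArg (MvPolynomial.coeff d) h3
    rw [MvPolynomial.coeff_map, hd, map_one, MvPolynomial.coeff_zero] at h4
    exact one_ne_zero h4
  exact hind.cardinalMk_le_trdeg

end Groth.Agent.Helper5.ValTr
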