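import Groth.Agent.Helper5.VarDim12

set_option autoImplicit false
universe u
open AlgebraicGeometry CategoryTheory TopologicalSpace

namespace Groth.Agent.Helper5.VarDim

/-- Data at the generic point of an irreducible component. -/
theorem generic_point_data (k : Type u) [Field k] {X : Scheme.{u}}
    (g : X ⟶ Spec (CommRingCat.of k)) [LocallyOfFiniteType g] (ξ : X)
    (hξ : closure ({ξ} : Set X) ∈ irreducibleComponents X) :
    ∃ n : ℕ, @Algebra.trdeg k (X.residueField ξ) _ _ (resHom k g ξ).toAlgebra = n ∧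
      topologicalKrullDim ↥(closure ({ξ} : Set X)) = n ∧ FlatMor.localDim X ξ = n ∧
      ringKrullDim (X.presheaf.stalk ξ) = 0 := by
  obtain ⟨n, h1, h2⟩ := dim_closure_point k g ξ
  obtain ⟨m, hm1, hm2, -⟩ := localDim_formula k g ξ
  rw [h2] at hm1
  have hmn : n = m := by exact_mod_cast hm1
  have h0 : Order.coheight ξ = 0 := by
    rw [Order.coheight_eq_zero]
    intro z hz
    have hz' : z ⤳ ξ := hz
    show ξ ⤳ z
    rw [specializes_iff_mem_closure]
    have h3 : closure ({ξ} : Set X) ≤ closure {z} := specializes_iff_closure_subset.1 hz'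
    have h4 : closure {z} ≤ closure ({ξ} : Set X) := hξ.2 isIrreducible_singleton.closure h3
    exact h4 (subset_closure rfl)
  have h5 : ringKrullDim (X.presheaf.stalk ξ) = 0 := by
    rw [ringKrullDim_stalk_eq_coheight, h0]; rfl
  refine ⟨n, h2, h1, ?_, h5⟩
  rw [hm2, h5, ← hmn]
  simp

/-- A point with a proper specialization has closure of positive dimension. -/
theorem one_le_dim_closure {T : Type*} [TopologicalSpace T] [T0Space T] (ξ x : T) (h : ξ ⤳ x)
    (hne : ξ ≠ x) : 1 ≤ topologicalKrullDim ↥(closure ({ξ} : Set T)) := by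
  let S := closure ({ξ} : Set T)
  have hxS : x ∈ S := specializes_iff_mem_closure.1 h
  have hξS : ξ ∈ S := subset_closure rfl
  have hirr : IrreducibleSpace ↥S := Subtype.irreducibleSpace isIrreducible_singleton.closure
  let a : IrreducibleCloseds ↥S :=
    ⟨closure {(⟨x, hxS⟩ : ↥S)}, isIrreducible_singleton.closure, isClosed_closure⟩
  let b : IrreducibleCloseds ↥S := ⟨Set.univ, IrreducibleSpace.isIrreducible_univ _, isClosed_univ⟩
  have hab : a < b := by
    refine lt_of_le_of_ne (fun z _ => trivial) ?_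
    intro hEq
    have h1 : (⟨ξ, hξS⟩ : ↥S) ∈ (a : Set ↥S) := by
      have : (a : Set ↥S) = Set.univ := congrArg (fun c : IrreducibleCloseds ↥S => (c : Set ↥S)) hEq
      rw [this]; trivial
    have h2 : (⟨x, hxS⟩ : ↥S) ⤳ (⟨ξ, hξS⟩ : ↥S) := specializes_iff_mem_closure.2 h1
    have h3 : x ⤳ ξ := (subtype_specializes_iff _ _).1 h2
    exact hne (h.antisymm h3).eq
  exact Order.one_le_krullDim_iff.2 ⟨a, b, hab⟩

end Groth.Agent.Helper5.VarDim
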