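import Mathlib
import Groth.Prelude
import Groth.Agent.Helper5.ValTr3
import Groth.Agent.Helper5.VarDim13
import Groth.Agent.Helper2.TopDim

set_option autoImplicit false
set_option linter.unusedSectionVars false
set_option linter.style.haveILetI false
universe u

open AlgebraicGeometry CategoryTheory CategoryTheory.Limits TopologicalSpace

namespace Groth.Agent.Helper5.ValTr

/-- over a valuation ring every irreducible component of every fibre of a dominant morphism
locally of finite type from an irreducible scheme has the dimension of the generic fibre -/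
theorem dim_component_eq {A : Type u} [CommRing A] [IsDomain A] [ValuationRing A]
    {X : Scheme.{u}} [IrreducibleSpace X] (f : X ⟶ Spec (CommRingCat.of A))
    [LocallyOfFiniteType f] [IsDominant f] (s : ↥(Spec (CommRingCat.of A)))
    (Z : Set ↥(f.fiber s)) (hZ : Z ∈ irreducibleComponents ↥(f.fiber s)) :
    topologicalKrullDim ↥Z =
      topologicalKrullDim ↥(f.fiber (genericPoint ↥(Spec (CommRingCat.of A)))) := by
  let S : Scheme.{u} := Spec (CommRingCat.of A)
  haveI hSirr : IrreducibleSpace ↥S := inferInstanceAs (IrreducibleSpace (PrimeSpectrum A))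
  have hft : LocallyOfFiniteType (f.fiberToSpecResidueField s) :=
    inferInstanceAs (LocallyOfFiniteType (Limits.pullback.snd f (S.fromSpecResidueField s)))
  obtain ⟨ζ, hζ⟩ := QuasiSober.sober hZ.1 (isClosed_of_mem_irreducibleComponents Z hZ)
  have hζcl : closure ({ζ} : Set ↥(f.fiber s)) = Z := hζ.def
  have hcomp : closure ({ζ} : Set ↥(f.fiber s)) ∈ irreducibleComponents ↥(f.fiber s) := by
    rw [hζcl]; exact hZ
  obtain ⟨n, -, hn2, hn3, -⟩ := Groth.Agent.Helper5.VarDim.generic_point_data
    (S.residueField s) (f.fiberToSpecResidueField s) ζ hcomp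
  rw [← hζcl, hn2, ← hn3]
  have hne : Nonempty ↥(f.fiber s) := ⟨ζ⟩
  have hdim := dim_fiber_eq f s hne
  apply le_antisymm
  · rw [← hdim]
    exact Groth.Agent.Helper2.TopDim.localDim_le_dim ζ
  · have hx : f (f.fiberι s ζ) = s := Groth.Agent.Helper5.VarDim.apply_fiberι f s ζ
    rw [Groth.Agent.Helper5.VarDim.localDim_fiber_eq_fibreDimAt f s ζ (f.fiberι s ζ) rfl hx]
    have h2 : f (genericPoint X) = genericPoint ↥S := map_genericPoint f
    rw [← h2]
    exact Groth.Agent.Helper5.VarDim.generic_fibre_dim_le_fibreDimAt f _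

theorem s7624 (R : Type u) [CommRing R] [IsDomain R] [ValuationRing R]
    (X : Scheme.{u}) [IrreducibleSpace ↥X] (f : X ⟶ Spec (CommRingCat.of R))
    [LocallyOfFiniteType f] [Surjective f]
    (Z : Set ↥(f.fiber (IsLocalRing.closedPoint R)))
    (hZ : Z ∈ irreducibleComponents ↥(f.fiber (IsLocalRing.closedPoint R))) :
    topologicalKrullDim ↥Z =
      topologicalKrullDim ↥(f.fiber (⟨⊥, Ideal.bot_prime⟩ : PrimeSpectrum R)) := by
  haveI : IsDominant f := ⟨(Surjective.surj (f := f)).denseRange⟩
  have hgp : genericPoint ↥(Spec (CommRingCat.of R)) =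
      (⟨⊥, Ideal.bot_prime⟩ : PrimeSpectrum R) :=
    genericPoint_eq_bot_of_affine (CommRingCat.of R)
  rw [← hgp]
  exact dim_component_eq f (IsLocalRing.closedPoint R) Z hZ

end Groth.Agent.Helper5.ValTr
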