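import Mathlib
import Groth.Prelude
import Groth.Agent.Helper5.ValTr5

set_option autoImplicit false
set_option linter.unusedSectionVars false
set_option linter.style.haveILetI false
universe u

open AlgebraicGeometry CategoryTheory CategoryTheory.Limits TopologicalSpace

namespace Groth.Agent.Helper5.ValTr

open Groth.Agent.Helper5.VarDim Groth.Agent.Helper5.MaxPt Groth.Agent.Helper5.OverField

/-- if the transcendence degrees of the residue field extensions over `s` are bounded by the one
at the generic point, a non-empty fibre over `s` has the dimension of the generic fibre -/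
theorem dim_fiber_eq_of_trdeg_le {X S : Scheme.{u}} [IrreducibleSpace X] [IrreducibleSpace S]
    (f : X ⟶ S) [LocallyOfFiniteType f] [IsDominant f] (s : S) (hs : Nonempty ↥(f.fiber s))
    (htr : ∀ x : X, f x = s →
      @Algebra.trdeg (S.residueField (f x)) (X.residueField x) _ _
          (f.residueFieldMap x).hom.toAlgebra ≤
        @Algebra.trdeg (S.residueField (f (genericPoint X))) (X.residueField (genericPoint X)) _ _
          (f.residueFieldMap (genericPoint X)).hom.toAlgebra) :
    topologicalKrullDim ↥(f.fiber s) = topologicalKrullDim ↥(f.fiber (genericPoint ↥S)) := by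
  let ξ := genericPoint X
  have hfξ : f ξ = genericPoint ↥S := map_genericPoint f
  have hmaxξ : ∀ w : X, f w = f ξ → w ⤳ ξ → w = ξ := fun w _ hw =>
    (hw.antisymm (genericPoint_specializes w)).eq
  obtain ⟨n, hn1, hn2⟩ := fibreDimAt_of_maximal f ξ (coheight_asFiber_eq_zero f ξ hmaxξ)
  have hgen : topologicalKrullDim ↥(f.fiber (genericPoint ↥S)) = n := by
    rw [← hfξ]
    obtain ⟨n', hn'1, hn'2⟩ := dim_closure_fibre_point f (f ξ) (f.asFiber ξ) ξ
      (f.fiberι_asFiber ξ) rfl
    have hnn : n' = n := by
      have := hn'2.symm.trans hn1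
      exact_mod_cast this
    have hcl : closure ({f.asFiber ξ} : Set ↥(f.fiber (f ξ))) = Set.univ := by
      apply Set.eq_univ_of_forall
      intro ζ
      rw [← specializes_iff_mem_closure,
        ← (f.fiberι (f ξ)).isEmbedding.toIsInducing.specializes_iff, f.fiberι_asFiber]
      exact genericPoint_specializes _
    rw [hcl] at hn'1
    rw [← hnn, ← hn'1]
    exact ((Homeomorph.Set.univ ↥(f.fiber (f ξ))).isHomeomorph.topologicalKrullDim_eq).symm
  have hup : topologicalKrullDim ↥(f.fiber s) ≤ n := by
    have hft : LocallyOfFiniteType (f.fiberToSpecResidueField s) :=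
      inferInstanceAs (LocallyOfFiniteType (Limits.pullback.snd f (S.fromSpecResidueField s)))
    rw [Groth.Agent.Helper5.EtDim.topologicalKrullDim_eq_iSup_coheight]
    refine iSup_le fun ζ => ?_
    refine (coheight_le_localDim _ ζ).trans ?_
    obtain ⟨ξ', -, hmax', hloc⟩ := Groth.Agent.Helper5.BCMin.exists_max_localDim_eq
      (S.residueField s) (f.fiberToSpecResidueField s) ζ
    rw [hloc]
    obtain ⟨m, hm1, hm2⟩ := dim_closure_fibre_point f s ξ' (f.fiberι s ξ') rfl
      (apply_fiberι f s ξ')
    rw [hm1]
    have := htr (f.fiberι s ξ') (apply_fiberι f s ξ')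
    rw [hm2, hn1] at this
    exact_mod_cast this
  obtain ⟨ζ⟩ := hs
  have hlow : (n : WithBot ℕ∞) ≤ topologicalKrullDim ↥(f.fiber s) := by
    let x := f.fiberι s ζ
    have hx : f x = s := apply_fiberι f s ζ
    have h1 : (n : WithBot ℕ∞) ≤ FlatMor.fibreDimAt f x := by
      rw [← hgen, ← hfξ]
      exact generic_fibre_dim_le_fibreDimAt f x
    have h2 : FlatMor.fibreDimAt f x = FlatMor.localDim ↥(f.fiber s) ζ :=
      (localDim_fiber_eq_fibreDimAt f s ζ x rfl hx).symm
    rw [h2] at h1
    exact h1.trans (Groth.Agent.Helper2.TopDim.localDim_le_dim ζ)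
  rw [hgen]
  exact le_antisymm hup hlow

theorem s14733 (R : Type u) [CommRing R] [IsDomain R]
    (hR : ∀ (p : Ideal R) [p.IsPrime], ValuationRing (Localization.AtPrime p))
    (X : Scheme.{u}) [IrreducibleSpace X] (f : X ⟶ Spec (CommRingCat.of R))
    [LocallyOfFiniteType f] [IsDominant f] (γ : Spec (CommRingCat.of R))
    (h0 : Nonempty ↥(f.fiber γ)) :
    topologicalKrullDim ↥(f.fiber γ) =
      topologicalKrullDim ↥(f.fiber (genericPoint (Spec (CommRingCat.of R)))) := by
  let S : Scheme.{u} := Spec (CommRingCat.of R)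
  haveI hSirr : IrreducibleSpace ↥S := inferInstanceAs (IrreducibleSpace (PrimeSpectrum R))
  let eR : Γ(S, ⊤) ≃+* R := (Scheme.ΓSpecIso (CommRingCat.of R)).commRingCatIsoToRingEquiv
  apply dim_fiber_eq_of_trdeg_le f γ h0
  intro x _
  exact trdeg_le_of_specializes f (genericPoint X) x (genericPoint_specializes x)
    (⊤ : S.Opens) (isAffineOpen_top S) trivial (fun a b => ldvd_of_prufer hR eR _ a b)

end Groth.Agent.Helper5.ValTr
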