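import Groth.Agent.Helper5.ValTr3
import Groth.Agent.Helper5.LscDim5
import Mathlib.RingTheory.LocalRing.ResidueField.Fiber

set_option autoImplicit false
universe u
open CategoryTheory CategoryTheory.Limits AlgebraicGeometry TopologicalSpace TensorProduct

namespace Groth.Agent.Helper5.ValTr

/-- The scheme-theoretic fibre of `Spec S → Spec R` over `p` has the Krull dimension of the
ring `κ(p) ⊗[R] S`. -/
theorem dim_fiber_spec_eq {R S : Type u} [CommRing R] [CommRing S] [Algebra R S]
    (p : PrimeSpectrum R) :
    topologicalKrullDim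
        ↥((Spec.map (CommRingCat.ofHom (algebraMap R S))).fiber (show ↥(Spec (CommRingCat.of R)) from p)) =
      ringKrullDim (p.asIdeal.Fiber S) := by
  rw [Groth.Agent.Helper5.LscDim.dim_fiber_eq_dim_preimage]
  rw [← PrimeSpectrum.topologicalKrullDim_eq_ringKrullDim]
  exact IsHomeomorph.topologicalKrullDim_eq _
    (PrimeSpectrum.preimageHomeomorphFiber R S p).isHomeomorph

/-- The residue field of the maximal ideal of a local ring, as an algebra. -/
noncomputable def residueFieldEquiv (R : Type u) [CommRing R] [IsLocalRing R] :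
    IsLocalRing.ResidueField R ≃ₐ[R] (IsLocalRing.maximalIdeal R).ResidueField :=
  AlgEquiv.ofBijective
    (IsScalarTower.toAlgHom R (R ⧸ IsLocalRing.maximalIdeal R)
      (IsLocalRing.maximalIdeal R).ResidueField)
    (Ideal.bijective_algebraMap_quotient_residueField _)

theorem s0444 {R S : Type u} [CommRing R] [IsDomain R] [ValuationRing R] [CommRing S] [IsDomain S]
    [Algebra R S]
    (hinj : Function.Injective (algebraMap R S)) [Algebra.FiniteType R S]
    [Nontrivial (IsLocalRing.ResidueField R ⊗[R] S)] :
    ringKrullDim (IsLocalRing.ResidueField R ⊗[R] S) = ringKrullDim (FractionRing R ⊗[R] S) := by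
  let f : Spec (CommRingCat.of S) ⟶ Spec (CommRingCat.of R) :=
    Spec.map (CommRingCat.ofHom (algebraMap R S))
  haveI : IrreducibleSpace ↥(Spec (CommRingCat.of S)) :=
    inferInstanceAs (IrreducibleSpace (PrimeSpectrum S))
  haveI : LocallyOfFiniteType f := by
    rw [HasRingHomProperty.Spec_iff (P := @LocallyOfFiniteType)]
    exact (RingHom.finiteType_algebraMap (A := R) (B := S)).2 inferInstance
  haveI : IsDominant f := by
    rw [isDominant_iff]
    have : DenseRange (PrimeSpectrum.comap (algebraMap R S)) := by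
      rw [PrimeSpectrum.denseRange_comap_iff_ker_le_nilRadical,
        (RingHom.injective_iff_ker_eq_bot _).1 hinj]
      exact bot_le
    exact this
  let s : PrimeSpectrum R := IsLocalRing.closedPoint R
  let η : PrimeSpectrum R := ⊥
  have hη : genericPoint ↥(Spec (CommRingCat.of R)) = η :=
    genericPoint_eq_bot_of_affine (CommRingCat.of R)
  -- the two ring isomorphisms
  let e1 : (IsLocalRing.ResidueField R ⊗[R] S) ≃ₐ[R] (s.asIdeal.Fiber S) :=
    Algebra.TensorProduct.congr (residueFieldEquiv R) AlgEquiv.refl
  let e2 : (FractionRing R ⊗[R] S) ≃ₐ[R] (η.asIdeal.Fiber S) :=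
    Algebra.TensorProduct.congr
      (IsLocalization.algEquiv (nonZeroDivisors R) (FractionRing R)
        (⊥ : Ideal R).ResidueField) AlgEquiv.refl
  rw [ringKrullDim_eq_of_ringEquiv e1.toRingEquiv, ringKrullDim_eq_of_ringEquiv e2.toRingEquiv,
    ← dim_fiber_spec_eq s, ← dim_fiber_spec_eq η]
  have hne : Nonempty ↥(f.fiber (show ↥(Spec (CommRingCat.of R)) from s)) := by
    have : Nontrivial (s.asIdeal.Fiber S) := e1.toRingEquiv.injective.nontrivial
    obtain ⟨q⟩ := (inferInstance : Nonempty (PrimeSpectrum (s.asIdeal.Fiber S)))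
    let q' := (PrimeSpectrum.preimageHomeomorphFiber R S s).symm q
    exact ⟨(f.fiberHomeo (show ↥(Spec (CommRingCat.of R)) from s)).symm q'⟩
  have := dim_fiber_eq f (show ↥(Spec (CommRingCat.of R)) from s) hne
  rw [hη] at this
  exact this

end Groth.Agent.Helper5.ValTr
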