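import Groth.Agent.Helper5.VarDim13

set_option autoImplicit false
universe u
open AlgebraicGeometry CategoryTheory TopologicalSpace

namespace Groth.Agent.Helper5.VarDim

/-- In an affine chart `Spec Γ(X,V) → X` of a scheme locally of finite type over a field `k`,
the transcendence degree of the residue field at `j q` is the coheight of `q`. -/
theorem trdeg_eq_coheight_chart (k : Type u) [Field k] {X : Scheme.{u}}
    (f : X ⟶ Spec (CommRingCat.of k)) [LocallyOfFiniteType f] (V : X.Opens) (hV : IsAffineOpen V)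
    (q : PrimeSpectrum Γ(X, V)) :
    ∃ n : ℕ, @Algebra.trdeg k (X.residueField (hV.fromSpec q)) _ _
        (resHom k f (hV.fromSpec q)).toAlgebra = n ∧
      Order.coheight (α := PrimeSpectrum Γ(X, V)) q = (n : ℕ∞) := by
  let A := Γ(X, V)
  let j : Spec A ⟶ X := hV.fromSpec
  let _ : Algebra k A := (Groth.Agent.Helper5.FieldUnram.ρ k f V).hom.toAlgebra
  have hft : Algebra.FiniteType k A := Groth.Agent.Helper5.FieldUnram.ρ_finiteType k f V hV
  have hjf : j ≫ f = Spec.map (CommRingCat.ofHom (algebraMap k A)) :=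
    Groth.Agent.Helper5.FieldUnram.fromSpec_comp k f V hV
  obtain ⟨n, hn1, hn2⟩ := Groth.Agent.Helper5.FtDim.dim_eq_trdeg k (A ⧸ q.asIdeal)
    q.asIdeal.ResidueField
  refine ⟨n, ?_, ?_⟩
  · show @Algebra.trdeg k (X.residueField (j q)) _ _ (resHom k f (j q)).toAlgebra = n
    rw [trdeg_resHom_of_isOpenImmersion k j f q, ← hn2]
    have := trdeg_resHom_Spec k A q
    rw [← this]
    congr 2
    rw [hjf]
  · have h2 := Groth.Agent.Helper5.FtDim.ringKrullDim_quotient_eq_coheight q
    rw [hn1] at h2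
    have h3 : ((Order.coheight (α := PrimeSpectrum A) q : ℕ∞) : WithBot ℕ∞) = (n : WithBot ℕ∞) :=
      h2.symm
    exact_mod_cast h3

/-- Immediate specialisations drop the transcendence degree of the residue field by one. -/
theorem trdeg_of_immediate (k : Type u) [Field k] {X : Scheme.{u}}
    (f : X ⟶ Spec (CommRingCat.of k)) [LocallyOfFiniteType f] (x x' : X) (hne : x ≠ x')
    (hsp : x ⤳ x') (himm : ∀ y : X, x ⤳ y → y ⤳ x' → y = x ∨ y = x') :
    ∃ n : ℕ, @Algebra.trdeg k (X.residueField x') _ _ (resHom k f x').toAlgebra = n ∧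
      @Algebra.trdeg k (X.residueField x) _ _ (resHom k f x).toAlgebra = (n + 1 : ℕ) := by
  obtain ⟨V, hV, hxV⟩ : ∃ V : X.Opens, IsAffineOpen V ∧ x' ∈ V := by
    obtain ⟨_, ⟨V, hV, rfl⟩, hxV, -⟩ :=
      (X.isBasis_affineOpens).exists_subset_of_mem_open (Set.mem_univ x') isOpen_univ
    exact ⟨V, hV, hxV⟩
  have hxV' : x ∈ V := hsp.mem_open V.2 hxV
  let A := Γ(X, V)
  let j : Spec A ⟶ X := hV.fromSpec
  let _ : Algebra k A := (Groth.Agent.Helper5.FieldUnram.ρ k f V).hom.toAlgebra
  have hft : Algebra.FiniteType k A := Groth.Agent.Helper5.FieldUnram.ρ_finiteType k f V hV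
  obtain ⟨q, rfl⟩ : ∃ q : PrimeSpectrum A, j q = x' := by
    have : x' ∈ Set.range j := by rw [hV.range_fromSpec]; exact hxV
    exact this
  obtain ⟨p, rfl⟩ : ∃ p : PrimeSpectrum A, j p = x := by
    have : x ∈ Set.range j := by rw [hV.range_fromSpec]; exact hxV'
    exact this
  have hinj : Function.Injective j := j.isOpenEmbedding.injective
  have hspec : ∀ a b : PrimeSpectrum A, j a ⤳ j b ↔ a ≤ b := by
    intro a b
    rw [j.isOpenEmbedding.isInducing.specializes_iff]
    exact (PrimeSpectrum.le_iff_specializes a b).symm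
  have hpq : @LT.lt (PrimeSpectrum A) _ p q := by
    refine lt_of_le_of_ne ((hspec p q).1 hsp) ?_
    rintro rfl
    exact hne rfl
  have hcov : @CovBy (PrimeSpectrum A) _ p q := by
    refine ⟨hpq, ?_⟩
    intro (y : PrimeSpectrum A) hpy hyq
    rcases himm (j y) ((hspec p y).2 hpy.le) ((hspec y q).2 hyq.le) with h | h
    · exact hpy.ne (hinj h).symm
    · exact hyq.ne (hinj h)
  have hco := Groth.Agent.Helper5.FtDim.coheight_add_one_of_covBy k A p q hcov
  obtain ⟨n, hn1, hn2⟩ := trdeg_eq_coheight_chart k f V hV q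
  obtain ⟨m, hm1, hm2⟩ := trdeg_eq_coheight_chart k f V hV p
  refine ⟨n, hn1, ?_⟩
  rw [hm1]
  have hco' : Order.coheight (α := PrimeSpectrum A) q + 1 = Order.coheight (α := PrimeSpectrum A) p :=
    hco
  rw [hn2, hm2] at hco'
  have : n + 1 = m := by exact_mod_cast hco'
  rw [this]

end Groth.Agent.Helper5.VarDim
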