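import Groth.Agent.Helper5.VarDim2
import Groth.Agent.Helper5.FtDim9

set_option autoImplicit false
universe u
open AlgebraicGeometry CategoryTheory TopologicalSpace

namespace Groth.Agent.Helper5.VarDim

/-- The structure map from the base field to the residue field at a point. -/
noncomputable def resHom (k : Type u) [Field k] {X : Scheme.{u}} (f : X ⟶ Spec (CommRingCat.of k))
    (x : X) : k →+* X.residueField x :=
  ((Scheme.ΓSpecIso (CommRingCat.of k)).inv ≫ f.appTop ≫ X.Γevaluation x).hom

theorem trdeg_congr_ringEquiv {k K1 K2 : Type u} [Field k] [CommRing K1] [CommRing K2]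
    (a1 : k →+* K1) (a2 : k →+* K2) (e : K1 ≃+* K2) (h : ∀ c, e (a1 c) = a2 c) :
    @Algebra.trdeg k K1 _ _ a1.toAlgebra = @Algebra.trdeg k K2 _ _ a2.toAlgebra := by
  let _ := a1.toAlgebra
  let _ := a2.toAlgebra
  exact AlgEquiv.trdeg_eq (AlgEquiv.ofRingEquiv (f := e) h)

theorem trdeg_resHom_congr (k : Type u) [Field k] {X : Scheme.{u}}
    (f : X ⟶ Spec (CommRingCat.of k)) {x y : X} (h : x = y) :
    @Algebra.trdeg k (X.residueField x) _ _ (resHom k f x).toAlgebra =
      @Algebra.trdeg k (X.residueField y) _ _ (resHom k f y).toAlgebra := by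
  subst h; rfl

theorem trdeg_resHom_of_isOpenImmersion (k : Type u) [Field k] {U X : Scheme.{u}}
    (j : U ⟶ X) [IsOpenImmersion j] (f : X ⟶ Spec (CommRingCat.of k)) (x : U) :
    @Algebra.trdeg k (X.residueField (j x)) _ _ (resHom k f (j x)).toAlgebra =
      @Algebra.trdeg k (U.residueField x) _ _ (resHom k (j ≫ f) x).toAlgebra := by
  refine trdeg_congr_ringEquiv _ _ (asIso (j.residueFieldMap x)).commRingCatIsoToRingEquiv ?_
  intro c
  show (j.residueFieldMap x).hom ((resHom k f (j x)) c) = (resHom k (j ≫ f) x) c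
  have h1 : (Scheme.ΓSpecIso (CommRingCat.of k)).inv ≫ f.appTop ≫ X.Γevaluation (j x) ≫
      j.residueFieldMap x = (Scheme.ΓSpecIso (CommRingCat.of k)).inv ≫ (j ≫ f).appTop ≫
        U.Γevaluation x := by
    rw [Scheme.Γevaluation_naturality, Scheme.Hom.comp_appTop, Category.assoc]
  have h2 := congrArg (fun φ => φ.hom c) h1
  exact h2

theorem trdeg_resHom_Spec (k R : Type u) [Field k] [CommRing R] [Algebra k R]
    (x : PrimeSpectrum R) :
    @Algebra.trdeg k ((Spec (CommRingCat.of R)).residueField x) _ _
      (resHom k (Spec.map (CommRingCat.ofHom (algebraMap k R))) x).toAlgebra =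
      Algebra.trdeg k x.asIdeal.ResidueField := by
  symm
  have := trdeg_congr_ringEquiv (algebraMap k x.asIdeal.ResidueField)
    (resHom k (Spec.map (CommRingCat.ofHom (algebraMap k R))) x)
    (Scheme.Spec.residueFieldIso (CommRingCat.of R) x).symm.commRingCatIsoToRingEquiv ?_
  · convert this using 2
    exact Algebra.algebra_ext _ _ (fun _ => rfl)
  · intro c
    show (Scheme.Spec.residueFieldIso (CommRingCat.of R) x).inv.hom
      (algebraMap k x.asIdeal.ResidueField c) = _
    have h1 := Scheme.Spec.algebraMap_residueFieldIso_inv (CommRingCat.of R) x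
    have h2 := Scheme.ΓSpecIso_inv_naturality (CommRingCat.ofHom (algebraMap k R))
    have h3 : CommRingCat.ofHom (algebraMap k R) ≫
        CommRingCat.ofHom (algebraMap R x.asIdeal.ResidueField) ≫
          (Scheme.Spec.residueFieldIso (CommRingCat.of R) x).inv =
        (Scheme.ΓSpecIso (CommRingCat.of k)).inv ≫
          (Spec.map (CommRingCat.ofHom (algebraMap k R))).appTop ≫
            (Spec (CommRingCat.of R)).Γevaluation x := by
      rw [h1, ← Category.assoc, h2, Category.assoc]
      rfl
    have h4 := congrArg (fun φ => φ.hom c) h3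
    rw [IsScalarTower.algebraMap_apply k R x.asIdeal.ResidueField]
    exact h4

end Groth.Agent.Helper5.VarDim
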