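import Mathlib

set_option autoImplicit false
set_option linter.style.haveILetI false
universe u

namespace Groth.Agent.Helper5.VcGen

open CategoryTheory CategoryTheory.Limits AlgebraicGeometry IsLocalRing

/-- the ring-level content of a factorisation `x = Spec φ ≫ l` with `l : Spec A ⟶ X` -/
theorem triangle_ring' {X : Scheme.{u}} (A : Type u) [CommRing A] [IsLocalRing A] (L : Type u)
    [Field L] (φ : A →+* L)
    (x : Spec (CommRingCat.of L) ⟶ X) (l : Spec (CommRingCat.of A) ⟶ X)
    (hxl : x = Spec.map (CommRingCat.ofHom φ) ≫ l)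
    (hsp : x (closedPoint L) ⤳ l (closedPoint A)) :
    X.presheaf.stalkSpecializes hsp ≫ Scheme.stalkClosedPointTo x =
      Scheme.stalkClosedPointTo l ≫ CommRingCat.ofHom φ := by
  rw [← Spec.map_inj, ← cancel_mono (X.fromSpecStalk (l (closedPoint A)))]
  simp only [Spec.map_comp, Category.assoc]
  rw [Scheme.SpecMap_stalkSpecializes_fromSpecStalk hsp,
    Scheme.Spec_stalkClosedPointTo_fromSpecStalk, Scheme.Spec_stalkClosedPointTo_fromSpecStalk,
    hxl]

/-- the generic point of `Spec A` maps to a generization of the image of the closed point -/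
theorem specializes_of_factor {X : Scheme.{u}} (A : Type u) [CommRing A] [IsLocalRing A]
    (L : Type u) [Field L] (φ : A →+* L)
    (x : Spec (CommRingCat.of L) ⟶ X) (l : Spec (CommRingCat.of A) ⟶ X)
    (hxl : x = Spec.map (CommRingCat.ofHom φ) ≫ l) :
    x (closedPoint L) ⤳ l (closedPoint A) := by
  have h3 := (specializes_closedPoint (R := A)
    ((Spec.map (CommRingCat.ofHom φ)).base (closedPoint L))).map l.continuous
  rw [hxl, Scheme.Hom.comp_apply]
  exact h3

/-- **Two morphisms from the spectrum of a local ring which agree at the generic point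
(through an injective map to a field) and at the closed point are equal.** -/
theorem eq_of_generic_of_closedPoint {Z : Scheme.{u}} (A : Type u) [CommRing A] [IsLocalRing A]
    (L : Type u) [Field L] (φ : A →+* L) (hφ : Function.Injective φ)
    (g₁ g₂ : Spec (CommRingCat.of A) ⟶ Z)
    (h : Spec.map (CommRingCat.ofHom φ) ≫ g₁ = Spec.map (CommRingCat.ofHom φ) ≫ g₂)
    (hc : g₁ (closedPoint A) = g₂ (closedPoint A)) : g₁ = g₂ := by
  apply (SpecToEquivOfLocalRing Z (CommRingCat.of A)).injective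
  rw [SpecToEquivOfLocalRing_eq_iff]
  refine ⟨hc, ?_⟩
  show Scheme.stalkClosedPointTo g₁ =
    (Z.presheaf.stalkCongr (.of_eq hc)).hom ≫ Scheme.stalkClosedPointTo g₂
  have hsp₁ := specializes_of_factor A L φ _ g₁ rfl
  have hsp₂ : (Spec.map (CommRingCat.ofHom φ) ≫ g₁) (closedPoint L) ⤳ g₂ (closedPoint A) := by
    rw [h]; exact specializes_of_factor A L φ _ g₂ rfl
  have t₁ := triangle_ring' A L φ _ g₁ rfl hsp₁
  have t₂ := triangle_ring' A L φ _ g₂ h hsp₂
  have key : Scheme.stalkClosedPointTo g₁ ≫ CommRingCat.ofHom φ =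
      ((Z.presheaf.stalkCongr (.of_eq hc)).hom ≫ Scheme.stalkClosedPointTo g₂) ≫
        CommRingCat.ofHom φ := by
    rw [← t₁, Category.assoc, ← t₂, ← Category.assoc,
      TopCat.Presheaf.stalkCongr_hom, TopCat.Presheaf.stalkSpecializes_comp]
  ext a
  apply hφ
  exact congrArg (fun q => q.hom a) key

/-- **Two morphisms from an affine scheme into an affine open which agree after an injective
ring map are equal.** -/
theorem eq_of_generic_of_affine {Z : Scheme.{u}} (A L : Type u) [CommRing A] [CommRing L]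
    (φ : A →+* L) (hφ : Function.Injective φ)
    (g₁ g₂ : Spec (CommRingCat.of A) ⟶ Z)
    (h : Spec.map (CommRingCat.ofHom φ) ≫ g₁ = Spec.map (CommRingCat.ofHom φ) ≫ g₂)
    (W : Z.Opens) (hW : IsAffineOpen W) (h₁ : ∀ p, g₁ p ∈ W) (h₂ : ∀ p, g₂ p ∈ W) : g₁ = g₂ := by
  have r₁ : Set.range g₁.base ⊆ Set.range W.ι.base := by
    rw [Scheme.Opens.range_ι]; rintro _ ⟨p, rfl⟩; exact h₁ p
  have r₂ : Set.range g₂.base ⊆ Set.range W.ι.base := by
    rw [Scheme.Opens.range_ι]; rintro _ ⟨p, rfl⟩; exact h₂ p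
  have e₁ : IsOpenImmersion.lift W.ι g₁ r₁ ≫ W.ι = g₁ := IsOpenImmersion.lift_fac _ _ _
  have e₂ : IsOpenImmersion.lift W.ι g₂ r₂ ≫ W.ι = g₂ := IsOpenImmersion.lift_fac _ _ _
  haveI : IsAffine W.toScheme := hW
  suffices hs : IsOpenImmersion.lift W.ι g₁ r₁ = IsOpenImmersion.lift W.ι g₂ r₂ by
    rw [← e₁, ← e₂, hs]
  apply ext_of_isAffine
  have h' : Spec.map (CommRingCat.ofHom φ) ≫ IsOpenImmersion.lift W.ι g₁ r₁ =
      Spec.map (CommRingCat.ofHom φ) ≫ IsOpenImmersion.lift W.ι g₂ r₂ := by
    rw [← cancel_mono W.ι, Category.assoc, Category.assoc, e₁, e₂, h]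
  have h'' := congrArg Scheme.Hom.appTop h'
  rw [Scheme.Hom.comp_appTop, Scheme.Hom.comp_appTop] at h''
  have hmono : Function.Injective (Spec.map (CommRingCat.ofHom φ)).appTop.hom := by
    intro a b hab
    have e : ∀ a, (Scheme.ΓSpecIso (CommRingCat.of L)).hom.hom
        ((Spec.map (CommRingCat.ofHom φ)).appTop.hom a) =
        φ ((Scheme.ΓSpecIso (CommRingCat.of A)).hom.hom a) := fun a =>
      congrArg (fun q => q.hom a) (Scheme.ΓSpecIso_naturality (CommRingCat.ofHom φ))
    have h1 : φ ((Scheme.ΓSpecIso (CommRingCat.of A)).hom.hom a) =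
        φ ((Scheme.ΓSpecIso (CommRingCat.of A)).hom.hom b) := by
      rw [← e, ← e, hab]
    have h2 := hφ h1
    have h3 := congrArg (Scheme.ΓSpecIso (CommRingCat.of A)).inv.hom h2
    simpa using h3
  ext a
  apply hmono
  exact congrArg (fun q => q.hom a) h''

end Groth.Agent.Helper5.VcGen
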