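import Mathlib
import Groth.Agent.Helper5.UltraVal
import Groth.Agent.Helper5.VcGen0
import Groth.Agent.Helper5.VcCenter

set_option autoImplicit false
set_option linter.style.haveILetI false
universe u

namespace Groth.Agent.Helper5.VcCompact

open CategoryTheory CategoryTheory.Limits AlgebraicGeometry IsLocalRing Filter
open Groth.Agent.Helper5.VcCenter Groth.Agent.Helper5.UltraVal Groth.Agent.Helper5.VcGen

variable {X Y : Scheme.{u}}

/-- a morphism from the spectrum of a local ring whose closed point lands in an open lands in it -/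
theorem mem_of_closedPoint_mem {Z : Scheme.{u}} (A : Type u) [CommRing A] [IsLocalRing A]
    (g : Spec (CommRingCat.of A) ⟶ Z) (W : Z.Opens) (h : g (closedPoint A) ∈ W) (p) : g p ∈ W :=
  ((specializes_closedPoint (R := A) p).map g.continuous).mem_open W.2 h

/-- a morphism from an affine scheme into an affine open factors uniquely through it -/
theorem exists_factor {Z : Scheme.{u}} {W : Z.Opens} (hW : IsAffineOpen W) (A : Type u)
    [CommRing A] (g : Spec (CommRingCat.of A) ⟶ Z) (h : ∀ p, g p ∈ W) :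
    ∃ θ : Γ(Z, W) →+* A, Spec.map (CommRingCat.ofHom θ) ≫ hW.fromSpec = g := by
  have r : Set.range g.base ⊆ Set.range hW.fromSpec.base := by
    rw [hW.range_fromSpec]; rintro _ ⟨p, rfl⟩; exact h p
  refine ⟨(Spec.preimage (IsOpenImmersion.lift hW.fromSpec g r)).hom, ?_⟩
  have : CommRingCat.ofHom (Spec.preimage (IsOpenImmersion.lift hW.fromSpec g r)).hom =
      Spec.preimage (IsOpenImmersion.lift hW.fromSpec g r) := rfl
  rw [this, Spec.map_preimage, IsOpenImmersion.lift_fac]

theorem factor_unique {Z : Scheme.{u}} {W : Z.Opens} (hW : IsAffineOpen W) (A : Type u)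
    [CommRing A] (θ₁ θ₂ : Γ(Z, W) →+* A)
    (h : Spec.map (CommRingCat.ofHom θ₁) ≫ hW.fromSpec =
      Spec.map (CommRingCat.ofHom θ₂) ≫ hW.fromSpec) : θ₁ = θ₂ := by
  rw [cancel_mono] at h
  have := Spec.map_injective h
  exact congrArg CommRingCat.Hom.hom this

/-- **Compactness of the set of centres.**  For a morphism locally of finite type satisfying the
valuative criterion, the specialisations of a point lying over an affine open form a compact set:
an ultrafilter on them converges to the centre of the ultraproduct of valuation rings centred at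
the points. -/
theorem isCompact_centres (f : X ⟶ Y) [LocallyOfFiniteType f]
    (hE : ValuativeCriterion.Existence f) (hUq : ValuativeCriterion.Uniqueness f)
    {U : Y.Opens} (hU : IsAffineOpen U) (K : Type u) [Field K]
    (t : Spec (CommRingCat.of K) ⟶ X) :
    IsCompact {x : X | t (closedPoint K) ⤳ x ∧ f x ∈ U} := by
  classical
  set ξ : X := t (closedPoint K) with hξ
  set Z : Set X := {x : X | ξ ⤳ x ∧ f x ∈ U} with hZ
  rw [isCompact_iff_ultrafilter_le_nhds]
  intro φ hφ
  have hZφ : Z ∈ (φ : Filter X) := le_principal_iff.1 hφ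
  obtain ⟨x₀, hx₀⟩ := φ.nonempty_of_mem hZφ
  have hfξ : f ξ ∈ U := (hx₀.1.map f.continuous).mem_open U.2 hx₀.2
  obtain ⟨ev, hev⟩ := exists_factor hU K (t ≫ f) (fun p =>
    mem_of_closedPoint_mem K (t ≫ f) U (by rw [Scheme.Hom.comp_apply]; exact hfξ) p)
  let j : ∀ x, ξ ⤳ x → (X.presheaf.stalk x →+* K) := fun x hx =>
    (X.presheaf.stalkSpecializes hx ≫ Scheme.stalkClosedPointTo t).hom
  have hjt : ∀ x (hx : ξ ⤳ x),
      Spec.map (CommRingCat.ofHom (j x hx)) ≫ X.fromSpecStalk x = t := by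
    intro x hx
    have h2 : CommRingCat.ofHom (j x hx) =
        X.presheaf.stalkSpecializes hx ≫ Scheme.stalkClosedPointTo t := rfl
    rw [h2, Spec.map_comp, Category.assoc, Scheme.SpecMap_stalkSpecializes_fromSpecStalk hx,
      Scheme.Spec_stalkClosedPointTo_fromSpecStalk]
  have hex : ∀ x : X, ∃ R : ValuationSubring K, ∀ hx : x ∈ Z, Dom R x (j x hx.1) := by
    intro x
    by_cases hx : x ∈ Z
    · obtain ⟨R, h₁, hloc⟩ := IsLocalRing.exists_factor_valuationRing (j x hx.1)
      refine ⟨R, fun _ => ⟨h₁, ?_⟩⟩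
      intro b hb
      have h1 : ¬ IsUnit ((j x hx.1).codRestrict R.toSubring h₁ b) :=
        fun hu => hb (hloc.map_nonunit b hu)
      have h2 : (⟨j x hx.1 b, h₁ b⟩ : R) ∈ maximalIdeal R := (mem_maximalIdeal _).2 h1
      exact (R.valuation_lt_one_iff _).1 h2
    · exact ⟨⊤, fun h => absurd h hx⟩
  choose R hR using hex
  have hevx : ∀ x (hx : x ∈ Z), ev = (j x hx.1).comp
      ((f.stalkMap x).hom.comp (Y.presheaf.germ U (f x) hx.2).hom) := by
    intro x hx
    apply factor_unique hU K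
    rw [hev]
    have h2 : CommRingCat.ofHom ((j x hx.1).comp
        ((f.stalkMap x).hom.comp (Y.presheaf.germ U (f x) hx.2).hom)) =
        Y.presheaf.germ U (f x) hx.2 ≫ f.stalkMap x ≫ CommRingCat.ofHom (j x hx.1) := rfl
    rw [h2]
    simp only [Spec.map_comp, Category.assoc]
    have h3 : Spec.map (Y.presheaf.germ U (f x) hx.2) ≫ hU.fromSpec = Y.fromSpecStalk (f x) :=
      hU.fromSpecStalk_eq_fromSpecStalk hx.2
    rw [h3, Scheme.SpecMap_stalkMap_fromSpecStalk, ← Category.assoc]
    exact congrArg (· ≫ f) (hjt x hx.1).symm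
  -- the ultraproduct
  let Ks := Germ (φ : Filter X) K
  let Rs : ValuationSubring Ks := ultra φ R
  have hβ : ∀ b, (diag φ).comp ev b ∈ Rs := by
    intro b
    rw [RingHom.comp_apply, diag_mem_ultra_iff]
    filter_upwards [hZφ] with x hx
    rw [hevx x hx]
    exact (hR x hx).1 _
  let β : Γ(Y, U) →+* Rs := ((diag φ).comp ev).codRestrict Rs.toSubring hβ
  let i₁ : Spec (CommRingCat.of Ks) ⟶ X := Spec.map (CommRingCat.ofHom (diag φ)) ≫ t
  let i₂ : Spec (CommRingCat.of Rs) ⟶ Y := Spec.map (CommRingCat.ofHom β) ≫ hU.fromSpec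
  have hsq : i₁ ≫ f = Spec.map (CommRingCat.ofHom (algebraMap Rs Ks)) ≫ i₂ := by
    show (Spec.map (CommRingCat.ofHom (diag φ)) ≫ t) ≫ f =
      _ ≫ Spec.map (CommRingCat.ofHom β) ≫ hU.fromSpec
    rw [Category.assoc, ← hev, ← Spec.map_comp_assoc, ← Spec.map_comp_assoc]
    rfl
  let Sq : ValuativeCommSq f :=
    { R := Rs, K := Ks, i₁ := i₁, i₂ := i₂, commSq := ⟨hsq⟩ }
  obtain ⟨⟨l, hl1, hl2⟩⟩ := (hE Sq).exists_lift
  change Spec.map (CommRingCat.ofHom (algebraMap Rs Ks)) ≫ l = i₁ at hl1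
  change l ≫ f = i₂ at hl2
  set xs : X := l (closedPoint Rs) with hxs
  have hspec : ξ ⤳ xs := by
    have h1 := specializes_of_factor Rs Ks (algebraMap Rs Ks) i₁ l hl1.symm
    have h2 : i₁ (closedPoint Ks) = ξ := by
      show (Spec.map (CommRingCat.ofHom (diag φ)) ≫ t) _ = t _
      rw [Scheme.Hom.comp_apply]
      congr 1
      exact Subsingleton.elim _ _
    rwa [h2] at h1
  have hfxs : f xs ∈ U := by
    have h1 : f xs = (l ≫ f) (closedPoint Rs) := by rw [Scheme.Hom.comp_apply]
    rw [h1, hl2]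
    show (Spec.map (CommRingCat.ofHom β) ≫ hU.fromSpec) _ ∈ U
    rw [Scheme.Hom.comp_apply]
    have : hU.fromSpec (Spec.map (CommRingCat.ofHom β) (closedPoint Rs)) ∈
        Set.range hU.fromSpec := Set.mem_range_self _
    rwa [hU.range_fromSpec] at this
  refine ⟨xs, ⟨hspec, hfxs⟩, ?_⟩
  intro O hO
  obtain ⟨O', hO'O, hO'open, hxO'⟩ := mem_nhds_iff.1 hO
  obtain ⟨_, ⟨V, hV', rfl⟩, hxV, hVsub⟩ :=
    X.isBasis_affineOpens.exists_subset_of_mem_open
      (show xs ∈ O' ∩ ((f ⁻¹ᵁ U : X.Opens) : Set X) from ⟨hxO', hfxs⟩)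
      (hO'open.inter (f ⁻¹ᵁ U).2)
  have hV : IsAffineOpen V := hV'
  refine mem_of_superset ?_ (hVsub.trans (Set.inter_subset_left.trans hO'O))
  have hVU : V ≤ f ⁻¹ᵁ U := fun y hy => (hVsub hy).2
  have hξV : ξ ∈ V := hspec.mem_open V.2 hxV
  obtain ⟨γ, hγ⟩ := exists_factor hV Rs l (mem_of_closedPoint_mem Rs l V hxV)
  obtain ⟨ev', hev'⟩ := exists_factor hV K t (mem_of_closedPoint_mem K t V hξV)
  have hcomp1 : (algebraMap Rs Ks).comp γ = (diag φ).comp ev' := by
    apply factor_unique hV Ks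
    have e1 : CommRingCat.ofHom ((algebraMap Rs Ks).comp γ) =
        CommRingCat.ofHom γ ≫ CommRingCat.ofHom (algebraMap Rs Ks) := rfl
    have e2 : CommRingCat.ofHom ((diag φ).comp ev') =
        CommRingCat.ofHom ev' ≫ CommRingCat.ofHom (diag φ) := rfl
    rw [e1, e2, Spec.map_comp, Spec.map_comp, Category.assoc, Category.assoc, hγ, hev', hl1]
  have hcomp2 : ev'.comp (f.appLE U V hVU).hom = ev := by
    apply factor_unique hU K
    have e1 : CommRingCat.ofHom (ev'.comp (f.appLE U V hVU).hom) =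
        f.appLE U V hVU ≫ CommRingCat.ofHom ev' := rfl
    rw [e1, Spec.map_comp, Category.assoc, IsAffineOpen.SpecMap_appLE_fromSpec f hU hV hVU,
      ← Category.assoc, hev', hev]
  have hft : (f.appLE U V hVU).hom.FiniteType :=
    HasRingHomProperty.appLE (P := @LocallyOfFiniteType) f inferInstance ⟨U, hU⟩ ⟨V, hV⟩ hVU
  letI : Algebra Γ(Y, U) Γ(X, V) := (f.appLE U V hVU).hom.toAlgebra
  obtain ⟨s, hs⟩ := hft.out
  have hgen : ∀ᶠ x in (φ : Filter X), ∀ c ∈ s, ev' c ∈ R x := by
    rw [Filter.eventually_all_finset]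
    intro c _
    rw [← diag_mem_ultra_iff φ R]
    have h1 : diag φ (ev' c) = algebraMap Rs Ks (γ c) :=
      (congrArg (fun g => g c) hcomp1).symm
    rw [h1]
    exact (γ c).2
  filter_upwards [hZφ, hgen] with x hxZ hxs'
  have hall : ∀ a : Γ(X, V), ev' a ∈ R x := by
    intro a
    have ha : a ∈ Algebra.adjoin Γ(Y, U) (s : Set Γ(X, V)) := by rw [hs]; trivial
    induction ha using Algebra.adjoin_induction with
    | mem c hc => exact hxs' c hc
    | algebraMap b =>
      have h1 : ev' (algebraMap Γ(Y, U) Γ(X, V) b) = ev b := congrArg (fun g => g b) hcomp2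
      rw [h1, hevx x hxZ]
      exact (hR x hxZ).1 _
    | add a b _ _ ha hb => rw [map_add]; exact (R x).add_mem _ _ ha hb
    | mul a b _ _ ha hb => rw [map_mul]; exact (R x).mul_mem _ _ ha hb
  let m : Spec (CommRingCat.of (R x)) ⟶ X :=
    Spec.map (CommRingCat.ofHom (ev'.codRestrict (R x).toSubring hall)) ≫ hV.fromSpec
  let d : Spec (CommRingCat.of (R x)) ⟶ X := (hR x hxZ).hom
  have hd1 : Spec.map (CommRingCat.ofHom (algebraMap (R x) K)) ≫ d = t :=
    (hR x hxZ).generic_hom.trans (hjt x hxZ.1)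
  have hm1 : Spec.map (CommRingCat.ofHom (algebraMap (R x) K)) ≫ m = t := by
    show _ ≫ Spec.map _ ≫ hV.fromSpec = t
    rw [← Spec.map_comp_assoc]
    exact hev'
  have hmd : m ≫ f = d ≫ f := by
    show (Spec.map _ ≫ hV.fromSpec) ≫ f = (Spec.map _ ≫ X.fromSpecStalk x) ≫ f
    rw [Category.assoc, Category.assoc, ← IsAffineOpen.SpecMap_appLE_fromSpec f hU hV hVU,
      ← Scheme.SpecMap_stalkMap_fromSpecStalk, ← hU.fromSpecStalk_eq_fromSpecStalk hxZ.2]
    unfold IsAffineOpen.fromSpecStalk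
    simp only [← Spec.map_comp_assoc]
    congr 2
    ext b
    show ev' ((f.appLE U V hVU).hom b) =
      j x hxZ.1 ((f.stalkMap x).hom ((Y.presheaf.germ U (f x) hxZ.2).hom b))
    have e1 : ev' ((f.appLE U V hVU).hom b) = ev b := congrArg (fun g => g b) hcomp2
    rw [e1, hevx x hxZ]; rfl
  let Sqx : ValuativeCommSq f :=
    { R := R x, K := K, i₁ := t, i₂ := d ≫ f,
      commSq := ⟨(congrArg (· ≫ f) hd1).symm.trans (Category.assoc _ _ _)⟩ }
  have hsub := hUq Sqx
  let a₁ : Sqx.commSq.LiftStruct := ⟨d, hd1, rfl⟩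
  let a₂ : Sqx.commSq.LiftStruct := ⟨m, hm1, hmd⟩
  have hdm : d = m := congrArg CommSq.LiftStruct.l (Subsingleton.elim a₁ a₂)
  have hxd : x = m (closedPoint (R x)) := by
    rw [← hdm]; exact (hR x hxZ).hom_closedPoint.symm
  show x ∈ (V : Set X)
  rw [hxd]
  show (Spec.map _ ≫ hV.fromSpec) _ ∈ V
  rw [Scheme.Hom.comp_apply]
  have h9 : hV.fromSpec (Spec.map (CommRingCat.ofHom (ev'.codRestrict (R x).toSubring hall))
      (closedPoint (R x))) ∈ Set.range hV.fromSpec := Set.mem_range_self _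
  rwa [hV.range_fromSpec] at h9

/-- **Quasi-compactness from the valuative criterion** when the source has finitely many
irreducible components (S19036, for morphisms locally of finite type). -/
theorem quasiCompact_of_valuativeCriterion (f : X ⟶ Y) [LocallyOfFiniteType f]
    (hf : ValuativeCriterion f) (hX : (irreducibleComponents ↥X).Finite) : QuasiCompact f := by
  rw [quasiCompact_iff_forall_isAffineOpen]
  intro U hU
  have hcover : ((f ⁻¹ᵁ U : X.Opens) : Set X) =
      ⋃ C ∈ irreducibleComponents X, (C ∩ ((f ⁻¹ᵁ U : X.Opens) : Set X)) := by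
    ext x
    simp only [Set.mem_iUnion, Set.mem_inter_iff, exists_prop]
    constructor
    · intro hx
      exact ⟨irreducibleComponent x, irreducibleComponent_mem_irreducibleComponents x,
        mem_irreducibleComponent, hx⟩
    · rintro ⟨C, -, -, hx⟩; exact hx
  rw [hcover]
  apply hX.isCompact_biUnion
  intro C hC
  have hCirr : IsIrreducible C := hC.1
  have hCcl : IsClosed C := isClosed_of_mem_irreducibleComponents C hC
  obtain ⟨ξ, hξ⟩ := QuasiSober.sober hCirr hCcl
  have key := isCompact_centres f hf.existence hf.uniqueness hU (X.residueField ξ)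
    (X.fromSpecResidueField ξ)
  convert key using 1
  ext x
  rw [Scheme.fromSpecResidueField_apply]
  simp only [Set.mem_inter_iff, Set.mem_setOf_eq]
  rw [← hξ.def, ← specializes_iff_mem_closure]
  rfl

end Groth.Agent.Helper5.VcCompact
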