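import Mathlib
import Groth.Agent.Helper5.VcGen0
import Groth.Agent.Helper5.VcApprox

set_option autoImplicit false
set_option linter.style.haveILetI false
universe u

namespace Groth.Agent.Helper5.VcGen

open CategoryTheory CategoryTheory.Limits AlgebraicGeometry IsLocalRing
open Groth.Agent.Helper5.VcCenter

/-- the lifting property for a valuation subring `V` of `K` with respect to a test point
`t : Spec K ⟶ X` -/
def ValLift {X S : Scheme.{u}} (f : X ⟶ S) {K : Type u} [Field K]
    (t : Spec (CommRingCat.of K) ⟶ X) (V : ValuationSubring K) : Prop :=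
  ∀ y : Spec (CommRingCat.of V) ⟶ S, Spec.map (CommRingCat.ofHom V.subtype) ≫ y = t ≫ f →
    ∃ l : Spec (CommRingCat.of V) ⟶ X, l ≫ f = y ∧ Spec.map (CommRingCat.ofHom V.subtype) ≫ l = t

/-- **Approximation, morphism form**: over a locally Noetherian base, if the test point is
essentially of finite type over the base and all discrete valuation rings of `K` have the lifting
property, so do all valuation rings. -/
theorem valLift_of_dvr {X S : Scheme.{u}} [IsLocallyNoetherian S] (f : X ⟶ S) [QuasiCompact f]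
    {K : Type u} [Field K] (t : Spec (CommRingCat.of K) ⟶ X)
    (hess : ∀ (s : S) (hsp : (t ≫ f) (closedPoint K) ⤳ s),
      (S.presheaf.stalkSpecializes hsp ≫ Scheme.stalkClosedPointTo (t ≫ f)).hom.EssFiniteType)
    (H : ∀ V : ValuationSubring K, IsDiscreteValuationRing V → ValLift f t V)
    (V : ValuationSubring K) : ValLift f t V := by
  classical
  intro y hy
  by_contra hno
  push_neg at hno
  set s : S := y (closedPoint V) with hs
  have hy' : t ≫ f = Spec.map (CommRingCat.ofHom V.subtype) ≫ y := hy.symm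
  have hsp : (t ≫ f) (closedPoint K) ⤳ s := specializes_of_factor V K V.subtype (t ≫ f) y hy'
  let ρ : S.presheaf.stalk s →+* K :=
    (S.presheaf.stalkSpecializes hsp ≫ Scheme.stalkClosedPointTo (t ≫ f)).hom
  have hρ : ∀ a, ρ a = ((Scheme.stalkClosedPointTo y).hom a : K) := by
    intro a
    exact congrArg (fun q => q.hom a) (triangle_ring' V K V.subtype (t ≫ f) y hy' hsp)
  haveI hψloc : IsLocalHom (Scheme.stalkClosedPointTo y).hom :=
    Scheme.isLocalHom_stalkClosedPointTo' y
  have hρV : ∀ a, ρ a ∈ V := fun a => by rw [hρ]; exact Subtype.property _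
  have hρm : ∀ a ∈ maximalIdeal (S.presheaf.stalk s), V.valuation (ρ a) < 1 := by
    intro a ha
    rw [hρ]
    apply (V.valuation_lt_one_iff _).1
    rw [mem_maximalIdeal]
    intro hu
    exact (mem_maximalIdeal _).1 ha (hψloc.map_nonunit a hu)
  obtain ⟨S0, hS0, hsS0, -⟩ :=
    exists_isAffineOpen_mem_and_subset (X := S) (x := s) (U := ⊤) trivial
  have hcpt : IsCompact ((f ⁻¹ᵁ S0 : X.Opens) : Set X) := f.isCompact_preimage hS0.isCompact
  obtain ⟨sf, hsf, hsW⟩ := isCompact_iff_finite_and_eq_biUnion_affineOpens.mp hcpt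
  set x0 : X := t (closedPoint K) with hx0
  have hx0W : x0 ∈ f ⁻¹ᵁ S0 := by
    show f.base x0 ∈ S0
    have : f.base x0 = (t ≫ f) (closedPoint K) := by rw [Scheme.Hom.comp_apply]
    rw [this]
    exact hsp.mem_open S0.isOpen hsS0
  have hyS0 : ∀ p, y p ∈ S0 := by
    intro p
    have h1 : y ⁻¹ᵁ S0 = ⊤ := Scheme.preimage_eq_top_of_closedPoint_mem y hsS0
    have : p ∈ y ⁻¹ᵁ S0 := by rw [h1]; trivial
    exact this
  -- the key construction of the elements `g`
  have key : ∀ U : X.affineOpens, ∃ g : K, V.valuation g < 1 ∧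
      ((U : X.Opens) ≤ f ⁻¹ᵁ S0 → ∀ hxU : x0 ∈ (U : X.Opens), ∃ c : Γ(X, U),
        g * (X.presheaf.germ U x0 hxU ≫ Scheme.stalkClosedPointTo t).hom c = 1) := by
    intro U
    by_cases hUW : (U : X.Opens) ≤ f ⁻¹ᵁ S0
    swap
    · exact ⟨0, by simp, fun h => (hUW h).elim⟩
    by_cases hxU : x0 ∈ (U : X.Opens)
    · have : ∃ c : Γ(X, U),
          (X.presheaf.germ U x0 hxU ≫ Scheme.stalkClosedPointTo t).hom c ∉ V := by
        by_contra hall
        push_neg at hall
        let b : Γ(X, U) →+* V :=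
          (X.presheaf.germ U x0 hxU ≫ Scheme.stalkClosedPointTo t).hom.codRestrict V.toSubring hall
        let l : Spec (CommRingCat.of V) ⟶ X := Spec.map (CommRingCat.ofHom b) ≫ U.2.fromSpec
        have hl2 : Spec.map (CommRingCat.ofHom V.subtype) ≫ l = t := by
          have h1 : CommRingCat.ofHom b ≫ CommRingCat.ofHom V.subtype =
              X.presheaf.germ U x0 hxU ≫ Scheme.stalkClosedPointTo t := rfl
          show Spec.map (CommRingCat.ofHom V.subtype) ≫ Spec.map (CommRingCat.ofHom b) ≫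
            U.2.fromSpec = t
          rw [← Spec.map_comp_assoc, h1, Spec.map_comp, Category.assoc]
          have h2 : Spec.map (X.presheaf.germ U x0 hxU) ≫ U.2.fromSpec = X.fromSpecStalk x0 :=
            U.2.fromSpecStalk_eq_fromSpecStalk hxU
          rw [h2, Scheme.Spec_stalkClosedPointTo_fromSpecStalk]
        have hlU : ∀ p, l p ∈ (U : X.Opens) := by
          intro p
          have : U.2.fromSpec ((Spec.map (CommRingCat.ofHom b)) p) ∈ Set.range U.2.fromSpec :=
            Set.mem_range_self _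
          rw [U.2.range_fromSpec] at this
          exact this
        have hl1 : l ≫ f = y := by
          apply eq_of_generic_of_affine V K V.subtype Subtype.val_injective (l ≫ f) y ?_ S0 hS0
            (fun p => hUW (hlU p)) hyS0
          rw [← Category.assoc, hl2, hy]
        exact hno l hl1 hl2
      obtain ⟨c, hc⟩ := this
      refine ⟨((X.presheaf.germ U x0 hxU ≫ Scheme.stalkClosedPointTo t).hom c)⁻¹, ?_, ?_⟩
      · rw [← ValuationSubring.mem_nonunits_iff, ValuationSubring.mem_nonunits_iff_or, inv_inv]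
        exact Or.inr hc
      · intro _ _
        refine ⟨c, ?_⟩
        apply inv_mul_cancel₀
        intro h0; rw [h0] at hc; exact hc (zero_mem _)
    · exact ⟨0, by simp, fun _ h => (hxU h).elim⟩
  choose g hg1 hg2 using key
  let S0f : Finset K := hsf.toFinset.image g
  letI : Algebra (S.presheaf.stalk s) K := ρ.toAlgebra
  let B := Algebra.adjoin (S.presheaf.stalk s) (S0f : Set K)
  have hgB : ∀ U ∈ sf, g U ∈ B := fun U hU =>
    Algebra.subset_adjoin (Finset.mem_coe.2 (Finset.mem_image.2 ⟨U, hsf.mem_toFinset.2 hU, rfl⟩))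
  have hBfg : B.FG := ⟨S0f, rfl⟩
  haveI : Algebra.FiniteType (S.presheaf.stalk s) B := (Subalgebra.fg_iff_finiteType _).1 hBfg
  haveI : IsNoetherianRing B := Algebra.FiniteType.isNoetherianRing (S.presheaf.stalk s) B
  have hBV : ∀ b ∈ B, b ∈ V := by
    intro b hb
    induction hb using Algebra.adjoin_induction with
    | mem x hx =>
      obtain ⟨U, -, rfl⟩ := Finset.mem_image.1 (Finset.mem_coe.1 hx)
      exact (V.valuation_le_one_iff _).1 (hg1 U).le
    | algebraMap r => exact hρV r
    | add x y _ _ hx hy => exact add_mem hx hy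
    | mul x y _ _ hx hy => exact mul_mem hx hy
  let ι : B →+* V :=
    (B.val : B →+* K).codRestrict V.toSubring (fun b => hBV b b.2)
  let P : Ideal B := (maximalIdeal V).comap ι
  have hPmem : ∀ b : B, b ∈ P ↔ V.valuation (b : K) < 1 := by
    intro b
    exact V.valuation_lt_one_iff (ι b)
  have hPtop : P ≠ ⊤ := Ideal.comap_ne_top _ (maximalIdeal.isMaximal V).ne_top
  have hx0W' := hx0W
  rw [hsW] at hx0W'
  obtain ⟨U0, hU0s, hx0U0⟩ : ∃ U ∈ sf, x0 ∈ (U : X.Opens) := by
    simpa [TopologicalSpace.Opens.mem_iSup] using hx0W'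
  have hsub : ∀ U ∈ sf, (U : X.Opens) ≤ f ⁻¹ᵁ S0 := by
    intro U hU
    rw [hsW]
    exact le_iSup₂ (f := fun (i : X.affineOpens) (_ : i ∈ sf) => (i : X.Opens)) U hU
  have hPbot : P ≠ ⊥ := by
    intro h
    have : (⟨g U0, hgB U0 hU0s⟩ : B) ∈ P := (hPmem _).2 (hg1 U0)
    rw [h, Ideal.mem_bot] at this
    obtain ⟨c, hc⟩ := hg2 U0 (hsub U0 hU0s) hx0U0
    have h0 : g U0 = 0 := congrArg Subtype.val this
    rw [h0, zero_mul] at hc
    exact zero_ne_one hc
  have hinj : Function.Injective (algebraMap B K) := Subtype.val_injective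
  obtain ⟨σ, hσ⟩ := VcApprox.closure_eq_top_of_essFiniteType ρ (hess s hsp)
  have hS : Subfield.closure (Set.range (algebraMap B K) ∪ (σ : Set K)) = ⊤ := by
    rw [_root_.eq_top_iff, ← hσ]
    apply Subfield.closure_mono
    apply Set.union_subset_union_left
    rintro _ ⟨a, rfl⟩
    exact ⟨algebraMap (S.presheaf.stalk s) B a, rfl⟩
  obtain ⟨O, hO, hBO, hPO⟩ := Dvr.exists_dvr B K hinj σ hS P hPtop hPbot
  have hdO : Dom O s ρ := by
    refine ⟨fun a => hBO (algebraMap (S.presheaf.stalk s) B a), fun a ha => ?_⟩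
    exact hPO (algebraMap (S.presheaf.stalk s) B a) ((hPmem _).2 (hρm a ha))
  have hyO : Spec.map (CommRingCat.ofHom O.subtype) ≫ hdO.hom = t ≫ f := by
    have h1 := hdO.generic_hom
    have h2 : CommRingCat.ofHom ρ =
        S.presheaf.stalkSpecializes hsp ≫ Scheme.stalkClosedPointTo (t ≫ f) := rfl
    rw [h2, Spec.map_comp, Category.assoc, Scheme.SpecMap_stalkSpecializes_fromSpecStalk hsp,
      Scheme.Spec_stalkClosedPointTo_fromSpecStalk] at h1
    exact h1
  obtain ⟨l, hl1, hl2⟩ := H O hO hdO.hom hyO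
  set x : X := l (closedPoint O) with hx
  have hfx : f.base x = s := by
    have : f.base x = (l ≫ f) (closedPoint O) := by rw [Scheme.Hom.comp_apply]
    rw [this, hl1, hdO.hom_closedPoint]
  have hxW : x ∈ f ⁻¹ᵁ S0 := by
    show f.base x ∈ S0
    rw [hfx]; exact hsS0
  rw [hsW] at hxW
  obtain ⟨U, hUs, hxU⟩ : ∃ U ∈ sf, x ∈ (U : X.Opens) := by
    simpa [TopologicalSpace.Opens.mem_iSup] using hxW
  have hspx : x0 ⤳ x := specializes_of_factor O K O.subtype t l hl2.symm
  have hx0U : x0 ∈ (U : X.Opens) := hspx.mem_open U.1.isOpen hxU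
  obtain ⟨c, hc⟩ := hg2 U (hsub U hUs) hx0U
  have htri := triangle_ring' O K O.subtype t l hl2.symm hspx
  have hθ : (X.presheaf.germ U x0 hx0U ≫ Scheme.stalkClosedPointTo t).hom c =
      ((Scheme.stalkClosedPointTo l).hom ((X.presheaf.germ U x hxU).hom c) : K) := by
    have h1 : X.presheaf.germ U x0 hx0U = X.presheaf.germ U x hxU ≫
        X.presheaf.stalkSpecializes hspx := (TopCat.Presheaf.germ_stalkSpecializes _ hxU hspx).symm
    rw [h1, Category.assoc, htri]
    rfl
  have h1 : O.valuation (g U) < 1 := hPO ⟨g U, hgB U hUs⟩ ((hPmem _).2 (hg1 U))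
  have h2 : O.valuation ((X.presheaf.germ U x0 hx0U ≫ Scheme.stalkClosedPointTo t).hom c) ≤ 1 := by
    rw [hθ]
    exact (O.valuation_le_one_iff _).2 (Subtype.property _)
  have h3 := congrArg O.valuation hc
  rw [map_mul, map_one] at h3
  have h4 : O.valuation (g U) *
      O.valuation ((X.presheaf.germ U x0 hx0U ≫ Scheme.stalkClosedPointTo t).hom c) < 1 := by
    calc _ ≤ O.valuation (g U) * 1 := by gcongr
      _ < 1 := by rw [mul_one]; exact h1
  rw [h3] at h4
  exact lt_irrefl _ h4

end Groth.Agent.Helper5.VcGen
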