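import Mathlib
import Groth.Agent.Helper5.VcGen1
import Groth.Agent.Helper5.VcMain

set_option autoImplicit false
set_option linter.style.haveILetI false
universe u

namespace Groth.Agent.Helper5.VcGen

open CategoryTheory CategoryTheory.Limits AlgebraicGeometry IsLocalRing
open Groth.Agent.Helper5.VcCenter Groth.Agent.Helper5.VcMain

/-- valuative uniqueness for a separated morphism (general valuation rings) -/
theorem eq_of_isSeparated_hom {X S : Scheme.{u}} (f : X ⟶ S) [IsSeparated f] (R : Type u)
    [CommRing R] [IsDomain R] [ValuationRing R] (K : Type u) [Field K] [Algebra R K]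
    [IsFractionRing R K] (g₁ g₂ : Spec (.of R) ⟶ X) (h1 : g₁ ≫ f = g₂ ≫ f)
    (h : Spec.map (CommRingCat.ofHom (algebraMap R K)) ≫ g₁ =
      Spec.map (CommRingCat.ofHom (algebraMap R K)) ≫ g₂) : g₁ = g₂ := by
  have hu := IsSeparated.valuativeCriterion f
  let Sq : ValuativeCommSq f :=
    { R := R, K := K, i₁ := Spec.map (CommRingCat.ofHom (algebraMap R K)) ≫ g₁,
      i₂ := g₁ ≫ f, commSq := ⟨by simp⟩ }
  have := hu Sq
  let l₁ : Sq.commSq.LiftStruct := ⟨g₁, rfl, rfl⟩
  let l₂ : Sq.commSq.LiftStruct := ⟨g₂, h.symm, h1.symm⟩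
  exact congrArg CommSq.LiftStruct.l (Subsingleton.elim l₁ l₂)

/-- **Lifting from test points**: for a separated morphism, a valuative square whose generic
point is a specialisation of a test point with the lifting property for all valuation rings has
a lift. -/
theorem exists_lift_of_valLift {X S : Scheme.{u}} (f : X ⟶ S) [IsSeparated f]
    (A : Type u) [CommRing A] [IsDomain A] [ValuationRing A]
    (L : Type u) [Field L] [Algebra A L] [IsFractionRing A L]
    (x : Spec (CommRingCat.of L) ⟶ X) (y : Spec (CommRingCat.of A) ⟶ S)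
    (hxy : x ≫ f = Spec.map (CommRingCat.ofHom (algebraMap A L)) ≫ y)
    (K : Type u) [Field K] (t : Spec (CommRingCat.of K) ⟶ X)
    (hη : t (closedPoint K) ⤳ x (closedPoint L))
    (HV : ∀ V : ValuationSubring K, ValLift f t V) :
    ∃ l : Spec (CommRingCat.of A) ⟶ X, l ≫ f = y ∧
      Spec.map (CommRingCat.ofHom (algebraMap A L)) ≫ l = x := by
  let T : ValuationSubring L := ofValuationRing A L
  have hsp : f.base (x (closedPoint L)) ⤳ y (closedPoint A) := by
    have h3 := (specializes_closedPoint (R := A)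
      ((Spec.map (CommRingCat.ofHom (algebraMap A L))).base (closedPoint L))).map y.continuous
    have e : f.base (x (closedPoint L)) =
        y.base ((Spec.map (CommRingCat.ofHom (algebraMap A L))).base (closedPoint L)) := by
      rw [← Scheme.Hom.comp_apply, ← Scheme.Hom.comp_apply, hxy]
    rw [e]
    exact h3
  have hsq := square_ring f A L x y hxy hsp
  set x1 : X := x (closedPoint L) with hx1
  set y' : S := y (closedPoint A) with hy'
  let φ0 : X.presheaf.stalk x1 →+* L := (Scheme.stalkClosedPointTo x).hom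
  haveI hφ0 : IsLocalHom φ0 := Scheme.isLocalHom_stalkClosedPointTo' x
  let ψy : S.presheaf.stalk y' →+* A := (Scheme.stalkClosedPointTo y).hom
  haveI hψy : IsLocalHom ψy := Scheme.isLocalHom_stalkClosedPointTo' y
  have hsq' : ∀ a : S.presheaf.stalk y',
      φ0 ((f.stalkMap x1).hom ((S.presheaf.stalkSpecializes hsp).hom a)) =
        algebraMap A L (ψy a) := by
    intro a
    exact congrArg (fun g => g.hom a) hsq
  let j : X.presheaf.stalk x1 →+* K :=
    (X.presheaf.stalkSpecializes hη ≫ Scheme.stalkClosedPointTo t).hom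
  obtain ⟨V, R₁, hVR, hR1a, hR1b, hVi, hVii⟩ := VcComp.exists_composite j φ0 T
  let σ0 : S.presheaf.stalk y' →+* K :=
    j.comp ((f.stalkMap x1).hom.comp (S.presheaf.stalkSpecializes hsp).hom)
  have hdV : Dom V y' σ0 := by
    constructor
    · intro a
      apply hVi
      rw [RingHom.comp_apply, hsq']
      exact ⟨ψy a, rfl⟩
    · intro a ha
      apply hVii
      rw [RingHom.comp_apply, hsq']
      apply valuation_ofValuationRing_lt_one
      intro hu
      exact (mem_maximalIdeal _).1 ha (hψy.map_nonunit a hu)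
  have hyV : Spec.map (CommRingCat.ofHom V.subtype) ≫ hdV.hom = t ≫ f := by
    have h1 := hdV.generic_hom
    have h2 : CommRingCat.ofHom σ0 = S.presheaf.stalkSpecializes hsp ≫ f.stalkMap x1 ≫
        X.presheaf.stalkSpecializes hη ≫ Scheme.stalkClosedPointTo t := rfl
    rw [h2] at h1
    simp only [Spec.map_comp, Category.assoc] at h1
    rw [Scheme.SpecMap_stalkSpecializes_fromSpecStalk hsp, Scheme.SpecMap_stalkMap_fromSpecStalk,
      Scheme.SpecMap_stalkSpecializes_fromSpecStalk_assoc hη,
      Scheme.Spec_stalkClosedPointTo_fromSpecStalk_assoc] at h1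
    exact h1
  obtain ⟨lV, hlV1, hlV2⟩ := HV V hdV.hom hyV
  set x' : X := lV (closedPoint V) with hx'
  -- `x1` specialises to the centre
  have hdR : Dom R₁ x1 j := ⟨hR1a, hR1b⟩
  have hjt : Spec.map (CommRingCat.ofHom j) ≫ X.fromSpecStalk x1 = t := by
    have h2 : CommRingCat.ofHom j =
        X.presheaf.stalkSpecializes hη ≫ Scheme.stalkClosedPointTo t := rfl
    rw [h2, Spec.map_comp, Category.assoc, Scheme.SpecMap_stalkSpecializes_fromSpecStalk hη,
      Scheme.Spec_stalkClosedPointTo_fromSpecStalk]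
  let incl : V →+* R₁ := Subring.inclusion hVR
  have hspx : x1 ⤳ x' := by
    have hl : hdR.hom = Spec.map (CommRingCat.ofHom incl) ≫ lV := by
      apply eq_of_isSeparated_hom f R₁ K
      · -- compatibility over `S`
        rw [Category.assoc, hlV1]
        show (Spec.map (CommRingCat.ofHom (j.codRestrict R₁.toSubring hdR.1)) ≫
          X.fromSpecStalk x1) ≫ f =
          Spec.map (CommRingCat.ofHom incl) ≫
            Spec.map (CommRingCat.ofHom (σ0.codRestrict V.toSubring hdV.1)) ≫ S.fromSpecStalk y'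
        rw [Category.assoc, ← Scheme.SpecMap_stalkMap_fromSpecStalk,
          ← Scheme.SpecMap_stalkSpecializes_fromSpecStalk hsp]
        simp only [← Spec.map_comp_assoc]
        rfl
      · rw [hdR.generic_hom, hjt, ← Category.assoc, ← Spec.map_comp]
        exact hlV2.symm
    have h1 : x1 = (Spec.map (CommRingCat.ofHom incl) ≫ lV) (closedPoint R₁) := by
      rw [← hl, hdR.hom_closedPoint]
    rw [h1, Scheme.Hom.comp_apply]
    exact (specializes_closedPoint (R := V) _).map lV.continuous
  -- the lift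
  have hspt : t (closedPoint K) ⤳ x' := specializes_of_factor V K V.subtype t lV hlV2.symm
  have htri := triangle_ring' V K V.subtype t lV hlV2.symm hspt
  haveI hlVloc : IsLocalHom (Scheme.stalkClosedPointTo lV).hom :=
    Scheme.isLocalHom_stalkClosedPointTo' lV
  have hjsp : ∀ b : X.presheaf.stalk x', j ((X.presheaf.stalkSpecializes hspx).hom b) =
      ((Scheme.stalkClosedPointTo lV).hom b : K) := by
    intro b
    have h3 : X.presheaf.stalkSpecializes hspx ≫ X.presheaf.stalkSpecializes hη ≫
        Scheme.stalkClosedPointTo t = Scheme.stalkClosedPointTo lV ≫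
          CommRingCat.ofHom V.subtype := by
      rw [← Category.assoc, TopCat.Presheaf.stalkSpecializes_comp]
      exact htri
    exact congrArg (fun g => g.hom b) h3
  let χ : X.presheaf.stalk x' →+* L := φ0.comp (X.presheaf.stalkSpecializes hspx).hom
  have hχ : ∀ b, χ b ∈ (algebraMap A L).range := by
    intro b
    refine VcComp.mem_of_mem_composite j φ0 T V hVii _ ?_
    rw [hjsp]
    exact Subtype.property _
  let e : A ≃+* (algebraMap A L).range :=
    RingEquiv.ofBijective (algebraMap A L).rangeRestrict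
      ⟨fun a b hab => IsFractionRing.injective A L (congrArg Subtype.val hab),
        (algebraMap A L).rangeRestrict_surjective⟩
  let ψ : X.presheaf.stalk x' →+* A :=
    (e.symm : (algebraMap A L).range →+* A).comp (χ.codRestrict (algebraMap A L).range hχ)
  have hψ : ∀ b, algebraMap A L (ψ b) = χ b := by
    intro b
    have h1 : e (ψ b) = χ.codRestrict (algebraMap A L).range hχ b := e.apply_symm_apply _
    exact congrArg Subtype.val h1
  haveI hψloc : IsLocalHom ψ := by
    constructor
    intro b hb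
    by_contra hnb
    have h1 : (Scheme.stalkClosedPointTo lV).hom b ∈ maximalIdeal V := by
      rw [mem_maximalIdeal]
      intro hu
      exact hnb (hlVloc.map_nonunit b hu)
    have h2 : V.valuation (j ((X.presheaf.stalkSpecializes hspx).hom b)) < 1 := by
      rw [hjsp]
      exact (V.valuation_lt_one_iff _).1 h1
    have h3 := VcComp.lt_one_of_lt_one_composite j φ0 T V hVi hVii _ h2
    have h4 : T.valuation (algebraMap A L (ψ b)) < 1 := by
      rw [hψ]; exact h3
    obtain ⟨c, hc⟩ := hb.exists_right_inv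
    have h5 : algebraMap A L (ψ b) * algebraMap A L c = 1 := by
      rw [← map_mul, hc, map_one]
    have h6 : T.valuation (algebraMap A L c) ≤ 1 := (T.valuation_le_one_iff _).2 ⟨c, rfl⟩
    have h7 : T.valuation (algebraMap A L (ψ b)) * T.valuation (algebraMap A L c) < 1 := by
      calc _ ≤ T.valuation (algebraMap A L (ψ b)) * 1 := by gcongr
        _ < 1 := by rw [mul_one]; exact h4
    rw [← map_mul, h5, map_one] at h7
    exact lt_irrefl _ h7
  let l : Spec (CommRingCat.of A) ⟶ X := Spec.map (CommRingCat.ofHom ψ) ≫ X.fromSpecStalk x'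
  have hl2 : Spec.map (CommRingCat.ofHom (algebraMap A L)) ≫ l = x := by
    have h1 : CommRingCat.ofHom ψ ≫ CommRingCat.ofHom (algebraMap A L) =
        X.presheaf.stalkSpecializes hspx ≫ Scheme.stalkClosedPointTo x := by
      ext b
      exact hψ b
    show Spec.map (CommRingCat.ofHom (algebraMap A L)) ≫ Spec.map (CommRingCat.ofHom ψ) ≫
      X.fromSpecStalk x' = x
    rw [← Spec.map_comp_assoc, h1, Spec.map_comp, Category.assoc,
      Scheme.SpecMap_stalkSpecializes_fromSpecStalk hspx,
      Scheme.Spec_stalkClosedPointTo_fromSpecStalk]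
  refine ⟨l, ?_, hl2⟩
  apply eq_of_generic_of_closedPoint A L (algebraMap A L) (IsFractionRing.injective A L)
  · rw [← Category.assoc, hl2, hxy]
  · have h1 : l (closedPoint A) = x' := by
      show (Spec.map (CommRingCat.ofHom ψ) ≫ X.fromSpecStalk x') (closedPoint A) = x'
      rw [Scheme.Hom.comp_apply]
      have : Spec.map (CommRingCat.ofHom ψ) (closedPoint A) =
          closedPoint (X.presheaf.stalk x') := comap_closedPoint (S := A) ψ
      rw [this, X.fromSpecStalk_closedPoint]
    rw [Scheme.Hom.comp_apply, h1]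
    have h2 : f.base x' = (lV ≫ f) (closedPoint V) := by rw [Scheme.Hom.comp_apply]
    rw [h2, hlV1, hdV.hom_closedPoint]

/-- the uniqueness property for a valuation subring `V` of `K` with respect to a test point -/
def ValUniq {X S : Scheme.{u}} (f : X ⟶ S) {K : Type u} [Field K]
    (t : Spec (CommRingCat.of K) ⟶ X) (V : ValuationSubring K) : Prop :=
  ∀ l₁ l₂ : Spec (CommRingCat.of V) ⟶ X, l₁ ≫ f = l₂ ≫ f →
    Spec.map (CommRingCat.ofHom V.subtype) ≫ l₁ = t →
    Spec.map (CommRingCat.ofHom V.subtype) ≫ l₂ = t → l₁ = l₂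

/-- a lift `l : Spec A ⟶ X` induces a morphism from the spectrum of a composite valuation ring
with the same centre -/
theorem exists_center_map {X : Scheme.{u}}
    (A : Type u) [CommRing A] [IsDomain A] [ValuationRing A]
    (L : Type u) [Field L] [Algebra A L] [IsFractionRing A L]
    (x : Spec (CommRingCat.of L) ⟶ X) (l : Spec (CommRingCat.of A) ⟶ X)
    (hx : Spec.map (CommRingCat.ofHom (algebraMap A L)) ≫ l = x)
    (K : Type u) [Field K] (t : Spec (CommRingCat.of K) ⟶ X)
    (hη : t (closedPoint K) ⤳ x (closedPoint L)) (V : ValuationSubring K)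
    (hVi : ∀ b, (Scheme.stalkClosedPointTo x).hom b ∈ ofValuationRing A L →
      (X.presheaf.stalkSpecializes hη ≫ Scheme.stalkClosedPointTo t).hom b ∈ V)
    (hVii : ∀ b, (ofValuationRing A L).valuation ((Scheme.stalkClosedPointTo x).hom b) < 1 →
      V.valuation ((X.presheaf.stalkSpecializes hη ≫ Scheme.stalkClosedPointTo t).hom b) < 1) :
    ∃ m : Spec (CommRingCat.of V) ⟶ X, m (closedPoint V) = l (closedPoint A) ∧
      Spec.map (CommRingCat.ofHom V.subtype) ≫ m = t := by
  have hsp : x (closedPoint L) ⤳ l (closedPoint A) :=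
    specializes_of_factor A L (algebraMap A L) x l hx.symm
  have tri := triangle_ring' A L (algebraMap A L) x l hx.symm hsp
  haveI hloc : IsLocalHom (Scheme.stalkClosedPointTo l).hom :=
    Scheme.isLocalHom_stalkClosedPointTo' l
  have htri : ∀ b, (Scheme.stalkClosedPointTo x).hom ((X.presheaf.stalkSpecializes hsp).hom b) =
      algebraMap A L ((Scheme.stalkClosedPointTo l).hom b) := fun b =>
    congrArg (fun g => g.hom b) tri
  let μ0 : X.presheaf.stalk (l (closedPoint A)) →+* K :=
    (X.presheaf.stalkSpecializes hη ≫ Scheme.stalkClosedPointTo t).hom.comp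
      (X.presheaf.stalkSpecializes hsp).hom
  have hd : Dom V (l (closedPoint A)) μ0 := by
    constructor
    · intro b
      apply hVi
      rw [htri]
      exact ⟨_, rfl⟩
    · intro b hb
      apply hVii
      rw [htri]
      apply valuation_ofValuationRing_lt_one
      intro hu
      exact (mem_maximalIdeal _).1 hb (hloc.map_nonunit b hu)
  refine ⟨hd.hom, hd.hom_closedPoint, ?_⟩
  have h1 := hd.generic_hom
  have h2 : CommRingCat.ofHom μ0 = X.presheaf.stalkSpecializes hsp ≫
      X.presheaf.stalkSpecializes hη ≫ Scheme.stalkClosedPointTo t := rfl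
  rw [h2] at h1
  simp only [Spec.map_comp, Category.assoc] at h1
  rw [Scheme.SpecMap_stalkSpecializes_fromSpecStalk hsp,
    Scheme.SpecMap_stalkSpecializes_fromSpecStalk hη,
    Scheme.Spec_stalkClosedPointTo_fromSpecStalk] at h1
  exact h1

/-- **Uniqueness from test points.** -/
theorem eq_of_valUniq {X S : Scheme.{u}} (f : X ⟶ S)
    (A : Type u) [CommRing A] [IsDomain A] [ValuationRing A]
    (L : Type u) [Field L] [Algebra A L] [IsFractionRing A L]
    (x : Spec (CommRingCat.of L) ⟶ X) (l₁ l₂ : Spec (CommRingCat.of A) ⟶ X)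
    (h12 : l₁ ≫ f = l₂ ≫ f)
    (hx1 : Spec.map (CommRingCat.ofHom (algebraMap A L)) ≫ l₁ = x)
    (hx2 : Spec.map (CommRingCat.ofHom (algebraMap A L)) ≫ l₂ = x)
    (K : Type u) [Field K] (t : Spec (CommRingCat.of K) ⟶ X)
    (hη : t (closedPoint K) ⤳ x (closedPoint L))
    (HU : ∀ V : ValuationSubring K, ValUniq f t V) : l₁ = l₂ := by
  haveI hφ0 : IsLocalHom (Scheme.stalkClosedPointTo x).hom :=
    Scheme.isLocalHom_stalkClosedPointTo' x
  obtain ⟨V, R₁, -, -, -, hVi, hVii⟩ := VcComp.exists_composite
    (X.presheaf.stalkSpecializes hη ≫ Scheme.stalkClosedPointTo t).hom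
    (Scheme.stalkClosedPointTo x).hom (ofValuationRing A L)
  obtain ⟨m₁, hm₁c, hm₁g⟩ := exists_center_map A L x l₁ hx1 K t hη V hVi hVii
  obtain ⟨m₂, hm₂c, hm₂g⟩ := exists_center_map A L x l₂ hx2 K t hη V hVi hVii
  have hmf : m₁ ≫ f = m₂ ≫ f := by
    apply eq_of_generic_of_closedPoint V K V.subtype Subtype.val_injective
    · rw [← Category.assoc, ← Category.assoc, hm₁g, hm₂g]
    · rw [Scheme.Hom.comp_apply, Scheme.Hom.comp_apply, hm₁c, hm₂c,
        ← Scheme.Hom.comp_apply, ← Scheme.Hom.comp_apply, h12]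
  have hm : m₁ = m₂ := HU V m₁ m₂ hmf hm₁g hm₂g
  apply eq_of_generic_of_closedPoint A L (algebraMap A L) (IsFractionRing.injective A L)
  · rw [hx1, hx2]
  · rw [← hm₁c, ← hm₂c, hm]

/-- **The existence part of the valuative criterion from test points.** -/
theorem existence_of_valLift {X S : Scheme.{u}} (f : X ⟶ S) [IsSeparated f]
    (H : ∀ x1 : X, ∃ (K : Type u) (_ : Field K) (t : Spec (CommRingCat.of K) ⟶ X),
      t (closedPoint K) ⤳ x1 ∧ ∀ V : ValuationSubring K, ValLift f t V) :
    ValuativeCriterion.Existence f := by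
  intro Sq
  obtain ⟨K, _, t, hη, HV⟩ := H (Sq.i₁ (closedPoint Sq.K))
  obtain ⟨l, hl1, hl2⟩ := exists_lift_of_valLift f Sq.R Sq.K Sq.i₁ Sq.i₂ Sq.commSq.w K t hη HV
  exact ⟨⟨⟨l, hl2, hl1⟩⟩⟩

/-- **The uniqueness part of the valuative criterion from test points.** -/
theorem uniqueness_of_valUniq {X S : Scheme.{u}} (f : X ⟶ S)
    (H : ∀ x1 : X, ∃ (K : Type u) (_ : Field K) (t : Spec (CommRingCat.of K) ⟶ X),
      t (closedPoint K) ⤳ x1 ∧ ∀ V : ValuationSubring K, ValUniq f t V) :
    ValuativeCriterion.Uniqueness f := by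
  intro Sq
  constructor
  rintro ⟨l₁, hl₁a, hl₁b⟩ ⟨l₂, hl₂a, hl₂b⟩
  obtain ⟨K, _, t, hη, HU⟩ := H (Sq.i₁ (closedPoint Sq.K))
  have : l₁ = l₂ := eq_of_valUniq f Sq.R Sq.K Sq.i₁ l₁ l₂ (hl₁b.trans hl₂b.symm) hl₁a hl₂a
    K t hη HU
  subst this
  rfl

end Groth.Agent.Helper5.VcGen
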