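import Mathlib
import Groth.Agent.Helper5.VcGen2
import Groth.Agent.Helper4.QCClosure

set_option autoImplicit false
set_option linter.style.haveILetI false
universe u

namespace Groth.Agent.Helper5.VcGen

open CategoryTheory CategoryTheory.Limits AlgebraicGeometry IsLocalRing

/-- S19892 -/
theorem s19892 {X Y Z : Scheme.{u}} (h : Z ⟶ Y) (f : Y ⟶ X)
    [CompactSpace ↥Z] [QuasiSeparatedSpace ↥Z] [CompactSpace ↥Y] [QuasiSeparatedSpace ↥Y]
    [CompactSpace ↥X] [QuasiSeparatedSpace ↥X] (hd : DenseRange h.base)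
    [LocallyOfFiniteType f] :
    IsProper f ↔
      ∀ (z : ↥Z) (R : ValuationSubring ↑(Z.residueField z)) (φ : Spec (CommRingCat.of ↥R) ⟶ X),
        Spec.map (CommRingCat.ofHom R.subtype) ≫ φ = Z.fromSpecResidueField z ≫ h ≫ f →
        ∃! φ' : Spec (CommRingCat.of ↥R) ⟶ Y,
          Spec.map (CommRingCat.ofHom R.subtype) ≫ φ' = Z.fromSpecResidueField z ≫ h ∧
            φ' ≫ f = φ := by
  constructor
  · intro hp z R φ hφ
    have hv : ValuativeCriterion f := by
      have := hp
      rw [IsProper.eq_valuativeCriterion] at this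
      exact this.1.1.1
    let Sq : ValuativeCommSq f :=
      { R := R, K := Z.residueField z, i₁ := Z.fromSpecResidueField z ≫ h, i₂ := φ,
        commSq := ⟨by rw [Category.assoc]; exact hφ.symm⟩ }
    obtain ⟨u⟩ := hv Sq
    refine ⟨u.default.l, ⟨u.default.fac_left, u.default.fac_right⟩, ?_⟩
    rintro l' ⟨h1, h2⟩
    have : (⟨l', h1, h2⟩ : Sq.commSq.LiftStruct) = u.default := u.uniq _
    exact congrArg CommSq.LiftStruct.l this
  · intro H
    have hpts : ∀ y : Y, ∃ z : Z, h.base z ⤳ y := fun y =>
      Groth.Agent.Helper4.exists_specializes_of_mem_closure_range h y (hd y)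
    have htest : ∀ z : Z, (Z.fromSpecResidueField z ≫ h) (closedPoint (Z.residueField z)) =
        h.base z := by
      intro z
      rw [Scheme.Hom.comp_apply, Scheme.fromSpecResidueField_apply]
    haveI hsep : IsSeparated f := by
      apply IsSeparated.of_valuativeCriterion
      apply uniqueness_of_valUniq
      intro y
      obtain ⟨z, hz⟩ := hpts y
      refine ⟨Z.residueField z, inferInstance, Z.fromSpecResidueField z ≫ h, ?_, ?_⟩
      · rw [htest]; exact hz
      · intro V l₁ l₂ h12 h1 h2
        obtain ⟨φ', -, huniq⟩ := H z V (l₁ ≫ f) (by rw [← Category.assoc, h1, Category.assoc])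
        rw [huniq l₁ ⟨h1, rfl⟩, huniq l₂ ⟨h2, h12.symm⟩]
    haveI huc : UniversallyClosed f := by
      apply UniversallyClosed.of_valuativeCriterion
      apply existence_of_valLift
      intro y
      obtain ⟨z, hz⟩ := hpts y
      refine ⟨Z.residueField z, inferInstance, Z.fromSpecResidueField z ≫ h, ?_, ?_⟩
      · rw [htest]; exact hz
      · intro V φ hφ
        obtain ⟨φ', ⟨h1, h2⟩, -⟩ := H z V φ (by rw [hφ, Category.assoc])
        exact ⟨φ', h2, h1⟩
    exact { }

end Groth.Agent.Helper5.VcGen
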