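import Mathlib
import Groth.Agent.Helper5.VcGen2
import Groth.Agent.Helper5.DvrSep2
import Groth.Agent.Helper4.QCClosure

set_option autoImplicit false
set_option linter.style.haveILetI false
universe u

namespace Groth.Agent.Helper5.VcGen

open CategoryTheory CategoryTheory.Limits AlgebraicGeometry IsLocalRing

/-- the local ring map of the canonical morphism `Spec κ(u) ⟶ U` is surjective -/
theorem stalkClosedPointTo_fromSpecResidueField_surjective {U : Scheme.{u}} (u : U) :
    Function.Surjective (Scheme.stalkClosedPointTo (U.fromSpecResidueField u)).hom := by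
  have hxl : U.fromSpecResidueField u =
      Spec.map (CommRingCat.ofHom (U.residue u).hom) ≫ U.fromSpecStalk u := rfl
  have hsp := specializes_of_factor (U.presheaf.stalk u) (U.residueField u) (U.residue u).hom
    (U.fromSpecResidueField u) (U.fromSpecStalk u) hxl
  have tri := triangle_ring' (U.presheaf.stalk u) (U.residueField u) (U.residue u).hom
    (U.fromSpecResidueField u) (U.fromSpecStalk u) hxl hsp
  rw [Scheme.stalkClosedPointTo_fromSpecStalk] at tri
  have hsurj : Function.Surjective
      (U.presheaf.stalkSpecializes hsp ≫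
        Scheme.stalkClosedPointTo (U.fromSpecResidueField u)).hom := by
    rw [tri]
    have hins : Inseparable ((U.fromSpecStalk u) (closedPoint (U.presheaf.stalk u))) u := by
      rw [Scheme.fromSpecStalk_closedPoint]
    intro z
    obtain ⟨a, ha⟩ := Ideal.Quotient.mk_surjective z
    refine ⟨(U.presheaf.stalkCongr hins).inv.hom a, ?_⟩
    rw [CommRingCat.hom_comp, RingHom.comp_apply]
    have : (U.presheaf.stalkCongr hins).hom.hom ((U.presheaf.stalkCongr hins).inv.hom a) = a := by
      rw [← RingHom.comp_apply, ← CommRingCat.hom_comp, Iso.inv_hom_id]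
      rfl
    rw [this]
    exact ha
  rw [CommRingCat.hom_comp] at hsurj
  exact Function.Surjective.of_comp hsurj

/-- the essential finiteness hypothesis for the test points `Spec κ(u) ⟶ U ⟶ X` -/
theorem hess_of_residueField {U X S : Scheme.{u}} (h : U ⟶ X) (f : X ⟶ S)
    [LocallyOfFiniteType h] [LocallyOfFiniteType f] (u : U) (s : S)
    (hsp : ((U.fromSpecResidueField u ≫ h) ≫ f) (closedPoint (U.residueField u)) ⤳ s) :
    (S.presheaf.stalkSpecializes hsp ≫
      Scheme.stalkClosedPointTo ((U.fromSpecResidueField u ≫ h) ≫ f)).hom.EssFiniteType := by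
  have e : Scheme.stalkClosedPointTo ((U.fromSpecResidueField u ≫ h) ≫ f) =
      f.stalkMap _ ≫ h.stalkMap _ ≫ Scheme.stalkClosedPointTo (U.fromSpecResidueField u) := by
    rw [Scheme.stalkClosedPointTo_comp, Scheme.stalkClosedPointTo_comp]
    rfl
  rw [e]
  simp only [CommRingCat.hom_comp]
  refine RingHom.EssFiniteType.comp (DvrSpec.essFiniteType_stalkSpecializes hsp) ?_
  refine RingHom.EssFiniteType.comp (LocallyOfFiniteType.stalkMap f _) ?_
  refine RingHom.EssFiniteType.comp (LocallyOfFiniteType.stalkMap h _) ?_
  apply RingHom.FiniteType.essFiniteType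
  apply RingHom.FiniteType.of_surjective
  exact stalkClosedPointTo_fromSpecResidueField_surjective u

/-- `valLift_of_dvr` for the test points `Spec κ(u) ⟶ U ⟶ X` -/
theorem valLift_of_dvr_residueField {U X S : Scheme.{u}} [IsLocallyNoetherian S] (h : U ⟶ X)
    (f : X ⟶ S) [LocallyOfFiniteType h] [LocallyOfFiniteType f] [QuasiCompact f] (u : U)
    (H : ∀ V : ValuationSubring (U.residueField u), IsDiscreteValuationRing V →
      ValLift f (U.fromSpecResidueField u ≫ h) V) :
    ∀ V : ValuationSubring (U.residueField u), ValLift f (U.fromSpecResidueField u ≫ h) V :=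
  valLift_of_dvr f _ (fun s hsp => hess_of_residueField h f u s hsp) H

theorem specMap_algEquiv_algebraMap (A : Type u) [CommRing A] [IsDomain A] (K : Type u) [Field K]
    [Algebra A K] [IsFractionRing A K] :
    Spec.map (CommRingCat.ofHom
        ((FractionRing.algEquiv A K : FractionRing A ≃ₐ[A] K) : FractionRing A →+* K)) ≫
      Spec.map (CommRingCat.ofHom (algebraMap A (FractionRing A))) =
    Spec.map (CommRingCat.ofHom (algebraMap A K)) := by
  rw [← Spec.map_comp, ← CommRingCat.ofHom_comp]
  congr 2
  ext a
  simp

theorem specMap_algEquiv_symm (A : Type u) [CommRing A] [IsDomain A] (K : Type u) [Field K]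
    [Algebra A K] [IsFractionRing A K] :
    Spec.map (CommRingCat.ofHom
        ((FractionRing.algEquiv A K : FractionRing A ≃ₐ[A] K) : FractionRing A →+* K)) ≫
      Spec.map (CommRingCat.ofHom
        ((FractionRing.algEquiv A K).symm : K →+* FractionRing A)) = 𝟙 _ := by
  rw [← Spec.map_comp, ← CommRingCat.ofHom_comp]
  have : ((FractionRing.algEquiv A K : FractionRing A ≃ₐ[A] K) : FractionRing A →+* K).comp
      ((FractionRing.algEquiv A K).symm : K →+* FractionRing A) = RingHom.id K := by
    ext a
    simp
  rw [this]
  exact Spec.map_id _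

/-- S9209 -/
theorem s9209 {X S U : Scheme.{u}} [IsLocallyNoetherian S] (f : X ⟶ S)
    [IsSeparated f] [LocallyOfFiniteType f] [QuasiCompact f] (h : U ⟶ X) [LocallyOfFiniteType h]
    [QuasiCompact h] (hd : DenseRange h.base)
    (H : ∀ (A : Type u) [CommRing A] [IsDomain A] [IsDiscreteValuationRing A]
      (u : Spec (CommRingCat.of (FractionRing A)) ⟶ U) (y : Spec (CommRingCat.of A) ⟶ S),
      u ≫ h ≫ f = Spec.map (CommRingCat.ofHom (algebraMap A (FractionRing A))) ≫ y →
        ∃ l : Spec (CommRingCat.of A) ⟶ X, l ≫ f = y ∧
          Spec.map (CommRingCat.ofHom (algebraMap A (FractionRing A))) ≫ l = u ≫ h) :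
    IsProper f := by
  haveI : UniversallyClosed f := by
    apply UniversallyClosed.of_valuativeCriterion
    apply existence_of_valLift
    intro x1
    obtain ⟨u, hu⟩ := Groth.Agent.Helper4.exists_specializes_of_mem_closure_range h x1 (hd x1)
    have hpt : (U.fromSpecResidueField u ≫ h) (closedPoint (U.residueField u)) ⤳ x1 := by
      rw [Scheme.Hom.comp_apply, Scheme.fromSpecResidueField_apply]; exact hu
    have HV : ∀ V : ValuationSubring (U.residueField u),
        ValLift f (U.fromSpecResidueField u ≫ h) V := by
      refine valLift_of_dvr_residueField h f u (fun V hV y hy => ?_)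
      have hy' : Spec.map (CommRingCat.ofHom (algebraMap V (U.residueField u))) ≫ y =
          (U.fromSpecResidueField u ≫ h) ≫ f := hy
      obtain ⟨l, hl1, hl2⟩ := @H V _ _ hV
        (Spec.map (CommRingCat.ofHom
          ((FractionRing.algEquiv V (U.residueField u)).symm :
            U.residueField u →+* FractionRing V)) ≫ U.fromSpecResidueField u) y (by
          rw [DvrSep.specMap_fractionRing V (U.residueField u)]
          simp only [Category.assoc]
          rw [hy']
          simp only [Category.assoc])
      refine ⟨l, hl1, ?_⟩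
      have h3 := congrArg (fun q => Spec.map (CommRingCat.ofHom
        ((FractionRing.algEquiv V (U.residueField u) : FractionRing V ≃ₐ[V] U.residueField u) :
          FractionRing V →+* U.residueField u)) ≫ q) hl2
      beta_reduce at h3
      rw [← Category.assoc, specMap_algEquiv_algebraMap, ← Category.assoc, ← Category.assoc,
        specMap_algEquiv_symm, Category.id_comp] at h3
      exact h3
    exact ⟨U.residueField u, inferInstance, U.fromSpecResidueField u ≫ h, hpt, HV⟩
  exact { }

/-- S9212 -/
theorem s9212 {X S : Scheme.{u}} [IsLocallyNoetherian S] (f : X ⟶ S)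
    [LocallyOfFiniteType f] [QuasiCompact f] :
    IsProper f ↔ ∀ (η : X), closure {η} ∈ irreducibleComponents (X : Type u) →
      ∀ (A : ValuationSubring (X.residueField η)), IsDiscreteValuationRing A →
        ∀ y : Spec (CommRingCat.of A) ⟶ S,
          Spec.map (CommRingCat.ofHom A.subtype) ≫ y = X.fromSpecResidueField η ≫ f →
          ∃! l : Spec (CommRingCat.of A) ⟶ X,
            l ≫ f = y ∧ Spec.map (CommRingCat.ofHom A.subtype) ≫ l =
              X.fromSpecResidueField η := by
  constructor
  · intro hp η _ A _ y hy
    have hv : ValuativeCriterion f := by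
      have := hp
      rw [IsProper.eq_valuativeCriterion] at this
      exact this.1.1.1
    let Sq : ValuativeCommSq f :=
      { R := A, K := X.residueField η, i₁ := X.fromSpecResidueField η, i₂ := y,
        commSq := ⟨hy.symm⟩ }
    obtain ⟨u⟩ := hv Sq
    refine ⟨u.default.l, ⟨u.default.fac_right, u.default.fac_left⟩, ?_⟩
    rintro l' ⟨h1, h2⟩
    have : (⟨l', h2, h1⟩ : Sq.commSq.LiftStruct) = u.default := u.uniq _
    exact congrArg CommSq.LiftStruct.l this
  · intro H
    haveI hsep : IsSeparated f := by
      apply DvrSep.isSeparated_of_generic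
      intro η hη A hA l₁ l₂ h12 h1 h2
      obtain ⟨l, -, huniq⟩ := H η hη A hA (l₁ ≫ f) (by rw [← Category.assoc, h1])
      rw [huniq l₁ ⟨rfl, h1⟩, huniq l₂ ⟨h12.symm, h2⟩]
    haveI : UniversallyClosed f := by
      apply UniversallyClosed.of_valuativeCriterion
      apply existence_of_valLift
      intro x1
      obtain ⟨η, hη⟩ := QuasiSober.sober (isIrreducible_irreducibleComponent (x := x1))
        isClosed_irreducibleComponent
      have hηc : closure {η} = irreducibleComponent x1 := hη
      have hηx : η ⤳ x1 := by
        rw [specializes_iff_mem_closure, hηc]; exact mem_irreducibleComponent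
      have hmem : closure {η} ∈ irreducibleComponents (X : Type u) := by
        rw [hηc]; exact irreducibleComponent_mem_irreducibleComponents x1
      have hpt : (X.fromSpecResidueField η ≫ 𝟙 X) (closedPoint (X.residueField η)) ⤳ x1 := by
        rw [Scheme.Hom.comp_apply, Scheme.fromSpecResidueField_apply]; exact hηx
      have HV : ∀ V : ValuationSubring (X.residueField η),
          ValLift f (X.fromSpecResidueField η ≫ 𝟙 X) V := by
        refine valLift_of_dvr_residueField (𝟙 X) f η (fun V hV y hy => ?_)
        rw [Category.comp_id] at hy ⊢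
        obtain ⟨l, ⟨h1, h2⟩, -⟩ := H η hmem V hV y hy
        exact ⟨l, h1, h2⟩
      exact ⟨X.residueField η, inferInstance, X.fromSpecResidueField η ≫ 𝟙 X, hpt, HV⟩
    exact { }

end Groth.Agent.Helper5.VcGen
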