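import Mathlib
import Groth.Agent.Helper5.VcGen0

set_option autoImplicit false
set_option linter.style.haveILetI false
universe u

namespace Groth.Agent.Helper5.VcGen

open CategoryTheory CategoryTheory.Limits AlgebraicGeometry IsLocalRing

/-- S17897 -/
theorem s17897 {X Y : Scheme.{u}} (f : Y ⟶ X)
    (K : Type u) [Field K] (R : ValuationSubring K)
    (i : Spec (CommRingCat.of K) ⟶ Y) (φ : Spec (CommRingCat.of ↥R) ⟶ X)
    (w : Spec.map (CommRingCat.ofHom R.subtype) ≫ φ = i ≫ f)
    (y : Y) (g : Y.residueField y ⟶ CommRingCat.of K)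
    (hg : Spec.map g ≫ Y.fromSpecResidueField y = i)
    (ρ : ↥(R.comap g.hom) →+* ↥R)
    (hρ : ∀ x : ↥(R.comap g.hom), ((ρ x : ↥R) : K) = g.hom (x : ↑(Y.residueField y))) :
    ∃! φ' : Spec (CommRingCat.of ↥(R.comap g.hom)) ⟶ X,
      Spec.map (CommRingCat.ofHom ρ) ≫ φ' = φ ∧
      Spec.map (CommRingCat.ofHom (R.comap g.hom).subtype) ≫ φ' =
        Y.fromSpecResidueField y ≫ f := by
  set x : X := φ (closedPoint R) with hx
  -- the point `f y` specialises to `x`
  have hif : i ≫ f = Spec.map g ≫ (Y.fromSpecResidueField y ≫ f) := by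
    rw [← Category.assoc, hg]
  have hspK : (i ≫ f) (closedPoint K) ⤳ x :=
    specializes_of_factor R K R.subtype (i ≫ f) φ w.symm
  have hpt : (Y.fromSpecResidueField y ≫ f) (closedPoint (Y.residueField y)) =
      (i ≫ f) (closedPoint K) := by
    rw [Scheme.Hom.comp_apply, Scheme.fromSpecResidueField_apply, Scheme.Hom.comp_apply, ← hg,
      Scheme.Hom.comp_apply, Scheme.fromSpecResidueField_apply]
  have hsp : (Y.fromSpecResidueField y ≫ f) (closedPoint (Y.residueField y)) ⤳ x := by
    rw [hpt]; exact hspK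
  let β : X.presheaf.stalk x ⟶ Y.residueField y :=
    X.presheaf.stalkSpecializes hsp ≫ Scheme.stalkClosedPointTo (Y.fromSpecResidueField y ≫ f)
  have hβ2 : Spec.map β ≫ X.fromSpecStalk x = Y.fromSpecResidueField y ≫ f := by
    rw [Spec.map_comp, Category.assoc, Scheme.SpecMap_stalkSpecializes_fromSpecStalk hsp,
      Scheme.Spec_stalkClosedPointTo_fromSpecStalk]
  have hβ1 : β ≫ g = Scheme.stalkClosedPointTo φ ≫ CommRingCat.ofHom R.subtype := by
    rw [← Spec.map_inj, ← cancel_mono (X.fromSpecStalk x)]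
    rw [Spec.map_comp, Category.assoc, hβ2, ← hif, Spec.map_comp, Category.assoc,
      Scheme.Spec_stalkClosedPointTo_fromSpecStalk, w]
  have hβR : ∀ b, β.hom b ∈ (R.comap g.hom).toSubring := by
    intro b
    show g.hom (β.hom b) ∈ R
    have : g.hom (β.hom b) = ((Scheme.stalkClosedPointTo φ).hom b : K) :=
      congrArg (fun q => q.hom b) hβ1
    rw [this]
    exact Subtype.property _
  let ψ' : X.presheaf.stalk x →+* ↥(R.comap g.hom) :=
    β.hom.codRestrict (R.comap g.hom).toSubring hβR
  have hψρ : CommRingCat.ofHom ψ' ≫ CommRingCat.ofHom ρ = Scheme.stalkClosedPointTo φ := by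
    ext b
    show ((ρ (ψ' b) : R) : K) = _
    rw [hρ]
    exact congrArg (fun q => q.hom b) hβ1
  have hρinj : Function.Injective (R.comap g.hom).subtype := Subtype.val_injective
  -- `ρ` maps the closed point to the closed point
  have hρloc : IsLocalHom ρ := by
    constructor
    intro a ha
    obtain ⟨c, hc⟩ := ha.exists_right_inv
    have h1 : g.hom (a : Y.residueField y) * (c : K) = 1 := by
      rw [← hρ]
      have := congrArg Subtype.val hc
      simpa using this
    have ha0 : (a : Y.residueField y) ≠ 0 := by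
      intro h0
      rw [h0, map_zero, zero_mul] at h1
      exact zero_ne_one h1
    have hinv : (a : Y.residueField y)⁻¹ ∈ R.comap g.hom := by
      show g.hom ((a : Y.residueField y)⁻¹) ∈ R
      rw [map_inv₀]
      have : (g.hom (a : Y.residueField y))⁻¹ = (c : K) := by
        rw [eq_comm]; exact eq_inv_of_mul_eq_one_right h1
      rw [this]
      exact c.2
    refine IsUnit.of_mul_eq_one (⟨_, hinv⟩ : ↥(R.comap g.hom)) ?_
    apply Subtype.ext
    simp [mul_inv_cancel₀ ha0]
  have hclosed : Spec.map (CommRingCat.ofHom ρ) (closedPoint R) = closedPoint ↥(R.comap g.hom) :=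
    comap_closedPoint (S := R) ρ
  have hfirst : Spec.map (CommRingCat.ofHom ρ) ≫
      (Spec.map (CommRingCat.ofHom ψ') ≫ X.fromSpecStalk x) = φ := by
    rw [← Spec.map_comp_assoc, hψρ, Scheme.Spec_stalkClosedPointTo_fromSpecStalk]
  have hcl : ∀ q : Spec (CommRingCat.of ↥(R.comap g.hom)) ⟶ X,
      Spec.map (CommRingCat.ofHom ρ) ≫ q = φ → q (closedPoint ↥(R.comap g.hom)) = x := by
    intro q hq
    have h1 := congrArg (fun r : Spec (CommRingCat.of ↥R) ⟶ X => r (closedPoint R)) hq
    simp only [Scheme.Hom.comp_apply] at h1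
    rw [hclosed] at h1
    exact h1
  have hβ' : CommRingCat.ofHom ψ' ≫ CommRingCat.ofHom (R.comap g.hom).subtype = β := rfl
  refine ⟨Spec.map (CommRingCat.ofHom ψ') ≫ X.fromSpecStalk x, ⟨hfirst, ?_⟩, ?_⟩
  · rw [← Spec.map_comp_assoc, hβ', hβ2]
  · rintro φ'' ⟨h1, h2⟩
    apply eq_of_generic_of_closedPoint _ (Y.residueField y) (R.comap g.hom).subtype hρinj
    · rw [h2, ← Spec.map_comp_assoc, hβ', hβ2]
    · rw [hcl φ'' h1, hcl _ hfirst]

end Groth.Agent.Helper5.VcGen
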