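import Mathlib
import Groth.Agent.Helper5.VcGen0

set_option autoImplicit false
set_option linter.style.haveILetI false
universe u

namespace Groth.Agent.Helper5.VcGen

open CategoryTheory CategoryTheory.Limits AlgebraicGeometry IsLocalRing

/-- for valuation subrings `R ≤ R'`, the maximal ideal of `R'` lies in `R` -/
theorem mem_of_mem_maximalIdeal_of_le {K : Type*} [Field K] {R R' : ValuationSubring K}
    (hRR' : R ≤ R') (a : R') (ha : a ∈ maximalIdeal R') : (a : K) ∈ R := by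
  by_contra hna
  have hinv : (a : K)⁻¹ ∈ R := (R.mem_or_inv_mem _).resolve_left hna
  have ha0 : (a : K) ≠ 0 := by
    intro h0; rw [h0] at hna; exact hna (zero_mem _)
  have hu : IsUnit a := by
    refine IsUnit.of_mul_eq_one (⟨(a : K)⁻¹, hRR' hinv⟩ : R') ?_
    apply Subtype.ext
    simp [mul_inv_cancel₀ ha0]
  exact (mem_maximalIdeal _).1 ha hu

/-- S17898 -/
theorem s17898 {X Y : Scheme.{u}} (f : Y ⟶ X)
    (K : Type u) [Field K] (R R' : ValuationSubring K) (hRR' : R ≤ R')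
    (ι : ↥R →+* ↥R') (hι : ∀ x : ↥R, ((ι x : ↥R') : K) = (x : K))
    (i : Spec (CommRingCat.of K) ⟶ Y) (φ : Spec (CommRingCat.of ↥R) ⟶ X)
    (w : Spec.map (CommRingCat.ofHom R.subtype) ≫ φ = i ≫ f)
    (g : Spec (CommRingCat.of ↥R') ⟶ Y)
    (hg₁ : Spec.map (CommRingCat.ofHom R'.subtype) ≫ g = i)
    (hg₂ : g ≫ f = Spec.map (CommRingCat.ofHom ι) ≫ φ)
    (Rt : ValuationSubring (IsLocalRing.ResidueField ↥R')) (σ : ↥R →+* ↥Rt)
    (hσs : Function.Surjective σ)
    (hσ : ∀ x : ↥R, ((σ x : ↥Rt) : IsLocalRing.ResidueField ↥R') = IsLocalRing.residue ↥R' (ι x))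
    (ht : Spec (CommRingCat.of ↥Rt) ⟶ Y)
    (hht₁ : Spec.map (CommRingCat.ofHom Rt.subtype) ≫ ht =
      Spec.map (CommRingCat.ofHom (IsLocalRing.residue ↥R')) ≫ g)
    (hht₂ : ht ≫ f = Spec.map (CommRingCat.ofHom σ) ≫ φ) :
    ∃! h : Spec (CommRingCat.of ↥R) ⟶ Y, Spec.map (CommRingCat.ofHom R.subtype) ≫ h = i ∧
      h ≫ f = φ ∧ Spec.map (CommRingCat.ofHom ι) ≫ h = g ∧
      Spec.map (CommRingCat.ofHom σ) ≫ h = ht := by
  -- `σ` maps the closed point to the closed point
  haveI hσloc : IsLocalHom σ := IsLocalHom.of_surjective σ hσs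
  have hσcl : Spec.map (CommRingCat.ofHom σ) (closedPoint Rt) = closedPoint R :=
    comap_closedPoint (S := Rt) σ
  have hsub : CommRingCat.ofHom ι ≫ CommRingCat.ofHom R'.subtype = CommRingCat.ofHom R.subtype := by
    ext a
    exact hι a
  -- the closed point of any solution
  have hcl : ∀ q : Spec (CommRingCat.of ↥R) ⟶ Y, Spec.map (CommRingCat.ofHom σ) ≫ q = ht →
      q (closedPoint R) = ht (closedPoint Rt) := by
    intro q hq
    have h1 := congrArg (fun r : Spec (CommRingCat.of ↥Rt) ⟶ Y => r (closedPoint Rt)) hq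
    simp only [Scheme.Hom.comp_apply] at h1
    rw [hσcl] at h1
    exact h1
  -- the map `m : Spec k' ⟶ Y`
  set y' : Y := ht (closedPoint Rt) with hy'
  set y'' : Y := g (closedPoint R') with hy''
  let m : Spec (CommRingCat.of (IsLocalRing.ResidueField ↥R')) ⟶ Y :=
    Spec.map (CommRingCat.ofHom (IsLocalRing.residue ↥R')) ≫ g
  have hm1 : m = Spec.map (CommRingCat.ofHom Rt.subtype) ≫ ht := hht₁.symm
  have hsp1 : m (closedPoint (IsLocalRing.ResidueField ↥R')) ⤳ y' :=
    specializes_of_factor Rt _ Rt.subtype m ht hm1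
  have hsp2 : m (closedPoint (IsLocalRing.ResidueField ↥R')) ⤳ y'' :=
    specializes_of_factor R' _ (IsLocalRing.residue ↥R') m g rfl
  have hmpt : m (closedPoint (IsLocalRing.ResidueField ↥R')) = y'' := by
    show (Spec.map (CommRingCat.ofHom (IsLocalRing.residue ↥R')) ≫ g) _ = _
    rw [Scheme.Hom.comp_apply]
    have : Spec.map (CommRingCat.ofHom (IsLocalRing.residue ↥R'))
        (closedPoint (IsLocalRing.ResidueField ↥R')) = closedPoint R' :=
      comap_closedPoint (S := IsLocalRing.ResidueField ↥R') (IsLocalRing.residue ↥R')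
    rw [this]
  have hsp3 : y'' ⤳ y' := by rw [← hmpt]; exact hsp1
  have T1 := triangle_ring' Rt _ Rt.subtype m ht hm1 hsp1
  have T2 := triangle_ring' R' _ (IsLocalRing.residue ↥R') m g rfl hsp2
  let δ : Y.presheaf.stalk y' ⟶ CommRingCat.of ↥R' :=
    Y.presheaf.stalkSpecializes hsp3 ≫ Scheme.stalkClosedPointTo g
  have hδres : δ ≫ CommRingCat.ofHom (IsLocalRing.residue ↥R') =
      Scheme.stalkClosedPointTo ht ≫ CommRingCat.ofHom Rt.subtype := by
    rw [← T1, Category.assoc, ← T2, ← Category.assoc, TopCat.Presheaf.stalkSpecializes_comp]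
  have hδR : ∀ b, ((δ.hom b : ↥R') : K) ∈ R := by
    intro b
    obtain ⟨r, hr⟩ := hσs ((Scheme.stalkClosedPointTo ht).hom b)
    have h1 : IsLocalRing.residue ↥R' (δ.hom b) = IsLocalRing.residue ↥R' (ι r) := by
      rw [← hσ, hr]
      exact congrArg (fun q => q.hom b) hδres
    have h2 : δ.hom b - ι r ∈ maximalIdeal ↥R' := by
      rw [← IsLocalRing.residue_eq_zero_iff, map_sub, h1, sub_self]
    have h3 := mem_of_mem_maximalIdeal_of_le hRR' _ h2
    have h4 : ((δ.hom b : ↥R') : K) = ((δ.hom b - ι r : ↥R') : K) + (r : K) := by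
      rw [← hι r]; push_cast; ring
    rw [h4]
    exact add_mem h3 r.2
  let θ : Y.presheaf.stalk y' →+* ↥R :=
    (R'.subtype.comp δ.hom).codRestrict R.toSubring hδR
  have hθι : CommRingCat.ofHom θ ≫ CommRingCat.ofHom ι = δ := by
    ext b
    show ((ι (θ b) : ↥R') : K) = _
    rw [hι]
    rfl
  have hθσ : CommRingCat.ofHom θ ≫ CommRingCat.ofHom σ = Scheme.stalkClosedPointTo ht := by
    ext b
    show ((σ (θ b) : ↥Rt) : IsLocalRing.ResidueField ↥R') = _
    rw [hσ]
    have h1 : ι (θ b) = δ.hom b := congrArg (fun q => q.hom b) hθι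
    rw [h1]
    exact congrArg (fun q => q.hom b) hδres
  let h : Spec (CommRingCat.of ↥R) ⟶ Y := Spec.map (CommRingCat.ofHom θ) ≫ Y.fromSpecStalk y'
  have hc : Spec.map (CommRingCat.ofHom ι) ≫ h = g := by
    show Spec.map (CommRingCat.ofHom ι) ≫ Spec.map (CommRingCat.ofHom θ) ≫ Y.fromSpecStalk y' = g
    rw [← Spec.map_comp_assoc, hθι, Spec.map_comp, Category.assoc,
      Scheme.SpecMap_stalkSpecializes_fromSpecStalk hsp3,
      Scheme.Spec_stalkClosedPointTo_fromSpecStalk]
  have ha : Spec.map (CommRingCat.ofHom R.subtype) ≫ h = i := by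
    rw [← hsub, Spec.map_comp, Category.assoc, hc, hg₁]
  have hd : Spec.map (CommRingCat.ofHom σ) ≫ h = ht := by
    show Spec.map (CommRingCat.ofHom σ) ≫ Spec.map (CommRingCat.ofHom θ) ≫ Y.fromSpecStalk y' = ht
    rw [← Spec.map_comp_assoc, hθσ, Scheme.Spec_stalkClosedPointTo_fromSpecStalk]
  have hb : h ≫ f = φ := by
    apply eq_of_generic_of_closedPoint R K R.subtype Subtype.val_injective
    · rw [← Category.assoc, ha, w]
    · rw [Scheme.Hom.comp_apply, hcl h hd]
      have h1 := congrArg (fun r : Spec (CommRingCat.of ↥Rt) ⟶ X => r (closedPoint Rt)) hht₂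
      simp only [Scheme.Hom.comp_apply] at h1
      rw [hσcl] at h1
      exact h1
  refine ⟨h, ⟨ha, hb, hc, hd⟩, ?_⟩
  rintro h' ⟨ha', -, -, hd'⟩
  apply eq_of_generic_of_closedPoint R K R.subtype Subtype.val_injective
  · rw [ha, ha']
  · rw [hcl h' hd', hcl h hd]

end Groth.Agent.Helper5.VcGen
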