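import Groth.Prelude.Def_AlgSpModX
import Mathlib

set_option autoImplicit false
set_option linter.unusedVariables false
universe u
open CategoryTheory CategoryTheory.Limits AlgebraicGeometry Opposite

namespace Groth.Agent.Helper5.WAssEx

/-- monotonicity of minimal primes between two ideals below the prime -/
theorem mem_minimalPrimes_of_le {A : Type*} [CommRing A] {I I' p : Ideal A}
    (hp : p ∈ I.minimalPrimes) (h1 : I ≤ I') (h2 : I' ≤ p) : p ∈ I'.minimalPrimes :=
  ⟨⟨hp.1.1, h2⟩, fun q hq hqp => hp.2 ⟨hq.1, h1.trans hq.2⟩ hqp⟩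

section Mod

variable {Γ R : Type*} [CommRing Γ] [Ring R] (φ : Γ →+* R)
  {N₁ N₂ N₃ : Type*} [AddCommGroup N₁] [AddCommGroup N₂] [AddCommGroup N₃]
  [Module R N₁] [Module R N₂] [Module R N₃]

/-- the annihilator of an element, pulled back along a ring map from a commutative ring -/
def annVia {N : Type*} [AddCommGroup N] [Module R N] (s : N) : Ideal Γ :=
  Ideal.comap φ (LinearMap.ker (LinearMap.toSpanSingleton R N s))

theorem mem_annVia {N : Type*} [AddCommGroup N] [Module R N] (s : N) (a : Γ) :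
    a ∈ annVia φ s ↔ φ a • s = 0 := Iff.rfl

/-- weakly associated primes of the middle term of a left exact sequence -/
theorem weakAss_middle (ι : N₁ →ₗ[R] N₂) (π : N₂ →ₗ[R] N₃) (hι : Function.Injective ι)
    (hex : ∀ s : N₂, π s = 0 → ∃ s₁, ι s₁ = s) (s : N₂) (p : Ideal Γ)
    (hp : p ∈ (annVia φ s).minimalPrimes) :
    (∃ s₁ : N₁, p ∈ (annVia φ s₁).minimalPrimes) ∨ p ∈ (annVia φ (π s)).minimalPrimes := by
  have hpp : p.IsPrime := hp.1.1
  have h1 : annVia φ s ≤ annVia φ (π s) := by
    intro a ha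
    rw [mem_annVia] at ha ⊢
    rw [← map_smul, ha, map_zero]
  by_cases h2 : annVia φ (π s) ≤ p
  · exact Or.inr (mem_minimalPrimes_of_le hp h1 h2)
  · left
    obtain ⟨a, ha, hap⟩ := Set.not_subset.1 h2
    have ha' : π (φ a • s) = 0 := by
      rw [map_smul]
      exact (mem_annVia φ (π s) a).1 ha
    obtain ⟨s₁, hs₁⟩ := hex _ ha'
    refine ⟨s₁, mem_minimalPrimes_of_le hp ?_ ?_⟩
    · intro b hb
      rw [mem_annVia] at hb ⊢
      apply hι
      rw [map_smul, hs₁, map_zero, ← mul_smul, ← map_mul, mul_comm, map_mul, mul_smul, hb,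
        smul_zero]
    · intro b hb
      rw [mem_annVia] at hb
      have : φ b • ι s₁ = 0 := by rw [← map_smul, hb, map_zero]
      rw [hs₁, ← mul_smul, ← map_mul] at this
      have hmem : b * a ∈ annVia φ s := this
      rcases hpp.mem_or_mem (hp.1.2 hmem) with h | h
      · exact h
      · exact absurd h hap

theorem annVia_injective (ι : N₁ →ₗ[R] N₂) (hι : Function.Injective ι) (s₁ : N₁) :
    annVia φ (ι s₁) = annVia φ s₁ := by
  ext a
  rw [mem_annVia, mem_annVia, ← map_smul]
  constructor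
  · intro h
    apply hι
    rw [h, map_zero]
  · intro h
    rw [h, map_zero]

end Mod

end Groth.Agent.Helper5.WAssEx
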