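import Groth.Agent.Helper5.WAssEx1

set_option autoImplicit false
set_option linter.unusedVariables false
universe u
open CategoryTheory CategoryTheory.Limits AlgebraicGeometry Opposite

namespace Groth.Agent.Helper5.WAssEx

open AlgSp

variable {S : Scheme.{u}} {X : Sp S}

theorem annSect_eq_annVia {M : ModEt X} {E : EtOver X} (s : sectModEt M E) :
    annSect s = annVia (upΓ E) s := rfl

instance evaluation_preservesZeroMorphisms (E : EtOver X) :
    (SheafOfModules.evaluation.{u + 1} (OEtRing X) (op E)).PreservesZeroMorphisms :=
  ⟨fun _ _ => rfl⟩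

/-- sections over an object: left exactness -/
theorem sections_leftExact (C : ShortComplex (ModEt X)) (hC : C.ShortExact) (E : EtOver X) :
    Function.Injective (C.f.val.app (op E)).hom ∧
      ∀ s : sectModEt C.X₂ E, (C.g.val.app (op E)).hom s = 0 →
        ∃ s₁ : sectModEt C.X₁ E, (C.f.val.app (op E)).hom s₁ = s := by
  have hmono : Mono C.f := hC.mono_f
  have hpl : PreservesFiniteLimits (SheafOfModules.evaluation.{u + 1} (OEtRing X) (op E)) :=
    inferInstance
  have hex : (C.map (SheafOfModules.evaluation.{u + 1} (OEtRing X) (op E))).Exact :=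
    hC.exact.map_of_mono_of_preservesKernel _ hmono inferInstance
  have hm : Mono ((SheafOfModules.evaluation.{u + 1} (OEtRing X) (op E)).map C.f) := inferInstance
  constructor
  · exact (ModuleCat.mono_iff_injective _).1 hm
  · intro s hs
    exact (ShortComplex.moduleCat_exact_iff _).1 hex s hs

end Groth.Agent.Helper5.WAssEx
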