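import Groth.Agent.Helper5.WAssEx2

set_option autoImplicit false
set_option linter.unusedVariables false
universe u
open CategoryTheory CategoryTheory.Limits AlgebraicGeometry Opposite

namespace Groth.Agent.Helper5.WAssEx

open AlgSp

variable {S : Scheme.{u}} {X : Sp S}

/-- S10811 (quasi-coherence is not needed) -/
theorem s10811 (C : ShortComplex (ModEt X)) (hC : C.ShortExact) :
    WeakAssEt C.X₂ ⊆ WeakAssEt C.X₁ ∪ WeakAssEt C.X₃ ∧ WeakAssEt C.X₁ ⊆ WeakAssEt C.X₂ := by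
  constructor
  · rintro x ⟨E, hE, u, hu, s, hs⟩
    obtain ⟨hinj, hex⟩ := sections_leftExact C hC E
    rw [annSect_eq_annVia] at hs
    rcases weakAss_middle (upΓ E) (C.f.val.app (op E)).hom (C.g.val.app (op E)).hom hinj hex s _ hs
      with ⟨s₁, h⟩ | h
    · exact Or.inl ⟨E, hE, u, hu, s₁, h⟩
    · exact Or.inr ⟨E, hE, u, hu, _, h⟩
  · rintro x ⟨E, hE, u, hu, s₁, hs⟩
    obtain ⟨hinj, -⟩ := sections_leftExact C hC E
    refine ⟨E, hE, u, hu, (C.f.val.app (op E)).hom s₁, ?_⟩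
    rw [annSect_eq_annVia] at hs ⊢
    rw [annVia_injective (upΓ E) (C.f.val.app (op E)).hom hinj s₁]
    exact hs

end Groth.Agent.Helper5.WAssEx
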