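import Groth.Agent.Helper5.WAssRed1
import Groth.Agent.Helper5.HasAtChart

set_option autoImplicit false
set_option linter.unusedVariables false
universe u
open CategoryTheory CategoryTheory.Limits AlgebraicGeometry Opposite

namespace Groth.Agent.Helper5.WAssRed

open AlgSp Groth.Agent.Helper4.AlgSpQC2 Groth.Agent.Helper4.AlgSpPtsDesc

variable {S : Scheme.{u}}

theorem primeAtPt_eq (U : Scheme.{u}) [IsAffine U] (u : U) :
    primeAtPt U u = ((isAffineOpen_top U).primeIdealOf ⟨u, trivial⟩).asIdeal := by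
  rw [IsAffineOpen.primeIdealOf_eq_map_closedPoint]
  rfl

theorem ringKrullDim_stalk_eq_height_primeAtPt (U : Scheme.{u}) [IsAffine U] (u : U) :
    ringKrullDim (U.presheaf.stalk u) = ((primeAtPt U u).height : WithBot ℕ∞) := by
  rw [primeAtPt_eq]
  exact Groth.Agent.Helper5.DimFormula.ringKrullDim_stalk_eq_height ⊤ (isAffineOpen_top U) u trivial

theorem dim_zero_iff (U : Scheme.{u}) [IsAffine U] (u : U) :
    ringKrullDim (U.presheaf.stalk u) = 0 ↔ primeAtPt U u ∈ minimalPrimes Γ(U, ⊤) := by
  rw [ringKrullDim_stalk_eq_height_primeAtPt, ← Ideal.height_eq_zero_iff]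
  exact_mod_cast Iff.rfl

/-- annihilator of a section of the unit module -/
theorem mem_annSect_unit {X : Sp S} (E : EtOver X) (s : sectModEt (unitModEt X) E)
    (a : Γ(E.obj.left.left, ⊤)) :
    a ∈ annSect s ↔ a * (show ULift.{u + 1} Γ(E.obj.left.left, ⊤) from s).down = 0 := by
  rw [mem_annSect_iff]
  constructor
  · intro h
    have h' : (ULift.up a : ULift.{u + 1} Γ(E.obj.left.left, ⊤)) *
        (show ULift.{u + 1} Γ(E.obj.left.left, ⊤) from s) = 0 := h
    have := congrArg ULift.down h'
    exact this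
  · intro h
    show (ULift.up a : ULift.{u + 1} Γ(E.obj.left.left, ⊤)) *
        (show ULift.{u + 1} Γ(E.obj.left.left, ⊤) from s) = 0
    apply ULift.ext
    exact h

end Groth.Agent.Helper5.WAssRed
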