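import Groth.Agent.Helper5.WAssEx2
import Groth.Agent.Helper5.WAssRed2
import Groth.Agent.Helper5.EtPt7

set_option autoImplicit false
set_option linter.unusedVariables false
universe u
open CategoryTheory CategoryTheory.Limits AlgebraicGeometry Opposite

namespace Groth.Agent.Helper5.WAssEx

open AlgSp Groth.Agent.Helper4.AlgSpQC2 Groth.Agent.Helper4.AlgSpPtsDesc

variable {S : Scheme.{u}} {X : Sp S}

/-- the affine open pieces of an object of the small étale site -/
noncomputable def affPiece (E : EtOver X) (V : E.obj.left.left.affineOpens) : EtOver X :=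
  EtOver.mk ((yon S).map (opι E.obj.left V.1) ≫ E.obj.hom)
    (Groth.Agent.Helper4.AlgSpSrc.repWith_comp _
      ((repWith_yon_map_iff _ _).2 (by
        show Etale (Scheme.Opens.ι V.1)
        infer_instance)) E.property)

noncomputable def affPieceι (E : EtOver X) (V : E.obj.left.left.affineOpens) : affPiece E V ⟶ E :=
  EtOver.homMk (opι E.obj.left V.1) rfl

instance (E : EtOver X) (V : E.obj.left.left.affineOpens) :
    IsAffine (affPiece E V).obj.left.left := V.2

theorem affPiece_cover (E : EtOver X) :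
    Sieve.ofArrows (affPiece E) (affPieceι E) ∈ etTop X E := by
  apply ofArrows_mem_etTop
  intro x
  obtain ⟨_, ⟨V, hV, rfl⟩, hxV, -⟩ :=
    (E.obj.left.left.isBasis_affineOpens).exists_subset_of_mem_open (Set.mem_univ x) isOpen_univ
  refine ⟨⟨V, hV⟩, ⟨x, hxV⟩, rfl⟩

/-- a section vanishing on all affine pieces vanishes -/
theorem eq_zero_of_affPieces (F : AbEt X) (E : EtOver X) (τ : ↥(F.obj.obj (op E)))
    (h : ∀ V, (F.obj.map (affPieceι E V).op).hom τ = 0) : τ = 0 := by
  apply Groth.Agent.Helper5.EtPt.eq_zero_of_equalizerSieve_mem F E τ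
  refine (etTop X).superset_covering ?_ (affPiece_cover E)
  rintro W f ⟨Z, k, _, ⟨V⟩, rfl⟩
  show (F.obj.map (k ≫ affPieceι E V).op).hom τ = (F.obj.map (k ≫ affPieceι E V).op).hom 0
  rw [map_zero, op_comp, Functor.map_comp]
  show (F.obj.map k.op).hom ((F.obj.map (affPieceι E V).op).hom τ) = 0
  rw [h V, map_zero]

end Groth.Agent.Helper5.WAssEx
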