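import Groth.Agent.Helper5.WAssEx4

set_option autoImplicit false
set_option linter.unusedVariables false
universe u
open CategoryTheory CategoryTheory.Limits AlgebraicGeometry Opposite

namespace Groth.Agent.Helper5.WAssEx

open AlgSp Groth.Agent.Helper4.AlgSpQC2 Groth.Agent.Helper4.AlgSpPtsDesc
open Groth.Agent.Helper5.WAssRed

variable {S : Scheme.{u}} {X : Sp S}

/-- every prime of the ring of functions of an affine scheme is the prime of a point -/
theorem exists_primeAtPt_eq (U : Scheme.{u}) [IsAffine U] (p : Ideal Γ(U, ⊤)) [hp : p.IsPrime] :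
    ∃ u : U, primeAtPt U u = p := by
  let y : PrimeSpectrum Γ(U, ⊤) := ⟨p, hp⟩
  refine ⟨(isAffineOpen_top U).fromSpec y, ?_⟩
  rw [primeAtPt_eq]
  have hinj : Function.Injective (isAffineOpen_top U).fromSpec :=
    (isAffineOpen_top U).fromSpec.isOpenEmbedding.injective
  have : (isAffineOpen_top U).primeIdealOf ⟨(isAffineOpen_top U).fromSpec y, trivial⟩ = y := by
    apply hinj
    exact (isAffineOpen_top U).fromSpec_primeIdealOf ⟨(isAffineOpen_top U).fromSpec y, trivial⟩
  rw [this]

/-- S10810 (quasi-coherence is not needed) -/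
theorem s10810 (M : ModEt X) : IsZero M ↔ WeakAssEt M = ∅ := by
  constructor
  · intro hM
    rw [Set.eq_empty_iff_forall_notMem]
    rintro x ⟨E, hE, u, hu, s, hs⟩
    have hz : IsZero ((SheafOfModules.evaluation.{u + 1} (OEtRing X) (op E)).obj M) :=
      Functor.map_isZero _ hM
    have hsub : Subsingleton (sectModEt M E) := ModuleCat.subsingleton_of_isZero hz
    have hs0 : s = 0 := Subsingleton.elim _ _
    have hann : annSect s = ⊤ := by
      ext a
      rw [mem_annSect_iff, hs0, smul_zero]
      simp
    rw [hann] at hs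
    exact hs.1.1.ne_top (top_le_iff.1 hs.1.2)
  · intro hW
    have haff : ∀ (E : EtOver X) [IsAffine E.obj.left.left] (s : sectModEt M E), s = 0 := by
      intro E _ s
      by_contra hs
      have hne : annSect s ≠ ⊤ := by
        intro h
        have h1 : (1 : Γ(E.obj.left.left, ⊤)) ∈ annSect s := h ▸ Submodule.mem_top
        rw [mem_annSect_iff, map_one, one_smul] at h1
        exact hs h1
      obtain ⟨⟨p, hp⟩⟩ := Ideal.nonempty_minimalPrimes hne
      have hpp : p.IsPrime := hp.1.1
      obtain ⟨u, hu⟩ := exists_primeAtPt_eq E.obj.left.left p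
      have hmem : Points.ofPt E.obj.hom u ∈ WeakAssEt M :=
        ⟨E, inferInstance, u, rfl, s, by rw [hu]; exact hp⟩
      rw [hW] at hmem
      exact hmem
    have hall : ∀ (E : EtOver X) (s : sectModEt M E), s = 0 := by
      intro E s
      exact eq_zero_of_affPieces ((toAbEt X).obj M) E s (fun V => haff (affPiece E V) _)
    rw [IsZero.iff_id_eq_zero]
    apply SheafOfModules.hom_ext
    apply PresheafOfModules.hom_ext
    intro E
    apply ModuleCat.hom_ext
    apply LinearMap.ext
    intro s
    rw [hall E.unop s]
    simp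

end Groth.Agent.Helper5.WAssEx
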