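import Groth.Agent.Helper5.WAssPush1

set_option autoImplicit false
set_option linter.unusedVariables false
universe u
open CategoryTheory CategoryTheory.Limits AlgebraicGeometry Opposite

namespace Groth.Agent.Helper5.WAssEx

open AlgSp Groth.Agent.Helper4.AlgSpQC2 Groth.Agent.Helper4.AlgSpPtsDesc
open Groth.Agent.Helper5.WAssRed

variable {S : Scheme.{u}} {X Y : Sp S} {f : X ⟶ Y} (hf : Representable f)

/-- a section of the direct image over `E` is a section over the base change of `E` -/
def pushSect (M : ModEt X) (E : EtOver Y) (s : sectModEt ((pushModEt hf).obj M) E) :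
    sectModEt M (EtOver.bcObj hf E) := s

theorem annSect_push (M : ModEt X) (E : EtOver Y) (s : sectModEt ((pushModEt hf).obj M) E) :
    annSect s = Ideal.comap (EtOver.bcπ hf E).left.appTop.hom (annSect (pushSect hf M E s)) := by
  ext a
  rw [Ideal.mem_comap, mem_annSect_iff, mem_annSect_iff]
  rfl

end Groth.Agent.Helper5.WAssEx
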