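import Groth.Agent.Helper5.WAssPush2

set_option autoImplicit false
set_option linter.unusedVariables false
universe u
open CategoryTheory CategoryTheory.Limits AlgebraicGeometry Opposite

namespace Groth.Agent.Helper5.WAssEx

open AlgSp Groth.Agent.Helper4.AlgSpQC2 Groth.Agent.Helper4.AlgSpPtsDesc
open Groth.Agent.Helper5.WAssRed

variable {S : Scheme.{u}}

theorem isAffine_bcObj {X Y : Sp S} {f : X ⟶ Y} (hf : Representable f) (haff : IsAffineMor f)
    (E : EtOver Y) (hE : IsAffine E.obj.left.left) :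
    IsAffine (EtOver.bcObj hf E).obj.left.left := by
  obtain ⟨W, i, fst, sq, hW⟩ := haff hE E.obj.hom
  let e := sq.isoIsPullback _ _ (EtOver.isPullback_bcObj hf E)
  let e' : W ≅ (EtOver.bcObj hf E).obj.left := (yon S).preimageIso e
  have hi : IsIso ((Over.forget S).mapIso e').inv := inferInstance
  have hW' : IsAffine ((Over.forget S).obj W) := hW
  exact IsAffine.of_isIso ((Over.forget S).mapIso e').inv

/-- S10818 (quasi-coherence is not needed) -/
theorem s10818 (X Y : AlgSp.Space S) (f : X ⟶ Y) (hf : AlgSp.Representable f.hom)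
    (haff : AlgSp.IsAffineMor f.hom) (M : AlgSp.ModEt X.obj) :
    AlgSp.WeakAssEt ((AlgSp.pushModEt hf).obj M) ⊆
      AlgSp.Points.map f.hom '' AlgSp.WeakAssEt M := by
  rintro x ⟨E, hE, v, hv, s, hs⟩
  have hWaff : IsAffine (EtOver.bcObj hf E).obj.left.left := isAffine_bcObj hf haff E hE
  rw [annSect_push] at hs
  obtain ⟨q, hq, hqp⟩ := Ideal.exists_minimalPrimes_comap_eq _ _ hs
  have hqprime : q.IsPrime := hq.1.1
  obtain ⟨w, hw⟩ := exists_primeAtPt_eq (EtOver.bcObj hf E).obj.left.left q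
  have hvw : (EtOver.bcπ hf E).left w = v := by
    apply primeAtPt_injective
    rw [primeAtPt_map, hw, hqp]
  refine ⟨Points.ofPt (EtOver.bcObj hf E).obj.hom w,
    ⟨EtOver.bcObj hf E, hWaff, w, rfl, pushSect hf M E s, by rw [hw]; exact hq⟩, ?_⟩
  rw [Points.map_ofPt, (EtOver.isPullback_bcObj hf E).w, ofPt_yon_map_comp, hvw, hv]

end Groth.Agent.Helper5.WAssEx
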