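import Groth.Prelude.Def_AlgSpModX
import Groth.Agent.Helper5.EtPt13
import Groth.Agent.Helper5.EtDim
import Groth.Agent.Helper5.DimFormula7
import Mathlib

set_option autoImplicit false
set_option linter.unusedVariables false
universe u
open CategoryTheory CategoryTheory.Limits AlgebraicGeometry Opposite

namespace Groth.Agent.Helper5.WAssRed

/-- In a reduced ring, a prime minimal over the annihilator of an element is a minimal prime. -/
theorem mem_minimalPrimes_of_minimal_over_ann {A : Type*} [CommRing A] [IsReduced A] (s : A)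
    (I : Ideal A) (hI : ∀ a, a ∈ I ↔ a * s = 0) (p : Ideal A) (hp : p ∈ I.minimalPrimes) :
    p ∈ minimalPrimes A := by
  have hpp : p.IsPrime := hp.1.1
  have hsp : ∀ t ∉ p, t * s ≠ 0 := by
    intro t ht h0
    exact ht (hp.1.2 ((hI t).2 h0))
  -- primes avoiding a multiplicative set generated by the complement of p and powers of b
  have avoid : ∀ (J : Ideal A) (b : A), (∀ t ∉ p, ∀ n : ℕ, t * b ^ n ∉ J) →
      ∃ q : Ideal A, q.IsPrime ∧ J ≤ q ∧ q ≤ p ∧ b ∉ q := by
    intro J b hno
    let M : Submonoid A := p.primeCompl ⊔ Submonoid.powers b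
    have hdisj : Disjoint (J : Set A) (M : Set A) := by
      rw [Set.disjoint_left]
      intro z hzJ hzM
      obtain ⟨t, ht, y, ⟨n, rfl⟩, rfl⟩ := Submonoid.mem_sup.1 hzM
      exact hno t ht n hzJ
    obtain ⟨q, hq, hJq, hqM⟩ := Ideal.exists_le_prime_disjoint J M hdisj
    refine ⟨q, hq, hJq, ?_, ?_⟩
    · intro z hz
      by_contra hzp
      exact (Set.disjoint_left.1 hqM) hz (Submonoid.mem_sup_left hzp)
    · intro hb
      exact (Set.disjoint_left.1 hqM) hb (Submonoid.mem_sup_right (Submonoid.mem_powers b))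
  -- a minimal prime below p not containing s
  obtain ⟨q, hqmin, hqp, hsq⟩ : ∃ q ∈ minimalPrimes A, q ≤ p ∧ s ∉ q := by
    obtain ⟨q₀, hq₀, -, hq₀p, hsq₀⟩ := avoid ⊥ s (by
      intro t ht n h0
      have h0' : t * s ^ n = 0 := h0
      have : (t * s) ^ (n + 1) = 0 := by
        rw [mul_pow, pow_succ t, pow_succ s]
        calc t ^ n * t * (s ^ n * s) = (t * s ^ n) * (t ^ n * s) := by ring
          _ = 0 := by rw [h0', zero_mul]
      exact hsp t ht (IsReduced.eq_zero _ ⟨n + 1, this⟩))
    obtain ⟨q, hq, hqq₀⟩ := Ideal.exists_minimalPrimes_le (bot_le : (⊥ : Ideal A) ≤ q₀)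
    exact ⟨q, hq, hqq₀.trans hq₀p, fun h => hsq₀ (hqq₀ h)⟩
  have hq : q.IsPrime := hqmin.1.1
  -- every element of p is killed into Ann(s) up to a unit at p
  have key : ∀ a ∈ p, ∃ t ∉ p, ∃ n : ℕ, t * a ^ n * s = 0 := by
    intro a ha
    by_contra hno
    push Not at hno
    obtain ⟨r, hr, hIr, hrp, har⟩ := avoid I a (fun t ht n h => hno t ht n ((hI _).1 h))
    exact har (hp.2 ⟨hr, hIr⟩ hrp ha)
  have hpq : p ≤ q := by
    intro a ha
    obtain ⟨t, ht, n, hn⟩ := key a ha
    have h0 : t * a ^ n * s ∈ q := by rw [hn]; exact q.zero_mem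
    rcases hq.mem_or_mem h0 with h1 | h1
    · rcases hq.mem_or_mem h1 with h2 | h2
      · exact absurd (hqp h2) ht
      · exact hq.mem_of_pow_mem n h2
    · exact absurd h1 hsq
  rw [le_antisymm hpq hqp]
  exact hqmin

end Groth.Agent.Helper5.WAssRed
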