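import Groth.Agent.Helper5.WAssRed2

set_option autoImplicit false
set_option linter.unusedVariables false
universe u
open CategoryTheory CategoryTheory.Limits AlgebraicGeometry Opposite

namespace Groth.Agent.Helper5.WAssRed

open AlgSp Groth.Agent.Helper4.AlgSpQC2 Groth.Agent.Helper4.AlgSpPtsDesc

variable {S : Scheme.{u}}

theorem hQ_dim : ∀ {A B : Scheme.{u}} (g : A ⟶ B) [Etale g] (x : ↥A),
    ringKrullDim ↥(A.presheaf.stalk x) = 0 ↔ ringKrullDim ↥(B.presheaf.stalk (g x)) = 0 := by
  intro A B g _ x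
  rw [Groth.Agent.Helper5.EtDim.ringKrullDim_stalk_eq_of_etale g x]

/-- S10805 -/
theorem s10805 (X : AlgSp.Space S) (hX : AlgSp.IsReducedSp X.obj) (x : AlgSp.Points X.obj) :
    x ∈ AlgSp.WeakAssEt (AlgSp.unitModEt X.obj) ↔
      AlgSp.HasAt (fun U u => ringKrullDim ↥(U.presheaf.stalk u) = 0) X.obj x := by
  constructor
  · rintro ⟨E, hE, u, hu, s, hs⟩
    have hred : IsReduced E.obj.left.left :=
      Groth.Agent.Helper5.EtPt.isReduced_of_isReducedSp X hX E
    have hredΓ : _root_.IsReduced Γ(E.obj.left.left, ⊤) := inferInstance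
    have hmin : primeAtPt E.obj.left.left u ∈ minimalPrimes Γ(E.obj.left.left, ⊤) :=
      mem_minimalPrimes_of_minimal_over_ann
        (show ULift.{u + 1} Γ(E.obj.left.left, ⊤) from s).down (annSect s)
        (fun a => mem_annSect_unit E s a) _ hs
    refine ⟨E.obj.left, E.obj.hom, u, E.property, hu, ?_⟩
    exact (dim_zero_iff E.obj.left.left u).2 hmin
  · rintro ⟨V, b, v, hb, hv, hdim⟩
    obtain ⟨_, ⟨V₀, hV₀, rfl⟩, hvV, -⟩ :=
      (V.left.isBasis_affineOpens).exists_subset_of_mem_open (Set.mem_univ v) isOpen_univ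
    let W := opOver V V₀
    let c : (yon S).obj W ⟶ X.obj := (yon S).map (opι V V₀) ≫ b
    have hc : RepWith @Etale c :=
      Groth.Agent.Helper4.AlgSpSrc.repWith_comp _
        ((repWith_yon_map_iff _ _).2 (by
          show Etale (Scheme.Opens.ι V₀)
          infer_instance)) hb
    let E : EtOver X.obj := EtOver.mk c hc
    have hWaff : IsAffine E.obj.left.left := hV₀
    let w : ↥E.obj.left.left := ⟨v, hvV⟩
    have hw : Points.ofPt E.obj.hom w = x := by
      show Points.ofPt c w = x
      rw [ofPt_yon_map_comp]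
      exact hv
    have hdimw : ringKrullDim ↥(E.obj.left.left.presheaf.stalk w) = 0 := by
      have := (hQ_dim (Scheme.Opens.ι V₀) w).2
      apply this
      exact hdim
    have hmin := (dim_zero_iff E.obj.left.left w).1 hdimw
    let s : sectModEt (unitModEt X.obj) E :=
      (show sectModEt (unitModEt X.obj) E from
        (ULift.up 1 : ULift.{u + 1} Γ(E.obj.left.left, ⊤)))
    refine ⟨E, hWaff, w, hw, s, ?_⟩
    have hann : annSect s = ⊥ := by
      ext a
      rw [mem_annSect_unit]
      show a * 1 = 0 ↔ a ∈ (⊥ : Ideal _)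
      rw [mul_one, Ideal.mem_bot]
    rw [hann]
    exact hmin

end Groth.Agent.Helper5.WAssRed
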