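import Groth.Agent.Helper5.DiagOpen1
import Groth.Agent.Helper5.Where2
import Mathlib

set_option autoImplicit false
set_option linter.style.haveILetI false
set_option linter.unusedSectionVars false
set_option linter.unusedVariables false
universe u
open CategoryTheory CategoryTheory.Limits AlgebraicGeometry Opposite

namespace Groth.Agent.Helper5.Where

open AlgSp Groth.Agent.Helper4 Groth.Agent.Helper5.UnrLoc Groth.Agent.Helper5.PtLoc
  Groth.Agent.Helper5.DiagOpen Groth.Agent.Helper5.UnivInj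

variable {S : Scheme.{u}}

set_option backward.isDefEq.respectTransparency.types false in
theorem s10640 {X Y Z : AlgSp.Space S}
    (f : X ⟶ Y) (p : X ⟶ Z) (q : Y ⟶ Z) (hc : f ≫ q = p)
    (XX : AlgSp.Space S) (pr0 pr1 : XX ⟶ X) (hXX : IsPullback pr0.hom pr1.hom f.hom f.hom)
    (hp1 : AlgSp.LocP @LocallyOfFiniteType p.hom) (hp2 : AlgSp.IsClosedMor p.hom)
    (hp3 : AlgSp.IsClosedMor (pr1 ≫ p).hom) :
    ∃ (W : AlgSp.Space S) (w : W ⟶ Z), AlgSp.RepWith @IsOpenImmersion w.hom ∧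
      ∀ (Z' : AlgSp.Space S) (g : Z' ⟶ Z),
        (∃ k : Z' ⟶ W, k ≫ w = g) ↔
          ∀ (Y' : AlgSp.Space S) (gY : Y' ⟶ Y) (q' : Y' ⟶ Z'),
            IsPullback gY.hom q'.hom q.hom g.hom →
            ∀ (X' : AlgSp.Space S) (gX : X' ⟶ X) (f' : X' ⟶ Y'),
              IsPullback gX.hom f'.hom f.hom gY.hom →
                (AlgSp.LocP (@LocallyOfFiniteType ⊓ @FormallyUnramified) f'.hom ∧ AlgSp.IsUnivInjectiveMor f'.hom) := by
  subst hc
  have hf : LocP @LocallyOfFiniteType f.hom := Groth.Agent.S9952.result f q hp1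
  have hG := Groth.Agent.Helper4.SDClasses.good_lft.{u}
  obtain ⟨T₁, hT₁⟩ : ∃ T₁ : Set (Points X.obj), T₁ = {x | HasAtMor QU f.hom x} := ⟨_, rfl⟩
  have hopen : IsOpen T₁ := by
    rw [hT₁]
    exact isOpen_locus etLocal_QU @LocallyOfFiniteType
      (fun s hs => by haveI := hs; exact isOpen_unramAt s) f hf
  have hbc : ∀ {X' Y' : AlgSp.Space S} (gY : Y' ⟶ Y) (gX : X' ⟶ X) (f' : X' ⟶ Y'),
      IsPullback gX.hom f'.hom f.hom gY.hom →
      {x' : Points X'.obj | HasAtMor QU f'.hom x'} = Points.map gX.hom ⁻¹' T₁ := by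
    intro X' Y' gY gX f' sqX
    rw [hT₁]
    exact locus_baseChange etLocal_QU @LocallyOfFiniteType
      (fun s g g' s' sq hs x' => by haveI := hs; exact unramAt_baseChange_iff s g g' s' sq x')
      f hf gY gX f' sqX
  obtain ⟨W₁, hW₁d⟩ : ∃ W₁ : Set (Points Z.obj), W₁ = (Points.map (f ≫ q).hom '' T₁ᶜ)ᶜ :=
    ⟨_, rfl⟩
  have hW₁ : IsOpen W₁ := by
    rw [hW₁d]; exact (hp2 _ hopen.isClosed_compl).isOpen_compl
  obtain ⟨X₁, hX₁d⟩ : ∃ X₁ : Set (Points X.obj), X₁ = Points.map (f ≫ q).hom ⁻¹' W₁ := ⟨_, rfl⟩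
  have hX₁ : IsOpen X₁ := by
    rw [hX₁d]; exact hW₁.preimage (Points.continuous_map _)
  have hX₁T : ∀ x ∈ X₁, HasAtMor QU f.hom x := by
    intro x hx
    by_contra hn
    rw [hX₁d, Set.mem_preimage, hW₁d] at hx
    refine hx ⟨x, ?_, rfl⟩
    rw [hT₁]; exact hn
  -- the diagonal
  obtain ⟨Δ, hΔ⟩ : ∃ Δ : X ⟶ XX, Δ = ObjectProperty.homMk (hXX.lift (𝟙 X.obj) (𝟙 X.obj) rfl) :=
    ⟨_, rfl⟩
  have hΔ0 : Δ ≫ pr0 = 𝟙 X := by
    ext1; rw [hΔ]; exact hXX.lift_fst _ _ _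
  have hΔ1 : Δ ≫ pr1 = 𝟙 X := by
    ext1; rw [hΔ]; exact hXX.lift_snd _ _ _
  have hD₁ : IsOpen (Points.map Δ.hom '' X₁) :=
    isOpen_image_diag_sp f hf pr0 pr1 hXX Δ hΔ0 hΔ1 X₁ hX₁ hX₁T
  obtain ⟨W₂, hW₂d⟩ : ∃ W₂ : Set (Points Z.obj),
    W₂ = (Points.map (pr1 ≫ f ≫ q).hom '' (Points.map Δ.hom '' X₁)ᶜ)ᶜ := ⟨_, rfl⟩
  have hW₂ : IsOpen W₂ := by
    rw [hW₂d]; exact (hp3 _ hD₁.isClosed_compl).isOpen_compl
  have hpΔ : ∀ x : Points X.obj,
      Points.map (pr1 ≫ f ≫ q).hom (Points.map Δ.hom x) = Points.map (f ≫ q).hom x := by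
    intro x
    rw [← Points.map_comp]
    have : Δ.hom ≫ (pr1 ≫ f ≫ q).hom = (f ≫ q).hom := by
      show Δ.hom ≫ pr1.hom ≫ (f ≫ q).hom = (f ≫ q).hom
      rw [← Category.assoc]
      have := congrArg (fun φ => φ.hom) hΔ1
      rw [show Δ.hom ≫ pr1.hom = 𝟙 X.obj from this, Category.id_comp]
    rw [this]
  have key : ∀ z ∈ W₁, (z ∈ W₂ ↔ ∀ ξ : Points XX.obj,
      Points.map (pr1 ≫ f ≫ q).hom ξ = z → ξ ∈ Set.range (Points.map Δ.hom)) := by
    intro z hz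
    have hξ : ∀ ξ : Points XX.obj, Points.map (pr1 ≫ f ≫ q).hom ξ = z →
        (ξ ∈ Points.map Δ.hom '' X₁ ↔ ξ ∈ Set.range (Points.map Δ.hom)) := by
      intro ξ hξz
      constructor
      · rintro ⟨x, -, rfl⟩; exact ⟨x, rfl⟩
      · rintro ⟨x, rfl⟩
        refine ⟨x, ?_, rfl⟩
        rw [hX₁d, Set.mem_preimage, ← hpΔ, hξz]; exact hz
    rw [hW₂d]
    constructor
    · intro h ξ hξz
      by_contra hn
      exact h ⟨ξ, fun h' => hn ((hξ ξ hξz).1 h'), hξz⟩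
    · rintro h ⟨ξ, hξ1, hξ2⟩
      exact hξ1 ((hξ ξ hξ2).2 (h ξ hξ2))
  obtain ⟨W, w, hw, H⟩ := exists_open_classifier Z (W₁ ∩ W₂) (hW₁.inter hW₂)
  refine ⟨W, w, hw, fun Z' g => ?_⟩
  rw [H Z' g, Set.subset_inter_iff]
  constructor
  · rintro ⟨h1, h2⟩ Y' gY q' sqY X' gX f' sqX
    have hf' : LocP @LocallyOfFiniteType f'.hom :=
      Groth.Agent.Helper4.AlgSpLocPBC.locP_of_isPullback @LocallyOfFiniteType hG.etale_le hG.sd
        X.property Y.property f.hom gY.hom gX.hom f'.hom sqX hf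
    refine ⟨?_, ?_⟩
    · rw [locP_unram_iff_forall f' hf', hbc gY gX f' sqX]
      rw [hW₁d] at h1
      exact (preimage_eq_univ_iff f q g gY q' gX f' sqY sqX T₁).2 h1
    · refine (isUnivInjectiveMor_baseChange_iff X.property X'.property f.hom q.hom pr0.hom
        pr1.hom hXX Δ.hom (congrArg (fun φ => φ.hom) hΔ0) (congrArg (fun φ => φ.hom) hΔ1)
        g.hom gY.hom q'.hom sqY gX.hom f'.hom sqX).2 ?_
      intro ξ hξ
      exact (key _ (h1 hξ)).1 (h2 hξ) ξ rfl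
  · intro Hall
    obtain ⟨Y', gY, q', X', gX, f', sqY, sqX⟩ := exists_baseChange f q g
    obtain ⟨hun, hUI⟩ := Hall Y' gY q' sqY X' gX f' sqX
    have hf' : LocP @LocallyOfFiniteType f'.hom :=
      Groth.Agent.Helper4.AlgSpLocPBC.locP_of_isPullback @LocallyOfFiniteType hG.etale_le hG.sd
        X.property Y.property f.hom gY.hom gX.hom f'.hom sqX hf
    have h1 : Set.range (Points.map g.hom) ⊆ W₁ := by
      rw [hW₁d]
      refine (preimage_eq_univ_iff f q g gY q' gX f' sqY sqX T₁).1 ?_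
      rw [← hbc gY gX f' sqX]
      exact (locP_unram_iff_forall f' hf').1 hun
    refine ⟨h1, ?_⟩
    intro z hz
    refine (key z (h1 hz)).2 ?_
    intro ξ hξz
    refine (isUnivInjectiveMor_baseChange_iff X.property X'.property f.hom q.hom pr0.hom
        pr1.hom hXX Δ.hom (congrArg (fun φ => φ.hom) hΔ0) (congrArg (fun φ => φ.hom) hΔ1)
        g.hom gY.hom q'.hom sqY gX.hom f'.hom sqX).1 hUI ξ ?_
    show Points.map (pr1 ≫ f ≫ q).hom ξ ∈ Set.range (Points.map g.hom)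
    rw [hξz]; exact hz

end Groth.Agent.Helper5.Where
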