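import Groth.Agent.Helper5.Where3
import Groth.Agent.Helper5.AlgSpProper
import Groth.Agent.Helper5.ProperImg1
import Groth.Agent.Helper5.AlgSpEt2
import Groth.Agent.Helper5.FpqcIso
import Groth.Agent.Helper5.AlgSpIso
import Groth.Agent.Helper5.ThickOpen1
import Groth.Agent.Helper5.AlgSpOpen
import Groth.Agent.Helper5.AlgSpEtInj
import Groth.Agent.Helper4.AlgSpPB
import Groth.Agent.Helper4.AlgSpUC
import Groth.Agent.Helper4.AlgSpSrc
import Groth.Agent.Helper4.AlgSpLocPBC
import Groth.Agent.Helper4.SDClasses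
import Groth.Agent.S9959
import Mathlib

set_option autoImplicit false
set_option linter.style.haveILetI false
set_option linter.unusedSectionVars false
set_option linter.unusedVariables false
universe u
open CategoryTheory CategoryTheory.Limits AlgebraicGeometry Opposite

namespace Groth.Agent.Helper5.Where

open AlgSp Groth.Agent.Helper4 Groth.Agent.Helper4.SDClasses

variable {S : Scheme.{u}}

set_option backward.isDefEq.respectTransparency.types false in
/-- isomorphisms among morphisms locally of finite presentation -/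
theorem isIso_iff {X' Y' : AlgSp.Space S} (f' : X' ⟶ Y')
    (hlfp : AlgSp.LocP @LocallyOfFinitePresentation f'.hom) :
    IsIso f'.hom ↔ ((AlgSp.IsSurjectiveMor f'.hom ∧ AlgSp.LocP @Flat f'.hom) ∧
      (AlgSp.LocP (@LocallyOfFiniteType ⊓ @FormallyUnramified) f'.hom ∧
        AlgSp.IsUnivInjectiveMor f'.hom)) := by
  constructor
  · intro h
    haveI := h
    have hoi := Groth.Agent.Helper5.FpqcIso.repWith_openImmersion_of_isIso f'.hom
    have het := Groth.Agent.Helper5.FpqcIso.isEtaleMor_of_repWith_openImmersion f'.hom hoi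
    refine ⟨⟨?_, ?_⟩, ?_, ?_⟩
    · intro y
      refine ⟨Points.map (inv f'.hom) y, ?_⟩
      rw [← Points.map_comp, IsIso.inv_hom_id, Points.map_id]
    · exact Groth.Agent.Helper5.AlgSpEt.locP_of_isEtaleMor @Flat
        (fun g hg => by haveI := hg; infer_instance) f'.hom het
    · exact Groth.Agent.Helper5.AlgSpEt.locP_of_isEtaleMor _
        (fun g hg => by haveI := hg; exact ⟨inferInstance, inferInstance⟩) f'.hom het
    · intro W W' hW k a b sq
      haveI : IsIso b := sq.isIso_snd_of_isIso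
      intro x y hxy
      have := congrArg (Points.map (inv b)) hxy
      rwa [← Points.map_comp, ← Points.map_comp, IsIso.hom_inv_id, Points.map_id,
        Points.map_id] at this
  · rintro ⟨⟨hs, hfl⟩, hu, hi⟩
    have het : AlgSp.LocP @Etale f'.hom := by
      intro U V a b h ha hb hc
      rw [Etale.iff_flat_and_formallyUnramified]
      exact ⟨hfl a b h ha hb hc, (hu a b h ha hb hc).2, hlfp a b h ha hb hc⟩
    have hEt := Groth.Agent.Helper5.AlgSpEt.isEtaleMor_of_locP_etale X'.property Y'.property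
      f'.hom het
    have hoi := Groth.Agent.Helper5.AlgSpEtInj.repWith_openImmersion_of_etale_univInjective
      X'.property Y'.property f'.hom hEt hi
    exact Groth.Agent.Helper5.AlgSpIso.isIso_of_openImmersion_surjective f'.hom hoi
      (Groth.Agent.Helper4.AlgSpPts.repWith_surjective_of_isSurjectiveMor f'.hom hoi.rep hs)

set_option backward.isDefEq.respectTransparency.types false in
theorem s10644 {X Y Z : AlgSp.Space S}
    (f : X ⟶ Y) (p : X ⟶ Z) (q : Y ⟶ Z) (hc : f ≫ q = p)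
    (hp1 : AlgSp.LocP @LocallyOfFinitePresentation p.hom) (hp2 : AlgSp.LocP @Flat p.hom)
    (hp3 : AlgSp.IsUnivClosedMor p.hom) (hq1 : AlgSp.LocP @LocallyOfFiniteType q.hom)
    (hq2 : AlgSp.IsClosedMor q.hom) (hq3 : AlgSp.IsSeparatedMor q.hom) :
    ∃ (W : AlgSp.Space S) (w : W ⟶ Z), AlgSp.RepWith @IsOpenImmersion w.hom ∧
      ∀ (Z' : AlgSp.Space S) (g : Z' ⟶ Z),
        (∃ k : Z' ⟶ W, k ≫ w = g) ↔
          ∀ (Y' : AlgSp.Space S) (gY : Y' ⟶ Y) (q' : Y' ⟶ Z'),
            IsPullback gY.hom q'.hom q.hom g.hom →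
            ∀ (X' : AlgSp.Space S) (gX : X' ⟶ X) (f' : X' ⟶ Y'),
              IsPullback gX.hom f'.hom f.hom gY.hom →
                IsIso f'.hom := by
  subst hc
  have hpcl : AlgSp.IsClosedMor (f ≫ q).hom :=
    Groth.Agent.Helper5.ProperImg.isClosedMap_of_isUnivClosedMor Z.property _ hp3
  obtain ⟨W₁, w₁, hw₁, H₁⟩ := s10643 f (f ≫ q) q rfl hp1 hp2 hpcl hq1 hq2
  -- the fibre square of `f`
  have hXXsq : IsPullback (pullback.fst f.hom f.hom) (pullback.snd f.hom f.hom) f.hom f.hom :=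
    IsPullback.of_hasPullback _ _
  have hXXalg : IsAlgSpace (pullback f.hom f.hom) :=
    Groth.Agent.Helper4.AlgSpPB.isAlgSpace_of_isPullback Y.property.diag X.property X.property
      f.hom f.hom _ _ hXXsq
  obtain ⟨XX, pr0, pr1, hXX⟩ : ∃ (XX : AlgSp.Space S) (pr0 pr1 : XX ⟶ X),
      IsPullback pr0.hom pr1.hom f.hom f.hom :=
    ⟨⟨pullback f.hom f.hom, hXXalg⟩, ObjectProperty.homMk (pullback.fst f.hom f.hom),
      ObjectProperty.homMk (pullback.snd f.hom f.hom), hXXsq⟩
  have hplft : AlgSp.LocP @LocallyOfFiniteType (f ≫ q).hom := by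
    intro U V a b h ha hb hc
    haveI : LocallyOfFinitePresentation h.left := hp1 a b h ha hb hc
    infer_instance
  have hfuc : AlgSp.IsUnivClosedMor f.hom :=
    Groth.Agent.Helper5.AlgSpProper.isUnivClosedMor_of_comp_separated X.property Y.property
      Z.property.diag f.hom q.hom hq3 hp3
  have hpr1uc : AlgSp.IsUnivClosedMor pr1.hom :=
    Groth.Agent.Helper4.AlgSpUC.univSp_of_isPullback _ hXX hfuc
  have hcomp : AlgSp.IsUnivClosedMor (pr1 ≫ (f ≫ q)).hom :=
    Groth.Agent.Helper4.AlgSpSrc.isUnivClosedMor_comp X.property Z.property.diag pr1.hom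
      (f ≫ q).hom hpr1uc hp3
  have hp3' : AlgSp.IsClosedMor (pr1 ≫ (f ≫ q)).hom :=
    Groth.Agent.Helper5.ProperImg.isClosedMap_of_isUnivClosedMor Z.property _ hcomp
  obtain ⟨W₂, w₂, hw₂, H₂⟩ := s10640 f (f ≫ q) q rfl XX pr0 pr1 hXX hplft hpcl hp3'
  -- the intersection
  have hO : IsOpen (Set.range (Points.map w₁.hom) ∩ Set.range (Points.map w₂.hom)) :=
    (Groth.Agent.Helper5.ThickOpen.isOpen_range_of_openImmersion w₁ hw₁).inter
      (Groth.Agent.Helper5.ThickOpen.isOpen_range_of_openImmersion w₂ hw₂)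
  obtain ⟨W₀, j, hW₀, hj, hrange⟩ :=
    Groth.Agent.Helper5.AlgSpOpen.exists_open_subspace Z.property _ hO
  have hflfp : AlgSp.LocP @LocallyOfFinitePresentation f.hom :=
    Groth.Agent.S9959.result f q hp1 hq1
  have hlfp' : ∀ {X' Y' : AlgSp.Space S} (gY : Y' ⟶ Y) (gX : X' ⟶ X) (f' : X' ⟶ Y'),
      IsPullback gX.hom f'.hom f.hom gY.hom → AlgSp.LocP @LocallyOfFinitePresentation f'.hom := by
    intro X' Y' gY gX f' sqX
    have hG := good_lfp.{u}
    haveI := hG.bc
    haveI := hG.comp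
    exact Groth.Agent.Helper4.AlgSpLocPBC.locP_of_isPullback _ hG.etale_le hG.sd X.property
      Y.property f.hom gY.hom gX.hom f'.hom sqX hflfp
  refine ⟨⟨W₀, hW₀⟩, ObjectProperty.homMk j, hj, fun Z' g => ?_⟩
  constructor
  · rintro ⟨k, rfl⟩ Y' gY q' sqY X' gX f' sqX
    have hsub : Set.range (Points.map (k.hom ≫ j)) ⊆
        Set.range (Points.map w₁.hom) ∩ Set.range (Points.map w₂.hom) := by
      rw [← hrange]
      exact Groth.Agent.Helper5.AlgSpIso.range_subset_of_factor j (k.hom ≫ j) k.hom rfl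
    obtain ⟨k₁, hk₁⟩ := Groth.Agent.Helper5.AlgSpIso.exists_factor_open w₁.hom hw₁ (k.hom ≫ j)
      (hsub.trans Set.inter_subset_left)
    obtain ⟨k₂, hk₂⟩ := Groth.Agent.Helper5.AlgSpIso.exists_factor_open w₂.hom hw₂ (k.hom ≫ j)
      (hsub.trans Set.inter_subset_right)
    have A := (H₁ Z' (k ≫ ObjectProperty.homMk j)).1
      ⟨ObjectProperty.homMk k₁, by ext1; exact hk₁⟩ Y' gY q' sqY X' gX f' sqX
    have B := (H₂ Z' (k ≫ ObjectProperty.homMk j)).1
      ⟨ObjectProperty.homMk k₂, by ext1; exact hk₂⟩ Y' gY q' sqY X' gX f' sqX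
    exact (isIso_iff f' (hlfp' gY gX f' sqX)).2 ⟨A, B⟩
  · intro H
    obtain ⟨k₁, hk₁⟩ := (H₁ Z' g).2 (fun Y' gY q' sqY X' gX f' sqX =>
      ((isIso_iff f' (hlfp' gY gX f' sqX)).1 (H Y' gY q' sqY X' gX f' sqX)).1)
    obtain ⟨k₂, hk₂⟩ := (H₂ Z' g).2 (fun Y' gY q' sqY X' gX f' sqX =>
      ((isIso_iff f' (hlfp' gY gX f' sqX)).1 (H Y' gY q' sqY X' gX f' sqX)).2)
    have hsub : Set.range (Points.map g.hom) ⊆ Set.range (Points.map j) := by
      rw [hrange]
      exact Set.subset_inter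
        (Groth.Agent.Helper5.AlgSpIso.range_subset_of_factor w₁.hom g.hom k₁.hom
          (congrArg (fun m => m.hom) hk₁))
        (Groth.Agent.Helper5.AlgSpIso.range_subset_of_factor w₂.hom g.hom k₂.hom
          (congrArg (fun m => m.hom) hk₂))
    obtain ⟨k, hk⟩ := Groth.Agent.Helper5.AlgSpIso.exists_factor_open j hj g.hom hsub
    exact ⟨ObjectProperty.homMk k, by ext1; exact hk⟩

end Groth.Agent.Helper5.Where
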