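import Groth.Agent.Helper5.WrWeier2
import Groth.Agent.Helper5.FFGaps2

set_option autoImplicit false

namespace Groth.Agent.Helper5.Wr
open FunFld LocRes

variable {k K : Type*} [Field k] [Field K] [Algebra k K]

theorem mem_span_smul_iff (y : K) (hy : y ≠ 0) {ι : Type*} [Fintype ι] (φ : ι → K) (f : K) :
    f ∈ Submodule.span k (Set.range (y • φ)) ↔ y⁻¹ * f ∈ Submodule.span k (Set.range φ) := by
  rw [Submodule.mem_span_range_iff_exists_fun, Submodule.mem_span_range_iff_exists_fun]
  constructor
  · rintro ⟨c, rfl⟩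
    refine ⟨c, ?_⟩
    rw [Finset.mul_sum]
    refine Finset.sum_congr rfl fun i _ => ?_
    rw [Pi.smul_apply, smul_eq_mul, mul_smul_comm, ← mul_assoc, inv_mul_cancel₀ hy, one_mul]
  · rintro ⟨c, hc⟩
    refine ⟨c, ?_⟩
    have : f = y * (y⁻¹ * f) := by rw [← mul_assoc, mul_inv_cancel₀ hy, one_mul]
    rw [this, ← hc, Finset.mul_sum]
    refine Finset.sum_congr rfl fun i _ => ?_
    rw [Pi.smul_apply, smul_eq_mul, mul_smul_comm]

/-- strict step of `L` at a rational place, in terms of an element of exact order -/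
theorem ell_sub_lt_iff (hK : IsFunctionField k K) (D : Divisor k K) (P : Place k K) (m : ℤ) :
    ell (D - Finsupp.single P (m + 1)) < ell (D - Finsupp.single P m) ↔
      ∃ f : K, f ≠ 0 ∧ f ∈ L (D - Finsupp.single P m) ∧ P.ord f = m - D P := by
  classical
  have hle : D - Finsupp.single P (m + 1) ≤ D - Finsupp.single P m :=
    sub_le_sub_left (FF.single_mono P (by omega)) D
  have hLle := FF.L_mono hle
  have := FF.finiteDimensional_L hK (D - Finsupp.single P m)
  have := FF.finiteDimensional_L hK (D - Finsupp.single P (m + 1))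
  constructor
  · intro hlt
    have hne : L (D - Finsupp.single P (m + 1)) ≠ L (D - Finsupp.single P m) := by
      intro h
      unfold ell at hlt
      rw [h] at hlt
      exact lt_irrefl _ hlt
    have hlt' : L (D - Finsupp.single P (m + 1)) < L (D - Finsupp.single P m) :=
      lt_of_le_of_ne hLle hne
    obtain ⟨f, hf, hnf⟩ := SetLike.exists_of_lt hlt'
    have hf0 : f ≠ 0 := by
      rintro rfl
      exact hnf (Submodule.zero_mem _)
    refine ⟨f, hf0, hf, ?_⟩
    rw [FF.mem_L_iff_ord _ hf0] at hf hnf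
    push Not at hnf
    obtain ⟨Q, hQ⟩ := hnf
    have hQP : Q = P := by
      by_contra hQP
      have := hf Q
      rw [Finsupp.sub_apply, Finsupp.single_apply, if_neg (Ne.symm hQP)] at this hQ
      omega
    subst hQP
    have := hf Q
    rw [Finsupp.sub_apply, Finsupp.single_eq_same] at this hQ
    omega
  · rintro ⟨f, hf0, hf, hord⟩
    have hnf : f ∉ L (D - Finsupp.single P (m + 1)) := by
      rw [FF.mem_L_iff_ord _ hf0]
      intro h
      have := h P
      rw [Finsupp.sub_apply, Finsupp.single_eq_same] at this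
      omega
    have hlt' : L (D - Finsupp.single P (m + 1)) < L (D - Finsupp.single P m) :=
      lt_of_le_of_ne hLle (fun h => hnf (h ▸ hf))
    exact Submodule.finrank_lt_finrank_of_lt hlt'

theorem isJump_canonical_iff_gap (hK : IsFunctionField k K) (C : Divisor k K)
    (hC : IsCanonical k K C) {n : ℕ} (φ : Fin (n + 1) → K) (hφ : LinearIndependent k φ)
    (hspan : Submodule.span k (Set.range φ) = L C)
    (P : Place k K) (hP : P.deg = 1) (y : K) (hy : y ≠ 0)
    (heff : (1 : K) ∈ Submodule.span k (Set.range (y • φ))) (hnorm : ∀ i, P.1 (y * φ i) ≤ 1)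
    {t : K} (ht : P.1 t = WithZero.exp (-1 : ℤ))
    {Ht : K →ₐ[k] PowerSeries K} (hHt : IsHasseFamily t Ht) (j : ℕ) (hj : 1 ≤ j) :
    IsJump (IsLocalRing.ResidueField P.O) (hcolAt P Ht (y • φ)) (j + 1) ↔
      L (Finsupp.single P ((j : ℤ) + 1)) = L (Finsupp.single P (j : ℤ)) := by
  classical
  have hnorm' : ∀ i, P.1 ((y • φ) i) ≤ 1 := hnorm
  -- genus is positive
  have hg : 0 < genus k K := by
    have h1 := (FF.ell_canonical hK hC).1
    unfold ell at h1
    rw [← hspan, finrank_span_eq_card hφ, Fintype.card_fin] at h1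
    omega
  -- all elements of the span of `y • φ` are integral at `P`
  have hint : ∀ f ∈ Submodule.span k (Set.range (y • φ)), P.1 f ≤ 1 := by
    intro f hf
    obtain ⟨c, rfl⟩ := (Submodule.mem_span_range_iff_exists_fun k).mp hf
    exact val_sum_smul_le_one P Finset.univ c (y • φ) hnorm'
  -- `y⁻¹ ∈ L(C)`
  have hyinv : y⁻¹ ∈ L C := by
    have := (mem_span_smul_iff y hy φ 1).mp heff
    rwa [mul_one, hspan] at this
  have hyinv0 : y⁻¹ ≠ 0 := inv_ne_zero hy
  -- `C P = ord_P y`
  have hCP : C P = P.ord y := by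
    have h1 := (FF.mem_L_iff_ord C hyinv0).mp hyinv P
    rw [FF.ord_inv] at h1
    by_contra hne
    have hlt : P.ord y < C P := by omega
    have h2 := FF.ell_sub_single_lt_ell hK hg C (Or.inr hC) P hP
    have h3 := (ell_sub_lt_iff hK C P 0).mp (by simpa using h2)
    obtain ⟨f, hf0, hf, hord⟩ := h3
    have hfC : f ∈ L C := by simpa using hf
    have hyf : y * f ∈ Submodule.span k (Set.range (y • φ)) := by
      rw [mem_span_smul_iff y hy, ← mul_assoc, inv_mul_cancel₀ hy, one_mul, hspan]
      exact hfC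
    have h4 := hint _ hyf
    rw [← FF.ord_nonneg_iff P (mul_ne_zero hy hf0), FF.ord_mul P hy hf0] at h4
    omega
  rw [isJump_hcolAt_iff hK P hP ht hHt (y • φ) hnorm' j]
  -- Riemann–Roch
  have hRR1 := FF.riemann_roch hK C hC (C - Finsupp.single P (j : ℤ))
  have hRR2 := FF.riemann_roch hK C hC (C - Finsupp.single P ((j : ℤ) + 1))
  rw [sub_sub_cancel, FF.deg_sub, FF.deg_single, hP] at hRR1 hRR2
  have hmono : ell (Finsupp.single P (j : ℤ) : Divisor k K) ≤
      ell (Finsupp.single P ((j : ℤ) + 1) : Divisor k K) := by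
    have := FF.finiteDimensional_L hK (Finsupp.single P ((j : ℤ) + 1) : Divisor k K)
    exact Submodule.finrank_mono (FF.L_mono (FF.single_mono P (by omega)))
  have hstep : ell (C - Finsupp.single P ((j : ℤ) + 1)) < ell (C - Finsupp.single P (j : ℤ)) ↔
      ell (Finsupp.single P ((j : ℤ) + 1) : Divisor k K) = ell (Finsupp.single P (j : ℤ) : Divisor k K) := by
    push_cast at hRR1 hRR2
    constructor
    · intro h
      have : (ell (C - Finsupp.single P ((j : ℤ) + 1)) : ℤ) < ell (C - Finsupp.single P (j : ℤ)) := by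
        exact_mod_cast h
      have : (ell (Finsupp.single P ((j : ℤ) + 1) : Divisor k K) : ℤ) ≤
          ell (Finsupp.single P (j : ℤ) : Divisor k K) := by omega
      omega
    · intro h
      have : (ell (C - Finsupp.single P ((j : ℤ) + 1)) : ℤ) < ell (C - Finsupp.single P (j : ℤ)) := by
        rw [hRR1, hRR2, h]; omega
      exact_mod_cast this
  have hLeq : ell (Finsupp.single P ((j : ℤ) + 1) : Divisor k K) = ell (Finsupp.single P (j : ℤ) : Divisor k K) ↔
      L (Finsupp.single P ((j : ℤ) + 1) : Divisor k K) = L (Finsupp.single P (j : ℤ)) := by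
    have := FF.finiteDimensional_L hK (Finsupp.single P ((j : ℤ) + 1) : Divisor k K)
    constructor
    · intro h
      exact (Submodule.eq_of_le_of_finrank_eq (FF.L_mono (FF.single_mono P (by omega))) h.symm).symm
    · intro h
      unfold ell
      rw [h]
  rw [← hLeq, ← hstep, ell_sub_lt_iff hK C P (j : ℤ)]
  constructor
  · rintro ⟨-, f', hf', hv⟩
    have hf'0 : f' ≠ 0 := by
      rintro rfl
      rw [map_zero] at hv
      exact WithZero.exp_ne_zero hv.symm
    have hmem := (mem_span_smul_iff y hy φ f').mp hf'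
    rw [hspan] at hmem
    have hf0 : y⁻¹ * f' ≠ 0 := mul_ne_zero hyinv0 hf'0
    have hord' : P.ord f' = j := by
      have := FF.ord_eq_of_val_eq P hv
      omega
    have hord : P.ord (y⁻¹ * f') = j - C P := by
      rw [FF.ord_mul P hyinv0 hf'0, FF.ord_inv, hord', hCP]; ring
    refine ⟨y⁻¹ * f', hf0, ?_, hord⟩
    rw [FF.mem_L_iff_ord _ hf0]
    intro Q
    have hQ := (FF.mem_L_iff_ord C hf0).mp hmem Q
    rw [Finsupp.sub_apply, Finsupp.single_apply]
    split_ifs with hPQ
    · subst hPQ; omega
    · omega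
  · rintro ⟨f, hf0, hf, hord⟩
    refine ⟨hj, y * f, ?_, ?_⟩
    · rw [mem_span_smul_iff y hy, ← mul_assoc, inv_mul_cancel₀ hy, one_mul, hspan]
      exact FF.L_mono (by
        have : C - Finsupp.single P (j : ℤ) ≤ C - 0 :=
          sub_le_sub_left (by
            intro Q
            rw [Finsupp.single_apply]
            split_ifs <;> simp) C
        simpa using this) hf
    · rw [FF.val_eq_exp_neg_ord P (mul_ne_zero hy hf0), FF.ord_mul P hy hf0, hord, hCP]
      congr 1
      ring

end Groth.Agent.Helper5.Wr
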