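import Groth.Agent.Helper5.WrLin3

set_option autoImplicit false

namespace Groth.Agent.Helper5.Wr
open FunFld LocRes

section Det
variable {K : Type*} [Field K]

theorem det_tri {N : ℕ} (v v' : Fin N → (Fin N → K)) (d : Fin N → K)
    (h : ∀ l, v' l - d l • v l ∈ Submodule.span K (v '' {m | m < l})) :
    (Matrix.of v').det = (∏ l, d l) * (Matrix.of v).det := by
  classical
  have h' : ∀ l, ∃ w : Fin N → K, ∑ m ∈ Finset.Iio l, w m • v m = v' l - d l • v l := by
    intro l
    have := h l
    have hset : {m | m < l} = ((Finset.Iio l : Finset (Fin N)) : Set (Fin N)) := by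
      ext m; simp
    rw [hset, Submodule.mem_span_image_finset_iff_exists_fun'] at this
    exact this
  choose w hw using h'
  let U : Matrix (Fin N) (Fin N) K :=
    Matrix.of fun l m => if m < l then w l m else if m = l then d l else 0
  have hU : U.IsLowerTriangular := by
    intro i j hij
    have hij' : i < j := hij
    simp only [U, Matrix.of_apply]
    rw [if_neg (not_lt.mpr hij'.le), if_neg hij'.ne']
  have hmul : Matrix.of v' = U * Matrix.of v := by
    apply Matrix.ext
    intro l j
    rw [Matrix.mul_apply]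
    have h1 : v' l = d l • v l + ∑ m ∈ Finset.Iio l, w l m • v m := by
      rw [hw l]; abel
    simp only [Matrix.of_apply, U]
    rw [h1]
    simp only [Pi.add_apply, Pi.smul_apply, Finset.sum_apply, smul_eq_mul]
    have h2 : ∀ m : Fin N, (if m < l then w l m else if m = l then d l else 0) * v m j =
        (if m < l then w l m * v m j else 0) + (if m = l then d l * v l j else 0) := by
      intro m
      by_cases hml : m < l
      · rw [if_pos hml, if_pos hml, if_neg hml.ne, add_zero]
      · rw [if_neg hml, if_neg hml, zero_add]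
        by_cases hml' : m = l
        · rw [if_pos hml', if_pos hml', hml']
        · rw [if_neg hml', if_neg hml', zero_mul]
    simp only [h2]
    rw [Finset.sum_add_distrib, Finset.sum_ite_eq' Finset.univ l, if_pos (Finset.mem_univ _),
      ← Finset.sum_filter, add_comm]
    congr 1
    apply Finset.sum_congr
    · ext m; simp
    · intro m _; rfl
  rw [hmul, Matrix.det_mul, Matrix.det_of_isLowerTriangular U hU]
  congr 1
  apply Finset.prod_congr rfl
  intro l _
  simp [U]

end Det

section Tri
variable {R M : Type*} [Field R] [AddCommGroup M] [Module R M]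

theorem span_Iio_tri (c c' : ℕ → M) (u : ℕ → R) (hu : ∀ m, u m ≠ 0)
    (h : ∀ m, c' m - u m • c m ∈ Submodule.span R (c '' Set.Iio m)) (N : ℕ) :
    Submodule.span R (c' '' Set.Iio N) = Submodule.span R (c '' Set.Iio N) := by
  induction N with
  | zero => simp
  | succ N ih =>
    have h1 : Set.Iio (N + 1) = insert N (Set.Iio N) := by
      ext j; simp only [Set.mem_Iio, Set.mem_insert_iff]; omega
    rw [h1, Set.image_insert_eq, Set.image_insert_eq, Submodule.span_insert, Submodule.span_insert, ih]
    apply le_antisymm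
    · apply sup_le
      · rw [Submodule.span_le, Set.singleton_subset_iff]
        have : c' N = (c' N - u N • c N) + u N • c N := by abel
        rw [this]
        apply Submodule.add_mem
        · exact Submodule.mem_sup_right (h N)
        · exact Submodule.mem_sup_left (Submodule.smul_mem _ _ (Submodule.mem_span_singleton_self _))
      · exact le_sup_right
    · apply sup_le
      · rw [Submodule.span_le, Set.singleton_subset_iff]
        have : c N = (u N)⁻¹ • c' N - (u N)⁻¹ • (c' N - u N • c N) := by
          rw [smul_sub, smul_smul, inv_mul_cancel₀ (hu N), one_smul]; abel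
        rw [this]
        apply Submodule.sub_mem
        · exact Submodule.mem_sup_left (Submodule.smul_mem _ _ (Submodule.mem_span_singleton_self _))
        · exact Submodule.mem_sup_right (Submodule.smul_mem _ _ (h N))
      · exact le_sup_right

theorem isJump_tri (c c' : ℕ → M) (u : ℕ → R) (hu : ∀ m, u m ≠ 0)
    (h : ∀ m, c' m - u m • c m ∈ Submodule.span R (c '' Set.Iio m)) (j : ℕ) :
    IsJump R c' j ↔ IsJump R c j := by
  unfold IsJump
  rw [span_Iio_tri c c' u hu h j]
  have h1 : c' j ∈ Submodule.span R (c '' Set.Iio j) ↔ c j ∈ Submodule.span R (c '' Set.Iio j) := by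
    constructor
    · intro h2
      have : c j = (u j)⁻¹ • c' j - (u j)⁻¹ • (c' j - u j • c j) := by
        rw [smul_sub, smul_smul, inv_mul_cancel₀ (hu j), one_smul]; abel
      rw [this]
      exact Submodule.sub_mem _ (Submodule.smul_mem _ _ h2) (Submodule.smul_mem _ _ (h j))
    · intro h2
      have : c' j = (c' j - u j • c j) + u j • c j := by abel
      rw [this]
      exact Submodule.add_mem _ (h j) (Submodule.smul_mem _ _ h2)
  rw [h1]

theorem isOrders_tri (c c' : ℕ → M) (u : ℕ → R) (hu : ∀ m, u m ≠ 0)
    (h : ∀ m, c' m - u m • c m ∈ Submodule.span R (c '' Set.Iio m)) {n : ℕ} (J : Fin n → ℕ) :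
    IsOrders R c' J ↔ IsOrders R c J := by
  unfold IsOrders
  simp only [isJump_tri c c' u hu h]

/-- Below an order `J l + 1`, the span of the columns is the span of the selected columns of smaller index. -/
theorem span_Iio_le_span_sel {n : ℕ} (c : ℕ → M) (J : Fin n → ℕ) (hJ : IsOrders R c J) (l : Fin n) :
    Submodule.span R (c '' Set.Iio (J l + 1)) ≤
      Submodule.span R ((Fin.cons (c 0) (fun i => c (J i + 1)) : Fin (n + 1) → M) '' {m | m < l.succ}) := by
  rw [span_Iio_eq_span_jumps]
  apply Submodule.span_mono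
  rintro _ ⟨j, ⟨hj1, hj2⟩, rfl⟩
  rcases Nat.eq_zero_or_pos j with h0 | h0
  · subst h0
    exact ⟨0, by simp [Fin.succ_pos], by simp⟩
  · obtain ⟨j', rfl⟩ : ∃ j', j = j' + 1 := ⟨j - 1, by omega⟩
    obtain ⟨i, hi⟩ := (hJ.2 j').mpr hj2
    have hil : i < l := by
      by_contra hh
      rw [not_lt] at hh
      have := hJ.1.monotone hh
      omega
    refine ⟨i.succ, ?_, by simp [hi]⟩
    simpa using hil

end Tri

section WrMat
variable {k K : Type*} [Field k] [Field K] [Algebra k K]

/-- Triangular change of the column sequence multiplies the Wronskian at the order sequence by the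
product of the diagonal factors. -/
theorem det_sel_tri {n : ℕ} (c c' : ℕ → (Fin (n + 1) → K)) (u : ℕ → K)
    (h : ∀ m, c' m - u m • c m ∈ Submodule.span K (c '' Set.Iio m))
    (J : Fin n → ℕ) (hJ : IsOrders K c J) :
    (Matrix.of (Fin.cons (c' 0) (fun l => c' (J l + 1)) : Fin (n + 1) → (Fin (n + 1) → K))).det =
      (u 0 * ∏ l, u (J l + 1)) *
        (Matrix.of (Fin.cons (c 0) (fun l => c (J l + 1)) : Fin (n + 1) → (Fin (n + 1) → K))).det := by
  have := det_tri (Fin.cons (c 0) (fun l => c (J l + 1)) : Fin (n + 1) → (Fin (n + 1) → K))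
    (Fin.cons (c' 0) (fun l => c' (J l + 1))) (Fin.cons (u 0) (fun l => u (J l + 1))) ?_
  · rw [this, Fin.prod_univ_succ]
    simp
  · intro l
    rcases Fin.eq_zero_or_eq_succ l with rfl | ⟨l', rfl⟩
    · simp only [Fin.cons_zero]
      have := h 0
      simp only [Set.Iio, not_lt_zero, Set.ofPred_false, Set.image_empty, Submodule.span_empty,
        Submodule.mem_bot] at this
      rw [this]
      exact Submodule.zero_mem _
    · simp only [Fin.cons_succ]
      exact span_Iio_le_span_sel c J hJ l' (h (J l' + 1))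

theorem wrMat_det_eq_sel {n : ℕ} (τ : K →ₐ[k] K) (H : K →ₐ[k] PowerSeries K)
    (φ : Fin (n + 1) → K) (I : Fin n → ℕ) :
    (wrMat τ H φ I).det =
      (Matrix.of (Fin.cons (hcol τ H φ 0) (fun l => hcol τ H φ (I l + 1)) :
        Fin (n + 1) → (Fin (n + 1) → K))).det := by
  rw [wrMat_eq_transpose, Matrix.det_transpose]; rfl

/-- the sequence `a, b, b, b, …` -/
def uSm (a b : K) : ℕ → K
  | 0 => a
  | _ + 1 => b

@[simp] theorem uSm_zero (a b : K) : uSm a b 0 = a := rfl
@[simp] theorem uSm_succ (a b : K) (j : ℕ) : uSm a b (j + 1) = b := rfl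

theorem hcol_smul_tri {n : ℕ} (τ : K →ₐ[k] K) {s : K} {H : K →ₐ[k] PowerSeries K}
    (hH : IsHasseFamily s H) (φ : Fin (n + 1) → K) (y : K) (m : ℕ) :
    hcol τ H (y • φ) m - uSm (τ y) y m • hcol τ H φ m ∈
      Submodule.span K (hcol τ H φ '' Set.Iio m) := by
  cases m with
  | zero =>
    have : hcol τ H (y • φ) 0 - (τ y) • hcol τ H φ 0 = 0 := by
      funext i
      simp [hcol]
    rw [uSm_zero, this]
    exact Submodule.zero_mem _
  | succ j =>
    rw [uSm_succ]
    have : hcol τ H (y • φ) (j + 1) - y • hcol τ H φ (j + 1) =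
        ∑ a ∈ Finset.range j, hasseD H (a + 1) y • hcol τ H φ (j - (a + 1) + 1) := by
      funext i
      simp only [hcol, Pi.smul_apply, smul_eq_mul, Pi.sub_apply, Finset.sum_apply]
      rw [Hs.hasseD_mul, Finset.Nat.sum_antidiagonal_eq_sum_range_succ_mk, Finset.sum_range_succ']
      simp only [Hs.hasseD_zero hH, Nat.sub_zero]
      ring
    simp only [this]
    apply Submodule.sum_mem
    intro a ha
    apply Submodule.smul_mem
    apply Submodule.subset_span
    refine ⟨j - (a + 1) + 1, ?_, rfl⟩
    simp only [Finset.mem_range] at ha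
    simp only [Set.mem_Iio]
    omega

theorem smul_change {n : ℕ} (τ : K →ₐ[k] K) {s : K} {H : K →ₐ[k] PowerSeries K}
    (hH : IsHasseFamily s H) (φ : Fin (n + 1) → K) (y : K) (hy : y ≠ 0) :
    (∀ J : Fin n → ℕ, IsOrders K (hcol τ H (y • φ)) J ↔ IsOrders K (hcol τ H φ) J) ∧
    ∀ J : Fin n → ℕ, IsOrders K (hcol τ H φ) J →
      (wrMat τ H (y • φ) J).det = τ y * y ^ n * (wrMat τ H φ J).det := by
  have hu : ∀ m : ℕ, uSm (τ y) y m ≠ 0 := by
    intro m
    cases m with
    | zero => simpa using hy
    | succ j => simpa using hy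
  constructor
  · intro J
    exact isOrders_tri (hcol τ H φ) (hcol τ H (y • φ)) _ hu (hcol_smul_tri τ hH φ y) J
  · intro J hJ
    rw [wrMat_det_eq_sel, wrMat_det_eq_sel,
      det_sel_tri (hcol τ H φ) (hcol τ H (y • φ)) _ (hcol_smul_tri τ hH φ y) J hJ]
    simp

end WrMat

end Groth.Agent.Helper5.Wr
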