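import Groth.Agent.Helper5.HasseChain
import Groth.Agent.Helper5.WrTri

set_option autoImplicit false

namespace Groth.Agent.Helper5.Wr
open FunFld LocRes

variable {k K : Type*} [Field k] [Field K] [Algebra k K]

/-- the sequence `1, x^0, x^1, x^2, …` -/
def uPow (x : K) : ℕ → K
  | 0 => 1
  | j + 1 => x ^ j

omit [Field k] [Algebra k K] in
@[simp] theorem uPow_zero (x : K) : uPow x 0 = 1 := rfl
omit [Field k] [Algebra k K] in
@[simp] theorem uPow_succ (x : K) (j : ℕ) : uPow x (j + 1) = x ^ j := rfl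

theorem hcol_var_tri (hK : IsFunctionField k K) {n : ℕ} (τ : K →ₐ[k] K) {s t : K}
    {Hs Ht : K →ₐ[k] PowerSeries K}
    (hHs : IsHasseFamily s Hs) (hHt : IsHasseFamily t Ht) (φ : Fin (n + 1) → K) (m : ℕ) :
    hcol τ Ht φ m - uPow (hasseD Ht 1 s) m • hcol τ Hs φ m ∈
      Submodule.span K (hcol τ Hs φ '' Set.Iio m) := by
  cases m with
  | zero =>
    have : hcol τ Ht φ 0 - (1 : K) • hcol τ Hs φ 0 = 0 := by
      funext i
      simp [hcol]
    rw [uPow_zero, this]
    exact Submodule.zero_mem _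
  | succ j =>
    rw [uPow_succ]
    have hθ : PowerSeries.constantCoeff (Ht s - PowerSeries.C s) = 0 := by
      rw [map_sub, hHt.2 s, PowerSeries.constantCoeff_C, sub_self]
    have : hcol τ Ht φ (j + 1) - (hasseD Ht 1 s) ^ j • hcol τ Hs φ (j + 1) =
        ∑ d ∈ Finset.range j,
          PowerSeries.coeff j ((Ht s - PowerSeries.C s) ^ d) • hcol τ Hs φ (d + 1) := by
      funext i
      simp only [hcol, Pi.smul_apply, smul_eq_mul, Pi.sub_apply, Finset.sum_apply]
      rw [_root_.Groth.Agent.Helper5.Hs.hasseD_chain hK hHs hHt (φ i) j, Finset.sum_range_succ,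
        _root_.Groth.Agent.Helper5.Hs.coeff_pow_of_constantCoeff_zero hθ j j, if_neg (lt_irrefl _), if_pos rfl]
      have h1 : PowerSeries.coeff 1 (Ht s - PowerSeries.C s) = hasseD Ht 1 s := by
        rw [hasseD_apply, map_sub, PowerSeries.coeff_C, if_neg one_ne_zero, sub_zero]
      rw [h1]
      have h2 : ∀ d ∈ Finset.range j, hasseD Hs d (φ i) *
          PowerSeries.coeff j ((Ht s - PowerSeries.C s) ^ d) =
          PowerSeries.coeff j ((Ht s - PowerSeries.C s) ^ d) * hasseD Hs d (φ i) :=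
        fun d _ => mul_comm _ _
      rw [Finset.sum_congr rfl h2]
      ring
    rw [this]
    apply Submodule.sum_mem
    intro d hd
    apply Submodule.smul_mem
    apply Submodule.subset_span
    refine ⟨d + 1, ?_, rfl⟩
    simp only [Finset.mem_range] at hd
    simp only [Set.mem_Iio]
    omega

theorem var_change (hK : IsFunctionField k K) {n : ℕ} (τ : K →ₐ[k] K) {s t : K}
    {Hs Ht : K →ₐ[k] PowerSeries K}
    (hHs : IsHasseFamily s Hs) (hHt : IsHasseFamily t Ht) (φ : Fin (n + 1) → K) :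
    (∀ J : Fin n → ℕ, IsOrders K (hcol τ Ht φ) J ↔ IsOrders K (hcol τ Hs φ) J) ∧
    ∀ J : Fin n → ℕ, IsOrders K (hcol τ Hs φ) J →
      (wrMat τ Ht φ J).det = hasseD Ht 1 s ^ (∑ l, J l) * (wrMat τ Hs φ J).det := by
  have hne := _root_.Groth.Agent.Helper5.Hs.hasseD_one_ne_zero hK hHs hHt
  have hu : ∀ m : ℕ, uPow (hasseD Ht 1 s) m ≠ 0 := by
    intro m
    cases m with
    | zero => simp
    | succ j => simpa using pow_ne_zero j hne
  constructor
  · intro J
    exact isOrders_tri (hcol τ Hs φ) (hcol τ Ht φ) _ hu (hcol_var_tri hK τ hHs hHt φ) J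
  · intro J hJ
    rw [wrMat_det_eq_sel, wrMat_det_eq_sel,
      det_sel_tri (hcol τ Hs φ) (hcol τ Ht φ) _ (hcol_var_tri hK τ hHs hHt φ) J hJ]
    simp only [uPow_zero, uPow_succ, one_mul, Finset.prod_pow_eq_pow_sum]

end Groth.Agent.Helper5.Wr
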