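import Groth.Agent.Helper5.WrCanon
import Groth.Agent.Helper5.BinomDet
import Groth.Agent.Helper5.HasseExist
import Groth.Agent.Helper5.FFDeg
import Groth.Agent.Helper5.WrVar

set_option autoImplicit false

namespace Groth.Agent.Helper5.Wr
open FunFld LocRes

variable {k K : Type*} [Field k] [Field K] [Algebra k K]

/-- If the rows of an `N × ℕ` matrix are linearly independent, its columns span everything. -/
theorem span_cols_eq_top_of_rows_independent {κ : Type*} [Field κ] {N : ℕ}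
    (r : Fin N → ℕ → κ) (hr : LinearIndependent κ r) :
    Submodule.span κ (Set.range fun j : ℕ => (fun i => r i j : Fin N → κ)) = ⊤ := by
  by_contra hne
  have hlt : Submodule.span κ (Set.range fun j : ℕ => (fun i => r i j : Fin N → κ)) < ⊤ :=
    lt_top_iff_ne_top.mpr hne
  obtain ⟨f, hf0, hf⟩ := Submodule.exists_le_ker_of_lt_top _ hlt
  apply hf0
  have hrel : ∑ i, f (Pi.single i 1) • r i = 0 := by
    funext j
    have h1 : (fun i => r i j : Fin N → κ) ∈ LinearMap.ker f :=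
      hf (Submodule.subset_span ⟨j, rfl⟩)
    rw [LinearMap.mem_ker, LinearMap.pi_apply_eq_sum_univ] at h1
    rw [Finset.sum_apply, Pi.zero_apply, ← h1]
    apply Finset.sum_congr rfl
    intro i _
    rw [Pi.smul_apply, smul_eq_mul, smul_eq_mul, mul_comm]
    congr 2
    funext j'
    simp [Pi.single_apply, eq_comm]
  have h2 := (Fintype.linearIndependent_iff.mp hr) _ hrel
  apply LinearMap.ext
  intro v
  rw [LinearMap.pi_apply_eq_sum_univ, LinearMap.zero_apply]
  apply Finset.sum_eq_zero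
  intro i _
  have h3 := h2 i
  have h4 : (fun j : Fin N => if i = j then (1 : κ) else 0) = Pi.single i 1 := by
    funext j'
    simp [Pi.single_apply, eq_comm]
  rw [h4, h3, smul_zero]

/-- existence of the orders at a place -/
theorem exists_isOrdersAt (hK : IsFunctionField k K) (P : Place k K) (hP : P.deg = 1) {n : ℕ}
    (φ : Fin (n + 1) → K) (hφ : LinearIndependent k φ)
    (heff : (1 : K) ∈ Submodule.span k (Set.range φ)) (hnorm : ∀ i, P.1 (φ i) ≤ 1)
    {t : K} (ht : P.1 t = WithZero.exp (-1 : ℤ))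
    {Ht : K →ₐ[k] PowerSeries K} (hHt : IsHasseFamily t Ht) :
    ∃ J' : Fin n → ℕ, IsOrders (IsLocalRing.ResidueField P.O) (hcolAt P Ht φ) J' := by
  have hc0 : hcolAt P Ht φ 0 ≠ 0 := by
    intro h
    obtain ⟨i, hi⟩ := exists_val_eq_one_of_eff P φ heff hnorm
    have h1 := congrFun h i
    simp only [hcolAt, Pi.zero_apply] at h1
    exact evalP_ne_zero_of_val_eq_one P hi h1
  have htop : Submodule.span (IsLocalRing.ResidueField P.O) (Set.range (hcolAt P Ht φ)) = ⊤ := by
    rw [eq_top_iff, ← span_cols_eq_top_of_rows_independent _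
      (linearIndependent_evalP_hasseD hK P hP φ hφ hnorm ht hHt)]
    apply Submodule.span_mono
    rintro _ ⟨j, rfl⟩
    exact ⟨j + 1, rfl⟩
  have hdim : Module.finrank (IsLocalRing.ResidueField P.O)
      (Fin (n + 1) → IsLocalRing.ResidueField P.O) = n + 1 := by simp
  obtain ⟨J, hJ, -⟩ := exists_orders (R := IsLocalRing.ResidueField P.O) (hcolAt P Ht φ) hc0 htop hdim
  exact ⟨J, hJ⟩

/-- normalising a tuple at a place -/
theorem exists_normalizer (P : Place k K) {n : ℕ} (φ : Fin (n + 1) → K)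
    (hφ0 : ∀ i, φ i ≠ 0) :
    ∃ y : K, y ≠ 0 ∧ (1 : K) ∈ Submodule.span k (Set.range (y • φ)) ∧
      ∀ i, P.1 ((y • φ) i) ≤ 1 := by
  obtain ⟨i₀, -, hi₀⟩ := Finset.exists_max_image Finset.univ (fun i => P.1 (φ i))
    Finset.univ_nonempty
  refine ⟨(φ i₀)⁻¹, inv_ne_zero (hφ0 i₀), ?_, ?_⟩
  · apply Submodule.subset_span
    refine ⟨i₀, ?_⟩
    rw [Pi.smul_apply, smul_eq_mul, inv_mul_cancel₀ (hφ0 i₀)]
  · intro i
    rw [Pi.smul_apply, smul_eq_mul, map_mul, map_inv₀]
    have h0 : P.1 (φ i₀) ≠ 0 := (P.1.ne_zero_iff).mpr (hφ0 i₀)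
    rw [← div_eq_inv_mul]
    exact (div_le_one₀ (zero_lt_iff.mpr h0)).mpr (hi₀ i (Finset.mem_univ i))

theorem span_le_L_mapDiv (hK : IsFunctionField k K) {ι : Type*} [Fintype ι] [Nonempty ι]
    (φ : ι → K) : Submodule.span k (Set.range φ) ≤ L (mapDiv k φ) := by
  rw [Submodule.span_le]
  rintro _ ⟨i, rfl⟩
  by_cases h0 : φ i = 0
  · rw [h0]; exact Submodule.zero_mem _
  · show φ i ∈ L (mapDiv k φ)
    rw [FF.mem_L_iff_ord _ h0]
    intro Q
    rw [FG.mapDiv_apply hK.1, neg_neg]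
    exact Finset.inf'_le _ (Finset.mem_univ i)

theorem ord_le_deg_of_mem_L (hK : IsFunctionField k K) (P : Place k K) (hP : P.deg = 1)
    (D : Divisor k K) (hDP : D P = 0) {f : K} (hf0 : f ≠ 0) (hf : f ∈ L D) :
    P.ord f ≤ D.deg := by
  classical
  set E : Divisor k K := FunFld.div k f + D with hE
  have hE0 : ∀ Q, 0 ≤ E Q := by
    intro Q
    have := (FF.mem_L_iff_ord D hf0).mp hf Q
    rw [hE, Finsupp.add_apply, FF.div_apply hK]
    omega
  have hEdeg : E.deg = D.deg := by rw [hE, FF.deg_add, FF.deg_div hK, zero_add]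
  have hEP : E P = P.ord f := by rw [hE, Finsupp.add_apply, FF.div_apply hK, hDP, add_zero]
  have h1 : (0 : Divisor k K) ≤ E - Finsupp.single P (E P) := by
    intro Q
    rw [Finsupp.sub_apply, Finsupp.single_apply]
    split_ifs with h
    · subst h; simp
    · simpa using hE0 Q
  have h2 := FF.deg_nonneg h1
  rw [FF.deg_sub, FF.deg_single, hP, hEdeg, hEP] at h2
  simpa using h2

theorem mapDiv_smul (hK : IsFunctionField k K) {ι : Type*} [Fintype ι] [Nonempty ι]
    (φ : ι → K) (hφ0 : ∀ i, φ i ≠ 0) (y : K) (hy : y ≠ 0) :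
    mapDiv k (y • φ) = mapDiv k φ - FunFld.div k y := by
  ext Q
  rw [Finsupp.sub_apply, FG.mapDiv_apply hK.1, FG.mapDiv_apply hK.1, FF.div_apply hK]
  have : ∀ i, Q.ord ((y • φ) i) = Q.ord y + Q.ord (φ i) := by
    intro i
    rw [Pi.smul_apply, smul_eq_mul, FF.ord_mul Q hy (hφ0 i)]
  simp only [this]
  have h2 := Finset.apply_inf'_eq_inf'_comp (s := (Finset.univ : Finset ι)) Finset.univ_nonempty
    (f := fun i => Q.ord (φ i)) (fun x : ℤ => Q.ord y + x) (fun x z => (min_add_add_left _ _ _).symm)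
  simp only [Function.comp_def] at h2
  rw [← h2]
  ring

theorem deg_mapDiv_smul (hK : IsFunctionField k K) {ι : Type*} [Fintype ι] [Nonempty ι]
    (φ : ι → K) (hφ0 : ∀ i, φ i ≠ 0) (y : K) (hy : y ≠ 0) :
    (mapDiv k (y • φ)).deg = (mapDiv k φ).deg := by
  rw [mapDiv_smul hK φ hφ0 y hy, FF.deg_sub, FF.deg_div hK, sub_zero]

/-- the orders at `P` are bounded by the degree of the map -/
theorem ordersAt_le_deg (hK : IsFunctionField k K) (P : Place k K) (hP : P.deg = 1) {n : ℕ}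
    (φ : Fin (n + 1) → K)
    (heff : (1 : K) ∈ Submodule.span k (Set.range φ)) (hnorm : ∀ i, P.1 (φ i) ≤ 1)
    {t : K} (ht : P.1 t = WithZero.exp (-1 : ℤ))
    {Ht : K →ₐ[k] PowerSeries K} (hHt : IsHasseFamily t Ht)
    (J' : Fin n → ℕ) (hJ' : IsOrders (IsLocalRing.ResidueField P.O) (hcolAt P Ht φ) J') (l : Fin n) :
    (J' l : ℤ) ≤ (mapDiv k φ).deg := by
  obtain ⟨-, f, hf, hv⟩ := (isJump_hcolAt_iff hK P hP ht hHt φ hnorm (J' l)).mp
    ((hJ'.2 (J' l)).mp ⟨l, rfl⟩)
  have hf0 : f ≠ 0 := by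
    rintro rfl
    rw [map_zero] at hv
    exact WithZero.exp_ne_zero hv.symm
  have hord : P.ord f = J' l := by
    have := FF.ord_eq_of_val_eq P hv
    omega
  rw [← hord]
  exact ord_le_deg_of_mem_L hK P hP _
    (mapDiv_apply_eq_zero hK P φ hnorm (exists_val_eq_one_of_eff P φ heff hnorm)) hf0
    (span_le_L_mapDiv hK φ hf)

end Groth.Agent.Helper5.Wr
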