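import Groth.Agent.Helper5.WrClassical
import Groth.Agent.Helper5.FFAdele2

set_option autoImplicit false

namespace Groth.Agent.Helper5.Wr
open FunFld LocRes

variable {k K : Type*} [Field k] [Field K] [Algebra k K]

theorem linearIndependent_smul {ι : Type*} (φ : ι → K) (hφ : LinearIndependent k φ) (y : K)
    (hy : y ≠ 0) : LinearIndependent k (y • φ) := by
  have h := hφ.map' (LinearMap.mulLeft k y)
    (LinearMap.ker_eq_bot.mpr (mul_right_injective₀ hy))
  exact h

/-- existence of a Hasse family for a local parameter, given some Hasse family -/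
theorem exists_isHasseFamily_local (hK : IsFunctionField k K) (P : Place k K) (hP : P.deg = 1)
    {s : K} {Hs : K →ₐ[k] PowerSeries K} (hHs : IsHasseFamily s Hs) :
    ∃ (t : K) (Ht : K →ₐ[k] PowerSeries K), P.1 t = WithZero.exp (-1 : ℤ) ∧ IsHasseFamily t Ht := by
  obtain ⟨t, ht⟩ := P.2.2 (WithZero.exp (-1 : ℤ))
  obtain ⟨Ht, hHt⟩ := _root_.Groth.Agent.Helper5.Hs.exists_isHasseFamily_of_hasseD_one_ne_zero hHs
    (_root_.Groth.Agent.Helper5.Hs.hasseD_one_ne_zero_of_expansion hK (Ex.Φ P hP ht)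
      (Ex.Φ_t P hP ht) hHs)
  exact ⟨t, Ht, ht, hHt⟩

theorem orders_le_of_binom (hK : IsFunctionField k K) (P : Place k K) (hP : P.deg = 1)
    (τ : K →ₐ[k] K) (hfix : IsFixedPt τ P) {n : ℕ}
    (φ : Fin (n + 1) → K) (hφ : LinearIndependent k φ) (p : ℕ)
    (hchar : p = 0 ∨ (mapDiv k φ).deg < p)
    {s : K} {Hs : K →ₐ[k] PowerSeries K} (hHs : IsHasseFamily s Hs)
    (I : Fin n → ℕ) (hImono : StrictMono I)
    (hIcond : (∀ l, 0 < I l) ∨ IsStrongFixedPt τ P)
    (hbin : ∀ J' : Fin n → ℕ, StrictMono J' → (∀ l, 0 < J' l) → (p = 0 ∨ ∀ l, J' l < p) →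
      (binomMat k J' I).det ≠ 0)
    (J : Fin n → ℕ) (hJ : IsOrders K (hcol τ Hs φ) J) : ∀ l, J l ≤ I l := by
  obtain ⟨t, Ht, ht, hHt⟩ := exists_isHasseFamily_local hK P hP hHs
  have hφ0 : ∀ i, φ i ≠ 0 := fun i => hφ.ne_zero i
  obtain ⟨y, hy, heff, hnorm⟩ := exists_normalizer (k := k) P φ hφ0
  have hψ := linearIndependent_smul φ hφ y hy
  obtain ⟨J', hJ'⟩ := exists_isOrdersAt hK P hP (y • φ) hψ heff hnorm ht hHt
  have hpos := one_le_ordersAt hK P hP (y • φ) hnorm ht hHt J' hJ'
  have hbound : p = 0 ∨ ∀ l, J' l < p := by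
    rcases hchar with h | h
    · exact Or.inl h
    · right
      intro l
      have h1 := ordersAt_le_deg hK P hP (y • φ) heff hnorm ht hHt J' hJ' l
      rw [deg_mapDiv_smul hK φ hφ0 y hy] at h1
      have : (J' l : ℤ) < p := lt_of_le_of_lt h1 h
      exact_mod_cast this
  obtain ⟨-, h2⟩ := val_det_wrMat hK P hP τ hfix (y • φ) hψ heff hnorm ht hHt J' hJ' I
  have h3 := (h2 hIcond).mpr (hbin J' hJ'.1 hpos hbound)
  have hdet : (wrMat τ Ht (y • φ) I).det ≠ 0 := by
    intro h0
    rw [h0, map_zero] at h3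
    exact WithZero.exp_ne_zero h3.symm
  have hJψ : IsOrders K (hcol τ Ht (y • φ)) J := by
    rw [(smul_change τ hHt φ y hy).1 J, (var_change hK τ hHs hHt φ).1 J]
    exact hJ
  exact orders_le (hcol τ Ht (y • φ)) J I hJψ hImono
    (linearIndependent_selCols_of_det_ne_zero _ Ht (y • φ) I hdet)

theorem add_le_of_strictMono {n : ℕ} (J : Fin n → ℕ) (hJ : StrictMono J) (c : ℕ)
    (h0 : ∀ l, c ≤ J l) : ∀ l : Fin n, (l : ℕ) + c ≤ J l := by
  rintro ⟨m, hm⟩
  induction m with
  | zero => simpa using h0 ⟨0, hm⟩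
  | succ m ih =>
    have h1 := ih (by omega)
    have h2 : J ⟨m, by omega⟩ < J ⟨m + 1, hm⟩ := hJ (by simp [Fin.lt_def])
    show m + 1 + c ≤ J ⟨m + 1, hm⟩
    simp only at h1
    omega

theorem isOrders_classical (hK : IsFunctionField k K) [IsAlgClosed k] {n : ℕ}
    (φ : Fin (n + 1) → K) (hφ : LinearIndependent k φ) (p : ℕ) [CharP k p]
    (hchar : p = 0 ∨ (mapDiv k φ).deg < p)
    (τ : K →ₐ[k] K) {s : K} {H : K →ₐ[k] PowerSeries K} (hH : IsHasseFamily s H) :
    (τ = AlgHom.id k K → IsOrders K (hcol τ H φ) (fun l : Fin n => (l : ℕ) + 1)) ∧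
    ((∃ P : Place k K, IsStrongFixedPt τ P) →
      IsOrders K (hcol τ H φ) (fun l : Fin n => (l : ℕ))) := by
  obtain ⟨J, hJ, -⟩ := exists_isOrders_det_ne_zero hK hH φ hφ τ
  constructor
  · intro hτ
    subst hτ
    obtain ⟨P⟩ := FF.nonempty_place hK
    have hP := FF.deg_eq_one_of_isAlgClosed hK P
    have hle := orders_le_of_binom hK P hP (AlgHom.id k K) (isFixedPt_id P) φ hφ p hchar hH
      (fun l : Fin n => (l : ℕ) + 1) (fun a b hab => by simpa using hab)
      (Or.inl fun l => Nat.succ_pos _)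
      (fun J' hJ'mono hJ'pos hJ'p => by
        apply BinomDet.det_choose_succ_ne_zero (k := k) J'
        apply BinomDet.natCast_injective_of_lt p
        · rw [Fin.cons_injective_iff]
          refine ⟨?_, hJ'mono.injective⟩
          rintro ⟨l, hl⟩
          have := hJ'pos l
          omega
        · rcases Nat.eq_zero_or_pos p with hp0 | hp0
          · exact Or.inl hp0
          · rcases hJ'p with h | h
            · exact Or.inl h
            · right
              intro i
              refine Fin.cases ?_ (fun a => ?_) i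
              · simpa using hp0
              · simpa using h a) J hJ
    have hge := add_le_of_strictMono J hJ.1 1 (pos_of_isOrders_id hH φ J hJ)
    have : J = fun l : Fin n => (l : ℕ) + 1 := funext fun l => le_antisymm (hle l) (hge l)
    rw [← this]
    exact hJ
  · rintro ⟨P, hstrong⟩
    have hP := FF.deg_eq_one_of_isAlgClosed hK P
    have hle := orders_le_of_binom hK P hP τ (isFixedPt_of_isStrongFixedPt hstrong) φ hφ p hchar hH
      (fun l : Fin n => (l : ℕ)) (fun a b hab => by simpa using hab)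
      (Or.inr hstrong)
      (fun J' hJ'mono hJ'pos hJ'p => by
        apply BinomDet.det_choose_ne_zero (k := k) J'
        exact BinomDet.natCast_injective_of_lt p J' hJ'mono.injective hJ'p) J hJ
    have hge := add_le_of_strictMono J hJ.1 0 (fun l => Nat.zero_le _)
    have : J = fun l : Fin n => (l : ℕ) := funext fun l => le_antisymm (hle l) (by simpa using hge l)
    rw [← this]
    exact hJ

end Groth.Agent.Helper5.Wr
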