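import Groth.Agent.Helper5.WrLocal3

set_option autoImplicit false

namespace Groth.Agent.Helper5.Wr
open FunFld LocRes

variable {k K : Type*} [Field k] [Field K] [Algebra k K]

theorem exp_sum {ι : Type*} (s : Finset ι) (f : ι → ℤ) :
    WithZero.exp (∑ i ∈ s, f i) = ∏ i ∈ s, WithZero.exp (f i) := by
  classical
  induction s using Finset.induction_on with
  | empty => simp
  | insert i s hi ih => rw [Finset.sum_insert hi, Finset.prod_insert hi, WithZero.exp_add, ih]

theorem val_zpow (P : Place k K) {t : K} (ht : P.1 t = WithZero.exp (-1 : ℤ)) (a : ℤ) :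
    P.1 (t ^ a) = WithZero.exp (-a) := by
  rw [map_zpow₀, ht, ← WithZero.exp_zsmul]
  simp

theorem evalP_eq_residue (P : Place k K) {z : K} (hz : P.1 z ≤ 1) :
    evalP P z = IsLocalRing.residue P.O ⟨z, (Valuation.mem_valuationSubring_iff P.1 z).mpr hz⟩ := by
  rw [evalP, dif_pos hz]

/-- The valuation of a determinant whose entries have weighted orders. -/
theorem det_weighted (P : Place k K) {t : K} (ht : P.1 t = WithZero.exp (-1 : ℤ)) {N : ℕ}
    (A : Matrix (Fin N) (Fin N) K) (a b : Fin N → ℤ)
    (hA : ∀ l s, P.1 (A l s) ≤ WithZero.exp (-(a l - b s))) :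
    P.1 A.det ≤ WithZero.exp (-(∑ l, a l - ∑ s, b s)) ∧
    (P.1 A.det = WithZero.exp (-(∑ l, a l - ∑ s, b s)) ↔
      (Matrix.of fun l s => evalP P (A l s * t ^ (-(a l - b s)))).det ≠ 0) := by
  have ht0 : t ≠ 0 := by
    rintro rfl
    rw [map_zero] at ht
    exact WithZero.exp_ne_zero ht.symm
  have hB : ∀ l s, P.1 (A l s * t ^ (-(a l - b s))) ≤ 1 := by
    intro l s
    rw [map_mul, val_zpow P ht, neg_neg]
    calc P.1 (A l s) * WithZero.exp (a l - b s)
        ≤ WithZero.exp (-(a l - b s)) * WithZero.exp (a l - b s) := mul_le_mul' (hA l s) le_rfl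
      _ = 1 := by rw [← WithZero.exp_add]; simp
  let B' : Matrix (Fin N) (Fin N) P.O := Matrix.of fun l s =>
    ⟨A l s * t ^ (-(a l - b s)), (Valuation.mem_valuationSubring_iff P.1 _).mpr (hB l s)⟩
  let B : Matrix (Fin N) (Fin N) K := Matrix.of fun l s => A l s * t ^ (-(a l - b s))
  have hBB' : B = B'.map (algebraMap P.O K) := by
    apply Matrix.ext; intro l s; rfl
  have hdetB : B.det = ((B'.det : P.O) : K) := by
    rw [hBB']
    exact (RingHom.map_det (algebraMap P.O K) B').symm
  have hAB : A = Matrix.of fun l s => t ^ (a l) * (Matrix.of fun l' s' => t ^ (-(b s')) * B l' s') l s := by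
    apply Matrix.ext; intro l s
    simp only [Matrix.of_apply, B]
    have : t ^ a l * (t ^ (-b s) * (A l s * t ^ (-(a l - b s)))) =
        A l s * (t ^ a l * t ^ (-b s) * t ^ (-(a l - b s))) := by ring
    rw [this, ← zpow_add₀ ht0, ← zpow_add₀ ht0]
    have : a l + -b s + -(a l - b s) = 0 := by ring
    rw [this, zpow_zero, mul_one]
  have hdetA : A.det = (∏ l, t ^ (a l)) * ((∏ s, t ^ (-(b s))) * B.det) := by
    conv_lhs => rw [hAB]
    rw [Matrix.det_mul_column, Matrix.det_mul_row]
  have hval : P.1 A.det = WithZero.exp (-(∑ l, a l - ∑ s, b s)) * P.1 B.det := by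
    rw [hdetA, map_mul, map_mul, map_prod, map_prod]
    simp only [val_zpow P ht]
    rw [← mul_assoc, ← exp_sum, ← exp_sum, ← WithZero.exp_add]
    congr 2
    simp only [Finset.sum_neg_distrib, neg_neg]
    ring
  have hdetle : P.1 B.det ≤ 1 := by
    rw [hdetB]
    exact (Valuation.mem_valuationSubring_iff P.1 _).mp (B'.det).2
  have hres : IsLocalRing.residue P.O B'.det =
      (Matrix.of fun l s => evalP P (A l s * t ^ (-(a l - b s)))).det := by
    rw [RingHom.map_det]
    congr 1
    apply Matrix.ext; intro l s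
    simp only [RingHom.mapMatrix_apply, Matrix.map_apply, Matrix.of_apply, B']
    rw [evalP_eq_residue P (hB l s)]
  constructor
  · rw [hval]
    calc WithZero.exp (-(∑ l, a l - ∑ s, b s)) * P.1 B.det
        ≤ WithZero.exp (-(∑ l, a l - ∑ s, b s)) * 1 := mul_le_mul' le_rfl hdetle
      _ = _ := mul_one _
  · rw [hval, ← hres, ne_eq, FF.residue_eq_zero_iff, ← hdetB, not_lt]
    constructor
    · intro h
      have h1 : P.1 B.det = 1 := by
        have h2 := mul_left_cancel₀ WithZero.exp_ne_zero (h.trans (mul_one _).symm)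
        exact h2
      exact h1.ge
    · intro h
      rw [le_antisymm hdetle h, mul_one]

end Groth.Agent.Helper5.Wr
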