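import Groth.Agent.Helper5.WrDet

set_option autoImplicit false

namespace Groth.Agent.Helper5.Wr
open FunFld LocRes

variable {k K : Type*} [Field k] [Field K] [Algebra k K]

theorem evalP_eq_algebraMap_iff (P : Place k K) {z : K} (hz : P.1 z ≤ 1) (c : k) :
    evalP P z = algebraMap k (IsLocalRing.ResidueField P.O) c ↔ P.1 (z - algebraMap k K c) < 1 := by
  rw [evalP_eq_residue P hz]
  have h1 : algebraMap k (IsLocalRing.ResidueField P.O) c =
      IsLocalRing.residue P.O (algebraMap k P.O c) := rfl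
  rw [h1, ← sub_eq_zero, ← map_sub, FF.residue_eq_zero_iff]
  rfl

theorem val_tau_le_one (P : Place k K) (hP : P.deg = 1) (τ : K →ₐ[k] K) (hfix : IsFixedPt τ P)
    {y : K} (hy : P.1 y ≤ 1) : P.1 (τ y) ≤ 1 ∧ evalP P (τ y) = evalP P y := by
  obtain ⟨c, hc⟩ := FF.exists_const_of_deg_one P hP hy
  have h1 : P.1 (τ y - algebraMap k K c) < 1 := by
    have := hfix _ hc
    rwa [map_sub, τ.commutes] at this
  have h2 : P.1 (τ y) ≤ 1 := by
    have : τ y = (τ y - algebraMap k K c) + algebraMap k K c := by ring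
    rw [this]
    exact (Valuation.map_add _ _ _).trans (max_le h1.le (P.2.1 c))
  refine ⟨h2, ?_⟩
  rw [(evalP_eq_algebraMap_iff P h2 c).mpr h1, (evalP_eq_algebraMap_iff P hy c).mpr hc]

theorem val_tau_le (P : Place k K) (hP : P.deg = 1) (τ : K →ₐ[k] K) (hfix : IsFixedPt τ P)
    {t : K} (ht : P.1 t = WithZero.exp (-1 : ℤ)) {y : K} (j : ℕ)
    (hy : P.1 y ≤ WithZero.exp (-(j : ℤ))) : P.1 (τ y) ≤ WithZero.exp (-(j : ℤ)) := by
  have ht0 : t ≠ 0 := by
    rintro rfl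
    rw [map_zero] at ht
    exact WithZero.exp_ne_zero ht.symm
  have hu : P.1 (y / t ^ j) ≤ 1 := by
    rw [map_div₀, Ex.val_t_pow P ht, div_le_iff₀ (by simp), one_mul]
    exact hy
  have h1 : y = t ^ j * (y / t ^ j) := by field_simp
  have h2 : P.1 (τ t) ≤ WithZero.exp (-1 : ℤ) := by
    apply FF.le_exp_neg_one_of_lt_one
    apply hfix
    rw [ht]
    exact WithZero.exp_lt_exp.mpr (by norm_num) |>.trans_eq WithZero.exp_zero
  rw [h1, map_mul, map_pow, map_mul, map_pow]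
  calc P.1 (τ t) ^ j * P.1 (τ (y / t ^ j)) ≤ WithZero.exp (-1 : ℤ) ^ j * 1 :=
        mul_le_mul' (pow_le_pow_left' h2 j) (val_tau_le_one P hP τ hfix hu).1
    _ = WithZero.exp (-(j : ℤ)) := by
        rw [mul_one, ← WithZero.exp_nsmul]; simp

theorem isFixedPt_of_isStrongFixedPt {τ : K →ₐ[k] K} {P : Place k K} (h : IsStrongFixedPt τ P) :
    IsFixedPt τ P := by
  intro z hz
  exact lt_of_le_of_lt (h z hz) (WithZero.exp_lt_exp.mpr (by norm_num) |>.trans_eq WithZero.exp_zero)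

theorem val_tau_le_strong (P : Place k K) (hP : P.deg = 1) (τ : K →ₐ[k] K)
    (hfix : IsStrongFixedPt τ P)
    {t : K} (ht : P.1 t = WithZero.exp (-1 : ℤ)) {y : K} (j : ℕ)
    (hy : P.1 y ≤ WithZero.exp (-(j : ℤ))) : P.1 (τ y) ≤ WithZero.exp (-(2 * j : ℤ)) := by
  have ht0 : t ≠ 0 := by
    rintro rfl
    rw [map_zero] at ht
    exact WithZero.exp_ne_zero ht.symm
  have hu : P.1 (y / t ^ j) ≤ 1 := by
    rw [map_div₀, Ex.val_t_pow P ht, div_le_iff₀ (by simp), one_mul]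
    exact hy
  have h1 : y = t ^ j * (y / t ^ j) := by field_simp
  have h2 : P.1 (τ t) ≤ WithZero.exp (-2 : ℤ) := by
    apply hfix
    rw [ht]
    exact WithZero.exp_lt_exp.mpr (by norm_num) |>.trans_eq WithZero.exp_zero
  rw [h1, map_mul, map_pow, map_mul, map_pow]
  calc P.1 (τ t) ^ j * P.1 (τ (y / t ^ j)) ≤ WithZero.exp (-2 : ℤ) ^ j * 1 :=
        mul_le_mul' (pow_le_pow_left' h2 j)
          (val_tau_le_one P hP τ (isFixedPt_of_isStrongFixedPt hfix) hu).1
    _ = WithZero.exp (-(2 * j : ℤ)) := by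
        rw [mul_one, ← WithZero.exp_nsmul]; congr 1; simp; ring

end Groth.Agent.Helper5.Wr
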