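import Groth.Agent.Helper5.WrInvar2

set_option autoImplicit false

namespace Groth.Agent.Helper5.Wr
open FunFld LocRes
open scoped IntermediateField

universe u v
variable {k : Type u} {K : Type v} [Field k] [Field K] [Algebra k K]

theorem orders_le_ordersAt_fix (hK : IsFunctionField k K) (P : Place k K) (hP : P.deg = 1)
    (τ : K →ₐ[k] K) (hfix : IsFixedPt τ P) {n : ℕ}
    (φ : Fin (n + 1) → K) (hφ : LinearIndependent k φ)
    (heff : (1 : K) ∈ Submodule.span k (Set.range φ)) (hnorm : ∀ i, P.1 (φ i) ≤ 1)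
    {t : K} (ht : P.1 t = WithZero.exp (-1 : ℤ))
    {Ht : K →ₐ[k] PowerSeries K} (hHt : IsHasseFamily t Ht)
    (J : Fin n → ℕ) (hJ : IsOrders K (hcol τ Ht φ) J)
    (J' : Fin n → ℕ) (hJ' : IsOrders (IsLocalRing.ResidueField P.O) (hcolAt P Ht φ) J') :
    ∀ l, J l ≤ J' l := by
  have hpos := one_le_ordersAt hK P hP φ hnorm ht hHt J' hJ'
  obtain ⟨-, h2⟩ := val_det_wrMat hK P hP τ hfix φ hφ heff hnorm ht hHt J' hJ' J'
  have h3 := (h2 (Or.inl hpos)).mpr (by rw [det_binomMat_self J' hJ'.1]; exact one_ne_zero)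
  have hdet : (wrMat τ Ht φ J').det ≠ 0 := by
    intro h0
    rw [h0, map_zero] at h3
    exact WithZero.exp_ne_zero h3.symm
  exact orders_le (hcol τ Ht φ) J J' hJ hJ'.1
    (linearIndependent_selCols_of_det_ne_zero _ Ht φ J' hdet)

theorem wDiv_pos_of_isFixedPt [IsAlgClosed k] (hK : IsFunctionField k K) {n : ℕ}
    (φ : Fin (n + 1) → K) (hφ : LinearIndependent k φ)
    (h0 : φ 0 ≠ 0) (hbir : IntermediateField.adjoin k (Set.range fun i => φ i / φ 0) = ⊤)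
    (τ : K →ₐ[k] K) (hτ : τ ≠ AlgHom.id k K) (P : Place k K) (hfix : IsFixedPt τ P)
    {s : K} {H : K →ₐ[k] PowerSeries K} (hH : IsHasseFamily s H)
    (J : Fin n → ℕ) (hJ : IsOrders K (hcol τ H φ) J)
    (Φ : Place k K → (K →ₐ[k] LaurentSeries k))
    (hΦ : ∀ P : Place k K, IsExpansionAt P.1 (Φ P)) :
    0 < wDiv τ H Φ s φ J P := by
  have hP := FF.deg_eq_one_of_isAlgClosed hK P
  obtain ⟨t, Ht, ht, hHt⟩ := exists_isHasseFamily_local hK P hP hH
  have hφ0 : ∀ i, φ i ≠ 0 := fun i => hφ.ne_zero i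
  obtain ⟨y, hy, heff, hnorm⟩ := exists_normalizer (k := k) P φ hφ0
  have hψ := linearIndependent_smul φ hφ y hy
  have hinv := wDiv_eq_of_equiv hK φ hφ τ hH hHt J hJ (1 : Matrix (Fin (n + 1)) (Fin (n + 1)) k)
    (by rw [Matrix.det_one]; exact one_ne_zero) y hy (y • φ)
    (fun i => by simp [Matrix.one_apply]) Φ hΦ
  rw [← hinv]
  have hJψ : IsOrders K (hcol τ Ht (y • φ)) J := by
    rw [(smul_change τ hHt φ y hy).1 J, (var_change hK τ hH hHt φ).1 J]
    exact hJ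
  obtain ⟨J', hJ'⟩ := exists_isOrdersAt hK P hP (y • φ) hψ heff hnorm ht hHt
  have hpos := one_le_ordersAt hK P hP (y • φ) hnorm ht hHt J' hJ'
  have hle := orders_le_ordersAt_fix hK P hP τ hfix (y • φ) hψ heff hnorm ht hHt J hJψ J' hJ'
  obtain ⟨hsum, -⟩ := sum_sub_le_wDiv hK P hP τ hfix (y • φ) hψ heff hnorm ht hHt J hJψ J' hJ' Φ
    (hΦ P)
  refine lt_of_lt_of_le ?_ hsum
  -- the first `τ`-order is zero
  have hjump : IsJump K (hcol τ H φ) (0 + 1) := by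
    by_contra hnot
    exact hτ ((not_isJump_one_iff φ h0 hbir τ hH).mp hnot)
  obtain ⟨l, hl⟩ := (hJ.2 0).mpr hjump
  have hnn : ∀ l' ∈ Finset.univ, (0 : ℤ) ≤ (J' l' : ℤ) - J l' := fun l' _ => by
    have := hle l'; omega
  have h1 : (J' l : ℤ) - J l ≤ ∑ l', ((J' l' : ℤ) - J l') :=
    Finset.single_le_sum hnn (Finset.mem_univ l)
  have h2 := hpos l
  omega

end Groth.Agent.Helper5.Wr
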