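import Groth.Agent.Helper5.DiffFinite
import Groth.Agent.Helper5.WrClassical2

set_option autoImplicit false

namespace Groth.Agent.Helper5.Wr
open FunFld LocRes
open scoped IntermediateField

universe u v
variable {k : Type u} {K : Type v} [Field k] [Field K] [Algebra k K]

/-- the ball `{f | v_Q f ≤ exp d}` as a `k`-submodule -/
def valBall (Q : Place k K) (d : ℤ) : Submodule k K where
  carrier := {f | Q.1 f ≤ WithZero.exp d}
  add_mem' {x y} hx hy := (Q.1.map_add x y).trans (max_le hx hy)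
  zero_mem' := by simp
  smul_mem' c x hx := by
    show Q.1 (c • x) ≤ _
    rw [Algebra.smul_def, map_mul]
    exact (mul_le_mul' (Q.2.1 c) hx).trans_eq (one_mul _)

theorem mem_valBall (Q : Place k K) (d : ℤ) (f : K) :
    f ∈ valBall Q d ↔ Q.1 f ≤ WithZero.exp d := Iff.rfl

theorem mapDiv_apply_le_iff (hK : IsFunctionField k K) {ι : Type*} [Fintype ι] [Nonempty ι]
    (φ : ι → K) (hφ0 : ∀ i, φ i ≠ 0) (Q : Place k K) (d : ℤ) :
    mapDiv k φ Q ≤ d ↔ Submodule.span k (Set.range φ) ≤ valBall Q d := by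
  rw [FG.mapDiv_apply hK.1, Submodule.span_le, neg_le, Finset.le_inf'_iff]
  constructor
  · rintro h _ ⟨i, rfl⟩
    exact (FF.val_le_exp_iff Q (hφ0 i) d).mpr (h i (Finset.mem_univ i))
  · intro h i _
    exact (FF.val_le_exp_iff Q (hφ0 i) d).mp (h ⟨i, rfl⟩)

theorem mapDiv_eq_of_span_eq (hK : IsFunctionField k K) {ι : Type*} [Fintype ι] [Nonempty ι]
    (φ ψ : ι → K) (hφ0 : ∀ i, φ i ≠ 0) (hψ0 : ∀ i, ψ i ≠ 0)
    (hspan : Submodule.span k (Set.range φ) = Submodule.span k (Set.range ψ)) :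
    mapDiv k φ = mapDiv k ψ := by
  ext Q
  apply eq_of_forall_ge_iff
  intro d
  rw [mapDiv_apply_le_iff hK φ hφ0, mapDiv_apply_le_iff hK ψ hψ0, hspan]

theorem span_matrix_smul {n : ℕ} (φ ψ : Fin n → K) (A : Matrix (Fin n) (Fin n) k)
    (hA : A.det ≠ 0) (hψ : ∀ i, ψ i = ∑ j, A i j • φ j) :
    Submodule.span k (Set.range ψ) = Submodule.span k (Set.range φ) := by
  apply le_antisymm
  · rw [Submodule.span_le]
    rintro _ ⟨i, rfl⟩
    rw [hψ i]
    exact Submodule.sum_mem _ fun j _ =>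
      Submodule.smul_mem _ _ (Submodule.subset_span ⟨j, rfl⟩)
  · rw [Submodule.span_le]
    rintro _ ⟨j, rfl⟩
    have hinv : A⁻¹ * A = 1 := Matrix.nonsing_inv_mul A (Ne.isUnit hA)
    have h1 : φ j = ∑ i, A⁻¹ j i • ψ i := by
      simp only [hψ, Finset.smul_sum, smul_smul]
      rw [Finset.sum_comm]
      have : ∀ l, ∑ i, (A⁻¹ j i * A i l) • φ l = ((1 : Matrix (Fin n) (Fin n) k) j l) • φ l := by
        intro l
        rw [← Finset.sum_smul, ← hinv, Matrix.mul_apply]
      rw [Finset.sum_congr rfl fun l _ => this l, Finset.sum_eq_single j]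
      · rw [Matrix.one_apply_eq, one_smul]
      · intro l _ hl
        rw [Matrix.one_apply_ne (Ne.symm hl), zero_smul]
      · intro h; exact absurd (Finset.mem_univ _) h
    show φ j ∈ _
    rw [h1]
    exact Submodule.sum_mem _ fun i _ =>
      Submodule.smul_mem _ _ (Submodule.subset_span ⟨i, rfl⟩)

theorem linearIndependent_matrix_smul {n : ℕ} (φ ψ : Fin n → K) (hφ : LinearIndependent k φ)
    (A : Matrix (Fin n) (Fin n) k)
    (hA : A.det ≠ 0) (hψ : ∀ i, ψ i = ∑ j, A i j • φ j) : LinearIndependent k ψ := by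
  rw [linearIndependent_iff_card_eq_finrank_span, Set.finrank, span_matrix_smul φ ψ A hA hψ,
    finrank_span_eq_card hφ]

/-- the derivative of the expansion of a uniformising variable does not vanish -/
theorem D_expansion_ne_zero (hK : IsFunctionField k K) (P : Place k K) (Ψ : K →ₐ[k] LaurentSeries k)
    (hΨ : IsExpansionAt P.1 Ψ) {t : K} {Ht : K →ₐ[k] PowerSeries K} (hHt : IsHasseFamily t Ht) :
    LocRes.D k (Ψ t) ≠ 0 := by
  intro h0
  obtain ⟨π, hπ⟩ := P.2.2 (WithZero.exp (-1 : ℤ))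
  have h1 := val_D_of_val_eq k (Ψ π) (by rw [hΨ.1, hπ])
  rw [_root_.Groth.Agent.Helper5.Hs.D_expansion hK Ψ hHt π, h0, mul_zero, map_zero] at h1
  exact zero_ne_one h1

theorem ordDiff_chain (hK : IsFunctionField k K) (P : Place k K) (Ψ : K →ₐ[k] LaurentSeries k)
    (hΨ : IsExpansionAt P.1 Ψ) {s t : K} {Hs Ht : K →ₐ[k] PowerSeries K}
    (hHs : IsHasseFamily s Hs) (hHt : IsHasseFamily t Ht) :
    ordDiff Ψ 1 s = P.ord (hasseD Ht 1 s) + ordDiff Ψ 1 t := by
  have hne := _root_.Groth.Agent.Helper5.Hs.hasseD_one_ne_zero hK hHs hHt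
  have hD := D_expansion_ne_zero hK P Ψ hΨ hHt
  unfold ordDiff vDiff Place.ord
  rw [map_one, one_mul, one_mul, _root_.Groth.Agent.Helper5.Hs.D_expansion hK Ψ hHt s, map_mul,
    hΨ.1, WithZero.log_mul ((P.1.ne_zero_iff).mpr hne) ((Valuation.ne_zero_iff _).mpr hD)]
  ring

end Groth.Agent.Helper5.Wr
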