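import Groth.Agent.Helper5.WrInvar

set_option autoImplicit false

namespace Groth.Agent.Helper5.Wr
open FunFld LocRes
open scoped IntermediateField

universe u v
variable {k : Type u} {K : Type v} [Field k] [Field K] [Algebra k K]

theorem divDiff_one_apply [IsAlgClosed k] (hK : IsFunctionField k K) {s : K}
    {Hs : K →ₐ[k] PowerSeries K} (hHs : IsHasseFamily s Hs)
    (Φ : Place k K → (K →ₐ[k] LaurentSeries k)) (hΦ : ∀ P : Place k K, IsExpansionAt P.1 (Φ P))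
    (P : Place k K) : divDiff Φ 1 s P = ordDiff (Φ P) 1 s := by
  classical
  unfold divDiff
  rw [dif_pos (finite_support_ordDiff hK hHs Φ hΦ)]
  rfl

/-- pointwise form of the invariance of the Weierstrass divisor -/
theorem wDiv_parts_invariance (hK : IsFunctionField k K) {n : ℕ}
    (φ : Fin (n + 1) → K) (hφ : LinearIndependent k φ)
    (τ : K →ₐ[k] K) {s t : K} {Hs Ht : K →ₐ[k] PowerSeries K}
    (hHs : IsHasseFamily s Hs) (hHt : IsHasseFamily t Ht)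
    (J : Fin n → ℕ) (hJ : IsOrders K (hcol τ Hs φ) J)
    (A : Matrix (Fin (n + 1)) (Fin (n + 1)) k) (hA : A.det ≠ 0) (y : K) (hy : y ≠ 0)
    (φ' : Fin (n + 1) → K) (hφ' : ∀ i, φ' i = y * ∑ j, A i j • φ j) (P : Place k K) :
    P.ord (wrMat τ Ht φ' J).det + mapDiv k (τ ∘ φ') P + (n : ℤ) * mapDiv k φ' P =
      P.ord (wrMat τ Hs φ J).det + mapDiv k (τ ∘ φ) P + (n : ℤ) * mapDiv k φ P +
        (∑ l, (J l : ℤ)) * P.ord (hasseD Ht 1 s) := by
  classical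
  set ψ : Fin (n + 1) → K := fun i => ∑ j, A i j • φ j with hψdef
  have hψ' : ∀ i, ψ i = ∑ j, A i j • φ j := fun i => rfl
  have hφ'eq : φ' = y • ψ := funext fun i => by rw [hφ' i]; rfl
  have hψ : LinearIndependent k ψ := linearIndependent_matrix_smul φ ψ hφ A hA hψ'
  have hφ0 : ∀ i, φ i ≠ 0 := fun i => hφ.ne_zero i
  have hψ0 : ∀ i, ψ i ≠ 0 := fun i => hψ.ne_zero i
  have hJψs : IsOrders K (hcol τ Hs ψ) J := ((linear_change τ Hs φ ψ A hA hψ').1 J).mpr hJ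
  have hJψt : IsOrders K (hcol τ Ht ψ) J := ((var_change hK τ hHs hHt ψ).1 J).mpr hJψs
  have hd1 := (smul_change τ hHt ψ y hy).2 J hJψt
  have hd2 := (var_change hK τ hHs hHt ψ).2 J hJψs
  have hd3 := (linear_change τ Hs φ ψ A hA hψ').2 J
  have hdet := det_wrMat_ne_zero_of_isOrders hK hHs φ hφ τ J hJ
  have hne := _root_.Groth.Agent.Helper5.Hs.hasseD_one_ne_zero hK hHs hHt
  have hτy : τ y ≠ 0 := (map_ne_zero τ).mpr hy
  have hcA : algebraMap k K A.det ≠ 0 := (map_ne_zero _).mpr hA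
  have hτφ0 : ∀ i, (τ ∘ φ) i ≠ 0 := fun i => (map_ne_zero τ).mpr (hφ0 i)
  have hτψ0 : ∀ i, (τ ∘ ψ) i ≠ 0 := fun i => (map_ne_zero τ).mpr (hψ0 i)
  have hm1 : mapDiv k φ' = mapDiv k φ - FunFld.div k y := by
    rw [hφ'eq, mapDiv_smul hK ψ hψ0 y hy,
      mapDiv_eq_of_span_eq hK ψ φ hψ0 hφ0 (span_matrix_smul φ ψ A hA hψ')]
  have hm2 : mapDiv k (τ ∘ φ') = mapDiv k (τ ∘ φ) - FunFld.div k (τ y) := by
    have h1 : τ ∘ φ' = τ y • (τ ∘ ψ) := funext fun i => by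
      simp [hφ'eq, map_mul]
    have h2 : ∀ i, (τ ∘ ψ) i = ∑ j, A i j • (τ ∘ φ) j := fun i => by
      simp only [Function.comp_apply, hψ', map_sum, map_smul]
    rw [h1, mapDiv_smul hK (τ ∘ ψ) hτψ0 (τ y) hτy,
      mapDiv_eq_of_span_eq hK (τ ∘ ψ) (τ ∘ φ) hτψ0 hτφ0 (span_matrix_smul (τ ∘ φ) (τ ∘ ψ) A hA h2)]
  rw [hm1, hm2, Finsupp.sub_apply, Finsupp.sub_apply, FF.div_apply hK, FF.div_apply hK]
  rw [hφ'eq, hd1, hd2, hd3]
  rw [FF.ord_mul P (mul_ne_zero hτy (pow_ne_zero _ hy))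
      (mul_ne_zero (pow_ne_zero _ hne) (mul_ne_zero hcA hdet)),
    FF.ord_mul P hτy (pow_ne_zero _ hy), FF.ord_mul P (pow_ne_zero _ hne) (mul_ne_zero hcA hdet),
    FF.ord_mul P hcA hdet, FF.ord_pow, FF.ord_pow, FF.ord_algebraMap]
  push_cast
  ring

theorem wDiv_eq_of_equiv [IsAlgClosed k] (hK : IsFunctionField k K) {n : ℕ}
    (φ : Fin (n + 1) → K) (hφ : LinearIndependent k φ)
    (τ : K →ₐ[k] K) {s t : K} {Hs Ht : K →ₐ[k] PowerSeries K}
    (hHs : IsHasseFamily s Hs) (hHt : IsHasseFamily t Ht)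
    (J : Fin n → ℕ) (hJ : IsOrders K (hcol τ Hs φ) J)
    (A : Matrix (Fin (n + 1)) (Fin (n + 1)) k) (hA : A.det ≠ 0) (y : K) (hy : y ≠ 0)
    (φ' : Fin (n + 1) → K) (hφ' : ∀ i, φ' i = y * ∑ j, A i j • φ j)
    (Φ : Place k K → (K →ₐ[k] LaurentSeries k)) (hΦ : ∀ P : Place k K, IsExpansionAt P.1 (Φ P)) :
    wDiv τ Ht Φ t φ' J = wDiv τ Hs Φ s φ J := by
  ext P
  have h := wDiv_parts_invariance hK φ hφ τ hHs hHt J hJ A hA y hy φ' hφ' P
  unfold wDiv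
  rw [Finsupp.add_apply, Finsupp.add_apply, Finsupp.add_apply, Finsupp.smul_apply,
    Finsupp.smul_apply, Finsupp.add_apply, Finsupp.add_apply, Finsupp.add_apply,
    Finsupp.smul_apply, Finsupp.smul_apply, FF.div_apply hK, FF.div_apply hK,
    divDiff_one_apply hK hHt Φ hΦ, divDiff_one_apply hK hHs Φ hΦ,
    ordDiff_chain hK P (Φ P) (hΦ P) hHs hHt]
  simp only [smul_eq_mul]
  linarith

end Groth.Agent.Helper5.Wr
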