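import Groth.Agent.Helper5.HasseBasic

set_option autoImplicit false

namespace Groth.Agent.Helper5.Wr
open FunFld LocRes

section Lin
variable {R M : Type*} [Field R] [AddCommGroup M] [Module R M]

theorem isJump_iff (c : ℕ → M) (j : ℕ) :
    IsJump R c j ↔ c j ∉ Submodule.span R (c '' Set.Iio j) := Iff.rfl

/-- The span of the first `N` columns is the span of the jump columns among them. -/
theorem span_Iio_eq_span_jumps (c : ℕ → M) (N : ℕ) :
    Submodule.span R (c '' Set.Iio N) =
      Submodule.span R (c '' {j | j < N ∧ IsJump R c j}) := by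
  induction N with
  | zero => simp
  | succ N ih =>
    have h1 : Set.Iio (N + 1) = insert N (Set.Iio N) := by
      ext j; simp only [Set.mem_Iio, Set.mem_insert_iff]; omega
    rw [h1, Set.image_insert_eq, Submodule.span_insert, ih]
    by_cases hj : IsJump R c N
    · have h2 : {j | j < N + 1 ∧ IsJump R c j} = insert N {j | j < N ∧ IsJump R c j} := by
        ext j; simp only [Set.mem_ofPred_eq, Set.mem_insert_iff]
        constructor
        · rintro ⟨h, h'⟩
          rcases Nat.lt_succ_iff_lt_or_eq.mp h with h | h
          · exact Or.inr ⟨h, h'⟩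
          · exact Or.inl h
        · rintro (h | ⟨h, h'⟩)
          · subst h; exact ⟨Nat.lt_succ_self _, hj⟩
          · exact ⟨Nat.lt_succ_of_lt h, h'⟩
      rw [h2, Set.image_insert_eq, Submodule.span_insert]
    · have h2 : {j | j < N + 1 ∧ IsJump R c j} = {j | j < N ∧ IsJump R c j} := by
        ext j; simp only [Set.mem_ofPred_eq]
        constructor
        · rintro ⟨h, h'⟩
          rcases Nat.lt_succ_iff_lt_or_eq.mp h with h | h
          · exact ⟨h, h'⟩
          · subst h; exact absurd h' hj
        · rintro ⟨h, h'⟩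
          exact ⟨Nat.lt_succ_of_lt h, h'⟩
      rw [h2]
      have h3 : c N ∈ Submodule.span R (c '' Set.Iio N) := by
        by_contra h; exact hj h
      rw [ih] at h3
      rw [sup_eq_right, Submodule.span_le, Set.singleton_subset_iff]
      exact h3

/-- The jump columns are linearly independent; hence number of jumps below `N` is the rank. -/
theorem finrank_span_Iio_le [FiniteDimensional R M] (c : ℕ → M) (N : ℕ) (S : Finset ℕ)
    (hS : ∀ j, j < N → IsJump R c j → j ∈ S) :
    Module.finrank R (Submodule.span R (c '' Set.Iio N)) ≤ S.card := by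
  classical
  rw [span_Iio_eq_span_jumps]
  have h1 : Submodule.span R (c '' {j | j < N ∧ IsJump R c j}) ≤
      Submodule.span R ((S.image c : Finset M) : Set M) := by
    apply Submodule.span_mono
    rintro _ ⟨j, ⟨h1, h2⟩, rfl⟩
    simp only [Finset.coe_image, Set.mem_image, Finset.mem_coe]
    exact ⟨j, hS j h1 h2, rfl⟩
  calc Module.finrank R (Submodule.span R (c '' {j | j < N ∧ IsJump R c j}))
      ≤ Module.finrank R (Submodule.span R ((S.image c : Finset M) : Set M)) :=
        Submodule.finrank_mono h1
    _ ≤ (S.image c).card := finrank_span_finset_le_card _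
    _ ≤ S.card := Finset.card_image_le

/-- Minimality of the order sequence: if the leading column and the columns `J' l + 1` are linearly
independent then `J l ≤ J' l`. -/
theorem orders_le [FiniteDimensional R M] {n : ℕ} (c : ℕ → M) (J J' : Fin n → ℕ)
    (hJ : IsOrders R c J) (hJ' : StrictMono J')
    (hli : LinearIndependent R (Fin.cons (c 0) (fun l => c (J' l + 1)) : Fin (n + 1) → M)) :
    ∀ l, J l ≤ J' l := by
  intro l
  by_contra hlt
  rw [not_le] at hlt
  -- the vectors c 0, c (J' i + 1), i ≤ l
  let S : Finset ℕ := insert 0 ((Finset.univ.filter (fun i : Fin n => i < l)).image (fun i => J i + 1))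
  have hS : ∀ j, j < J' l + 2 → IsJump R c j → j ∈ S := by
    intro j hj hjump
    rcases Nat.eq_zero_or_pos j with h0 | h0
    · simp [S, h0]
    · obtain ⟨j', rfl⟩ : ∃ j', j = j' + 1 := ⟨j - 1, by omega⟩
      obtain ⟨i, hi⟩ := (hJ.2 j').mpr hjump
      have hil : i < l := by
        by_contra h
        rw [not_lt] at h
        have := hJ.1.monotone h
        omega
      simp only [S, Finset.mem_insert, Finset.mem_image, Finset.mem_filter, Finset.mem_univ,
        true_and]
      exact Or.inr ⟨i, hil, by omega⟩
  have hcard : S.card ≤ (l : ℕ) + 1 := by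
    calc S.card ≤ ((Finset.univ.filter (fun i : Fin n => i < l)).image (fun i => J i + 1)).card + 1 :=
          Finset.card_insert_le _ _
      _ ≤ (Finset.univ.filter (fun i : Fin n => i < l)).card + 1 :=
          Nat.add_le_add_right Finset.card_image_le _
      _ = (l : ℕ) + 1 := by
          have : (Finset.univ.filter (fun i : Fin n => i < l)) = Finset.Iio l := by
            ext i; simp
          rw [this, Fin.card_Iio]
  have hbound := (finrank_span_Iio_le (R := R) c (J' l + 2) S hS).trans hcard
  -- the independent family restricted to indices ≤ l+1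
  let T : Finset (Fin (n + 1)) := Finset.univ.filter (fun i => (i : ℕ) ≤ (l : ℕ) + 1)
  have hTcard : T.card = (l : ℕ) + 2 := by
    have : T = Finset.Iic (⟨(l : ℕ) + 1, by omega⟩ : Fin (n + 1)) := by
      ext i; simp [T, Fin.le_def]
    rw [this, Fin.card_Iic]
  have hli' : LinearIndependent R (fun i : T => (Fin.cons (c 0) (fun l => c (J' l + 1)) : Fin (n + 1) → M) i) :=
    hli.comp (fun i : T => (i : Fin (n + 1))) Subtype.val_injective
  have hsub : Submodule.span R (Set.range (fun i : T => (Fin.cons (c 0) (fun l => c (J' l + 1)) : Fin (n + 1) → M) i)) ≤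
      Submodule.span R (c '' Set.Iio (J' l + 2)) := by
    rw [Submodule.span_le]
    rintro _ ⟨⟨i, hi⟩, rfl⟩
    apply Submodule.subset_span
    simp only [T, Finset.mem_filter, Finset.mem_univ, true_and] at hi
    rcases Fin.eq_zero_or_eq_succ i with rfl | ⟨i', rfl⟩
    · exact ⟨0, by simp, by simp⟩
    · simp only [Fin.val_succ, add_le_add_iff_right] at hi
      refine ⟨J' i' + 1, ?_, by simp⟩
      have : J' i' ≤ J' l := hJ'.monotone (by exact_mod_cast hi)
      simp only [Set.mem_Iio]; omega
  have h2 := Submodule.finrank_mono hsub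
  rw [finrank_span_eq_card hli'] at h2
  simp only [Fintype.card_coe] at h2
  omega

end Lin

section WrMat
variable {k K : Type*} [Field k] [Field K] [Algebra k K]

/-- the family of selected columns of the `H`-matrix -/
noncomputable def selCols {n : ℕ} (τ : K →ₐ[k] K) (H : K →ₐ[k] PowerSeries K)
    (φ : Fin (n + 1) → K) (I : Fin n → ℕ) : Fin (n + 1) → (Fin (n + 1) → K) :=
  Fin.cons (hcol τ H φ 0) (fun l => hcol τ H φ (I l + 1))

theorem wrMat_eq_transpose {n : ℕ} (τ : K →ₐ[k] K) (H : K →ₐ[k] PowerSeries K)
    (φ : Fin (n + 1) → K) (I : Fin n → ℕ) :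
    wrMat τ H φ I = (Matrix.of (selCols τ H φ I)).transpose := by
  apply Matrix.ext
  intro i c
  simp only [wrMat, Matrix.of_apply, Matrix.transpose_apply, selCols]
  rcases Fin.eq_zero_or_eq_succ c with rfl | ⟨c', rfl⟩
  · simp [hcol]
  · simp [hcol]

theorem linearIndependent_selCols_of_det_ne_zero {n : ℕ} (τ : K →ₐ[k] K)
    (H : K →ₐ[k] PowerSeries K) (φ : Fin (n + 1) → K) (I : Fin n → ℕ)
    (hdet : (wrMat τ H φ I).det ≠ 0) : LinearIndependent K (selCols τ H φ I) := by
  rw [wrMat_eq_transpose, Matrix.det_transpose] at hdet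
  have := Matrix.linearIndependent_rows_of_det_ne_zero hdet
  exact this

theorem det_ne_zero_of_linearIndependent_selCols {n : ℕ} (τ : K →ₐ[k] K)
    (H : K →ₐ[k] PowerSeries K) (φ : Fin (n + 1) → K) (I : Fin n → ℕ)
    (h : LinearIndependent K (selCols τ H φ I)) : (wrMat τ H φ I).det ≠ 0 := by
  rw [wrMat_eq_transpose, Matrix.det_transpose]
  have h2 : LinearIndependent K (Matrix.of (selCols τ H φ I)).row := h
  rw [Matrix.linearIndependent_rows_iff_isUnit] at h2
  exact ((Matrix.isUnit_iff_isUnit_det _).mp h2).ne_zero

end WrMat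

end Groth.Agent.Helper5.Wr
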