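import Groth.Agent.Helper5.WrLin

set_option autoImplicit false

namespace Groth.Agent.Helper5.Wr
open FunFld LocRes

section Lin
variable {R M M' : Type*} [Field R] [AddCommGroup M] [Module R M] [AddCommGroup M'] [Module R M']

theorem isJump_comp_injective (g : M →ₗ[R] M') (hg : Function.Injective g) (c : ℕ → M) (j : ℕ) :
    IsJump R (fun m => g (c m)) j ↔ IsJump R c j := by
  unfold IsJump
  have h1 : (fun m => g (c m)) '' Set.Iio j = g '' (c '' Set.Iio j) := by
    rw [Set.image_image]
  rw [h1, ← Submodule.map_span]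
  constructor
  · intro h h'
    exact h (Submodule.mem_map_of_mem h')
  · rintro h ⟨x, hx, hxe⟩
    exact h (hg hxe ▸ hx)

theorem isOrders_comp_injective (g : M →ₗ[R] M') (hg : Function.Injective g) (c : ℕ → M)
    {n : ℕ} (J : Fin n → ℕ) :
    IsOrders R (fun m => g (c m)) J ↔ IsOrders R c J := by
  unfold IsOrders
  simp only [isJump_comp_injective g hg]

end Lin

section WrMat
variable {k K : Type*} [Field k] [Field K] [Algebra k K]

theorem hcol_linear_change {n : ℕ} (τ : K →ₐ[k] K) (H : K →ₐ[k] PowerSeries K)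
    (φ φ' : Fin (n + 1) → K) (A : Matrix (Fin (n + 1)) (Fin (n + 1)) k)
    (hφ' : ∀ i, φ' i = ∑ j, A i j • φ j) (m : ℕ) :
    hcol τ H φ' m = (A.map (algebraMap k K)).mulVecLin (hcol τ H φ m) := by
  funext i
  rw [Matrix.mulVecLin_apply, Matrix.mulVec, dotProduct]
  cases m with
  | zero =>
    simp only [hcol, hφ' i, map_sum, map_smul, Matrix.map_apply]
    simp only [Algebra.smul_def]
  | succ j =>
    simp only [hcol, hφ' i, Hs.hasseD_sum, Hs.hasseD_smul, Matrix.map_apply]
    simp only [Algebra.smul_def]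

theorem wrMat_linear_change {n : ℕ} (τ : K →ₐ[k] K) (H : K →ₐ[k] PowerSeries K)
    (φ φ' : Fin (n + 1) → K) (A : Matrix (Fin (n + 1)) (Fin (n + 1)) k)
    (hφ' : ∀ i, φ' i = ∑ j, A i j • φ j) (I : Fin n → ℕ) :
    wrMat τ H φ' I = A.map (algebraMap k K) * wrMat τ H φ I := by
  apply Matrix.ext
  intro i c
  rw [Matrix.mul_apply]
  rcases Fin.eq_zero_or_eq_succ c with rfl | ⟨c', rfl⟩
  · simp only [wrMat, Matrix.of_apply, Fin.cases_zero, hφ' i, map_sum, map_smul, Matrix.map_apply]
    simp only [Algebra.smul_def]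
  · simp only [wrMat, Matrix.of_apply, Fin.cases_succ, hφ' i, Hs.hasseD_sum, Hs.hasseD_smul,
      Matrix.map_apply]
    simp only [Algebra.smul_def]

theorem linear_change {n : ℕ} (τ : K →ₐ[k] K) (H : K →ₐ[k] PowerSeries K)
    (φ φ' : Fin (n + 1) → K) (A : Matrix (Fin (n + 1)) (Fin (n + 1)) k) (hA : A.det ≠ 0)
    (hφ' : ∀ i, φ' i = ∑ j, A i j • φ j) :
    (∀ J : Fin n → ℕ, IsOrders K (hcol τ H φ') J ↔ IsOrders K (hcol τ H φ) J) ∧
    ∀ I : Fin n → ℕ, (wrMat τ H φ' I).det = algebraMap k K A.det * (wrMat τ H φ I).det := by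
  have hdet : (A.map (algebraMap k K)).det = algebraMap k K A.det := by
    rw [RingHom.map_det]; rfl
  constructor
  · intro J
    have hinj : Function.Injective (A.map (algebraMap k K)).mulVecLin := by
      rw [Matrix.coe_mulVecLin]
      apply Matrix.mulVec_injective_of_det_ne_zero
      rw [hdet]
      simpa using hA
    have : hcol τ H φ' = fun m => (A.map (algebraMap k K)).mulVecLin (hcol τ H φ m) := by
      funext m; exact hcol_linear_change τ H φ φ' A hφ' m
    rw [this]
    exact isOrders_comp_injective _ hinj _ J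
  · intro I
    rw [wrMat_linear_change τ H φ φ' A hφ' I, Matrix.det_mul, hdet]

end WrMat

end Groth.Agent.Helper5.Wr
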