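import Groth.Agent.Helper5.WrLin2

set_option autoImplicit false

namespace Groth.Agent.Helper5.Wr
open FunFld LocRes

variable {k K : Type*} [Field k] [Field K] [Algebra k K]

theorem algHom_eq_id_of_fix_generators (τ : K →ₐ[k] K) (S : Set K)
    (hS : IntermediateField.adjoin k S = ⊤) (h : ∀ x ∈ S, τ x = x) : τ = AlgHom.id k K := by
  apply AlgHom.ext
  intro x
  have hx : x ∈ IntermediateField.adjoin k S := by rw [hS]; trivial
  induction hx using IntermediateField.adjoin_induction with
  | mem x hx => exact h x hx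
  | algebraMap c => simp
  | add x y _ _ hx hy => simp only [map_add, hx, hy]
  | inv x _ hx => simp only [map_inv₀, hx]
  | mul x y _ _ hx hy => simp only [map_mul, hx, hy]

theorem hcol_one {s : K} {H : K →ₐ[k] PowerSeries K} (hH : IsHasseFamily s H) {ι : Type*}
    (τ : K →ₐ[k] K) (φ : ι → K) : hcol τ H φ 1 = φ := by
  funext i
  simp only [hcol]
  exact Hs.hasseD_zero hH (φ i)

theorem hcol_zero {ι : Type*} (τ : K →ₐ[k] K) (H : K →ₐ[k] PowerSeries K) (φ : ι → K) :
    hcol τ H φ 0 = fun i => τ (φ i) := rfl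

theorem not_isJump_one_iff {n : ℕ} (φ : Fin (n + 1) → K) (h0 : φ 0 ≠ 0)
    (hbir : IntermediateField.adjoin k (Set.range fun i => φ i / φ 0) = ⊤)
    (τ : K →ₐ[k] K) {s : K} {H : K →ₐ[k] PowerSeries K} (hH : IsHasseFamily s H) :
    ¬ IsJump K (hcol τ H φ) 1 ↔ τ = AlgHom.id k K := by
  unfold IsJump
  rw [not_not]
  have h1 : Set.Iio 1 = ({0} : Set ℕ) := by
    ext j; simp only [Set.mem_Iio, Set.mem_singleton_iff]; omega
  rw [h1, Set.image_singleton, Submodule.mem_span_singleton, hcol_one hH, hcol_zero]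
  constructor
  · rintro ⟨a, ha⟩
    have ha' : ∀ i, a * τ (φ i) = φ i := fun i => by
      have := congrFun ha i
      simpa using this
    have ha0 : a ≠ 0 := by
      rintro rfl
      apply h0
      rw [← ha' 0, zero_mul]
    apply algHom_eq_id_of_fix_generators τ _ hbir
    rintro _ ⟨i, rfl⟩
    simp only [map_div₀]
    have hτ0 : τ (φ 0) ≠ 0 := by
      intro h
      apply h0
      rw [← ha' 0, h, mul_zero]
    conv_rhs => rw [← ha' i, ← ha' 0]
    field_simp
  · rintro rfl
    exact ⟨1, by funext i; simp⟩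

end Groth.Agent.Helper5.Wr
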