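import Groth.Agent.Helper5.WrExist

set_option autoImplicit false

namespace Groth.Agent.Helper5.Wr
open FunFld LocRes

section Lin
variable {R M : Type*} [Field R] [AddCommGroup M] [Module R M]

theorem exists_mem_span_Iio_of_mem_span_range (d : ℕ → M) (w : M)
    (hw : w ∈ Submodule.span R (Set.range d)) : ∃ N, w ∈ Submodule.span R (d '' Set.Iio N) := by
  rw [← Set.image_univ] at hw
  obtain ⟨t, _, g, hg⟩ := (Submodule.mem_span_image_iff_exists_fun R).mp hw
  refine ⟨t.sup id + 1, ?_⟩
  rw [← hg]
  apply Submodule.sum_mem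
  intro i _
  apply Submodule.smul_mem
  apply Submodule.subset_span
  refine ⟨i, ?_, rfl⟩
  have : (i : ℕ) ≤ t.sup id := Finset.le_sup (f := id) i.2
  simp only [Set.mem_Iio]
  omega

theorem span_Iio_succ (d : ℕ → M) (N : ℕ) :
    Submodule.span R (d '' Set.Iio (N + 1)) =
      Submodule.span R {d N} ⊔ Submodule.span R (d '' Set.Iio N) := by
  have h1 : Set.Iio (N + 1) = insert N (Set.Iio N) := by
    ext j; simp only [Set.mem_Iio, Set.mem_insert_iff]; omega
  rw [h1, Set.image_insert_eq, Submodule.span_insert]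

theorem span_Iio_mono (d : ℕ → M) {a b : ℕ} (h : a ≤ b) :
    Submodule.span R (d '' Set.Iio a) ≤ Submodule.span R (d '' Set.Iio b) := by
  apply Submodule.span_mono
  apply Set.image_mono
  intro x hx
  exact lt_of_lt_of_le hx h

/-- Adding an extra leading vector `w` (lying in the span of the sequence but not in the span of its
first term) removes exactly one jump. -/
theorem jumps_with_extra (d : ℕ → M) (w : M) (hw : w ∈ Submodule.span R (Set.range d))
    (hw0 : w ∉ Submodule.span R (d '' Set.Iio 1)) :
    ∃ m0, 1 ≤ m0 ∧ d m0 ∉ Submodule.span R (d '' Set.Iio m0) ∧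
      ∀ j, 1 ≤ j → (d j ∉ Submodule.span R (insert w (d '' Set.Iio j)) ↔
        (j ≠ m0 ∧ d j ∉ Submodule.span R (d '' Set.Iio j))) := by
  classical
  have hex := exists_mem_span_Iio_of_mem_span_range d w hw
  set N := Nat.find hex with hN
  have hNmem : w ∈ Submodule.span R (d '' Set.Iio N) := Nat.find_spec hex
  have hNmin : ∀ j, j < N → w ∉ Submodule.span R (d '' Set.Iio j) := fun j hj => Nat.find_min hex hj
  have hN2 : 2 ≤ N := by
    by_contra hlt
    rw [not_le] at hlt
    exact hw0 (span_Iio_mono d (by omega) hNmem)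
  refine ⟨N - 1, by omega, ?_, ?_⟩
  · -- d (N-1) ∉ span (d '' Iio (N-1))
    intro hmem
    apply hNmin (N - 1) (by omega)
    have h1 : N = (N - 1) + 1 := by omega
    rw [h1, span_Iio_succ] at hNmem
    rw [sup_eq_right.mpr] at hNmem
    · exact hNmem
    · rw [Submodule.span_le, Set.singleton_subset_iff]
      exact hmem
  · intro j hj
    rw [Submodule.span_insert]
    rcases lt_trichotomy j (N - 1) with hlt | heq | hgt
    · -- j < m0
      constructor
      · intro h
        refine ⟨by omega, fun h' => h (Submodule.mem_sup_right h')⟩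
      · rintro ⟨_, h⟩ hmem
        obtain ⟨y, hy, z, hz, hyz⟩ := Submodule.mem_sup.mp hmem
        obtain ⟨a, rfl⟩ := Submodule.mem_span_singleton.mp hy
        by_cases ha : a = 0
        · apply h
          rw [← hyz, ha, zero_smul, zero_add]
          exact hz
        · apply hNmin (j + 1) (by omega)
          have : w = a⁻¹ • (d j - z) := by
            rw [← hyz, add_sub_cancel_right, smul_smul, inv_mul_cancel₀ ha, one_smul]
          rw [this]
          apply Submodule.smul_mem
          apply Submodule.sub_mem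
          · exact Submodule.subset_span ⟨j, by simp, rfl⟩
          · exact span_Iio_mono d (by omega) hz
    · -- j = m0
      constructor
      · intro h
        exfalso
        apply h
        have h1 : N = j + 1 := by omega
        rw [h1, span_Iio_succ] at hNmem
        obtain ⟨y, hy, z, hz, hyz⟩ := Submodule.mem_sup.mp hNmem
        obtain ⟨a, rfl⟩ := Submodule.mem_span_singleton.mp hy
        have ha : a ≠ 0 := by
          intro ha
          apply hNmin j (by omega)
          rw [← hyz, ha, zero_smul, zero_add]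
          exact hz
        have : d j = a⁻¹ • w - a⁻¹ • z := by
          rw [← hyz, smul_add, smul_smul, inv_mul_cancel₀ ha, one_smul, add_sub_cancel_right]
        rw [this]
        apply Submodule.sub_mem
        · exact Submodule.mem_sup_left (Submodule.smul_mem _ _ (Submodule.mem_span_singleton_self _))
        · exact Submodule.mem_sup_right (Submodule.smul_mem _ _ hz)
      · rintro ⟨h, _⟩
        exact absurd heq h
    · -- j > m0
      have hwj : w ∈ Submodule.span R (d '' Set.Iio j) := span_Iio_mono d (by omega) hNmem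
      rw [sup_eq_right.mpr]
      · constructor
        · intro h; exact ⟨by omega, h⟩
        · intro h; exact h.2
      · rw [Submodule.span_le, Set.singleton_subset_iff]
        exact hwj

end Lin

section WrMat
variable {k K : Type*} [Field k] [Field K] [Algebra k K]

theorem image_hcol_Iio_succ {n : ℕ} (τ : K →ₐ[k] K) (H : K →ₐ[k] PowerSeries K)
    (φ : Fin (n + 1) → K) (j : ℕ) :
    hcol τ H φ '' Set.Iio (j + 1) =
      insert (fun i => τ (φ i)) ((fun m : ℕ => (fun i => hasseD H m (φ i) : Fin (n + 1) → K)) '' Set.Iio j) := by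
  ext v
  constructor
  · rintro ⟨m, hm, rfl⟩
    cases m with
    | zero => exact Set.mem_insert _ _
    | succ m' =>
      refine Set.mem_insert_of_mem _ ⟨m', ?_, rfl⟩
      simp only [Set.mem_Iio] at hm ⊢
      omega
  · rintro (rfl | ⟨m, hm, rfl⟩)
    · exact ⟨0, by simp, rfl⟩
    · refine ⟨m + 1, ?_, rfl⟩
      simp only [Set.mem_Iio] at hm ⊢
      omega

theorem isJump_tau_iff (hK : IsFunctionField k K) {n : ℕ} (hn : 0 < n) (φ : Fin (n + 1) → K)
    (hφ : LinearIndependent k φ)
    (h0 : φ 0 ≠ 0) (hbir : IntermediateField.adjoin k (Set.range fun i => φ i / φ 0) = ⊤)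
    (τ : K →ₐ[k] K) (hτ : τ ≠ AlgHom.id k K) {s : K} {H : K →ₐ[k] PowerSeries K}
    (hH : IsHasseFamily s H)
    (J : Fin n → ℕ) (hJ : IsOrders K (hcol (AlgHom.id k K) H φ) J) :
    ∃ m : Fin n, ∀ j : ℕ,
      IsJump K (hcol τ H φ) (j + 1) ↔ (j = 0 ∨ ∃ l, l ≠ m ∧ J l = j) := by
  let d : ℕ → (Fin (n + 1) → K) := fun m => (fun i => hasseD H m (φ i))
  have hd0 : d 0 = φ := by
    funext i; exact Hs.hasseD_zero hH (φ i)
  let w : Fin (n + 1) → K := fun i => τ (φ i)
  have hjump1 : IsJump K (hcol τ H φ) 1 := by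
    by_contra h
    exact hτ ((not_isJump_one_iff φ h0 hbir τ hH).mp h)
  have hw : w ∈ Submodule.span K (Set.range d) := by
    rw [span_hasse_cols_eq_top hK hH φ hφ]; trivial
  have hw0 : w ∉ Submodule.span K (d '' Set.Iio 1) := by
    intro hmem
    have h1 : Set.Iio 1 = ({0} : Set ℕ) := by
      ext j; simp only [Set.mem_Iio, Set.mem_singleton_iff]; omega
    rw [h1, Set.image_singleton, hd0, Submodule.mem_span_singleton] at hmem
    obtain ⟨a, ha⟩ := hmem
    apply hjump1
    rw [image_hcol_Iio_succ τ H φ 0]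
    simp only [Set.Iio, not_lt_zero, Set.ofPred_false, Set.image_empty, insert_empty_eq]
    rw [hcol_one hH, Submodule.mem_span_singleton]
    have ha0 : a ≠ 0 := by
      rintro rfl
      rw [zero_smul] at ha
      have := congrFun ha 0
      simp only [Pi.zero_apply, w] at this
      exact h0 ((map_eq_zero τ).mp this.symm)
    refine ⟨a⁻¹, ?_⟩
    show a⁻¹ • w = φ
    rw [← ha, smul_smul, inv_mul_cancel₀ ha0, one_smul]
  obtain ⟨m0, hm01, hm0jump, hm0⟩ := jumps_with_extra d w hw hw0
  -- id-jumps for j ≥ 1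
  have hid : ∀ j, 1 ≤ j → (IsJump K (hcol (AlgHom.id k K) H φ) (j + 1) ↔
      d j ∉ Submodule.span K (d '' Set.Iio j)) := by
    intro j hj
    unfold IsJump
    rw [image_hcol_Iio_succ]
    have : (fun i => (AlgHom.id k K) (φ i)) = d 0 := by rw [hd0]; rfl
    rw [this, Set.insert_eq_of_mem]
    · rfl
    · exact ⟨0, by simp only [Set.mem_Iio]; omega, rfl⟩
  have hτj : ∀ j, (IsJump K (hcol τ H φ) (j + 1) ↔
      d j ∉ Submodule.span K (insert w (d '' Set.Iio j))) := by
    intro j
    unfold IsJump
    rw [image_hcol_Iio_succ]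
    rfl
  obtain ⟨m, hm⟩ := (hJ.2 m0).mpr ((hid m0 hm01).mpr hm0jump)
  refine ⟨m, fun j => ?_⟩
  rcases Nat.eq_zero_or_pos j with hj | hj
  · subst hj
    simp only [zero_add, true_or, iff_true]
    exact hjump1
  · rw [hτj, hm0 j hj, ← hid j hj, ← hJ.2 j]
    constructor
    · rintro ⟨hne, l, hl⟩
      refine Or.inr ⟨l, ?_, hl⟩
      rintro rfl
      exact hne (hl.symm.trans hm)
    · rintro (h | ⟨l, hl, hlj⟩)
      · omega
      · refine ⟨?_, l, hlj⟩
        intro hjm
        apply hl
        apply hJ.1.injective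
        rw [hlj, hm, hjm]

end WrMat

end Groth.Agent.Helper5.Wr
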