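import Groth.Agent.Helper5.HasseAt
import Groth.Agent.Helper5.WrTau

set_option autoImplicit false

namespace Groth.Agent.Helper5.Wr
open FunFld LocRes LaurentSeries

variable {k K : Type*} [Field k] [Field K] [Algebra k K]

theorem exists_algebraMap_eq (P : Place k K) (hP : P.deg = 1) (x : IsLocalRing.ResidueField P.O) :
    ∃ c : k, algebraMap k (IsLocalRing.ResidueField P.O) c = x := by
  have h1 : Module.finrank k (IsLocalRing.ResidueField P.O) = 1 := hP
  rw [finrank_eq_one_iff_of_nonzero' (1 : IsLocalRing.ResidueField P.O) one_ne_zero] at h1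
  obtain ⟨c, hc⟩ := h1 x
  exact ⟨c, by rw [Algebra.algebraMap_eq_smul_one]; exact hc⟩

/-- Taylor coefficients at `P` of a `k`-linear combination. -/
theorem coeff_Φ₀_sum (P : Place k K) (hP : P.deg = 1) {t : K}
    (ht : P.1 t = WithZero.exp (-1 : ℤ)) {ι : Type*} (S : Finset ι) (b : ι → k) (φ : ι → K)
    (hint : ∀ i, P.1 (φ i) ≤ 1) (j : ℕ) :
    PowerSeries.coeff j (Ex.Φ₀ P t (∑ i ∈ S, b i • φ i)) =
      ∑ i ∈ S, b i * PowerSeries.coeff j (Ex.Φ₀ P t (φ i)) := by
  have hsum : P.1 (∑ i ∈ S, b i • φ i) ≤ 1 := by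
    apply Valuation.map_sum_le
    intro i _
    rw [Algebra.smul_def, map_mul]
    calc P.1 (algebraMap k K (b i)) * P.1 (φ i) ≤ 1 * 1 := mul_le_mul' (P.2.1 _) (hint i)
      _ = 1 := one_mul 1
  have h1 := Hs.coeff_Φ_of_le P hP ht hsum (j : ℤ)
  rw [if_neg (by omega), Int.natAbs_natCast] at h1
  rw [← h1, map_sum, HahnSeries.coeff_sum]
  apply Finset.sum_congr rfl
  intro i _
  rw [Algebra.smul_def, map_mul, AlgHom.commutes, LocRes.algebraMap_eq_C, HahnSeries.C_mul_eq_smul,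
    HahnSeries.coeff_smul, Hs.coeff_Φ_of_le P hP ht (hint i), if_neg (by omega),
    Int.natAbs_natCast, smul_eq_mul]

theorem Φ₀_eq_zero_iff (P : Place k K) (hP : P.deg = 1) {t : K}
    (ht : P.1 t = WithZero.exp (-1 : ℤ)) {y : K} (hy : P.1 y ≤ 1) :
    Ex.Φ₀ P t y = 0 ↔ y = 0 := by
  constructor
  · intro h
    have h1 := Ex.Φ_of_le P hP ht hy
    rw [h, PowerSeries.coe_zero] at h1
    exact (map_eq_zero (Ex.Φ P hP ht)).mp h1
  · rintro rfl
    have h1 := Ex.Φ_of_le P hP ht hy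
    rw [map_zero] at h1
    exact HahnSeries.ofPowerSeries_injective (by rw [← h1]; simp)

theorem linearIndependent_evalP_hasseD (hK : IsFunctionField k K) (P : Place k K) (hP : P.deg = 1)
    {n : ℕ} (φ : Fin (n + 1) → K) (hφ : LinearIndependent k φ)
    (hint : ∀ i, P.1 (φ i) ≤ 1) {t : K} (ht : P.1 t = WithZero.exp (-1 : ℤ))
    {Ht : K →ₐ[k] PowerSeries K} (hHt : IsHasseFamily t Ht) :
    LinearIndependent (IsLocalRing.ResidueField P.O)
      (fun i : Fin (n + 1) => fun j : ℕ => evalP P (hasseD Ht j (φ i))) := by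
  rw [Fintype.linearIndependent_iff]
  intro g hg
  choose b hb using fun i => exists_algebraMap_eq P hP (g i)
  have hsum : P.1 (∑ i, b i • φ i) ≤ 1 := by
    apply Valuation.map_sum_le
    intro i _
    rw [Algebra.smul_def, map_mul]
    calc P.1 (algebraMap k K (b i)) * P.1 (φ i) ≤ 1 * 1 := mul_le_mul' (P.2.1 _) (hint i)
      _ = 1 := one_mul 1
  have h1 : Ex.Φ₀ P t (∑ i, b i • φ i) = 0 := by
    ext j
    rw [coeff_Φ₀_sum P hP ht Finset.univ b φ hint j, map_zero]
    have h2 := congrFun hg j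
    simp only [Finset.sum_apply, Pi.smul_apply, smul_eq_mul, Pi.zero_apply] at h2
    have h3 : algebraMap k (IsLocalRing.ResidueField P.O)
        (∑ i, b i * PowerSeries.coeff j (Ex.Φ₀ P t (φ i))) = 0 := by
      rw [map_sum, ← h2]
      apply Finset.sum_congr rfl
      intro i _
      rw [map_mul, hb i, Hs.evalP_hasseD_of_le_one hK P hP ht hHt (φ i) (hint i) j]
    exact (map_eq_zero _).mp h3
  rw [Φ₀_eq_zero_iff P hP ht hsum] at h1
  have h4 := Fintype.linearIndependent_iff.mp hφ b h1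
  intro i
  rw [← hb i, h4 i, map_zero]

end Groth.Agent.Helper5.Wr
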