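import Groth.Agent.Helper5.WrLocal

set_option autoImplicit false

namespace Groth.Agent.Helper5.Wr
open FunFld LocRes LaurentSeries

variable {k K : Type*} [Field k] [Field K] [Algebra k K]

theorem lt_exp_iff_le_exp_pred (x : WithZero (Multiplicative ℤ)) (a : ℤ) :
    x < WithZero.exp a ↔ x ≤ WithZero.exp (a - 1) := by
  have : WithZero.exp a = WithZero.exp (a - 1) * WithZero.exp 1 := by
    rw [← WithZero.exp_add]; congr 1; ring
  rw [this, WithZero.lt_mul_exp_iff_le WithZero.exp_ne_zero]

/-- Taylor coefficients at `P` with respect to `t`. -/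
noncomputable def tc (P : Place k K) (t : K) (y : K) (m : ℕ) : k :=
  PowerSeries.coeff m (Ex.Φ₀ P t y)

theorem val_sum_smul_le_one (P : Place k K) {ι : Type*} (S : Finset ι) (b : ι → k) (φ : ι → K)
    (hint : ∀ i, P.1 (φ i) ≤ 1) : P.1 (∑ i ∈ S, b i • φ i) ≤ 1 := by
  apply Valuation.map_sum_le
  intro i _
  rw [Algebra.smul_def, map_mul]
  calc P.1 (algebraMap k K (b i)) * P.1 (φ i) ≤ 1 * 1 := mul_le_mul' (P.2.1 _) (hint i)
    _ = 1 := one_mul 1

theorem val_le_iff_tc (P : Place k K) (hP : P.deg = 1) {t : K}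
    (ht : P.1 t = WithZero.exp (-1 : ℤ)) {y : K} (hy : P.1 y ≤ 1) (j : ℕ) :
    P.1 y ≤ WithZero.exp (-(j : ℤ)) ↔ ∀ m : ℕ, m < j → tc P t y m = 0 := by
  rw [Ex.val_le_iff_coeff P hP ht]
  constructor
  · intro h m hm
    have := h (m : ℤ) (by exact_mod_cast hm)
    rw [Hs.coeff_Φ_of_le P hP ht hy, if_neg (by omega), Int.natAbs_natCast] at this
    exact this
  · intro h n hn
    rw [Hs.coeff_Φ_of_le P hP ht hy]
    by_cases hn0 : n < 0
    · rw [if_pos hn0]
    · rw [if_neg hn0]
      exact h n.natAbs (by omega)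

theorem val_eq_iff_tc (P : Place k K) (hP : P.deg = 1) {t : K}
    (ht : P.1 t = WithZero.exp (-1 : ℤ)) {y : K} (hy : P.1 y ≤ 1) (j : ℕ) :
    P.1 y = WithZero.exp (-(j : ℤ)) ↔ (∀ m : ℕ, m < j → tc P t y m = 0) ∧ tc P t y j ≠ 0 := by
  rw [← val_le_iff_tc P hP ht hy j]
  have h1 : (P.1 y ≤ WithZero.exp (-((j + 1 : ℕ) : ℤ))) ↔ ∀ m : ℕ, m < j + 1 → tc P t y m = 0 :=
    val_le_iff_tc P hP ht hy (j + 1)
  constructor
  · intro h
    refine ⟨h.le, fun h0 => ?_⟩
    have h2 : P.1 y ≤ WithZero.exp (-((j + 1 : ℕ) : ℤ)) := by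
      rw [h1]
      intro m hm
      rcases Nat.lt_succ_iff_lt_or_eq.mp hm with hm | hm
      · exact (val_le_iff_tc P hP ht hy j).mp h.le m hm
      · rw [hm]; exact h0
    rw [h, WithZero.exp_le_exp] at h2
    push_cast at h2
    omega
  · rintro ⟨h, h0⟩
    apply le_antisymm h
    by_contra hlt
    rw [not_le, lt_exp_iff_le_exp_pred] at hlt
    have h2 : P.1 y ≤ WithZero.exp (-((j + 1 : ℕ) : ℤ)) := by
      convert hlt using 2
      push_cast; ring
    exact h0 (h1.mp h2 j (Nat.lt_succ_self j))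

theorem tc_sum (P : Place k K) (hP : P.deg = 1) {t : K}
    (ht : P.1 t = WithZero.exp (-1 : ℤ)) {ι : Type*} (S : Finset ι) (b : ι → k) (φ : ι → K)
    (hint : ∀ i, P.1 (φ i) ≤ 1) (j : ℕ) :
    tc P t (∑ i ∈ S, b i • φ i) j = ∑ i ∈ S, b i * tc P t (φ i) j :=
  coeff_Φ₀_sum P hP ht S b φ hint j

theorem hcolAt_succ_eq (hK : IsFunctionField k K) (P : Place k K) (hP : P.deg = 1) {t : K}
    (ht : P.1 t = WithZero.exp (-1 : ℤ)) {Ht : K →ₐ[k] PowerSeries K} (hHt : IsHasseFamily t Ht)
    {ι : Type*} (φ : ι → K) (hint : ∀ i, P.1 (φ i) ≤ 1) (j : ℕ) :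
    hcolAt P Ht φ (j + 1) =
      fun i => algebraMap k (IsLocalRing.ResidueField P.O) (tc P t (φ i) j) := by
  funext i
  simp only [hcolAt]
  exact Hs.evalP_hasseD_of_le_one hK P hP ht hHt (φ i) (hint i) j

theorem hcolAt_zero_eq (P : Place k K) {t : K}
    {Ht : K →ₐ[k] PowerSeries K} (hHt : IsHasseFamily t Ht)
    {ι : Type*} (φ : ι → K) :
    hcolAt P Ht φ 0 = hcolAt P Ht φ 1 := by
  funext i
  simp only [hcolAt]
  rw [Hs.hasseD_zero hHt]

/-- A column is outside the span of a set of columns iff some functional separates them. -/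
theorem notMem_span_iff_exists_functional {κ : Type*} [Field κ] {N : ℕ}
    (S : Set (Fin N → κ)) (v : Fin N → κ) :
    v ∉ Submodule.span κ S ↔
      ∃ g : Fin N → κ, (∀ w ∈ S, ∑ i, g i * w i = 0) ∧ ∑ i, g i * v i ≠ 0 := by
  constructor
  · intro hv
    obtain ⟨f, hf, hf'⟩ := Submodule.exists_dual_map_eq_bot_of_notMem hv inferInstance
    refine ⟨fun i => f (Pi.single i 1), ?_, ?_⟩
    · intro w hw
      have h1 : f w ∈ (Submodule.span κ S).map f := Submodule.mem_map_of_mem (Submodule.subset_span hw)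
      rw [hf', Submodule.mem_bot] at h1
      rw [← h1, LinearMap.pi_apply_eq_sum_univ f w]
      apply Finset.sum_congr rfl
      intro i _
      rw [smul_eq_mul, mul_comm]
      have : (fun j' : Fin N => if i = j' then (1 : κ) else 0) = Pi.single i 1 := by
        funext j'
        simp [Pi.single_apply, eq_comm]
      rw [this]
    · intro h0
      apply hf
      rw [← h0, LinearMap.pi_apply_eq_sum_univ f v]
      apply Finset.sum_congr rfl
      intro i _
      rw [smul_eq_mul, mul_comm]
      have : (fun j' : Fin N => if i = j' then (1 : κ) else 0) = Pi.single i 1 := by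
        funext j'
        simp [Pi.single_apply, eq_comm]
      rw [this]
  · rintro ⟨g, hg, hgv⟩ hv
    apply hgv
    let ℓ : (Fin N → κ) →ₗ[κ] κ :=
      { toFun := fun w => ∑ i, g i * w i
        map_add' := fun x y => by simp [mul_add, Finset.sum_add_distrib]
        map_smul' := fun c x => by simp [Finset.mul_sum, mul_left_comm] }
    have h1 : Submodule.span κ S ≤ LinearMap.ker ℓ := by
      rw [Submodule.span_le]
      intro w hw
      exact hg w hw
    exact h1 hv

theorem isJump_hcolAt_iff (hK : IsFunctionField k K) (P : Place k K) (hP : P.deg = 1) {t : K}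
    (ht : P.1 t = WithZero.exp (-1 : ℤ)) {Ht : K →ₐ[k] PowerSeries K} (hHt : IsHasseFamily t Ht)
    {n : ℕ} (φ : Fin (n + 1) → K) (hint : ∀ i, P.1 (φ i) ≤ 1) (j : ℕ) :
    IsJump (IsLocalRing.ResidueField P.O) (hcolAt P Ht φ) (j + 1) ↔
      (1 ≤ j ∧ ∃ f ∈ Submodule.span k (Set.range φ), P.1 f = WithZero.exp (-(j : ℤ))) := by
  unfold IsJump
  rcases Nat.eq_zero_or_pos j with hj | hj
  · subst hj
    simp only [zero_add, Nat.le_zero, one_ne_zero, false_and, iff_false, not_not]
    apply Submodule.subset_span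
    exact ⟨0, by simp, hcolAt_zero_eq P hHt φ⟩
  · have himg : hcolAt P Ht φ '' Set.Iio (j + 1) =
        (fun m : ℕ => hcolAt P Ht φ (m + 1)) '' Set.Iio j := by
      ext v
      constructor
      · rintro ⟨m, hm, rfl⟩
        cases m with
        | zero => exact ⟨0, hj, (hcolAt_zero_eq P hHt φ).symm⟩
        | succ m' =>
          refine ⟨m', ?_, rfl⟩
          simp only [Set.mem_Iio] at hm ⊢
          omega
      · rintro ⟨m, hm, rfl⟩
        refine ⟨m + 1, ?_, rfl⟩
        simp only [Set.mem_Iio] at hm ⊢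
        omega
    rw [himg, notMem_span_iff_exists_functional]
    constructor
    · rintro ⟨g, hg, hgv⟩
      refine ⟨hj, ?_⟩
      choose b hb using fun i => exists_algebraMap_eq P hP (g i)
      refine ⟨∑ i, b i • φ i, ?_, ?_⟩
      · exact Submodule.sum_mem _ fun i _ =>
          Submodule.smul_mem _ _ (Submodule.subset_span ⟨i, rfl⟩)
      · rw [val_eq_iff_tc P hP ht (val_sum_smul_le_one P _ b φ hint)]
        have key : ∀ m, algebraMap k (IsLocalRing.ResidueField P.O)
            (tc P t (∑ i, b i • φ i) m) = ∑ i, g i * hcolAt P Ht φ (m + 1) i := by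
          intro m
          rw [tc_sum P hP ht _ b φ hint, map_sum, hcolAt_succ_eq hK P hP ht hHt φ hint]
          apply Finset.sum_congr rfl
          intro i _
          rw [map_mul, hb i]
        constructor
        · intro m hm
          have := hg _ ⟨m, hm, rfl⟩
          rw [← key m] at this
          exact (map_eq_zero _).mp this
        · intro h0
          apply hgv
          rw [← key j, h0, map_zero]
    · rintro ⟨_, f, hf, hfv⟩
      rw [Submodule.mem_span_range_iff_exists_fun] at hf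
      obtain ⟨b, rfl⟩ := hf
      rw [val_eq_iff_tc P hP ht (val_sum_smul_le_one P _ b φ hint)] at hfv
      have key : ∀ m, algebraMap k (IsLocalRing.ResidueField P.O)
          (tc P t (∑ i, b i • φ i) m) =
          ∑ i, algebraMap k (IsLocalRing.ResidueField P.O) (b i) * hcolAt P Ht φ (m + 1) i := by
        intro m
        rw [tc_sum P hP ht _ b φ hint, map_sum, hcolAt_succ_eq hK P hP ht hHt φ hint]
        apply Finset.sum_congr rfl
        intro i _
        rw [map_mul]
      refine ⟨fun i => algebraMap k (IsLocalRing.ResidueField P.O) (b i), ?_, ?_⟩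
      · rintro _ ⟨m, hm, rfl⟩
        rw [← key m, hfv.1 m hm, map_zero]
      · rw [← key j]
        intro h0
        exact hfv.2 ((map_eq_zero _).mp h0)

end Groth.Agent.Helper5.Wr
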