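import Groth.Agent.Helper5.WrLocal2
import Groth.Agent.Helper5.FFEchelon

set_option autoImplicit false

namespace Groth.Agent.Helper5.Wr
open FunFld LocRes LaurentSeries

variable {k K : Type*} [Field k] [Field K] [Algebra k K]

theorem linearIndependent_of_val_injective (P : Place k K) {ι : Type*} [Fintype ι] (b : ι → K)
    (h0 : ∀ i, b i ≠ 0) (hinj : Function.Injective fun i => P.1 (b i)) :
    LinearIndependent k b := by
  classical
  rw [Fintype.linearIndependent_iff]
  intro a ha
  by_contra hne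
  push Not at hne
  obtain ⟨i0, hi0⟩ := hne
  let T : Finset ι := Finset.univ.filter fun i => a i ≠ 0
  have hsumT : ∑ i, a i • b i = ∑ i ∈ T, a i • b i := by
    rw [Finset.sum_filter]
    apply Finset.sum_congr rfl
    intro i _
    by_cases hi : a i = 0
    · simp [hi]
    · simp [hi]
  have hTe : T.Nonempty := ⟨i0, by simp [T, hi0]⟩
  obtain ⟨j, hjT, hjmax⟩ := Finset.exists_max_image T (fun i => P.1 (b i)) hTe
  have haj : a j ≠ 0 := by
    simp only [T, Finset.mem_filter] at hjT; exact hjT.2
  have hlt : ∀ i ∈ T \ {j}, P.1 (a i • b i) < P.1 (a j • b j) := by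
    intro i hi
    rw [Finset.mem_sdiff, Finset.mem_singleton] at hi
    have hai : a i ≠ 0 := by
      have := hi.1
      simp only [T, Finset.mem_filter] at this; exact this.2
    rw [FF.val_smul P hai, FF.val_smul P haj]
    exact lt_of_le_of_ne (hjmax i hi.1) (fun h => hi.2 (hinj h))
  have hval := Valuation.map_sum_eq_of_lt P.1 hjT hlt
  rw [← hsumT, ha, map_zero, FF.val_smul P haj] at hval
  exact (Valuation.ne_zero_iff _).mpr (h0 j) hval.symm

theorem tc_smul (P : Place k K) (hP : P.deg = 1) {t : K}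
    (ht : P.1 t = WithZero.exp (-1 : ℤ)) (c : k) {y : K} (hy : P.1 y ≤ 1) (m : ℕ) :
    tc P t (c • y) m = c * tc P t y m := by
  have := tc_sum P hP ht ({()} : Finset Unit) (fun _ => c) (fun _ => y) (fun _ => hy) m
  simpa using this

theorem evalP_div_pow (P : Place k K) (hP : P.deg = 1) {t : K}
    (ht : P.1 t = WithZero.exp (-1 : ℤ)) {y : K} (j : ℕ) (hy : P.1 y ≤ WithZero.exp (-(j : ℤ))) :
    evalP P (y / t ^ j) = algebraMap k (IsLocalRing.ResidueField P.O) (tc P t y j) := by
  have hy1 : P.1 y ≤ 1 := hy.trans ((WithZero.exp_le_exp.mpr (by omega)).trans_eq WithZero.exp_zero)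
  have h1 := Ex.evalP_mul_zpow P hP ht y (j : ℤ) hy
  rw [zpow_neg, zpow_natCast, ← div_eq_mul_inv] at h1
  rw [h1, Hs.coeff_Φ_of_le P hP ht hy1, if_neg (by omega), Int.natAbs_natCast]
  rfl

theorem adapted_basis (hK : IsFunctionField k K) (P : Place k K) (hP : P.deg = 1) {n : ℕ}
    (φ : Fin (n + 1) → K) (hφ : LinearIndependent k φ)
    (heff : (1 : K) ∈ Submodule.span k (Set.range φ)) (hnorm : ∀ i, P.1 (φ i) ≤ 1)
    {t : K} (ht : P.1 t = WithZero.exp (-1 : ℤ))
    {Ht : K →ₐ[k] PowerSeries K} (hHt : IsHasseFamily t Ht)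
    (J' : Fin n → ℕ) (hJ' : IsOrders (IsLocalRing.ResidueField P.O) (hcolAt P Ht φ) J') :
    (∃ φ' : Fin (n + 1) → K,
      Submodule.span k (Set.range φ') = Submodule.span k (Set.range φ) ∧
      P.1 (φ' 0) = 1 ∧ evalP P (φ' 0) = 1 ∧
      ∀ l : Fin n, P.1 (φ' l.succ) = WithZero.exp (-(J' l : ℤ)) ∧
        evalP P (φ' l.succ / t ^ J' l) = 1) ∧
    ∀ j : ℕ, (j = 0 ∨ j ∈ Set.range J') ↔
      ∃ f ∈ Submodule.span k (Set.range φ), P.1 f = WithZero.exp (-(j : ℤ)) := by
  have hspan_le : ∀ f ∈ Submodule.span k (Set.range φ), P.1 f ≤ 1 := by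
    intro f hf
    rw [Submodule.mem_span_range_iff_exists_fun] at hf
    obtain ⟨b, rfl⟩ := hf
    exact val_sum_smul_le_one P _ b φ hnorm
  have hjump : ∀ l : Fin n, 1 ≤ J' l ∧
      ∃ f ∈ Submodule.span k (Set.range φ), P.1 f = WithZero.exp (-(J' l : ℤ)) := fun l =>
    (isJump_hcolAt_iff hK P hP ht hHt φ hnorm (J' l)).mp ((hJ'.2 (J' l)).mp ⟨l, rfl⟩)
  constructor
  · choose hJ1 f hf hfv using hjump
    have hc : ∀ l, tc P t (f l) (J' l) ≠ 0 := fun l =>
      ((val_eq_iff_tc P hP ht (hspan_le _ (hf l)) (J' l)).mp (hfv l)).2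
    let φ' : Fin (n + 1) → K := Fin.cons 1 (fun l => (tc P t (f l) (J' l))⁻¹ • f l)
    have hφ'mem : ∀ i, φ' i ∈ Submodule.span k (Set.range φ) := by
      intro i
      rcases Fin.eq_zero_or_eq_succ i with rfl | ⟨l, rfl⟩
      · exact heff
      · exact Submodule.smul_mem _ _ (hf l)
    have hval : ∀ l : Fin n, P.1 (φ' l.succ) = WithZero.exp (-(J' l : ℤ)) := by
      intro l
      simp only [φ', Fin.cons_succ]
      rw [FF.val_smul P (inv_ne_zero (hc l)), hfv l]
    have hval0 : P.1 (φ' 0) = 1 := by simp [φ']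
    have hli : LinearIndependent k φ' := by
      apply linearIndependent_of_val_injective P
      · intro i h
        rcases Fin.eq_zero_or_eq_succ i with rfl | ⟨l, rfl⟩
        · rw [h, map_zero] at hval0; exact zero_ne_one hval0
        · have := hval l
          rw [h, map_zero] at this
          exact WithZero.exp_ne_zero this.symm
      · intro i i' hii
        simp only at hii
        rcases Fin.eq_zero_or_eq_succ i with rfl | ⟨l, rfl⟩ <;>
          rcases Fin.eq_zero_or_eq_succ i' with rfl | ⟨l', rfl⟩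
        · rfl
        · rw [hval0, hval l', ← WithZero.exp_zero, WithZero.exp_inj] at hii
          have := hJ1 l'
          omega
        · rw [hval0, hval l, ← WithZero.exp_zero, WithZero.exp_inj] at hii
          have := hJ1 l
          omega
        · rw [hval l, hval l', WithZero.exp_inj] at hii
          have : J' l = J' l' := by omega
          rw [hJ'.1.injective this]
    refine ⟨φ', ?_, hval0, ?_, fun l => ⟨hval l, ?_⟩⟩
    · have : FiniteDimensional k (Submodule.span k (Set.range φ)) :=
        FiniteDimensional.span_of_finite k (Set.finite_range φ)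
      apply Submodule.eq_of_le_of_finrank_eq
      · rw [Submodule.span_le]
        rintro _ ⟨i, rfl⟩
        exact hφ'mem i
      · rw [finrank_span_eq_card hli, finrank_span_eq_card hφ]
    · simp only [φ', Fin.cons_zero]
      rw [evalP, dif_pos (by simp)]
      exact map_one _
    · rw [evalP_div_pow P hP ht (J' l) (hval l).le]
      simp only [φ', Fin.cons_succ]
      rw [tc_smul P hP ht _ (hspan_le _ (hf l)), inv_mul_cancel₀ (hc l), map_one]
  · intro j
    rcases Nat.eq_zero_or_pos j with hj | hj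
    · subst hj
      simp only [true_or, true_iff]
      exact ⟨1, heff, by simp⟩
    · rw [hJ'.2 j, isJump_hcolAt_iff hK P hP ht hHt φ hnorm j]
      constructor
      · rintro (h | h)
        · omega
        · exact h.2
      · intro h
        exact Or.inr ⟨hj, h⟩

end Groth.Agent.Helper5.Wr
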