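import Groth.Agent.Helper5.WrStrong

set_option autoImplicit false

namespace Groth.Agent.Helper5.Wr
open FunFld LocRes

variable {k K : Type*} [Field k] [Field K] [Algebra k K]

theorem exp_neg_two_lt_one : (WithZero.exp (-2 : ℤ) : WithZero (Multiplicative ℤ)) < 1 := by
  rw [← WithZero.exp_zero, WithZero.exp_lt_exp]; norm_num

/-- the subalgebra `k + 𝔪_P²` -/
def R2 (P : Place k K) : Subalgebra k K where
  carrier := {z | ∃ c : k, P.1 (z - algebraMap k K c) ≤ WithZero.exp (-2 : ℤ)}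
  mul_mem' := by
    rintro x y ⟨c, hc⟩ ⟨d, hd⟩
    refine ⟨c * d, ?_⟩
    have e : x * y - algebraMap k K (c * d) =
        (x - algebraMap k K c) * y + algebraMap k K c * (y - algebraMap k K d) := by
      rw [map_mul]; ring
    have hy : P.1 y ≤ 1 := by
      have : y = (y - algebraMap k K d) + algebraMap k K d := by ring
      rw [this]
      exact (Valuation.map_add _ _ _).trans (max_le (hd.trans exp_neg_two_lt_one.le) (P.2.1 d))
    rw [e]
    refine (Valuation.map_add _ _ _).trans (max_le ?_ ?_)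
    · rw [map_mul]
      calc P.1 (x - algebraMap k K c) * P.1 y ≤ WithZero.exp (-2 : ℤ) * 1 := mul_le_mul' hc hy
        _ = _ := mul_one _
    · rw [map_mul]
      calc P.1 (algebraMap k K c) * P.1 (y - algebraMap k K d) ≤ 1 * WithZero.exp (-2 : ℤ) :=
            mul_le_mul' (P.2.1 c) hd
        _ = _ := one_mul _
  one_mem' := ⟨1, by simp⟩
  add_mem' := by
    rintro x y ⟨c, hc⟩ ⟨d, hd⟩
    refine ⟨c + d, ?_⟩
    have e : x + y - algebraMap k K (c + d) = (x - algebraMap k K c) + (y - algebraMap k K d) := by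
      rw [map_add]; ring
    rw [e]
    exact (Valuation.map_add _ _ _).trans (max_le hc hd)
  zero_mem' := ⟨0, by simp⟩
  algebraMap_mem' := fun c => ⟨c, by simp⟩

theorem mem_R2 (P : Place k K) (z : K) :
    z ∈ R2 P ↔ ∃ c : k, P.1 (z - algebraMap k K c) ≤ WithZero.exp (-2 : ℤ) := Iff.rfl

theorem inv_mem_R2 (P : Place k K) {z : K} (hz : z ∈ R2 P) (hz1 : P.1 z = 1) : z⁻¹ ∈ R2 P := by
  obtain ⟨c, hc⟩ := hz
  have hz0 : z ≠ 0 := by
    rintro rfl
    rw [map_zero] at hz1
    exact zero_ne_one hz1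
  have hc0 : c ≠ 0 := by
    rintro rfl
    rw [map_zero, sub_zero, hz1] at hc
    exact not_le.mpr exp_neg_two_lt_one hc
  have hac0 : algebraMap k K c ≠ 0 := (map_ne_zero _).mpr hc0
  refine ⟨c⁻¹, ?_⟩
  have e : z⁻¹ - algebraMap k K c⁻¹ = -(z - algebraMap k K c) * (z⁻¹ * (algebraMap k K c)⁻¹) := by
    rw [map_inv₀]
    field_simp
    ring
  rw [e, map_mul, Valuation.map_neg, map_mul, map_inv₀, map_inv₀, hz1, FF.val_algebraMap P hc0]
  simpa using hc

theorem val_eq_exp_nat (P : Place k K) {z : K} (hz0 : z ≠ 0) (hz : P.1 z < 1) :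
    ∃ j : ℕ, 1 ≤ j ∧ P.1 z = WithZero.exp (-(j : ℤ)) := by
  have h2 : P.1 z ≠ 0 := (Valuation.ne_zero_iff _).mpr hz0
  obtain ⟨a, ha⟩ : ∃ a : ℤ, P.1 z = WithZero.exp a := ⟨_, (WithZero.exp_log h2).symm⟩
  have hz' : WithZero.exp a < WithZero.exp (0 : ℤ) := by
    rw [← ha, WithZero.exp_zero]; exact hz
  rw [WithZero.exp_lt_exp] at hz'
  refine ⟨(-a).toNat, by omega, ?_⟩
  rw [ha]
  congr 1
  have : ((-a).toNat : ℤ) = -a := Int.toNat_of_nonneg (by omega)
  rw [this, neg_neg]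

theorem first_order_eq_one_of_nonsingular (hK : IsFunctionField k K) (P : Place k K)
    (hP : P.deg = 1) {n : ℕ} (hn : 0 < n) (φ : Fin (n + 1) → K) (hφ : LinearIndependent k φ)
    (heff : (1 : K) ∈ Submodule.span k (Set.range φ)) (hnorm : ∀ i, P.1 (φ i) ≤ 1)
    (hns : IsNonsingularAt φ P) {t : K} (ht : P.1 t = WithZero.exp (-1 : ℤ))
    {Ht : K →ₐ[k] PowerSeries K} (hHt : IsHasseFamily t Ht)
    (J' : Fin n → ℕ) (hJ' : IsOrders (IsLocalRing.ResidueField P.O) (hcolAt P Ht φ) J') :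
    J' ⟨0, hn⟩ = 1 := by
  have hJ1 : ∀ l : Fin n, 1 ≤ J' l := fun l =>
    ((isJump_hcolAt_iff hK P hP ht hHt φ hnorm (J' l)).mp ((hJ'.2 (J' l)).mp ⟨l, rfl⟩)).1
  have hB := (adapted_basis hK P hP φ hφ heff hnorm ht hHt J' hJ').2
  by_contra hne
  have h2 : ∀ l : Fin n, 2 ≤ J' l := by
    intro l
    have h0 : J' ⟨0, hn⟩ ≤ J' l := hJ'.1.monotone (Fin.mk_le_of_le_val (Nat.zero_le _))
    have := hJ1 ⟨0, hn⟩
    omega
  -- every element of the span lies in k + m²
  have hspanR2 : ∀ f ∈ Submodule.span k (Set.range φ), f ∈ R2 P := by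
    intro f hf
    have hf1 : P.1 f ≤ 1 := by
      rw [Submodule.mem_span_range_iff_exists_fun] at hf
      obtain ⟨b, rfl⟩ := hf
      exact val_sum_smul_le_one P _ b φ hnorm
    obtain ⟨c, hc⟩ := FF.exists_const_of_deg_one P hP hf1
    refine ⟨c, ?_⟩
    by_cases hfc : f - algebraMap k K c = 0
    · rw [hfc, map_zero]; exact zero_le
    · obtain ⟨j, hj1, hj⟩ := val_eq_exp_nat P hfc hc
      have hmem : f - algebraMap k K c ∈ Submodule.span k (Set.range φ) := by
        apply Submodule.sub_mem _ hf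
        rw [Algebra.algebraMap_eq_smul_one]
        exact Submodule.smul_mem _ _ heff
      rcases (hB j).mpr ⟨_, hmem, hj⟩ with h | ⟨l, hl⟩
      · omega
      · rw [hj, WithZero.exp_le_exp]
        have := h2 l
        omega
  -- the local ring is contained in k + m²
  obtain ⟨j, hj0, hjmax, u, hu, w, hw, hw1, htw⟩ := hns t (by rw [ht]; exact (WithZero.exp_lt_exp.mpr (by norm_num)).le.trans_eq WithZero.exp_zero)
  have hφj1 : P.1 (φ j) = 1 := by
    apply le_antisymm (hnorm j)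
    rw [Submodule.mem_span_range_iff_exists_fun] at heff
    obtain ⟨b, hb⟩ := heff
    have h1 : P.1 (∑ i, b i • φ i) ≤ P.1 (φ j) := by
      apply Valuation.map_sum_le
      intro i _
      rw [Algebra.smul_def, map_mul]
      calc P.1 (algebraMap k K (b i)) * P.1 (φ i) ≤ 1 * P.1 (φ j) := mul_le_mul' (P.2.1 _) (hjmax i)
        _ = _ := one_mul _
    rw [hb, map_one] at h1
    exact h1
  have hgen : Algebra.adjoin k (Set.range fun i => φ i / φ j) ≤ R2 P := by
    rw [Algebra.adjoin_le_iff]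
    rintro _ ⟨i, rfl⟩
    show φ i / φ j ∈ R2 P
    rw [div_eq_mul_inv]
    exact (R2 P).mul_mem (hspanR2 _ (Submodule.subset_span ⟨i, rfl⟩))
      (inv_mem_R2 P (hspanR2 _ (Submodule.subset_span ⟨j, rfl⟩)) hφj1)
  have hw0 : w ≠ 0 := by
    rintro rfl
    rw [map_zero] at hw1
    exact zero_ne_one hw1
  have htR2 : t ∈ R2 P := by
    have : t = u * w⁻¹ := by
      rw [← htw]; field_simp
    rw [this]
    exact (R2 P).mul_mem (hgen hu) (inv_mem_R2 P (hgen hw) hw1)
  obtain ⟨c, hc⟩ := htR2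
  by_cases hc0 : c = 0
  · rw [hc0, map_zero, sub_zero, ht, WithZero.exp_le_exp] at hc
    omega
  · have h1 : P.1 (t - algebraMap k K c) = 1 := by
      have hlt : P.1 t < P.1 (algebraMap k K c) := by
        rw [FF.val_algebraMap P hc0, ht, ← WithZero.exp_zero, WithZero.exp_lt_exp]; norm_num
      rw [Valuation.map_sub_eq_of_lt_right _ hlt, FF.val_algebraMap P hc0]
    rw [h1] at hc
    exact not_le.mpr exp_neg_two_lt_one hc

end Groth.Agent.Helper5.Wr
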