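import Groth.Agent.Helper5.WrFix

set_option autoImplicit false

namespace Groth.Agent.Helper5.Wr
open FunFld LocRes

variable {k K : Type*} [Field k] [Field K] [Algebra k K]

theorem exists_matrix_of_mem_span {n : ℕ} (φ φ' : Fin (n + 1) → K)
    (hφ' : LinearIndependent k φ') (hmem : ∀ i, φ' i ∈ Submodule.span k (Set.range φ)) :
    ∃ A : Matrix (Fin (n + 1)) (Fin (n + 1)) k, A.det ≠ 0 ∧ ∀ i, φ' i = ∑ j, A i j • φ j := by
  have h1 : ∀ i, ∃ c : Fin (n + 1) → k, ∑ j, c j • φ j = φ' i := fun i =>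
    (Submodule.mem_span_range_iff_exists_fun k).mp (hmem i)
  choose A hA using h1
  refine ⟨Matrix.of A, ?_, fun i => (hA i).symm⟩
  intro hdet
  obtain ⟨v, hv0, hv⟩ := Matrix.exists_vecMul_eq_zero_iff.mpr hdet
  apply hv0
  have h2 : ∑ i, v i • φ' i = 0 := by
    have : ∑ i, v i • φ' i = ∑ j, (Matrix.vecMul v (Matrix.of A)) j • φ j := by
      simp only [← hA, Finset.smul_sum, smul_smul]
      rw [Finset.sum_comm]
      apply Finset.sum_congr rfl
      intro j _
      rw [← Finset.sum_smul]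
      rfl
    rw [this, hv]
    simp
  funext i
  exact Fintype.linearIndependent_iff.mp hφ' v h2 i

theorem evalP_eq_zero_of_lt (P : Place k K) {z : K} (hz : P.1 z < 1) : evalP P z = 0 := by
  rw [evalP_eq_residue P hz.le, FF.residue_eq_zero_iff]
  exact hz

/-- The order at a fixed point of the generalized Wronskian (Stöhr–Voloch). -/
theorem val_det_wrMat (hK : IsFunctionField k K) (P : Place k K) (hP : P.deg = 1)
    (τ : K →ₐ[k] K) (hfix : IsFixedPt τ P) {n : ℕ}
    (φ : Fin (n + 1) → K) (hφ : LinearIndependent k φ)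
    (heff : (1 : K) ∈ Submodule.span k (Set.range φ)) (hnorm : ∀ i, P.1 (φ i) ≤ 1)
    {t : K} (ht : P.1 t = WithZero.exp (-1 : ℤ))
    {Ht : K →ₐ[k] PowerSeries K} (hHt : IsHasseFamily t Ht)
    (J : Fin n → ℕ) (hJ : IsOrders (IsLocalRing.ResidueField P.O) (hcolAt P Ht φ) J)
    (I : Fin n → ℕ) :
    P.1 (wrMat τ Ht φ I).det ≤ WithZero.exp (-(∑ l, ((J l : ℤ) - I l))) ∧
    (((∀ l, 0 < I l) ∨ IsStrongFixedPt τ P) →
      (P.1 (wrMat τ Ht φ I).det = WithZero.exp (-(∑ l, ((J l : ℤ) - I l))) ↔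
        (binomMat k J I).det ≠ 0)) := by
  have hJ1 : ∀ l : Fin n, 1 ≤ J l := fun l =>
    ((isJump_hcolAt_iff hK P hP ht hHt φ hnorm (J l)).mp ((hJ.2 (J l)).mp ⟨l, rfl⟩)).1
  obtain ⟨⟨φ', hspan, hv0, he0, hφ'⟩, -⟩ :=
    adapted_basis hK P hP φ hφ heff hnorm ht hHt J hJ
  have hφ'mem : ∀ i, φ' i ∈ Submodule.span k (Set.range φ) := by
    intro i; rw [← hspan]; exact Submodule.subset_span ⟨i, rfl⟩
  have hli' : LinearIndependent k φ' := by
    rw [linearIndependent_iff_card_eq_finrank_span, Set.finrank, hspan, finrank_span_eq_card hφ]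
  obtain ⟨A, hAdet, hA⟩ := exists_matrix_of_mem_span φ φ' hli' hφ'mem
  have hdetrel := (linear_change τ Ht φ φ' A hAdet hA).2 I
  have hvaleq : P.1 (wrMat τ Ht φ' I).det = P.1 (wrMat τ Ht φ I).det := by
    rw [hdetrel, map_mul, FF.val_algebraMap P hAdet, one_mul]
  rw [← hvaleq]
  -- weights
  let a : Fin (n + 1) → ℤ := Fin.cons 0 (fun l => (J l : ℤ))
  let b : Fin (n + 1) → ℤ := Fin.cons 0 (fun s => (I s : ℤ))
  have hφ'val : ∀ l, P.1 (φ' l) ≤ WithZero.exp (-(a l)) := by
    intro l
    rcases Fin.eq_zero_or_eq_succ l with rfl | ⟨l', rfl⟩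
    · simp only [a, Fin.cons_zero, neg_zero, WithZero.exp_zero]
      exact hv0.le
    · simp only [a, Fin.cons_succ]
      exact (hφ' l').1.le
  have hφ'ev : ∀ l, evalP P (φ' l * t ^ (-(a l))) = 1 := by
    intro l
    rcases Fin.eq_zero_or_eq_succ l with rfl | ⟨l', rfl⟩
    · simp only [a, Fin.cons_zero, neg_zero, zpow_zero, mul_one]
      exact he0
    · simp only [a, Fin.cons_succ]
      rw [zpow_neg, zpow_natCast, ← div_eq_mul_inv]
      exact (hφ' l').2
  have hentry : ∀ l s, P.1 (wrMat τ Ht φ' I l s) ≤ WithZero.exp (-(a l - b s)) := by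
    intro l s
    rcases Fin.eq_zero_or_eq_succ s with rfl | ⟨s', rfl⟩
    · simp only [wrMat, Matrix.of_apply, Fin.cases_zero, b, Fin.cons_zero, sub_zero]
      rcases Fin.eq_zero_or_eq_succ l with rfl | ⟨l', rfl⟩
      · simp only [a, Fin.cons_zero, neg_zero, WithZero.exp_zero]
        exact (val_tau_le_one P hP τ hfix hv0.le).1
      · simp only [a, Fin.cons_succ]
        exact val_tau_le P hP τ hfix ht (J l') (hφ' l').1.le
    · simp only [wrMat, Matrix.of_apply, Fin.cases_succ, b, Fin.cons_succ]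
      exact Hs.val_hasseD_le hK P hP ht hHt (φ' l) (a l) (hφ'val l) (I s')
  obtain ⟨hle, hiff⟩ := det_weighted P ht (wrMat τ Ht φ' I) a b hentry
  have hsum : ∑ l, a l - ∑ s, b s = ∑ l, ((J l : ℤ) - I l) := by
    simp only [a, b, Fin.sum_univ_succ, Fin.cons_zero, Fin.cons_succ, zero_add,
      Finset.sum_sub_distrib]
  rw [hsum] at hle hiff
  refine ⟨hle, fun hcase => ?_⟩
  rw [hiff]
  -- the leading matrix
  set M : Matrix (Fin (n + 1)) (Fin (n + 1)) (IsLocalRing.ResidueField P.O) :=
    Matrix.of fun l s => evalP P (wrMat τ Ht φ' I l s * t ^ (-(a l - b s))) with hM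
  have hMsucc : ∀ l s', M l (Fin.succ s') =
      ((Ring.choose (a l) (I s') : ℤ) : IsLocalRing.ResidueField P.O) := by
    intro l s'
    simp only [hM, Matrix.of_apply, wrMat, Fin.cases_succ, b, Fin.cons_succ]
    rw [Hs.evalP_hasseD hK P hP ht hHt (φ' l) (a l) (hφ'val l) (I s'), hφ'ev l, mul_one]
  have hM00 : M 0 0 = 1 := by
    simp only [hM, Matrix.of_apply, wrMat, Fin.cases_zero, a, b, Fin.cons_zero, sub_zero, neg_zero,
      zpow_zero, mul_one]
    rw [(val_tau_le_one P hP τ hfix hv0.le).2, he0]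
  have hminor : (M.submatrix Fin.succ Fin.succ).det =
      algebraMap k (IsLocalRing.ResidueField P.O) (binomMat k J I).det := by
    rw [RingHom.map_det]
    congr 1
    apply Matrix.ext
    intro l s
    simp only [Matrix.submatrix_apply, RingHom.mapMatrix_apply, Matrix.map_apply, binomMat,
      Matrix.of_apply]
    rw [hMsucc]
    simp only [a, Fin.cons_succ]
    rw [Ring.choose_natCast]
    simp
  have hdetM : M.det = (M.submatrix Fin.succ Fin.succ).det := by
    rcases hcase with hI | hstrong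
    · rw [Matrix.det_succ_row_zero, Fin.sum_univ_succ]
      have hz : ∀ s' : Fin n, M 0 (Fin.succ s') = 0 := by
        intro s'
        rw [hMsucc]
        simp only [a, Fin.cons_zero]
        have : Ring.choose (0 : ℤ) (I s') = 0 := by
          have h := Ring.choose_natCast (R := ℤ) 0 (I s')
          rw [Nat.cast_zero] at h
          rw [h, Nat.choose_eq_zero_of_lt (hI s')]
          rfl
        rw [this, Int.cast_zero]
      rw [Finset.sum_eq_zero (fun s' _ => by rw [hz s']; ring)]
      simp [hM00]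
    · rw [Matrix.det_succ_column_zero, Fin.sum_univ_succ]
      have hz : ∀ l' : Fin n, M (Fin.succ l') 0 = 0 := by
        intro l'
        simp only [hM, Matrix.of_apply, wrMat, Fin.cases_zero, a, b, Fin.cons_zero, Fin.cons_succ,
          sub_zero]
        apply evalP_eq_zero_of_lt
        rw [map_mul, val_zpow P ht, neg_neg]
        calc P.1 (τ (φ' l'.succ)) * WithZero.exp (J l' : ℤ)
            ≤ WithZero.exp (-(2 * (J l') : ℤ)) * WithZero.exp (J l' : ℤ) :=
              mul_le_mul' (val_tau_le_strong P hP τ hstrong ht (J l') (hφ' l').1.le) le_rfl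
          _ = WithZero.exp (-(J l' : ℤ)) := by
              rw [← WithZero.exp_add]; congr 1; ring
          _ < 1 := by
              rw [← WithZero.exp_zero, WithZero.exp_lt_exp]
              have := hJ1 l'
              omega
      rw [Finset.sum_eq_zero (fun l' _ => by rw [hz l']; ring)]
      simp [hM00]
  rw [hdetM, hminor]
  exact (map_ne_zero_iff _ (algebraMap k (IsLocalRing.ResidueField P.O)).injective)

end Groth.Agent.Helper5.Wr
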