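import Groth.Agent.Helper5.WrTri

set_option autoImplicit false

namespace Groth.Agent.Helper5.Wr
open FunFld LocRes

section Lin
variable {R M : Type*} [Field R] [AddCommGroup M] [Module R M]

open scoped Classical in
/-- The dimension of the span of the first `N` columns is the number of jumps below `N`. -/
theorem finrank_span_Iio [FiniteDimensional R M] (c : ℕ → M) (N : ℕ) :
    Module.finrank R (Submodule.span R (c '' Set.Iio N)) =
      ((Finset.range N).filter (fun j => IsJump R c j)).card := by
  induction N with
  | zero => simp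
  | succ N ih =>
    have h1 : Set.Iio (N + 1) = insert N (Set.Iio N) := by
      ext j; simp only [Set.mem_Iio, Set.mem_insert_iff]; omega
    rw [h1, Set.image_insert_eq, Finset.range_add_one, Finset.filter_insert]
    by_cases hj : IsJump R c N
    · rw [if_pos hj, Finset.card_insert_of_notMem (by simp), ← ih]
      have hN : c N ∉ Submodule.span R (c '' Set.Iio N) := hj
      rw [Submodule.span_insert]
      have hdisj : Disjoint (Submodule.span R {c N}) (Submodule.span R (c '' Set.Iio N)) := by
        rw [disjoint_comm, Submodule.disjoint_span_singleton']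
        · exact hN
        · intro h0
          apply hN
          rw [h0]
          exact Submodule.zero_mem _
      have h2 := Submodule.finrank_sup_add_finrank_inf_eq (Submodule.span R {c N})
        (Submodule.span R (c '' Set.Iio N))
      rw [disjoint_iff.mp hdisj, finrank_bot, add_zero] at h2
      rw [h2, finrank_span_singleton, add_comm]
      intro h0
      apply hN
      rw [h0]
      exact Submodule.zero_mem _
    · rw [if_neg hj, ← ih]
      have hN : c N ∈ Submodule.span R (c '' Set.Iio N) := by
        by_contra h; exact hj h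
      rw [Submodule.span_insert, sup_eq_right.mpr]
      rw [Submodule.span_le, Set.singleton_subset_iff]
      exact hN

/-- Existence of the order sequence for a column sequence spanning a space of dimension `n + 1` with
nonzero leading column, with linearly independent selected columns. -/
theorem exists_orders [FiniteDimensional R M] {n : ℕ} (c : ℕ → M) (hc0 : c 0 ≠ 0)
    (htop : Submodule.span R (Set.range c) = ⊤) (hdim : Module.finrank R M = n + 1) :
    ∃ J : Fin n → ℕ, IsOrders R c J ∧
      LinearIndependent R (Fin.cons (c 0) (fun l => c (J l + 1)) : Fin (n + 1) → M) := by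
  classical
  -- stabilization
  let V : ℕ →o Submodule R M :=
    ⟨fun N => Submodule.span R (c '' Set.Iio N), by
      intro a b hab
      apply Submodule.span_mono
      apply Set.image_mono
      intro x hx
      exact lt_of_lt_of_le hx hab⟩
  obtain ⟨N₀, hN₀⟩ := monotone_stabilizes_iff_noetherian.mpr (inferInstance : IsNoetherian R M) V
  have hVtop : Submodule.span R (c '' Set.Iio N₀) = ⊤ := by
    rw [eq_top_iff, ← htop, Submodule.span_le]
    rintro _ ⟨j, rfl⟩
    have h1 : c j ∈ V (max (j + 1) N₀) := by
      apply Submodule.subset_span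
      exact ⟨j, by simp, rfl⟩
    rw [← hN₀ (max (j + 1) N₀) (le_max_right _ _)] at h1
    exact h1
  have hnojump : ∀ j, N₀ ≤ j → ¬ IsJump R c j := by
    intro j hj h
    apply h
    have : V N₀ ≤ V j := V.monotone hj
    exact this (by rw [show V N₀ = ⊤ from hVtop]; trivial)
  -- the set of jumps
  let 𝒥 : Finset ℕ := (Finset.range N₀).filter (fun j => IsJump R c j)
  have h𝒥 : ∀ j, j ∈ 𝒥 ↔ IsJump R c j := by
    intro j
    simp only [𝒥, Finset.mem_filter, Finset.mem_range]
    constructor
    · exact fun h => h.2
    · intro h
      refine ⟨?_, h⟩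
      by_contra hlt
      exact hnojump j (not_lt.mp hlt) h
  have hcard : 𝒥.card = n + 1 := by
    rw [← finrank_span_Iio, hVtop, finrank_top, hdim]
  have h0 : 0 ∈ 𝒥 := by
    rw [h𝒥]
    unfold IsJump
    simpa using hc0
  -- shifted jumps
  let 𝒥' : Finset ℕ := (𝒥.erase 0).image (fun j => j - 1)
  have h𝒥' : ∀ j, j ∈ 𝒥' ↔ IsJump R c (j + 1) := by
    intro j
    simp only [𝒥', Finset.mem_image, Finset.mem_erase]
    constructor
    · rintro ⟨j', ⟨hne, hj'⟩, rfl⟩
      rw [h𝒥] at hj'
      have : j' - 1 + 1 = j' := by omega
      rw [this]; exact hj'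
    · intro h
      exact ⟨j + 1, ⟨by omega, (h𝒥 _).mpr h⟩, by omega⟩
  have hcard' : 𝒥'.card = n := by
    rw [Finset.card_image_of_injOn, Finset.card_erase_of_mem h0, hcard]
    · rfl
    · intro a ha b hb hab
      simp only [Finset.coe_erase, Set.mem_sdiff, Finset.mem_coe, Set.mem_singleton_iff] at ha hb
      have ha' := ha.2
      have hb' := hb.2
      simp only at hab
      omega
  let J : Fin n → ℕ := 𝒥'.orderEmbOfFin hcard'
  have hJrange : ∀ j, j ∈ Set.range J ↔ IsJump R c (j + 1) := by
    intro j
    rw [← h𝒥']
    have := Finset.range_orderEmbOfFin 𝒥' hcard'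
    rw [show Set.range J = Set.range (𝒥'.orderEmbOfFin hcard') from rfl, this]
    simp
  have hJ : IsOrders R c J := ⟨(𝒥'.orderEmbOfFin hcard').strictMono, hJrange⟩
  refine ⟨J, hJ, ?_⟩
  apply linearIndependent_of_top_le_span_of_card_eq_finrank
  · rw [← hVtop, span_Iio_eq_span_jumps]
    apply Submodule.span_mono
    rintro _ ⟨j, ⟨_, hj⟩, rfl⟩
    rcases Nat.eq_zero_or_pos j with h | h
    · subst h
      exact ⟨0, by simp⟩
    · obtain ⟨j', rfl⟩ : ∃ j', j = j' + 1 := ⟨j - 1, by omega⟩
      obtain ⟨l, hl⟩ := (hJrange j').mpr hj
      exact ⟨l.succ, by simp [hl]⟩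
  · rw [hdim]; simp

end Lin

end Groth.Agent.Helper5.Wr
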