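import Groth.Agent.Helper5.WrOrd

set_option autoImplicit false

namespace Groth.Agent.Helper5.Wr
open FunFld LocRes

variable {k K : Type*} [Field k] [Field K] [Algebra k K]

theorem evalP_mul (P : Place k K) {x y : K} (hx : P.1 x ≤ 1) (hy : P.1 y ≤ 1) :
    evalP P (x * y) = evalP P x * evalP P y := by
  have hxy : P.1 (x * y) ≤ 1 := by
    rw [map_mul]; exact (mul_le_mul' hx hy).trans_eq (one_mul 1)
  rw [evalP_eq_residue P hx, evalP_eq_residue P hy, evalP_eq_residue P hxy, ← map_mul]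
  rfl

theorem evalP_ne_zero_of_val_eq_one (P : Place k K) {z : K} (hz : P.1 z = 1) : evalP P z ≠ 0 := by
  rw [evalP_eq_residue P hz.le, ne_eq, FF.residue_eq_zero_iff]
  simp [hz]

theorem evalP_one (P : Place k K) : evalP P (1 : K) = 1 := by
  rw [evalP_eq_residue P (by simp)]
  exact map_one _

theorem evalP_inv_of_evalP_eq_one (P : Place k K) {z : K} (hz : P.1 z = 1) (he : evalP P z = 1) :
    evalP P z⁻¹ = 1 := by
  have hz0 : z ≠ 0 := by
    rintro rfl
    rw [map_zero] at hz
    exact zero_ne_one hz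
  have hzi : P.1 z⁻¹ = 1 := by rw [map_inv₀, hz, inv_one]
  have h1 := evalP_mul P hz.le hzi.le
  rw [mul_inv_cancel₀ hz0, evalP_one, he, one_mul] at h1
  exact h1.symm

/-- At a strong fixed point, the `τ`-orders are bounded by the differences of the orders at the point. -/
theorem orders_add_le_of_strong (hK : IsFunctionField k K) (P : Place k K) (hP : P.deg = 1)
    (τ : K →ₐ[k] K) (hstrong : IsStrongFixedPt τ P) {n : ℕ} (hn : 0 < n)
    (φ : Fin (n + 1) → K) (hφ : LinearIndependent k φ)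
    (heff : (1 : K) ∈ Submodule.span k (Set.range φ)) (hnorm : ∀ i, P.1 (φ i) ≤ 1)
    {t : K} (ht : P.1 t = WithZero.exp (-1 : ℤ))
    {Ht : K →ₐ[k] PowerSeries K} (hHt : IsHasseFamily t Ht)
    (J : Fin n → ℕ) (hJ : IsOrders K (hcol τ Ht φ) J)
    (J' : Fin n → ℕ) (hJ' : IsOrders (IsLocalRing.ResidueField P.O) (hcolAt P Ht φ) J') :
    ∀ l, J l + J' ⟨0, hn⟩ ≤ J' l := by
  have hfix := isFixedPt_of_isStrongFixedPt hstrong
  have ht0 : t ≠ 0 := by
    rintro rfl
    rw [map_zero] at ht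
    exact WithZero.exp_ne_zero ht.symm
  have hJ1 : ∀ l : Fin n, 1 ≤ J' l := fun l =>
    ((isJump_hcolAt_iff hK P hP ht hHt φ hnorm (J' l)).mp ((hJ'.2 (J' l)).mp ⟨l, rfl⟩)).1
  obtain ⟨⟨φ', hspan, hv0, he0, hφ'⟩, -⟩ :=
    adapted_basis hK P hP φ hφ heff hnorm ht hHt J' hJ'
  have hφ'mem : ∀ i, φ' i ∈ Submodule.span k (Set.range φ) := by
    intro i; rw [← hspan]; exact Submodule.subset_span ⟨i, rfl⟩
  have hli' : LinearIndependent k φ' := by
    rw [linearIndependent_iff_card_eq_finrank_span, Set.finrank, hspan, finrank_span_eq_card hφ]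
  obtain ⟨A, hAdet, hA⟩ := exists_matrix_of_mem_span φ φ' hli' hφ'mem
  -- the normalising function
  set l0 : Fin n := ⟨0, hn⟩ with hl0
  set j1 : ℕ := J' l0 with hj1
  have hφ1 : φ' l0.succ ≠ 0 := by
    intro h
    have := (hφ' l0).1
    rw [h, map_zero] at this
    exact WithZero.exp_ne_zero this.symm
  set y : K := (φ' l0.succ)⁻¹ with hy
  have hy0 : y ≠ 0 := inv_ne_zero hφ1
  -- orders transfer
  have hJψ : IsOrders K (hcol τ Ht (y • φ')) J := by
    rw [(smul_change τ hHt φ' y hy0).1 J, (linear_change τ Ht φ φ' A hAdet hA).1 J]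
    exact hJ
  -- the index sequence
  let I : Fin n → ℕ := fun l => J' l - j1
  have hIle : ∀ l, j1 ≤ J' l := fun l => hJ'.1.monotone (Fin.mk_le_of_le_val (Nat.zero_le _))
  have hImono : StrictMono I := by
    intro l l' hll
    have := hJ'.1 hll
    have h1 := hIle l
    have h2 := hIle l'
    simp only [I]
    omega
  suffices hdet : (wrMat τ Ht (y • φ') I).det ≠ 0 by
    intro l
    have := orders_le (R := K) (hcol τ Ht (y • φ')) J I hJψ hImono
      (linearIndependent_selCols_of_det_ne_zero τ Ht (y • φ') I hdet) l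
    have h1 := hIle l
    simp only [I] at this
    omega
  -- valuation of τ (φ' 1)
  have hτ1 : τ (φ' l0.succ) ≠ 0 := (map_ne_zero τ).mpr hφ1
  obtain ⟨e1, he1⟩ : ∃ e1 : ℤ, P.1 (τ (φ' l0.succ)) = WithZero.exp (-e1) :=
    ⟨-WithZero.log (P.1 (τ (φ' l0.succ))), by
      rw [neg_neg, WithZero.exp_log ((Valuation.ne_zero_iff _).mpr hτ1)]⟩
  have he1ge : 2 * (j1 : ℤ) ≤ e1 := by
    have := val_tau_le_strong P hP τ hstrong ht j1 (hφ' l0).1.le
    rw [he1, WithZero.exp_le_exp] at this
    omega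
  -- weights
  let a : Fin (n + 1) → ℤ := Fin.cons (-(j1 : ℤ)) (fun l => (J' l : ℤ) - j1)
  let b : Fin (n + 1) → ℤ := Fin.cons (-(j1 : ℤ) + e1) (fun s => (I s : ℤ))
  have hIcast : ∀ l, (I l : ℤ) = (J' l : ℤ) - j1 := by
    intro l
    simp only [I]
    rw [Nat.cast_sub (hIle l)]
  have hψval : ∀ l, P.1 ((y • φ') l) ≤ WithZero.exp (-(a l)) := by
    intro l
    simp only [Pi.smul_apply, smul_eq_mul, hy, map_mul, map_inv₀, (hφ' l0).1]
    rcases Fin.eq_zero_or_eq_succ l with rfl | ⟨l', rfl⟩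
    · simp only [a, Fin.cons_zero, neg_neg]
      rw [hv0, mul_one, ← WithZero.exp_neg, neg_neg]
    · simp only [a, Fin.cons_succ]
      rw [(hφ' l').1, ← WithZero.exp_neg, ← WithZero.exp_add]
      apply le_of_eq
      congr 1
      ring
  have hentry : ∀ l s, P.1 (wrMat τ Ht (y • φ') I l s) ≤ WithZero.exp (-(a l - b s)) := by
    intro l s
    rcases Fin.eq_zero_or_eq_succ s with rfl | ⟨s', rfl⟩
    · simp only [wrMat, Matrix.of_apply, Fin.cases_zero, b, Fin.cons_zero, Pi.smul_apply,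
        smul_eq_mul, hy, map_mul, map_inv₀, he1]
      rcases Fin.eq_zero_or_eq_succ l with rfl | ⟨l', rfl⟩
      · simp only [a, Fin.cons_zero]
        have h1 : P.1 (τ (φ' 0)) ≤ 1 := (val_tau_le_one P hP τ hfix hv0.le).1
        calc (WithZero.exp (-e1))⁻¹ * P.1 (τ (φ' 0)) ≤ (WithZero.exp (-e1))⁻¹ * 1 :=
              mul_le_mul' le_rfl h1
          _ = WithZero.exp (-(-(j1 : ℤ) - (-(j1 : ℤ) + e1))) := by
              rw [mul_one, ← WithZero.exp_neg]; congr 1; ring
      · simp only [a, Fin.cons_succ]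
        have h1 := val_tau_le_strong P hP τ hstrong ht (J' l') (hφ' l').1.le
        calc (WithZero.exp (-e1))⁻¹ * P.1 (τ (φ' l'.succ))
            ≤ (WithZero.exp (-e1))⁻¹ * WithZero.exp (-(2 * (J' l') : ℤ)) := mul_le_mul' le_rfl h1
          _ = WithZero.exp (e1 - 2 * (J' l' : ℤ)) := by
              rw [← WithZero.exp_neg, ← WithZero.exp_add]; congr 1; ring
          _ ≤ WithZero.exp (-((J' l' : ℤ) - j1 - (-(j1 : ℤ) + e1))) := by
              rw [WithZero.exp_le_exp]
              have := hJ1 l'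
              omega
    · simp only [wrMat, Matrix.of_apply, Fin.cases_succ, b, Fin.cons_succ]
      exact Hs.val_hasseD_le hK P hP ht hHt ((y • φ') l) (a l) (hψval l) (I s')
  obtain ⟨-, hiff⟩ := det_weighted P ht (wrMat τ Ht (y • φ') I) a b hentry
  set M : Matrix (Fin (n + 1)) (Fin (n + 1)) (IsLocalRing.ResidueField P.O) :=
    Matrix.of fun l s => evalP P (wrMat τ Ht (y • φ') I l s * t ^ (-(a l - b s))) with hM
  suffices hMdet : M.det ≠ 0 by
    intro h0
    have := hiff.mpr hMdet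
    rw [h0, map_zero] at this
    exact WithZero.exp_ne_zero this.symm
  -- the unit parts
  have hu : ∀ l' : Fin n, P.1 (φ' l'.succ * t ^ (-(J' l' : ℤ))) = 1 := by
    intro l'
    rw [map_mul, (hφ' l').1, val_zpow P ht, neg_neg, ← WithZero.exp_add]
    simp
  have hue : ∀ l' : Fin n, evalP P (φ' l'.succ * t ^ (-(J' l' : ℤ))) = 1 := by
    intro l'
    rw [zpow_neg, zpow_natCast, ← div_eq_mul_inv]
    exact (hφ' l').2
  have hψev : ∀ l' : Fin n, evalP P ((y • φ') l'.succ * t ^ (-(a l'.succ))) = 1 := by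
    intro l'
    have h1 : (y • φ') l'.succ * t ^ (-(a l'.succ)) =
        (φ' l'.succ * t ^ (-(J' l' : ℤ))) * (φ' l0.succ * t ^ (-(j1 : ℤ)))⁻¹ := by
      simp only [Pi.smul_apply, smul_eq_mul, hy, a, Fin.cons_succ]
      rw [mul_inv, ← zpow_neg, neg_neg, neg_sub, sub_eq_add_neg, zpow_add₀ ht0]
      ring
    rw [h1, evalP_mul P (hu l').le (by rw [map_inv₀, hu l0, inv_one]), hue l',
      evalP_inv_of_evalP_eq_one P (hu l0) (hue l0), one_mul]
  have hMsucc : ∀ l' s', M (Fin.succ l') (Fin.succ s') =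
      (((I l').choose (I s') : ℕ) : IsLocalRing.ResidueField P.O) := by
    intro l' s'
    simp only [hM, Matrix.of_apply, wrMat, Fin.cases_succ, b, Fin.cons_succ]
    rw [Hs.evalP_hasseD hK P hP ht hHt ((y • φ') l'.succ) (a l'.succ) (hψval l'.succ) (I s'),
      hψev l', mul_one]
    have : a l'.succ = ((I l' : ℕ) : ℤ) := by
      simp only [a, Fin.cons_succ]; rw [hIcast]
    rw [this, Ring.choose_natCast]
    simp
  have hM0 : ∀ l' : Fin n, M (Fin.succ l') 0 = 0 := by
    intro l'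
    simp only [hM, Matrix.of_apply, wrMat, Fin.cases_zero, a, b, Fin.cons_zero, Fin.cons_succ,
      Pi.smul_apply, smul_eq_mul, hy]
    apply evalP_eq_zero_of_lt
    simp only [map_mul, map_inv₀]
    rw [he1, val_zpow P ht, neg_neg]
    have h1 := val_tau_le_strong P hP τ hstrong ht (J' l') (hφ' l').1.le
    calc (WithZero.exp (-e1))⁻¹ * P.1 (τ (φ' l'.succ)) *
          WithZero.exp ((J' l' : ℤ) - j1 - (-(j1 : ℤ) + e1))
        ≤ (WithZero.exp (-e1))⁻¹ * WithZero.exp (-(2 * (J' l') : ℤ)) *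
          WithZero.exp ((J' l' : ℤ) - j1 - (-(j1 : ℤ) + e1)) :=
          mul_le_mul' (mul_le_mul' le_rfl h1) le_rfl
      _ = WithZero.exp (-(J' l' : ℤ)) := by
          rw [← WithZero.exp_neg, ← WithZero.exp_add, ← WithZero.exp_add]; congr 1; ring
      _ < 1 := by
          rw [← WithZero.exp_zero, WithZero.exp_lt_exp]
          have := hJ1 l'
          omega
  have hM00 : M 0 0 ≠ 0 := by
    simp only [hM, Matrix.of_apply, wrMat, Fin.cases_zero, a, b, Fin.cons_zero,
      Pi.smul_apply, smul_eq_mul, hy]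
    apply evalP_ne_zero_of_val_eq_one
    have h1 : P.1 (τ (φ' 0)) = 1 := by
      apply le_antisymm (val_tau_le_one P hP τ hfix hv0.le).1
      by_contra hlt
      rw [not_le] at hlt
      have h2 := evalP_eq_zero_of_lt P hlt
      rw [(val_tau_le_one P hP τ hfix hv0.le).2, he0] at h2
      exact one_ne_zero h2
    simp only [map_mul, map_inv₀]
    rw [he1, h1, val_zpow P ht, neg_neg, mul_one, ← WithZero.exp_neg,
      ← WithZero.exp_add]
    rw [← WithZero.exp_zero]
    congr 1
    ring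
  rw [Matrix.det_succ_column_zero, Fin.sum_univ_succ,
    Finset.sum_eq_zero (fun l' _ => by rw [hM0 l']; ring)]
  have hminor : (M.submatrix (Fin.succAbove 0) Fin.succ).det = 1 := by
    have hlow : (M.submatrix (Fin.succAbove 0) Fin.succ).IsLowerTriangular := by
      intro l' s' hls
      have hls' : l' < s' := hls
      simp only [Matrix.submatrix_apply, Fin.succAbove_zero]
      rw [hMsucc, Nat.choose_eq_zero_of_lt (hImono hls'), Nat.cast_zero]
    rw [Matrix.det_of_isLowerTriangular _ hlow]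
    apply Finset.prod_eq_one
    intro l' _
    simp only [Matrix.submatrix_apply, Fin.succAbove_zero]
    rw [hMsucc, Nat.choose_self, Nat.cast_one]
  rw [hminor]
  simpa using hM00

end Groth.Agent.Helper5.Wr
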