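import Groth.Agent.Helper5.WrWeier
import Groth.Agent.Helper5.WrLin3

set_option autoImplicit false

namespace Groth.Agent.Helper5.Wr
open FunFld LocRes

variable {k K : Type*} [Field k] [Field K] [Algebra k K]

theorem pos_of_isOrders_id {s : K} {H : K →ₐ[k] PowerSeries K} (hH : IsHasseFamily s H) {n : ℕ}
    (φ : Fin (n + 1) → K) (J : Fin n → ℕ)
    (hJ : IsOrders K (hcol (AlgHom.id k K) H φ) J) : ∀ l, 0 < J l := by
  intro l
  by_contra h0
  have h0' : J l = 0 := by omega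
  have hj : IsJump K (hcol (AlgHom.id k K) H φ) (0 + 1) := (hJ.2 0).mp ⟨l, h0'⟩
  apply hj
  apply Submodule.subset_span
  refine ⟨0, by simp, ?_⟩
  rw [zero_add, hcol_one hH, hcol_zero]
  rfl

theorem ord_eq_iff_val_eq (P : Place k K) {z : K} (hz : z ≠ 0) (m : ℤ) :
    P.ord z = m ↔ P.1 z = WithZero.exp (-m) := by
  constructor
  · intro h
    rw [FF.val_eq_exp_neg_ord P hz, h]
  · intro h
    have := FF.ord_eq_of_val_eq P h
    rw [this, neg_neg]

theorem sum_sub_le_wDiv (hK : IsFunctionField k K) (P : Place k K) (hP : P.deg = 1)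
    (τ : K →ₐ[k] K) (hfix : IsFixedPt τ P) {n : ℕ}
    (φ : Fin (n + 1) → K) (hφ : LinearIndependent k φ)
    (heff : (1 : K) ∈ Submodule.span k (Set.range φ)) (hnorm : ∀ i, P.1 (φ i) ≤ 1)
    {t : K} (ht : P.1 t = WithZero.exp (-1 : ℤ))
    {Ht : K →ₐ[k] PowerSeries K} (hHt : IsHasseFamily t Ht)
    (J : Fin n → ℕ) (hJ : IsOrders K (hcol τ Ht φ) J)
    (J' : Fin n → ℕ) (hJ' : IsOrders (IsLocalRing.ResidueField P.O) (hcolAt P Ht φ) J')
    (Φ : Place k K → (K →ₐ[k] LaurentSeries k)) (hΦ : IsExpansionAt P.1 (Φ P)) :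
    (∑ l, ((J' l : ℤ) - J l)) ≤ wDiv τ Ht Φ t φ J P ∧
    ((τ = AlgHom.id k K ∨ IsStrongFixedPt τ P) →
      (wDiv τ Ht Φ t φ J P = ∑ l, ((J' l : ℤ) - J l) ↔ (binomMat k J' J).det ≠ 0)) := by
  have hdet := det_wrMat_ne_zero_of_isOrders hK hHt φ hφ τ J hJ
  obtain ⟨h1, h2⟩ := val_det_wrMat hK P hP τ hfix φ hφ heff hnorm ht hHt J' hJ' J
  rw [wDiv_apply hK P hP τ hfix φ heff hnorm ht Ht Φ hΦ J]
  refine ⟨?_, ?_⟩
  · have := (FF.val_le_exp_iff P hdet _).mp h1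
    rwa [neg_neg] at this
  · intro hor
    rw [ord_eq_iff_val_eq P hdet]
    apply h2
    rcases hor with h | h
    · left
      subst h
      exact pos_of_isOrders_id hHt φ J hJ
    · exact Or.inr h

end Groth.Agent.Helper5.Wr
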