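import Groth.Prelude.Def_AlgSp
import Groth.Agent.Helper5.FpqcIso
import Mathlib

set_option autoImplicit false
set_option linter.style.haveILetI false
set_option linter.unusedSectionVars false
set_option linter.unusedVariables false
universe u
open CategoryTheory CategoryTheory.Limits AlgebraicGeometry Opposite

namespace Groth.Agent.Helper5.ZarGlue

open AlgSp Functor.relativelyRepresentable

variable {S : Scheme.{u}} {F : Sp S} {ι : Type u} {X : ι → Over S}
  (f : ∀ i, (yon S).obj (X i) ⟶ F) (hf : ∀ i, RepWith @IsOpenImmersion (f i))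

theorem fst'_self_eq_snd (i : ι) : (hf i).rep.fst' (f i) = (hf i).rep.snd (f i) := by
  haveI := Groth.Agent.Helper5.FpqcIso.mono_of_repWith_openImmersion (f i) (hf i)
  apply (yon S).map_injective
  rw [← cancel_mono (f i), ((hf i).rep.isPullback' (f i)).w]

theorem isIso_fst'_self (i : ι) : IsIso ((hf i).rep.fst' (f i)) := by
  haveI := Groth.Agent.Helper5.FpqcIso.mono_of_repWith_openImmersion (f i) (hf i)
  have := ((hf i).rep.isPullback' (f i)).isIso_fst_of_mono
  exact (Functor.FullyFaithful.ofFullyFaithful (yon S)).isIso_of_isIso_map _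

theorem isOpenImmersion_fst' (i j : ι) : IsOpenImmersion ((hf i).rep.fst' (f j)).left :=
  (hf j).property _ _ _ ((hf i).rep.isPullback' (f j)).flip

theorem isOpenImmersion_snd (i j : ι) : IsOpenImmersion ((hf i).rep.snd (f j)).left :=
  (hf i).property _ _ _ ((hf i).rep.isPullback' (f j))

set_option backward.isDefEq.respectTransparency false in
/-- the glue data in `Over S` -/
noncomputable def glueData₀ : CategoryTheory.GlueData (Over S) where
  J := ι
  U := X
  V := fun (i, j) => (hf i).rep.pullback (f j)
  f i j := (hf i).rep.fst' (f j)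
  f_mono i j := by
    haveI := isOpenImmersion_fst' f hf i j
    haveI : Mono ((Over.forget S).map ((hf i).rep.fst' (f j))) :=
      inferInstanceAs (Mono ((hf i).rep.fst' (f j)).left)
    exact (Over.forget S).mono_of_mono_map this
  f_id i := isIso_fst'_self f hf i
  t i j := (hf i).rep.symmetry (hf j).rep
  t_id i := by
    apply (hf i).rep.hom_ext' <;> simp [fst'_self_eq_snd f hf i]
  t' i j k := lift₃ _ _ _ (pullback₃.p₂ _ _ _) (pullback₃.p₃ _ _ _) (pullback₃.p₁ _ _ _)
    (by simp) (by simp)
  t_fac i j k := (hf j).rep.hom_ext' (by simp) (by simp)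
  cocycle i j k := pullback₃.hom_ext (by simp) (by simp) (by simp)

/-- the glue data of schemes -/
noncomputable def glueData : Scheme.GlueData where
  __ := (glueData₀ f hf).mapGlueData (Over.forget S)
  f_open i j := isOpenImmersion_fst' f hf i j

theorem glueData_J : (glueData f hf).J = ι := rfl

theorem glueData_U (i : ι) : (glueData f hf).U i = (X i).left := rfl

theorem glueData_V (i j : ι) : (glueData f hf).V (i, j) = ((hf i).rep.pullback (f j)).left := rfl

theorem glueData_f (i j : ι) : (glueData f hf).f i j = ((hf i).rep.fst' (f j)).left := rfl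

theorem glueData_t (i j : ι) : (glueData f hf).t i j = ((hf i).rep.symmetry (hf j).rep).left := rfl

/-- the structure morphism of the glued scheme -/
noncomputable def gluedHom : (glueData f hf).glued ⟶ S :=
  Multicoequalizer.desc (glueData f hf).diagram S (fun i => (X i).hom) (by
    rintro ⟨i, j⟩
    show ((hf i).rep.fst' (f j)).left ≫ (X i).hom =
      (((hf i).rep.symmetry (hf j).rep).left ≫ ((hf j).rep.fst' (f i)).left) ≫ (X j).hom
    rw [Category.assoc, Over.w, Over.w, Over.w])

/-- the glued object of `Over S` -/
noncomputable def glued : Over S := Over.mk (gluedHom f hf)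

theorem ι_gluedHom (i : ι) : (glueData f hf).ι i ≫ gluedHom f hf = (X i).hom :=
  Multicoequalizer.π_desc _ _ _ _ _

/-- the inclusions into the glued object -/
noncomputable def toGlued (i : ι) : X i ⟶ glued f hf :=
  Over.homMk ((glueData f hf).ι i) (ι_gluedHom f hf i)

theorem toGlued_left (i : ι) : (toGlued f hf i).left = (glueData f hf).ι i := rfl

instance (i : ι) : IsOpenImmersion (toGlued f hf i).left :=
  inferInstanceAs (IsOpenImmersion ((glueData f hf).ι i))

end Groth.Agent.Helper5.ZarGlue
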