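import Groth.Agent.Helper5.ZarGlue9
import Groth.Agent.Helper5.YonCoprod
import Mathlib

set_option autoImplicit false
set_option linter.style.haveILetI false
set_option linter.unusedSectionVars false
set_option linter.unusedVariables false
universe u
open CategoryTheory CategoryTheory.Limits AlgebraicGeometry Opposite

namespace Groth.Agent.Helper5.ZarGlue

open AlgSp Functor.relativelyRepresentable

variable {S : Scheme.{u}}

/-- a covering sieve of the fppf topology is jointly surjective -/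
theorem exists_mem_sieve_of_point {T : Over S} (R : Sieve T) (hR : R ∈ J S T) (z : T.left) :
    ∃ (V : Over S) (γ : V ⟶ T), R γ ∧ z ∈ Set.range γ.left := by
  rw [J_eq, GrothendieckTopology.mem_over_iff] at hR
  obtain ⟨R', hR', hle⟩ := (Precoverage.mem_toGrothendieck_iff_of_isStableUnderComposition).1 hR
  obtain ⟨I, Yc, c, rfl⟩ := R'.exists_eq_ofArrows
  have h3 := (Scheme.ofArrows_mem_precoverage_iff _).1 hR'
  obtain ⟨i, u', hu'⟩ := h3.1 z
  have hg' := hle _ _ (Presieve.ofArrows.mk i)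
  rw [Sieve.overEquiv_iff] at hg'
  exact ⟨Over.mk (c i ≫ T.hom), Over.homMk (c i), hg', u', hu'⟩

/-- the preimages of the `Fi` cover every scheme mapping to `F` -/
theorem cover_of_local_lift {F : Sp S} {ι : Type u} {Fi : ι → Sp S} (f : ∀ i, Fi i ⟶ F)
    (hloc : ∀ (T : Over S) (s : (yon S).obj T ⟶ F), ∃ R ∈ J S T, ∀ ⦃V : Over S⦄ (γ : V ⟶ T),
      R γ → ∃ (i : ι) (a : (yon S).obj V ⟶ Fi i), (yon S).map γ ≫ s = a ≫ f i)
    {T : Over S} (g : (yon S).obj T ⟶ F) (Ti : ι → Over S) (t : ∀ i, Ti i ⟶ T)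
    (gi : ∀ i, (yon S).obj (Ti i) ⟶ Fi i)
    (sq : ∀ i, IsPullback (gi i) ((yon S).map (t i)) (f i) g) (z : T.left) :
    ∃ i, z ∈ Set.range (t i).left := by
  obtain ⟨R, hR, hR'⟩ := hloc T g
  obtain ⟨V, γ, hγ, v, hv⟩ := exists_mem_sieve_of_point R hR z
  obtain ⟨i, a, ha⟩ := hR' γ hγ
  obtain ⟨l, hl1, hl2⟩ := (sq i).exists_lift a ((yon S).map γ) ha.symm
  obtain ⟨l', rfl⟩ := (yon S).map_surjective l
  have e : l' ≫ t i = γ := (yon S).map_injective (by rw [Functor.map_comp]; exact hl2)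
  refine ⟨i, l'.left v, ?_⟩
  rw [← hv, ← e]
  rfl

/-- relative gluing with the covering data of the glued scheme -/
theorem exists_glue_rel' {P : Sp S} {T : Over S} (p : P ⟶ (yon S).obj T) {ι : Type u}
    (T' : ι → Over S) (t : ∀ i, T' i ⟶ T) (ht : ∀ i, IsOpenImmersion (t i).left)
    (hcov : ∀ x : T.left, ∃ i, x ∈ Set.range (t i).left)
    (W : ι → Over S) (w : ∀ i, W i ⟶ T' i) (f : ∀ i, (yon S).obj (W i) ⟶ P)
    (sq : ∀ i, IsPullback (f i) ((yon S).map (w i)) p ((yon S).map (t i))) :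
    ∃ (W₀ : Over S) (e : (yon S).obj W₀ ≅ P) (w₀ : W₀ ⟶ T) (k : ∀ i, W i ⟶ W₀),
      e.hom ≫ p = (yon S).map w₀ ∧ (∀ i, (yon S).map (k i) ≫ e.hom = f i) ∧
      (∀ i, IsPullback (k i) (w i) w₀ (t i)) ∧ (∀ i, IsOpenImmersion (k i).left) ∧
      ∀ x : W₀.left, ∃ i, x ∈ Set.range (k i).left := by
  have hf : ∀ i, RepWith @IsOpenImmersion (f i) := fun i =>
    MorphismProperty.of_isPullback (sq i).flip
      ((repWith_yon_map_iff @IsOpenImmersion (t i)).2 (ht i))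
  have hsurj : ∀ (U : Over S) (s : (yon S).obj U ⟶ P), ∃ R ∈ J S U, ∀ ⦃V : Over S⦄ (γ : V ⟶ U),
      R γ → ∃ (i : ι) (a : V ⟶ W i), (yon S).map γ ≫ s = (yon S).map a ≫ f i := by
    intro U s
    obtain ⟨τ, hτ⟩ := (yon S).map_surjective (s ≫ p)
    refine ⟨Sieve.pullback τ (Sieve.ofArrows T' t),
      (J S).pullback_stable τ (ofArrows_mem_of_openCover T' t ht hcov), ?_⟩
    rintro V γ ⟨Z, b, _, ⟨i⟩, fac⟩
    have e1 : ((yon S).map γ ≫ s) ≫ p = (yon S).map b ≫ (yon S).map (t i) := by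
      rw [Category.assoc, ← hτ, ← Functor.map_comp, ← Functor.map_comp, fac]
    obtain ⟨l, hl1, hl2⟩ := (sq i).exists_lift _ _ e1
    obtain ⟨a, rfl⟩ := (yon S).map_surjective l
    exact ⟨i, a, hl1.symm⟩
  obtain ⟨W₀, e, k, hk, hoi, hcv⟩ := exists_glue f hf hsurj
  obtain ⟨w₀, hw₀⟩ := (yon S).map_surjective (e.hom ≫ p)
  refine ⟨W₀, e, w₀, k, hw₀.symm, hk, ?_, hoi, hcv⟩
  intro i
  apply Groth.Agent.Helper5.GeomFibSp.isPullback_of_yon_map
  rw [hw₀]
  refine IsPullback.of_iso (sq i) (Iso.refl _) e.symm (Iso.refl _) (Iso.refl _) ?_ ?_ ?_ ?_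
  · rw [← hk i]; simp
  · simp
  · simp
  · simp

end Groth.Agent.Helper5.ZarGlue
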