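import Groth.Agent.Helper5.ZarGlue10
import Mathlib

set_option autoImplicit false
set_option linter.style.haveILetI false
set_option linter.unusedSectionVars false
set_option linter.unusedVariables false
universe u
open CategoryTheory CategoryTheory.Limits AlgebraicGeometry Opposite

namespace Groth.Agent.Helper5.ZarGlue

open AlgSp Functor.relativelyRepresentable

variable {S : Scheme.{u}}

section
variable {F : Sp S} {ι : Type u} {Fi : ι → Sp S} (f : ∀ i, Fi i ⟶ F)
    (halg : ∀ i, IsAlgSpace (Fi i)) (hopen : ∀ i, RepWith @IsOpenImmersion (f i))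
    (hloc : ∀ (T : Over S) (s : (yon S).obj T ⟶ F), ∃ R ∈ J S T, ∀ ⦃V : Over S⦄ (γ : V ⟶ T),
      R γ → ∃ (i : ι) (a : (yon S).obj V ⟶ Fi i), (yon S).map γ ≫ s = a ≫ f i)

include halg hopen hloc in
theorem representable_of_cover {T : Over S} (g : (yon S).obj T ⟶ F) : Representable g := by
  intro T' g'
  choose Ti t gi sqT using fun i => (hopen i).1 g
  choose Ti' t' gi' sqT' using fun i => (hopen i).1 g'
  have ht' : ∀ i, IsOpenImmersion (t' i).left := fun i => (hopen i).2 _ _ _ (sqT' i)
  have hcov' := cover_of_local_lift f hloc g' Ti' t' gi' sqT'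
  have hrep : ∀ i, Representable (gi i) := fun i =>
    Functor.relativelyRepresentable.of_diag (halg i).diag (gi i)
  choose W w' v sqW using fun i => hrep i (gi' i)
  have sqB : ∀ i, IsPullback (v i ≫ (yon S).map (t i)) ((yon S).map (w' i)) g
      ((yon S).map (t' i) ≫ g') := by
    intro i
    have := (sqW i).paste_horiz (sqT i).flip
    rwa [(sqT' i).w] at this
  let φ : ∀ i, (yon S).obj (W i) ⟶ pullback g g' := fun i =>
    pullback.lift (v i ≫ (yon S).map (t i)) ((yon S).map (w' i) ≫ (yon S).map (t' i))
      (by rw [(sqB i).w, Category.assoc])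
  have sqφ : ∀ i, IsPullback (φ i) ((yon S).map (w' i)) (pullback.snd g g')
      ((yon S).map (t' i)) := by
    intro i
    refine IsPullback.of_right ?_ (pullback.lift_snd _ _ _) (IsPullback.of_hasPullback g g')
    have : φ i ≫ pullback.fst g g' = v i ≫ (yon S).map (t i) := pullback.lift_fst _ _ _
    rw [this]
    exact sqB i
  obtain ⟨W₀, e, w₀, k, he, hk, hpb⟩ :=
    exists_glue_rel (pullback.snd g g') Ti' t' ht' hcov' W w' φ sqφ
  refine ⟨W₀, w₀, e.hom ≫ pullback.fst g g', ?_⟩
  rw [← he]
  exact IsPullback.of_iso (IsPullback.of_hasPullback g g') e.symm (Iso.refl _) (Iso.refl _)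
    (Iso.refl _) (by simp) (by simp) (by simp) (by simp)

include halg hopen hloc in
theorem representable_diag_of_cover : Representable (Limits.diag F) :=
  Functor.relativelyRepresentable.diag_of_map_from_obj
    (fun T g => representable_of_cover f halg hopen hloc g)

end

end Groth.Agent.Helper5.ZarGlue
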