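import Groth.Agent.Helper5.ZarGlue1
import Mathlib

set_option autoImplicit false
set_option linter.style.haveILetI false
set_option linter.unusedSectionVars false
set_option linter.unusedVariables false
universe u
open CategoryTheory CategoryTheory.Limits AlgebraicGeometry Opposite

namespace Groth.Agent.Helper5.ZarGlue

open AlgSp Functor.relativelyRepresentable

variable {S : Scheme.{u}} {F : Sp S} {ι : Type u} {X : ι → Over S}
  (f : ∀ i, (yon S).obj (X i) ⟶ F) (hf : ∀ i, RepWith @IsOpenImmersion (f i))

theorem symmetry_left_fst (i j : ι) :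
    ((hf i).rep.symmetry (hf j).rep).left ≫ ((hf j).rep.fst' (f i)).left =
      ((hf i).rep.snd (f j)).left := by
  rw [← Over.comp_left, symmetry_fst]

theorem fst'_toGlued (i j : ι) :
    (hf i).rep.fst' (f j) ≫ toGlued f hf i = (hf i).rep.snd (f j) ≫ toGlued f hf j := by
  ext
  show ((hf i).rep.fst' (f j)).left ≫ (glueData f hf).ι i =
    ((hf i).rep.snd (f j)).left ≫ (glueData f hf).ι j
  have h : ((hf i).rep.symmetry (hf j).rep).left ≫ ((hf j).rep.fst' (f i)).left ≫
      (glueData f hf).ι j = ((hf i).rep.fst' (f j)).left ≫ (glueData f hf).ι i :=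
    (glueData f hf).glue_condition i j
  rw [← Category.assoc, symmetry_left_fst f hf] at h
  exact h.symm

theorem comp_toGlued_eq {U : Over S} {i j : ι} (a : U ⟶ X i) (b : U ⟶ X j)
    (h : (yon S).map a ≫ f i = (yon S).map b ≫ f j) :
    a ≫ toGlued f hf i = b ≫ toGlued f hf j := by
  rw [← (hf i).rep.lift'_fst a b h, Category.assoc]
  conv_rhs => rw [← (hf i).rep.lift'_snd a b h, Category.assoc]
  rw [fst'_toGlued]

/-- a pair of morphisms agreeing in the glued object factors through the intersection -/
theorem exists_lift {U : Over S} {i j : ι} (a : U ⟶ X i) (b : U ⟶ X j)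
    (h : a ≫ toGlued f hf i = b ≫ toGlued f hf j) :
    ∃ c : U ⟶ (hf i).rep.pullback (f j), c ≫ (hf i).rep.fst' (f j) = a ∧
      c ≫ (hf i).rep.snd (f j) = b := by
  have h' : a.left ≫ (glueData f hf).ι i = b.left ≫ (glueData f hf).ι j :=
    congrArg CommaMorphism.left h
  obtain ⟨c₀, hc1, hc2⟩ := PullbackCone.IsLimit.lift' ((glueData f hf).vPullbackConeIsLimit i j)
    a.left b.left h'
  obtain ⟨c₁, hc₁⟩ : ∃ c₁ : U.left ⟶ ((hf i).rep.pullback (f j)).left, c₁ = c₀ := ⟨c₀, rfl⟩
  have hc1' : c₁ ≫ ((hf i).rep.fst' (f j)).left = a.left := by rw [hc₁]; exact hc1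
  have hc2' : c₁ ≫ ((hf i).rep.snd (f j)).left = b.left := by
    have : c₁ ≫ (((hf i).rep.symmetry (hf j).rep).left ≫ ((hf j).rep.fst' (f i)).left) =
        b.left := by rw [hc₁]; exact hc2
    rw [symmetry_left_fst f hf] at this
    exact this
  refine ⟨Over.homMk c₁ ?_, ?_, ?_⟩
  · rw [← Over.w ((hf i).rep.fst' (f j)), ← Category.assoc, hc1', Over.w]
  · ext; exact hc1'
  · ext; exact hc2'

theorem toGlued_eq_iff {U : Over S} {i j : ι} (a : U ⟶ X i) (b : U ⟶ X j) :
    a ≫ toGlued f hf i = b ≫ toGlued f hf j ↔ (yon S).map a ≫ f i = (yon S).map b ≫ f j := by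
  constructor
  · intro h
    obtain ⟨c, rfl, rfl⟩ := exists_lift f hf a b h
    rw [Functor.map_comp, Functor.map_comp, Category.assoc, Category.assoc,
      ((hf i).rep.isPullback' (f j)).w]
  · exact comp_toGlued_eq f hf a b

/-- the charts cover the glued object for the fppf topology -/
theorem ofArrows_mem : Sieve.ofArrows X (toGlued f hf) ∈ J S (glued f hf) := by
  rw [J_eq, GrothendieckTopology.mem_over_iff, Sieve.overEquiv_ofArrows]
  have h1 : Scheme.zariskiTopology.{u} ≤ Scheme.fppfTopology :=
    Precoverage.toGrothendieck_mono Scheme.zariskiPrecoverage_le_fppfPrecoverage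
  exact h1 _ (glueData f hf).openCover.mem_grothendieckTopology

theorem compat_aux {W : Over S} {i j : ι} (a : W ⟶ X i) (b : W ⟶ X j)
    (hab : a ≫ toGlued f hf i = b ≫ toGlued f hf j) :
    F.obj.map a.op ((J S).uliftYonedaEquiv (f i)) =
      F.obj.map b.op ((J S).uliftYonedaEquiv (f j)) := by
  rw [GrothendieckTopology.uliftYonedaEquiv_naturality,
    GrothendieckTopology.uliftYonedaEquiv_naturality]
  exact congrArg _ ((toGlued_eq_iff f hf a b).1 hab)

/-- the section of `F` over the glued object -/
noncomputable def gluedSection : F.obj.obj (op (glued f hf)) :=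
  (F.property.amalgamateOfArrows (toGlued f hf) (ofArrows_mem f hf)
    (E := PUnit.{u + 2}) (fun i => ↾ fun _ => (J S).uliftYonedaEquiv (f i)) (by
      intro W i j a b hab
      ext ⟨⟩
      exact compat_aux f hf a b hab)) PUnit.unit

theorem gluedSection_map (i : ι) :
    F.obj.map (toGlued f hf i).op (gluedSection f hf) = (J S).uliftYonedaEquiv (f i) := by
  have := F.property.amalgamateOfArrows_map (toGlued f hf) (ofArrows_mem f hf)
    (E := PUnit.{u + 2}) (fun i => ↾ fun _ => (J S).uliftYonedaEquiv (f i)) (by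
      intro W i j a b hab
      ext ⟨⟩
      exact compat_aux f hf a b hab) i
  exact congrArg (fun g => g PUnit.unit) this

/-- the comparison morphism from the glued object -/
noncomputable def gluedToSheaf : (yon S).obj (glued f hf) ⟶ F :=
  (J S).uliftYonedaEquiv.symm (gluedSection f hf)

theorem toGlued_gluedToSheaf (i : ι) :
    (yon S).map (toGlued f hf i) ≫ gluedToSheaf f hf = f i := by
  apply (J S).uliftYonedaEquiv.injective
  rw [gluedToSheaf, GrothendieckTopology.uliftYonedaEquiv_symm_naturality_left,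
    Equiv.apply_symm_apply, gluedSection_map]

end Groth.Agent.Helper5.ZarGlue
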