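import Groth.Agent.Helper5.ZarGlue2
import Mathlib

set_option autoImplicit false
set_option linter.style.haveILetI false
set_option linter.unusedSectionVars false
set_option linter.unusedVariables false
universe u
open CategoryTheory CategoryTheory.Limits AlgebraicGeometry Opposite

namespace Groth.Agent.Helper5.ZarGlue

open AlgSp Functor.relativelyRepresentable

variable {S : Scheme.{u}} {F : Sp S} {ι : Type u} {X : ι → Over S}
  (f : ∀ i, (yon S).obj (X i) ⟶ F) (hf : ∀ i, RepWith @IsOpenImmersion (f i))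

/-- evaluating a morphism out of a representable sheaf -/
theorem app_eq {W V : Over S} (g : (yon S).obj W ⟶ F) (b : V ⟶ W) :
    g.hom.app (op V) ⟨b⟩ = (J S).uliftYonedaEquiv ((yon S).map b ≫ g) := by
  rw [← GrothendieckTopology.uliftYonedaEquiv_naturality,
    GrothendieckTopology.map_uliftYonedaEquiv]

theorem gluedToSheaf_locallyInjective : Sheaf.IsLocallyInjective (gluedToSheaf f hf) where
  equalizerSieve_mem := by
    rintro ⟨U⟩ ⟨α⟩ ⟨β⟩ h
    have h' : (yon S).map α ≫ gluedToSheaf f hf = (yon S).map β ≫ gluedToSheaf f hf := by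
      apply (J S).uliftYonedaEquiv.injective
      rw [← app_eq, ← app_eq]
      exact h
    have mem := ofArrows_mem f hf
    refine GrothendieckTopology.superset_covering _ ?_
      ((J S).intersection_covering ((J S).pullback_stable α mem)
        ((J S).pullback_stable β mem))
    rintro V γ ⟨⟨W₁, a, _, ⟨i⟩, fac₁⟩, ⟨W₂, b, _, ⟨j⟩, fac₂⟩⟩
    show (((yon S).obj (glued f hf)).obj.map γ.op ⟨α⟩) = (((yon S).obj (glued f hf)).obj.map γ.op ⟨β⟩)
    have key : γ ≫ α = γ ≫ β := by
      rw [← fac₁, ← fac₂]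
      apply comp_toGlued_eq
      rw [← toGlued_gluedToSheaf f hf i, ← toGlued_gluedToSheaf f hf j, ← Category.assoc,
        ← Category.assoc, ← Functor.map_comp, ← Functor.map_comp, fac₁, fac₂,
        Functor.map_comp, Functor.map_comp, Category.assoc, Category.assoc, h']
    exact congrArg ULift.up key

theorem gluedToSheaf_locallySurjective
    (hsurj : ∀ (U : Over S) (s : (yon S).obj U ⟶ F), ∃ R ∈ J S U, ∀ ⦃V : Over S⦄ (γ : V ⟶ U),
      R γ → ∃ (i : ι) (a : V ⟶ X i), (yon S).map γ ≫ s = (yon S).map a ≫ f i) :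
    Sheaf.IsLocallySurjective (gluedToSheaf f hf) where
  imageSieve_mem := by
    intro U x
    obtain ⟨R, hR, hR'⟩ := hsurj U ((J S).uliftYonedaEquiv.symm x)
    refine GrothendieckTopology.superset_covering _ ?_ hR
    intro V γ hγ
    obtain ⟨i, a, e⟩ := hR' γ hγ
    refine ⟨⟨a ≫ toGlued f hf i⟩, ?_⟩
    rw [app_eq, Functor.map_comp, Category.assoc, toGlued_gluedToSheaf, ← e,
      ← GrothendieckTopology.uliftYonedaEquiv_naturality, Equiv.apply_symm_apply]

theorem isIso_gluedToSheaf
    (hsurj : ∀ (U : Over S) (s : (yon S).obj U ⟶ F), ∃ R ∈ J S U, ∀ ⦃V : Over S⦄ (γ : V ⟶ U),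
      R γ → ∃ (i : ι) (a : V ⟶ X i), (yon S).map γ ≫ s = (yon S).map a ≫ f i) :
    IsIso (gluedToSheaf f hf) := by
  rw [← Sheaf.isLocallyBijective_iff_isIso (gluedToSheaf f hf)]
  exact ⟨gluedToSheaf_locallyInjective f hf, gluedToSheaf_locallySurjective f hf hsurj⟩

end Groth.Agent.Helper5.ZarGlue
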