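import Groth.Agent.Helper5.ZarGlue4
import Mathlib

set_option autoImplicit false
set_option linter.style.haveILetI false
set_option linter.unusedSectionVars false
set_option linter.unusedVariables false
universe u
open CategoryTheory CategoryTheory.Limits AlgebraicGeometry Opposite

namespace Groth.Agent.Helper5.ZarGlue

open AlgSp Functor.relativelyRepresentable

variable {S : Scheme.{u}}

/-- a morphism of sheaves whose base changes to affine schemes are representable is representable -/
theorem representable_of_affine {F G : Sp S} (f : F ⟶ G)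
    (h : ∀ ⦃Z : Over S⦄, IsAffine Z.left → ∀ (g : (yon S).obj Z ⟶ G),
      ∃ (W : Over S) (i : W ⟶ Z) (fst : (yon S).obj W ⟶ F), IsPullback fst ((yon S).map i) f g) :
    Representable f := by
  intro T g
  obtain ⟨𝒰, h𝒰⟩ : ∃ 𝒰 : Scheme.OpenCover.{u} T.left, 𝒰 = T.left.affineCover := ⟨_, rfl⟩
  let T' : 𝒰.I₀ → Over S := fun x => Over.mk (𝒰.f x ≫ T.hom)
  let t : ∀ x, T' x ⟶ T := fun x => Over.homMk (𝒰.f x) rfl
  have hT' : ∀ x, IsAffine (T' x).left := fun x => by
    subst h𝒰
    exact inferInstanceAs (IsAffine (T.left.affineCover.X x))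
  choose W w fst hsq using fun x => h (hT' x) ((yon S).map (t x) ≫ g)
  let φ : ∀ x, (yon S).obj (W x) ⟶ pullback f g := fun x =>
    pullback.lift (fst x) ((yon S).map (w x) ≫ (yon S).map (t x))
      (by rw [(hsq x).w, Category.assoc])
  have sq : ∀ x, IsPullback (φ x) ((yon S).map (w x)) (pullback.snd f g) ((yon S).map (t x)) := by
    intro x
    refine IsPullback.of_right ?_ (pullback.lift_snd _ _ _) (IsPullback.of_hasPullback f g)
    have : φ x ≫ pullback.fst f g = fst x := pullback.lift_fst _ _ _
    rw [this]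
    exact hsq x
  have hcov : ∀ y : T.left, ∃ x, y ∈ Set.range (t x).left := fun y => by
    obtain ⟨x, z, hz⟩ := 𝒰.exists_eq y
    exact ⟨x, z, hz⟩
  obtain ⟨W₀, e, w₀, k, he, hk, hpb⟩ := exists_glue_rel (pullback.snd f g) T' t
    (fun x => inferInstanceAs (IsOpenImmersion (𝒰.f x))) hcov W w φ sq
  refine ⟨W₀, w₀, e.hom ≫ pullback.fst f g, ?_⟩
  rw [← he]
  exact IsPullback.of_iso (IsPullback.of_hasPullback f g) e.symm (Iso.refl _) (Iso.refl _)
    (Iso.refl _) (by simp) (by simp) (by simp) (by simp)

end Groth.Agent.Helper5.ZarGlue
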