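import Groth.Agent.Helper5.ZarGlue8
import Mathlib

set_option autoImplicit false
set_option linter.style.haveILetI false
set_option linter.unusedSectionVars false
set_option linter.unusedVariables false
universe u
open CategoryTheory CategoryTheory.Limits AlgebraicGeometry Opposite

namespace Groth.Agent.Helper5.ZarGlue

open AlgSp Functor.relativelyRepresentable

variable {S : Scheme.{u}}

/-- if the coproduct of the `Fi` surjects onto `F` as sheaves then every section of `F` lifts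
locally to some `Fi` -/
theorem exists_local_lift {F : Sp S} {ι : Type u} {Fi : ι → Sp S} (f : ∀ i, Fi i ⟶ F)
    (c : Cofan Fi) (hc : IsColimit c)
    (hsurj : Sheaf.IsLocallySurjective (Cofan.IsColimit.desc hc f)) :
    ∀ (T : Over S) (s : (yon S).obj T ⟶ F), ∃ R ∈ J S T, ∀ ⦃V : Over S⦄ (γ : V ⟶ T),
      R γ → ∃ (i : ι) (a : (yon S).obj V ⟶ Fi i), (yon S).map γ ≫ s = a ≫ f i := by
  have hF : Presieve.IsSheaf (J S) F.obj := (isSheaf_iff_isSheaf_of_type _ _).1 F.property
  obtain ⟨G₀, hG₀⟩ : ∃ G₀ : Subfunctor F.obj, G₀ = ⨆ i, Subfunctor.range (f i).hom := ⟨_, rfl⟩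
  obtain ⟨G, hG⟩ : ∃ G : Subfunctor F.obj, G = G₀.sheafify (J S) := ⟨_, rfl⟩
  have hGsheaf : Presheaf.IsSheaf (J S) G.toFunctor := by
    rw [hG]
    exact (isSheaf_iff_isSheaf_of_type _ _).2 (G₀.sheafify_isSheaf hF)
  let Gsh : Sp S := ⟨G.toFunctor, hGsheaf⟩
  let incl : Gsh ⟶ F := ⟨G.ι⟩
  have hle : ∀ i, Subfunctor.range (f i).hom ≤ G := fun i => by
    rw [hG, hG₀]
    exact (le_iSup (fun i => Subfunctor.range (f i).hom) i).trans (Subfunctor.le_sheafify _ _)
  let f' : ∀ i, Fi i ⟶ Gsh := fun i => ⟨Subfunctor.lift (f i).hom (hle i)⟩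
  have hf' : ∀ i, f' i ≫ incl = f i := fun i => by
    ext1
    rfl
  have hfac : Cofan.IsColimit.desc hc f' ≫ incl = Cofan.IsColimit.desc hc f := by
    apply Cofan.IsColimit.hom_ext hc
    intro i
    rw [Cofan.IsColimit.fac_assoc, hf', Cofan.IsColimit.fac]
  have hfac' : (Cofan.IsColimit.desc hc f').hom ≫ G.ι = (Cofan.IsColimit.desc hc f).hom :=
    congrArg (fun φ => φ.hom) hfac
  have hs' : Presheaf.IsLocallySurjective (J S) (Cofan.IsColimit.desc hc f).hom := hsurj
  have hincl : Presheaf.IsLocallySurjective (J S) G.ι :=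
    Presheaf.isLocallySurjective_of_isLocallySurjective_fac (J S) hfac'
  intro T s
  obtain ⟨x, hx⟩ : ∃ x, x = (J S).uliftYonedaEquiv s := ⟨_, rfl⟩
  have hxG : x ∈ G.obj (op T) := by
    have h1 : x ∈ (G.sheafify (J S)).obj (op T) := by
      show G.sieveOfSection x ∈ J S T
      refine (J S).superset_covering ?_ (Presheaf.imageSieve_mem (J S) G.ι x)
      rintro V γ ⟨y, hy⟩
      show F.obj.map γ.op x ∈ G.obj (op V)
      rw [← hy]
      exact y.2
    rw [hG, Subfunctor.sheafify_sheafify _ hF] at h1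
    rw [hG]
    exact h1
  rw [hG] at hxG
  refine ⟨G₀.sieveOfSection x, hxG, ?_⟩
  intro V γ hγ
  have h2 : F.obj.map γ.op x ∈ G₀.obj (op V) := hγ
  rw [hG₀, Subfunctor.iSup_obj, Set.mem_iUnion] at h2
  obtain ⟨i, y, hy⟩ := h2
  refine ⟨i, (J S).uliftYonedaEquiv.symm y, ?_⟩
  apply (J S).uliftYonedaEquiv.injective
  rw [← GrothendieckTopology.uliftYonedaEquiv_naturality,
    GrothendieckTopology.uliftYonedaEquiv_comp, Equiv.apply_symm_apply, ← hx]
  exact hy.symm

end Groth.Agent.Helper5.ZarGlue
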